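import Groth.Agent.H4.ProperOver

set_option autoImplicit false
universe u

namespace Groth.Agent.H4

open AlgebraicGeometry CategoryTheory Limits Scheme.IdealSheafData

variable {X Y S : Scheme.{u}}

theorem range_vanishingIdeal_subschemeι (Z : Set X) (h : IsClosed Z) :
    Set.range (vanishingIdeal ⟨Z, h⟩).subschemeι = Z := by
  rw [range_subschemeι, coe_support_vanishingIdeal]
  rfl

/-- For a closed immersion `i : T ⟶ X` with range `Z`, the reduced induced structure on `Z` maps
to `T` by a surjective closed immersion over `X`. -/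
theorem exists_lift_of_range_eq {T : Scheme.{u}} (i : T ⟶ X) [IsClosedImmersion i] (Z : Set X)
    (h : IsClosed Z) (hi : Set.range i = Z) :
    ∃ r : (vanishingIdeal ⟨Z, h⟩).subscheme ⟶ T,
      r ≫ i = (vanishingIdeal ⟨Z, h⟩).subschemeι ∧ IsClosedImmersion r ∧ Surjective r := by
  have H : i.ker ≤ (vanishingIdeal ⟨Z, h⟩).subschemeι.ker := by
    rw [ker_subschemeι, ← le_support_iff_le_vanishingIdeal]
    intro z hz
    have : z ∈ Set.range i := hi ▸ hz
    exact i.range_subset_ker_support this
  refine ⟨IsClosedImmersion.lift i _ H, IsClosedImmersion.lift_fac i _ H, ?_, ?_⟩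
  · have : IsClosedImmersion (IsClosedImmersion.lift i _ H ≫ i) := by
      rw [IsClosedImmersion.lift_fac]; infer_instance
    exact IsClosedImmersion.of_comp _ i
  · refine ⟨fun t => ?_⟩
    have ht : i t ∈ Set.range (vanishingIdeal ⟨Z, h⟩).subschemeι := by
      rw [range_vanishingIdeal_subschemeι, ← hi]; exact ⟨t, rfl⟩
    obtain ⟨z, hz⟩ := ht
    refine ⟨z, i.isClosedEmbedding.injective ?_⟩
    rw [← Scheme.Hom.comp_apply, IsClosedImmersion.lift_fac, hz]

theorem isProperOver_of_closedImmersion (f : X ⟶ S) {T : Scheme.{u}} (i : T ⟶ X)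
    [IsClosedImmersion i] [IsProper (i ≫ f)] : ClSub.IsProperOver f (Set.range i) := by
  have hcl : IsClosed (Set.range i) := i.isClosedEmbedding.isClosed_range
  obtain ⟨r, hr, hrc, -⟩ := exists_lift_of_range_eq i _ hcl rfl
  refine ⟨hcl, ?_⟩
  rw [← hr, Category.assoc]
  infer_instance

theorem isProperOver_of_closedImmersion' (f : X ⟶ S) {T : Scheme.{u}} (i : T ⟶ X)
    [IsClosedImmersion i] [IsProper (i ≫ f)] (Z : Set X) (hZ : Set.range i = Z) :
    ClSub.IsProperOver f Z := hZ ▸ isProperOver_of_closedImmersion f i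

theorem isProper_of_isProperOver (f : X ⟶ S) [LocallyOfFiniteType f] {T : Scheme.{u}} (i : T ⟶ X)
    [IsClosedImmersion i] (h : ClSub.IsProperOver f (Set.range i)) : IsProper (i ≫ f) := by
  obtain ⟨hcl, hp⟩ := h
  obtain ⟨r, hr, hrc, hrs⟩ := exists_lift_of_range_eq i _ hcl rfl
  have : IsProper (r ≫ i ≫ f) := by rwa [← Category.assoc, hr]
  exact isProper_of_comp_surjective r (i ≫ f)

theorem isProperOver_iff_of_closedImmersion (f : X ⟶ S) [LocallyOfFiniteType f] {T : Scheme.{u}}
    (i : T ⟶ X) [IsClosedImmersion i] (Z : Set X) (hZ : Set.range i = Z) :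
    ClSub.IsProperOver f Z ↔ IsProper (i ≫ f) := by
  subst hZ
  exact ⟨isProper_of_isProperOver f i, fun _ => isProperOver_of_closedImmersion f i⟩

theorem IsProperOver.isClosed {f : X ⟶ S} {Z : Set X} (h : ClSub.IsProperOver f Z) : IsClosed Z :=
  h.1

end Groth.Agent.H4

namespace Groth.Agent.H4

open AlgebraicGeometry CategoryTheory Limits Scheme.IdealSheafData

variable {X Y S : Scheme.{u}}

/-- Image of a closed subset proper over `S` under an `S`-morphism which is universally closed
on the reduced induced structure. -/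
theorem isProperOver_image (p : X ⟶ S) (q : Y ⟶ S) [LocallyOfFiniteType q] (f : X ⟶ Y)
    (w : f ≫ q = p) (Z : Set X) (hZ : ClSub.IsProperOver p Z)
    (huc : UniversallyClosed ((vanishingIdeal ⟨Z, hZ.1⟩).subschemeι ≫ f)) :
    ClSub.IsProperOver q (f '' Z) := by
  obtain ⟨hcl, hp⟩ := hZ
  set h := (vanishingIdeal ⟨Z, hcl⟩).subschemeι ≫ f with hh
  have hrange : Set.range h = f '' Z := by
    rw [hh, Scheme.Hom.comp_base, TopCat.coe_comp, Set.range_comp,
      range_vanishingIdeal_subschemeι]
  have hclosed : IsClosed (Set.range h) := h.isClosedMap.isClosed_range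
  have hr : Set.range h.imageι = f '' Z := by
    rw [Scheme.Hom.imageι, range_subschemeι, Scheme.Hom.support_ker, hclosed.closure_eq, hrange]
  have hprop : IsProper (h.toImage ≫ h.imageι ≫ q) := by
    rw [← Category.assoc, Scheme.Hom.toImage_imageι, hh, Category.assoc, w]
    exact hp
  have : IsProper (h.imageι ≫ q) := isProper_of_comp_surjective h.toImage (h.imageι ≫ q)
  exact isProperOver_of_closedImmersion' q h.imageι _ hr

end Groth.Agent.H4
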