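import Groth.Agent.H4.DirFlat
import Mathlib.Algebra.Category.Ring.Under.Basic
import Mathlib.Algebra.Category.Ring.FilteredColimits
import Mathlib.CategoryTheory.Limits.Constructions.Over.Connected
import Mathlib.CategoryTheory.Limits.ConcreteCategory.Basic
import Mathlib.CategoryTheory.Filtered.Connected

/-!
# From a filtered colimit in `Under (CommRingCat.of A)` to a directed cover
-/

set_option autoImplicit false
universe u
open CategoryTheory CategoryTheory.Limits

namespace Groth.Agent.H4.IndCover

open Groth.Agent.H4.DirFlat

variable {A B : Type u} [CommRing A] [CommRing B] [Algebra A B]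
variable {J : Type u} [SmallCategory J] [IsFiltered J]
variable (D : J ⥤ Under (CommRingCat.of A)) (c : Cocone D) (hc : IsColimit c)
variable (e : c.pt ≅ Under.mk (CommRingCat.ofHom (algebraMap A B)))

/-- the algebra structure on the stages. -/
@[reducible] def algStage (j : J) : Algebra A (D.obj j).right := (D.obj j).hom.hom.toAlgebra

attribute [local instance] algStage

/-- the transition maps as algebra homs. -/
def trans {j j' : J} (g : j ⟶ j') : (D.obj j).right →ₐ[A] (D.obj j').right where
  __ := (D.map g).right.hom
  commutes' a := by
    have := Under.w (D.map g)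
    exact congrArg (fun φ => φ.hom a) this

/-- the maps to the colimit as algebra homs. -/
def toB (j : J) : (D.obj j).right →ₐ[A] B where
  __ := (c.ι.app j ≫ e.hom).right.hom
  commutes' a := by
    have := Under.w (c.ι.app j ≫ e.hom)
    exact congrArg (fun φ => φ.hom a) this

theorem toB_comp_trans {j j' : J} (g : j ⟶ j') :
    (toB D c e j').comp (trans D g) = toB D c e j := by
  ext x
  have := c.w g
  have h2 : (D.map g ≫ c.ι.app j' ≫ e.hom).right.hom x = (c.ι.app j ≫ e.hom).right.hom x := by
    rw [← Category.assoc, this]
  exact h2

theorem dir : Dir (toB D c e) := by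
  intro j1 j2
  exact ⟨IsFiltered.max j1 j2, trans D (IsFiltered.leftToMax j1 j2),
    trans D (IsFiltered.rightToMax j1 j2), toB_comp_trans D c e _, toB_comp_trans D c e _⟩

include hc in
theorem surj : Surj (toB D c e) := by
  intro b
  haveI : IsConnected J := IsFiltered.isConnected J
  have hc' : IsColimit ((Under.forget _).mapCocone c) := isColimitOfPreserves (Under.forget _) hc
  obtain ⟨j, y, hy⟩ := Concrete.isColimit_exists_rep (D ⋙ Under.forget _) hc' (e.inv.right b)
  refine ⟨j, y, ?_⟩
  change e.hom.right ((c.ι.app j).right y) = b
  have hy' : (c.ι.app j).right y = e.inv.right b := hy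
  rw [hy']
  have : (e.inv ≫ e.hom).right b = b := by
    rw [e.inv_hom_id]; rfl
  exact this

include hc in
theorem inj : Inj (toB D c e) := by
  intro j x hx
  haveI : IsConnected J := IsFiltered.isConnected J
  have hc' : IsColimit ((Under.forget _).mapCocone c) := isColimitOfPreserves (Under.forget _) hc
  have h1 : e.hom.right ((c.ι.app j).right x) = 0 := hx
  have h2 : (c.ι.app j).right x = 0 := by
    have : (e.hom ≫ e.inv).right ((c.ι.app j).right x) = (c.ι.app j).right x := by
      rw [e.hom_inv_id]; rfl
    rw [← this]
    change e.inv.right (e.hom.right ((c.ι.app j).right x)) = 0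
    rw [h1, map_zero]
  have h3 : ((Under.forget _).mapCocone c).ι.app j x = ((Under.forget _).mapCocone c).ι.app j 0 := by
    change (c.ι.app j).right x = (c.ι.app j).right 0
    rw [h2, map_zero]
  obtain ⟨k, f, g, hfg⟩ := Concrete.isColimit_exists_of_rep_eq (D ⋙ Under.forget _) hc' x 0 h3
  refine ⟨k, trans D f, toB_comp_trans D c e f, ?_⟩
  change (D.map f).right x = 0
  have : (D.map f).right x = (D.map g).right 0 := hfg
  rw [this, map_zero]

end Groth.Agent.H4.IndCover
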