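import Groth.Agent.H4.ExtZero
import Mathlib.CategoryTheory.Adjunction.Triple
import Mathlib.CategoryTheory.Preadditive.Injective.Basic
import Mathlib.CategoryTheory.Adjunction.Unique

/-!
# Restriction of abelian étale sheaves along an étale morphism

* `jCont`: `compEtale j` is continuous for every étale `j`.
* `restrPushAdj j : restrAlong j ⊣ push j`, `pullRestrIso j : pull j ≅ restrAlong j`.
* preservation of injectives by `push f`, `restrAlong j`, `pull j` (`j` étale).
* for a monomorphism `j`, the counit of `restrAlong j ⊣ push j` and the unit of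
  `extZero j ⊣ restrAlong j` are isomorphisms.
-/

set_option autoImplicit false
universe u

open CategoryTheory CategoryTheory.Limits AlgebraicGeometry Opposite EtShriek

namespace Groth.Agent.H4.EtRestr

variable {U X : Scheme.{u}} (j : U ⟶ X) [hj : Etale j]

set_option backward.isDefEq.respectTransparency.types false in
theorem compatiblePreserving_compEtale :
    CompatiblePreserving X.smallEtaleTopology (compEtale j) := by
  constructor
  intro ℱ Z T x hx Y₁ Y₂ W f₁ f₂ g₁ g₂ hg₁ hg₂ he
  have he' : f₁.left ≫ g₁.left = f₂.left ≫ g₂.left := congrArg (fun k => k.left) he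
  have e1 : f₁.left ≫ Y₁.hom ≫ j = W.hom := MorphismProperty.Over.w f₁
  have hW : EtCoh.etaleMP ((f₁.left ≫ Y₁.hom) ≫ j) := by
    rw [Category.assoc, e1]; exact W.prop
  let W' : U.Etale := MorphismProperty.Over.mk ⊤ (f₁.left ≫ Y₁.hom)
    (EtCoh.etaleMP.of_postcomp (W' := EtCoh.etaleMP) (f₁.left ≫ Y₁.hom) j hj hW)
  let e : (compEtale j).obj W' ≅ W := MorphismProperty.Over.isoMk (Iso.refl _)
    ((Category.id_comp W.hom).trans (e1.symm.trans (Category.assoc _ _ _).symm))
  have w2 : f₂.left ≫ Y₂.hom = f₁.left ≫ Y₁.hom := by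
    have a1 : g₁.left ≫ Z.hom = Y₁.hom := MorphismProperty.Over.w g₁
    have a2 : g₂.left ≫ Z.hom = Y₂.hom := MorphismProperty.Over.w g₂
    rw [← a1, ← a2]
    exact ((Category.assoc _ _ _).symm.trans (congrArg (· ≫ Z.hom) he'.symm)).trans (Category.assoc _ _ _)
  let h₁ : W' ⟶ Y₁ := MorphismProperty.Over.homMk f₁.left rfl trivial
  let h₂ : W' ⟶ Y₂ := MorphismProperty.Over.homMk f₂.left w2 trivial
  have hh : h₁ ≫ g₁ = h₂ ≫ g₂ := MorphismProperty.Over.Hom.ext he'
  have m₁ : (compEtale j).map h₁ = e.hom ≫ f₁ :=
    MorphismProperty.Over.Hom.ext (Category.id_comp _).symm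
  have m₂ : (compEtale j).map h₂ = e.hom ≫ f₂ :=
    MorphismProperty.Over.Hom.ext (Category.id_comp _).symm
  have key := hx h₁ h₂ hg₁ hg₂ hh
  apply (ℱ.1.mapIso e.op).toEquiv.injective
  change ℱ.obj.map e.hom.op (ℱ.obj.map f₁.op (x g₁ hg₁)) =
    ℱ.obj.map e.hom.op (ℱ.obj.map f₂.op (x g₂ hg₂))
  change ℱ.obj.map ((compEtale j).map h₁).op (x g₁ hg₁) =
    ℱ.obj.map ((compEtale j).map h₂).op (x g₂ hg₂) at key
  rw [m₁, m₂, op_comp, op_comp, Functor.map_comp, Functor.map_comp] at key
  exact key

/-- `compEtale j` is continuous for every étale morphism `j`. -/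
instance jCont : JCont j :=
  Functor.isContinuous_of_coverPreserving (compatiblePreserving_compEtale j)
    (coverPreserving_compEtale j)


/-- The adjunction `compEtale j ⊣ bc j`. -/
noncomputable def compBcAdj : compEtale j ⊣ EtCoh.bc j :=
  MorphismProperty.Over.mapPullbackAdj EtCoh.etaleMP.{u} ⊤ j hj trivial

/-- The adjunction `restrAlong j ⊣ push j` (`j^{-1} ⊣ j_*` with `j^{-1}` given by restriction). -/
noncomputable def restrPushAdj : restrAlong j ⊣ EtCoh.push j :=
  (compBcAdj j).sheafPushforwardContinuous (E := AddCommGrpCat.{u + 1})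
    U.smallEtaleTopology X.smallEtaleTopology

/-- For étale `j`, the inverse image `pull j` is restriction along `compEtale j`. -/
noncomputable def pullRestrIso : EtCoh.pull j ≅ restrAlong j :=
  (EtCoh.pullPushAdj j).leftAdjointUniq (restrPushAdj j)

instance extZero_preservesMonomorphisms : (extZero j).PreservesMonomorphisms := by
  haveI := Groth.Agent.H4.ExtZero.extZero_preservesFiniteLimits j
  infer_instance

/-- Restriction to an étale `U → X` preserves injective abelian sheaves. -/
theorem injective_restrAlong (I : EtCoh.Ab X) [Injective I] : Injective ((restrAlong j).obj I) :=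
  (extZeroAdj j).map_injective I inferInstance

/-- Inverse image along an étale morphism preserves injective abelian sheaves. -/
theorem injective_pull (I : EtCoh.Ab X) [Injective I] : Injective ((EtCoh.pull j).obj I) :=
  haveI := injective_restrAlong j I
  Injective.of_iso ((pullRestrIso j).app I).symm inferInstance


section Push

variable {X Y : Scheme.{u}} (f : X ⟶ Y)

/-- Inverse image of abelian étale sheaves is exact (same argument as helper1's S0101). -/
instance pull_preservesFiniteLimits : PreservesFiniteLimits (EtCoh.pull f) := by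
  have hfilt : ∀ K : (X.Etale)ᵒᵖ, IsFiltered (CostructuredArrow (EtCoh.bc f).op K) := fun K =>
    IsFiltered.of_equivalence (structuredArrowOpEquivalence (EtCoh.bc f) (unop K))
  have hAB5 : AB5OfSize.{u, u + 1} AddCommGrpCat.{u + 1} :=
    AB5OfSize_of_univLE.{u, u + 1, u + 1, u + 1} AddCommGrpCat.{u + 1}
  have hex : ∀ K : (X.Etale)ᵒᵖ,
      HasExactColimitsOfShape (CostructuredArrow (EtCoh.bc f).op K) AddCommGrpCat.{u + 1} :=
    fun K => inferInstance
  have : PreservesFiniteLimits ((EtCoh.bc f).op.lan :
      ((Y.Etale)ᵒᵖ ⥤ AddCommGrpCat.{u + 1}) ⥤ (X.Etale)ᵒᵖ ⥤ AddCommGrpCat.{u + 1}) :=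
    Groth.Agent.H4.ExtZero.lan_preservesFiniteLimits_of_exact AddCommGrpCat.{u + 1} (EtCoh.bc f).op
  exact Functor.sheafPullbackConstruction.preservesFiniteLimits (EtCoh.bc f) AddCommGrpCat.{u + 1}
    Y.smallEtaleTopology X.smallEtaleTopology

instance pull_preservesMonomorphisms : (EtCoh.pull f).PreservesMonomorphisms := inferInstance

/-- Direct image preserves injective abelian sheaves. -/
theorem injective_push (I : EtCoh.Ab X) [Injective I] : Injective ((EtCoh.push f).obj I) :=
  (EtCoh.pullPushAdj f).map_injective I inferInstance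

end Push


section Mono

variable {U X : Scheme.{u}} (j : U ⟶ X) [hj : Etale j] [Mono j]

instance isIso_compBcAdj_unit : IsIso (compBcAdj j).unit :=
  (compBcAdj j).unit_isIso_of_L_fully_faithful

set_option backward.isDefEq.respectTransparency.types false in
/-- For a monomorphism `j`, the counit `j^{-1} j_* F ⟶ F` (restriction form) is an isomorphism. -/
instance isIso_restrPushAdj_counit_app (F : EtCoh.Ab U) : IsIso ((restrPushAdj j).counit.app F) := by
  have h : IsIso ((sheafToPresheaf _ _).map ((restrPushAdj j).counit.app F)) := by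
    change IsIso (((compBcAdj j).op.whiskerLeft _).counit.app F.obj)
    rw [NatTrans.isIso_iff_isIso_app]
    intro V
    rw [Adjunction.whiskerLeft_counit_app_app]
    change IsIso (F.obj.map ((compBcAdj j).unit.app V.unop).op)
    infer_instance
  exact isIso_of_reflects_iso _ (sheafToPresheaf _ _)

instance isIso_restrPushAdj_counit : IsIso (restrPushAdj j).counit :=
  NatIso.isIso_of_isIso_app _

/-- For a monomorphism `j`, the unit `F ⟶ j^{-1} j_! F` is an isomorphism. -/
instance isIso_extZeroAdj_unit : IsIso (extZeroAdj j).unit :=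
  (Adjunction.Triple.isIso_unit_iff_isIso_counit
    (⟨extZeroAdj j, restrPushAdj j⟩ : Adjunction.Triple (extZero j) (restrAlong j) (EtCoh.push j))).2
    inferInstance

/-- For a monomorphism `j`, the counit `j^{-1} j_* F ⟶ F` of `pull j ⊣ push j` is an isomorphism. -/
theorem isIso_pullPushAdj_counit_app (F : EtCoh.Ab U) :
    IsIso ((EtCoh.pullPushAdj j).counit.app F) := by
  have := Adjunction.leftAdjointUniq_hom_app_counit (EtCoh.pullPushAdj j) (restrPushAdj j) F
  rw [← this]
  infer_instance

end Mono

end Groth.Agent.H4.EtRestr
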