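import Groth.Prelude.Def_EtBase
import Mathlib.CategoryTheory.Functor.ReflectsIso.Exact
import Mathlib.AlgebraicGeometry.Morphisms.UniversallyOpen
import Mathlib.AlgebraicGeometry.Morphisms.Smooth

/-!
# Exactness via geometric stalks (helper library, helper4)

Conservative families of points jointly reflect isomorphisms for sheaves valued in a concrete
category whose carrier universe may be larger than the universe of the points.
-/

set_option autoImplicit false
open CategoryTheory CategoryTheory.Limits AlgebraicGeometry Opposite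

namespace Groth.Agent.H4.Stalks

universe w w' v v' u u'

section General

variable {C : Type u} [Category.{v} C] {J : GrothendieckTopology C}
  {P : ObjectProperty (GrothendieckTopology.Point.{w} J)}
  [LocallySmall.{w} C]
  {A : Type u'} [Category.{v'} A] [HasColimitsOfSize.{w, w} A]
  {FC : A → A → Type*} {CC : A → Type w'} [∀ X Y, FunLike (FC X Y) (CC X) (CC Y)]
  [ConcreteCategory.{w'} A FC]
  [PreservesFilteredColimitsOfSize.{w, w} (forget A)]

/-- covering criterion for arbitrary sieves from a conservative family of points. -/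
lemma sieve_mem_of_fibers (hP : P.IsConservativeFamilyOfPoints) [ObjectProperty.Small.{w} P]
    [HasSheafify J (Type w)] [J.WEqualsLocallyBijective (Type w)]
    {X : C} (S : Sieve X)
    (h : ∀ (Φ : P.FullSubcategory) (x : Φ.obj.fiber.obj X),
      ∃ (Y : C) (g : Y ⟶ X) (_ : S g) (y : Φ.obj.fiber.obj Y), Φ.obj.fiber.map g y = x) :
    S ∈ J X := by
  obtain ⟨ι, U, f, rfl⟩ := S.exists_eq_ofArrows
  rw [hP.jointly_reflect_ofArrows_mem_of_small]
  intro Φ x
  obtain ⟨Y, g, ⟨Z, p, _, ⟨i⟩, rfl⟩, y, rfl⟩ := h Φ x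
  exact ⟨i, Φ.obj.fiber.map p y, by simp⟩

lemma isLocallyInjective_of_fibers (hP : P.IsConservativeFamilyOfPoints)
    [ObjectProperty.Small.{w} P]
    [HasSheafify J (Type w)] [J.WEqualsLocallyBijective (Type w)]
    {K L : Cᵒᵖ ⥤ A} (f : K ⟶ L)
    (hf : ∀ Φ : P.FullSubcategory, Function.Injective (Φ.obj.presheafFiber.map f)) :
    Presheaf.IsLocallyInjective J f where
  equalizerSieve_mem {X} x y hxy := by
    refine sieve_mem_of_fibers hP _ (fun Φ t ↦ ?_)
    have h1 : Φ.obj.toPresheafFiber X.unop t K x = Φ.obj.toPresheafFiber X.unop t K y := by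
      apply hf Φ
      have hx := Φ.obj.toPresheafFiber_naturality_apply f X.unop t x
      have hy := Φ.obj.toPresheafFiber_naturality_apply f X.unop t y
      rw [hx, hy]
      exact congrArg _ hxy
    rw [GrothendieckTopology.Point.toPresheafFiber_eq_iff'] at h1
    obtain ⟨Y, g, y', hy', hg⟩ := h1
    exact ⟨Y, g, hg, y', hy'⟩

lemma isLocallySurjective_of_fibers (hP : P.IsConservativeFamilyOfPoints)
    [ObjectProperty.Small.{w} P]
    [HasSheafify J (Type w)] [J.WEqualsLocallyBijective (Type w)]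
    {K L : Cᵒᵖ ⥤ A} (f : K ⟶ L)
    (hf : ∀ Φ : P.FullSubcategory, Function.Surjective (Φ.obj.presheafFiber.map f)) :
    Presheaf.IsLocallySurjective J f where
  imageSieve_mem {X} s := by
    refine sieve_mem_of_fibers hP _ (fun Φ t ↦ ?_)
    obtain ⟨p, hp⟩ := hf Φ (Φ.obj.toPresheafFiber X t L s)
    obtain ⟨X', t', z, rfl⟩ := Φ.obj.toPresheafFiber_jointly_surjective p
    rw [Φ.obj.toPresheafFiber_naturality_apply f X' t' z] at hp
    -- common refinement
    obtain ⟨W, w, a, b, ha, hb⟩ :
        ∃ (W : C) (w : Φ.obj.fiber.obj W) (a : W ⟶ X) (b : W ⟶ X'),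
          Φ.obj.fiber.map a w = t ∧ Φ.obj.fiber.map b w = t' := by
      let e1 : Φ.obj.fiber.Elements := ⟨X, t⟩
      let e2 : Φ.obj.fiber.Elements := ⟨X', t'⟩
      let m : Φ.obj.fiber.Elements := IsCofiltered.min e1 e2
      let l : m ⟶ e1 := IsCofiltered.minToLeft _ _
      let r : m ⟶ e2 := IsCofiltered.minToRight _ _
      exact ⟨m.1, m.2, l.1, r.1, l.2, r.2⟩
    have h1 : Φ.obj.toPresheafFiber W w L (L.map b.op (f.app _ z)) =
        Φ.obj.toPresheafFiber W w L (L.map a.op s) := by
      have e1 := Φ.obj.toPresheafFiber_w_apply b w L (f.app _ z)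
      have e2 := Φ.obj.toPresheafFiber_w_apply a w L s
      rw [e1, e2, ha, hb]
      exact hp
    rw [GrothendieckTopology.Point.toPresheafFiber_eq_iff'] at h1
    obtain ⟨V, c, v, hv, hc⟩ := h1
    refine ⟨V, c ≫ a, ⟨K.map (c ≫ b).op z, ?_⟩, v, by simp [hv, ha]⟩
    have := NatTrans.naturality_apply f (c ≫ b).op z
    rw [this]
    simp only [op_comp, Functor.map_comp, ConcreteCategory.comp_apply]
    exact hc

/-- A conservative small family of points jointly reflects isomorphisms of sheaves valued in a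
concrete category (carrier universe arbitrary). -/
lemma jointlyReflectIsomorphisms (hP : P.IsConservativeFamilyOfPoints)
    [ObjectProperty.Small.{w} P]
    [HasSheafify J (Type w)] [J.WEqualsLocallyBijective (Type w)]
    [(forget A).ReflectsIsomorphisms] [J.HasSheafCompose (forget A)] :
    JointlyReflectIsomorphisms
      (fun (Φ : P.FullSubcategory) ↦ Φ.obj.sheafFiber (A := A)) where
  isIso {K L} f _ := by
    refine (Sheaf.isLocallyBijective_iff_isIso f).1 ?_
    have hb : ∀ Φ : P.FullSubcategory, Function.Bijective (Φ.obj.presheafFiber.map f.hom) := by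
      intro Φ
      have : IsIso (Φ.obj.sheafFiber.map f) := inferInstance
      have h2 : IsIso ((forget A).map (Φ.obj.sheafFiber.map f)) := inferInstance
      exact (isIso_iff_bijective _).1 h2
    exact ⟨isLocallyInjective_of_fibers hP f.hom (fun Φ ↦ (hb Φ).1),
      isLocallySurjective_of_fibers hP f.hom (fun Φ ↦ (hb Φ).2)⟩

end General

end Groth.Agent.H4.Stalks

namespace Groth.Agent.H4.Stalks

universe u

instance forgetPres : PreservesFilteredColimitsOfSize.{u, u} (forget AddCommGrpCat.{u+1}) :=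
  preservesFilteredColimitsOfSize_of_univLE.{u+1, u+1, u, u} _

instance ab5 : AB5OfSize.{u, u} AddCommGrpCat.{u+1} :=
  AB5OfSize_of_univLE.{u, u, u+1, u+1} _

section Etale

variable {X : Scheme.{u}}

/-- The canonical geometric point above `s : X`. -/
noncomputable abbrev geomPt (s : X) :
    Spec (CommRingCat.of (SeparableClosure (X.residueField s))) ⟶ X :=
  (Scheme.SpecToEquivOfField (SeparableClosure (X.residueField s)) _).2
        ⟨s, CommRingCat.ofHom (algebraMap (X.residueField s) _)⟩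

@[simp] lemma geomPt_default (s : X) : (geomPt s) default = s := by
  simp [geomPt, Scheme.SpecToEquivOfField]

/-- The canonical conservative family. -/
abbrev PX (X : Scheme.{u}) : ObjectProperty (GrothendieckTopology.Point.{u} X.smallEtaleTopology) :=
  ObjectProperty.ofObj (fun (s : X) ↦ Scheme.pointSmallEtale (geomPt s))

lemma jri (X : Scheme.{u}) : JointlyReflectIsomorphisms
      (fun (Φ : (PX X).FullSubcategory) ↦ Φ.obj.sheafFiber (A := AddCommGrpCat.{u+1})) :=
  jointlyReflectIsomorphisms (Scheme.isConservativeFamilyOfPoints_pointSmallEtale' X)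

variable {Ω : Type u} [Field Ω] [IsSepClosed Ω] (ξ : Spec (CommRingCat.of Ω) ⟶ X)

instance : PreservesFiniteLimits (EtCoh.stalk ξ) := by
  unfold EtCoh.stalk
  infer_instance

instance : PreservesFiniteColimits (EtCoh.stalk ξ) := by
  unfold EtCoh.stalk
  infer_instance

instance : (EtCoh.stalk ξ).Additive := Functor.additive_of_preserves_binary_products _

instance : (EtCoh.stalk ξ).PreservesHomology := inferInstance

end Etale

section Elts

variable {X : Scheme.{u}} {Ω : Type u} [Field Ω] [IsSepClosed Ω] (ξ : Spec (CommRingCat.of Ω) ⟶ X)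

/-- the fiber of the geometric point `ξ` at `U`. -/
abbrev Fib (U : X.Etale) : Type u := (Scheme.pointSmallEtale ξ).fiber.obj U

variable {ξ}

/-- the underlying point of `U` of an element of the fiber. -/
noncomputable def Fib.pt {U : X.Etale} (x : Fib ξ U) : U.left :=
  x.left (default : Spec (CommRingCat.of Ω))

lemma Fib.pt_map {U V : X.Etale} (g : V ⟶ U) (y : Fib ξ V) :
    Fib.pt ((Scheme.pointSmallEtale ξ).fiber.map g y) = g.left y.pt := rfl

lemma Fib.hom_pt {U : X.Etale} (x : Fib ξ U) : U.hom x.pt = ξ default := by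
  have := Over.w x
  dsimp at this
  have h2 := congrArg (fun f => f (default : Spec (CommRingCat.of Ω))) this
  exact h2

instance {U V : X.Etale} (g : V ⟶ U) : Etale g.left := by
  have : Etale (g.left ≫ U.hom) := by
    rw [show g.left ≫ U.hom = V.hom from Over.w g.hom]
    exact V.prop
  have : Etale U.hom := U.prop
  exact Etale.of_comp g.left U.hom

lemma isOpenMap_left {U V : X.Etale} (g : V ⟶ U) : IsOpenMap g.left := g.left.isOpenMap

lemma Fib.exists_lift {U V : X.Etale} (g : V ⟶ U) (x : Fib ξ U) (v : V.left)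
    (hv : g.left v = x.pt) :
    ∃ y : Fib ξ V, (Scheme.pointSmallEtale ξ).fiber.map g y = x ∧ y.pt = v := by
  obtain ⟨l, hl1, hl2⟩ := Scheme.exists_fac_of_etale_of_isSepClosed g.left x.left v hv
  refine ⟨Over.homMk l ?_, ?_, hl2⟩
  · dsimp
    have h1 : g.left ≫ U.hom = V.hom := Over.w g.hom
    have h2 := Over.w x
    dsimp at h2
    rw [← h1, ← Category.assoc, hl1, h2]
  · apply Over.OverMorphism.ext
    exact hl1

lemma Fib.exists_of_point (U : X.Etale) (u : U.left) (h : U.hom u = ξ default) :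
    ∃ x : Fib ξ U, x.pt = u := by
  obtain ⟨x, hx⟩ := Scheme.pointSmallEtaleFiberObjToPreimage_surjective ξ rfl U ⟨u, h⟩
  exact ⟨x, congrArg Subtype.val hx⟩

/-- the germ map. -/
noncomputable def germ (F : EtCoh.Ab X) {U : X.Etale} (x : Fib ξ U) :
    F.obj.obj (op U) ⟶ (EtCoh.stalk ξ).obj F :=
  (Scheme.pointSmallEtale ξ).toPresheafFiber U x F.obj

lemma germ_surjective (F : EtCoh.Ab X) (t : (EtCoh.stalk ξ).obj F) :
    ∃ (U : X.Etale) (x : Fib ξ U) (s : F.obj.obj (op U)), germ F x s = t :=
  (Scheme.pointSmallEtale ξ).toPresheafFiber_jointly_surjective (P := F.obj) t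

lemma germ_res (F : EtCoh.Ab X) {U V : X.Etale} (g : V ⟶ U) (y : Fib ξ V)
    (s : F.obj.obj (op U)) :
    germ F y (F.obj.map g.op s) = germ F ((Scheme.pointSmallEtale ξ).fiber.map g y) s :=
  (Scheme.pointSmallEtale ξ).toPresheafFiber_w_apply g y F.obj s

lemma germ_eq_iff (F : EtCoh.Ab X) {U : X.Etale} (x : Fib ξ U) (s s' : F.obj.obj (op U)) :
    germ F x s = germ F x s' ↔ ∃ (V : X.Etale) (g : V ⟶ U) (y : Fib ξ V),
      (Scheme.pointSmallEtale ξ).fiber.map g y = x ∧ F.obj.map g.op s = F.obj.map g.op s' :=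
  (Scheme.pointSmallEtale ξ).toPresheafFiber_eq_iff' (P := F.obj) U x s s'

lemma germ_eq_zero_iff (F : EtCoh.Ab X) {U : X.Etale} (x : Fib ξ U) (s : F.obj.obj (op U)) :
    germ F x s = 0 ↔ ∃ (V : X.Etale) (g : V ⟶ U) (y : Fib ξ V),
      (Scheme.pointSmallEtale ξ).fiber.map g y = x ∧ F.obj.map g.op s = 0 := by
  rw [← map_zero (germ F x).hom, germ_eq_iff]
  simp only [map_zero]

/-- the germ at `x` of `s` vanishes iff `s` vanishes on an etale neighbourhood of the point `x.pt`. -/
lemma germ_eq_zero_iff' (F : EtCoh.Ab X) {U : X.Etale} (x : Fib ξ U) (s : F.obj.obj (op U)) :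
    germ F x s = 0 ↔ ∃ (V : X.Etale) (g : V ⟶ U) (v : V.left),
      g.left v = x.pt ∧ F.obj.map g.op s = 0 := by
  rw [germ_eq_zero_iff]
  constructor
  · rintro ⟨V, g, y, hy, hs⟩
    exact ⟨V, g, y.pt, by rw [← Fib.pt_map, hy], hs⟩
  · rintro ⟨V, g, v, hv, hs⟩
    obtain ⟨y, hy, -⟩ := Fib.exists_lift g x v hv
    exact ⟨V, g, y, hy, hs⟩

/-- A section vanishing etale-locally around every point is zero. -/
lemma eq_zero_of_locally_zero (F : EtCoh.Ab X) {V : X.Etale} (τ : F.obj.obj (op V))
    (h : ∀ p : V.left, ∃ (W : X.Etale) (g : W ⟶ V) (w : W.left),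
      g.left w = p ∧ F.obj.map g.op τ = 0) : τ = 0 := by
  choose W g w hw hg using h
  have hcov : Sieve.ofArrows _ g ∈ X.smallEtaleTopology V := by
    rw [Scheme.ofArrows_mem_smallEtaleTopology_iff]
    ext p
    simp only [Set.mem_iUnion, Set.mem_range, Set.mem_univ, iff_true]
    exact ⟨p, w p, hw p⟩
  refine F.isSeparated V _ hcov τ 0 ?_
  rintro Z k ⟨_, a, _, ⟨p⟩, rfl⟩
  rw [op_comp, Functor.map_comp, ConcreteCategory.comp_apply, hg p, map_zero, map_zero]

/-- A section all of whose germs vanish is zero. -/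
lemma eq_zero_of_germs (F : EtCoh.Ab X) {V : X.Etale} (τ : F.obj.obj (op V))
    (h : ∀ p : V.left, ∃ (Ω : Type u) (_ : Field Ω) (_ : IsSepClosed Ω)
      (ξ : Spec (CommRingCat.of Ω) ⟶ X) (x : Fib ξ V), x.pt = p ∧ germ F x τ = 0) : τ = 0 := by
  apply eq_zero_of_locally_zero
  intro p
  obtain ⟨Ω, _, _, ξ, x, hx, h0⟩ := h p
  obtain ⟨W, g, w, hw, hg⟩ := (germ_eq_zero_iff' F x τ).1 h0
  exact ⟨W, g, w, hw.trans hx, hg⟩

lemma germ_map {F G : EtCoh.Ab X} (a : F ⟶ G) {U : X.Etale} (x : Fib ξ U) (s : F.obj.obj (op U)) :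
    (EtCoh.stalk ξ).map a (germ F x s) = germ G x (a.hom.app (op U) s) :=
  (Scheme.pointSmallEtale ξ).toPresheafFiber_naturality_apply a.hom U x s

/-- sections over an empty étale scheme vanish. -/
lemma eq_zero_of_isEmpty (F : EtCoh.Ab X) {V : X.Etale} [IsEmpty V.left]
    (τ : F.obj.obj (op V)) : τ = 0 :=
  eq_zero_of_locally_zero F τ (fun p => (IsEmpty.false p).elim)

end Elts

end Groth.Agent.H4.Stalks
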