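import Groth.Agent.H4.Stalks
import Mathlib.CategoryTheory.Sites.Point.Comap

/-!
# Stalk of a pullback (helper library, helper4)

For `f : Y ⟶ X` and a geometric point `y : Spec Ω ⟶ Y`:
`EtCoh.stalk (y ≫ f) ≅ EtCoh.pull f ⋙ EtCoh.stalk y`.
-/

set_option autoImplicit false
open CategoryTheory CategoryTheory.Limits AlgebraicGeometry Opposite

namespace Groth.Agent.H4.StalkPull

universe w v v' u u'

section General

variable {C : Type u} [Category.{v} C] {J : GrothendieckTopology C}

/-- An isomorphism of fiber functors gives an isomorphism of points. -/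
def pointIso {Φ₁ Φ₂ : GrothendieckTopology.Point.{w} J} (e : Φ₁.fiber ≅ Φ₂.fiber) : Φ₁ ≅ Φ₂ where
  hom := ⟨e.inv⟩
  inv := ⟨e.hom⟩
  hom_inv_id := by ext : 1; simp
  inv_hom_id := by ext : 1; simp

variable {A : Type u'} [Category.{v'} A] [HasColimitsOfSize.{w, w} A]

/-- Isomorphic points have isomorphic sheaf fiber functors. -/
noncomputable def sheafFiberIsoOfIso {Φ₁ Φ₂ : GrothendieckTopology.Point.{w} J} (e : Φ₁ ≅ Φ₂) :
    Φ₁.sheafFiber (A := A) ≅ Φ₂.sheafFiber where
  hom := GrothendieckTopology.Point.Hom.sheafFiber e.inv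
  inv := GrothendieckTopology.Point.Hom.sheafFiber e.hom
  hom_inv_id := by
    rw [← GrothendieckTopology.Point.Hom.sheafFiber_comp, e.hom_inv_id,
      GrothendieckTopology.Point.Hom.sheafFiber_id]
  inv_hom_id := by
    rw [← GrothendieckTopology.Point.Hom.sheafFiber_comp, e.inv_hom_id,
      GrothendieckTopology.Point.Hom.sheafFiber_id]

lemma initiallySmall_elements_of_iso {F G : C ⥤ Type w} (e : F ≅ G)
    [InitiallySmall.{w} G.Elements] : InitiallySmall.{w} F.Elements := by
  let E : G.Elements ≌ F.Elements := Cat.equivOfIso ((Functor.elementsFunctor).mapIso e.symm)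
  exact initiallySmall_of_initial_of_initiallySmall E.functor

end General

section ComapGerm

variable {C D : Type*} [Category* C] [Category* D]
  {K : GrothendieckTopology D}
  (Φ : GrothendieckTopology.Point.{w} K) (F : C ⥤ D) [RepresentablyFlat F]
  {J : GrothendieckTopology C}
  (hF : CoverPreserving J K F)
  [InitiallySmall (F ⋙ Φ.fiber).Elements]
  (A : Type*) [Category.{v} A] [HasProducts.{w} A]
  [Functor.IsContinuous F J K]
  [(F.sheafPushforwardContinuous A J K).IsRightAdjoint]
  [HasColimitsOfSize.{w, w} A]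

lemma counit_eq (Ψ : GrothendieckTopology.Point.{w} J) (M : A) :
    Ψ.skyscraperSheafAdjunction.counit.app M =
      Ψ.skyscraperPresheafHomEquiv.symm (𝟙 (Ψ.skyscraperPresheaf M)) := by
  rw [← Ψ.skyscraperSheafAdjunction.homEquiv_symm_id (X := M)]
  exact Ψ.skyscraperSheafAdjunction_homEquiv_symm_apply (𝟙 _)

lemma counit_spec (Ψ : GrothendieckTopology.Point.{w} J) (M : A) (V : C) (v : Ψ.fiber.obj V) :
    Ψ.toPresheafFiber V v (Ψ.skyscraperPresheaf M) ≫ Ψ.skyscraperSheafAdjunction.counit.app M =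
      Pi.π (fun _ : Ψ.fiber.obj V => M) v := by
  refine (congrArg (fun t => Ψ.toPresheafFiber V v (Ψ.skyscraperPresheaf M) ≫ t)
    (counit_eq A Ψ M)).trans ?_
  refine (Ψ.toPresheafFiber_skyscraperPresheafHomEquiv_symm _ V v).trans ?_
  exact Category.id_comp _

lemma unit_eq (Ψ : GrothendieckTopology.Point.{w} J) (Y : Sheaf J A) :
    (Ψ.skyscraperSheafAdjunction.unit.app Y).hom =
      Ψ.skyscraperPresheafHomEquiv (𝟙 (Ψ.presheafFiber.obj Y.obj)) := by
  rw [← Ψ.skyscraperSheafAdjunction.homEquiv_id (X := Y)]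
  exact Ψ.skyscraperSheafAdjunction_homEquiv_apply_hom (F := Y) (𝟙 _)

lemma unit_spec (Ψ : GrothendieckTopology.Point.{w} J) (Y : Sheaf J A) (V : C) (v : Ψ.fiber.obj V) :
    (Ψ.skyscraperSheafAdjunction.unit.app Y).hom.app (op V) ≫
      Pi.π (fun _ : Ψ.fiber.obj V => Ψ.presheafFiber.obj Y.obj) v =
      Ψ.toPresheafFiber V v Y.obj := by
  have h := congrArg (fun t => t.app (op V) ≫
    Pi.π (fun _ : Ψ.fiber.obj V => Ψ.presheafFiber.obj Y.obj) v) (unit_eq A Ψ Y)
  refine h.trans ?_
  refine (Ψ.skyscraperPresheafHomEquiv_app_π _ V v).trans ?_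
  exact Category.comp_id _

omit [HasProducts.{w} A] in
lemma toPresheafFiber_sheafFiber_map (Ψ : GrothendieckTopology.Point.{w} J) {X Y : Sheaf J A}
    (a : X ⟶ Y) (V : C) (v : Ψ.fiber.obj V) :
    Ψ.toPresheafFiber V v X.obj ≫ Ψ.sheafFiber.map a =
      a.hom.app (op V) ≫ Ψ.toPresheafFiber V v Y.obj :=
  Ψ.toPresheafFiber_naturality a.hom V v

omit [HasProducts.{w} A] in
lemma toPresheafFiber_sheafFiber_map_assoc' (Ψ : GrothendieckTopology.Point.{w} J)
    {X Y : Sheaf J A} (a : X ⟶ Y) (V : C) (v : Ψ.fiber.obj V) {Z : A}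
    (h : Ψ.sheafFiber.obj Y ⟶ Z) :
    Ψ.toPresheafFiber V v X.obj ≫ Ψ.sheafFiber.map a ≫ h =
      a.hom.app (op V) ≫ Ψ.toPresheafFiber V v Y.obj ≫ h := by
  have := toPresheafFiber_sheafFiber_map A Ψ a V v
  calc Ψ.toPresheafFiber V v X.obj ≫ Ψ.sheafFiber.map a ≫ h
      = (Ψ.toPresheafFiber V v X.obj ≫ Ψ.sheafFiber.map a) ≫ h := (Category.assoc _ _ _).symm
    _ = (a.hom.app (op V) ≫ Ψ.toPresheafFiber V v Y.obj) ≫ h := congrArg (fun t => t ≫ h) this
    _ = _ := Category.assoc _ _ _

/-- Germ formula for Mathlib's `sheafFiberComapIso`. -/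
theorem toPresheafFiber_sheafFiberComapIso_hom (X : Sheaf J A) (V : C)
    (v : (Φ.comap F hF).fiber.obj V) :
    (Φ.comap F hF).toPresheafFiber V v X.obj ≫ (Φ.sheafFiberComapIso F hF A).hom.app X =
      ((F.sheafAdjunctionContinuous A J K).unit.app X).hom.app (op V) ≫
        Φ.toPresheafFiber (F.obj V) v ((F.sheafPullback A J K).obj X).obj := by
  have h := GrothendieckTopology.Point.sheafFiberComapIso_hom_app Φ F hF A X
  refine (congrArg (fun t => (Φ.comap F hF).toPresheafFiber V v X.obj ≫ t) h).trans ?_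
  refine (toPresheafFiber_sheafFiber_map_assoc' A (Φ.comap F hF) _ V v _).trans ?_
  refine congrArg (fun t => ((F.sheafAdjunctionContinuous A J K).unit.app X).hom.app (op V) ≫ t) ?_
  refine (toPresheafFiber_sheafFiber_map_assoc' A (Φ.comap F hF) _ V v _).trans ?_
  refine (congrArg (fun t => _ ≫ t)
    (toPresheafFiber_sheafFiber_map_assoc' A (Φ.comap F hF) _ V v _)).trans ?_
  refine (congrArg (fun t => _ ≫ _ ≫ t) (counit_spec A (Φ.comap F hF) _ V v)).trans ?_
  refine Eq.trans ?_ (unit_spec A Φ ((F.sheafPullback A J K).obj X) (F.obj V) v)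
  exact congrArg (fun t => _ ≫ t) (Category.id_comp _)

end ComapGerm

section Etale
open EtCoh

variable {X Y : Scheme.{u}} (f : Y ⟶ X) {Ω : Type u} [Field Ω] [IsSepClosed Ω]
  (y : Spec (CommRingCat.of Ω) ⟶ Y)

noncomputable def fiberIso :
    bc f ⋙ (Scheme.pointSmallEtale y).fiber ≅ (Scheme.pointSmallEtale (y ≫ f)).fiber :=
  (Functor.associator _ _ _).symm ≪≫
  Functor.isoWhiskerRight (MorphismProperty.Over.pullbackCompForgetIso (P := etaleMP) (Q := ⊤) f) _ ≪≫
  Functor.associator _ _ _ ≪≫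
  Functor.isoWhiskerLeft (Scheme.Etale.forget X)
    ((Over.mapPullbackAdj f).compCoyonedaIso.app (op (Over.mk y))).symm

instance : InitiallySmall.{u} (bc f ⋙ (Scheme.pointSmallEtale y).fiber).Elements :=
  initiallySmall_elements_of_iso (fiberIso f y)

noncomputable def comapIso :
    (Scheme.pointSmallEtale y).comap (bc f) (coverPreserving_bc f) ≅
      Scheme.pointSmallEtale (y ≫ f) :=
  pointIso (fiberIso f y)

noncomputable def stalkPullIso : EtCoh.stalk (y ≫ f) ≅ EtCoh.pull f ⋙ EtCoh.stalk y :=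
  (sheafFiberIsoOfIso (comapIso f y)).symm ≪≫
    (Scheme.pointSmallEtale y).sheafFiberComapIso (bc f) (coverPreserving_bc f)
      AddCommGrpCat.{u+1}

end Etale

section EtaleGerm
open EtCoh Groth.Agent.H4.Stalks

variable {X Y : Scheme.{u}} (f : Y ⟶ X) {Ω : Type u} [Field Ω] [IsSepClosed Ω]
  (y : Spec (CommRingCat.of Ω) ⟶ Y)

/-- transport of fiber elements: `Fib (y ≫ f) V → Fib y (bc f V)`. -/
noncomputable def fibPull {V : X.Etale} (v : Fib (y ≫ f) V) : Fib y ((bc f).obj V) :=
  (fiberIso f y).inv.app V v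

/-- and back. -/
noncomputable def fibPush {V : X.Etale} (v : Fib y ((bc f).obj V)) : Fib (y ≫ f) V :=
  (fiberIso f y).hom.app V v

@[simp] lemma fibPull_fibPush {V : X.Etale} (v : Fib y ((bc f).obj V)) :
    fibPull f y (fibPush f y v) = v := by
  simp [fibPull, fibPush]

@[simp] lemma fibPush_fibPull {V : X.Etale} (v : Fib (y ≫ f) V) :
    fibPush f y (fibPull f y v) = v := by
  simp [fibPull, fibPush]

/-- **Germ formula for the stalk of a pullback.** -/
theorem germ_stalkPullIso (F : Ab X) {V : X.Etale} (v : Fib (y ≫ f) V) :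
    germ F v ≫ (stalkPullIso f y).hom.app F =
      ((pullPushAdj f).unit.app F).hom.app (op V) ≫ germ ((pull f).obj F) (fibPull f y v) := by
  have h1 : germ F v ≫ (sheafFiberIsoOfIso (A := AddCommGrpCat.{u+1}) (comapIso f y)).inv.app F =
      ((Scheme.pointSmallEtale y).comap (bc f) (coverPreserving_bc f)).toPresheafFiber V
        (fibPull f y v) F.obj := by
    exact (Scheme.pointSmallEtale (y ≫ f)).toPresheafFiber_presheafFiberDesc
      (A := AddCommGrpCat.{u+1}) (P := F.obj) _ _ V v
  have h2 := toPresheafFiber_sheafFiberComapIso_hom (Scheme.pointSmallEtale y) (bc f)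
    (coverPreserving_bc f) AddCommGrpCat.{u+1} F V (fibPull f y v)
  calc germ F v ≫ (stalkPullIso f y).hom.app F
      = (germ F v ≫ (sheafFiberIsoOfIso (A := AddCommGrpCat.{u+1}) (comapIso f y)).inv.app F) ≫
          ((Scheme.pointSmallEtale y).sheafFiberComapIso (bc f) (coverPreserving_bc f)
            AddCommGrpCat.{u+1}).hom.app F := by
        simp only [stalkPullIso, Iso.trans_hom, Iso.symm_hom, NatTrans.comp_app, Category.assoc]
    _ = _ := by rw [h1]; exact h2

end EtaleGerm

end Groth.Agent.H4.StalkPull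

namespace Groth.Agent.H4.StalkPull
universe u
section Apply
open EtCoh Groth.Agent.H4.Stalks

variable {X Y : Scheme.{u}} (f : Y ⟶ X) {Ω : Type u} [Field Ω] [IsSepClosed Ω]
  (y : Spec (CommRingCat.of Ω) ⟶ Y)

/-- elementwise germ formula for the stalk of a pullback. -/
theorem stalkPullIso_germ_apply (F : Ab X) {V : X.Etale} (v : Fib (y ≫ f) V)
    (σ : F.obj.obj (op V)) :
    (stalkPullIso f y).hom.app F (germ F v σ) =
      germ ((pull f).obj F) (fibPull f y v)
        (((pullPushAdj f).unit.app F).hom.app (op V) σ) := by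
  have key2 := ConcreteCategory.congr_hom (germ_stalkPullIso f y F v) σ
  rw [ConcreteCategory.comp_apply, ConcreteCategory.comp_apply] at key2
  exact key2

/-- The unit `F ⟶ f_* f^{-1} F` is injective on sections when `f` is surjective. -/
theorem unit_injective_of_surjective [Surjective f] (F : Ab X) (V : X.Etale) :
    Function.Injective (((pullPushAdj f).unit.app F).hom.app (op V)) := by
  rw [injective_iff_map_eq_zero]
  intro σ hσ
  apply eq_zero_of_germs F
  intro p
  obtain ⟨q, hq⟩ := f.surjective (V.hom p)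
  obtain ⟨v, hv⟩ := Fib.exists_of_point (ξ := geomPt q ≫ f) V p (by
    have := geomPt_default q
    change V.hom p = f ((geomPt q) default)
    rw [this, hq])
  refine ⟨_, inferInstance, inferInstance, _, v, hv, ?_⟩
  have key := stalkPullIso_germ_apply f (geomPt q) F v σ
  have key' : (stalkPullIso f (geomPt q)).hom.app F (germ F v σ) = 0 :=
    key.trans ((congrArg (germ ((pull f).obj F) (fibPull f (geomPt q) v)) hσ).trans (map_zero _))
  have hinj : Function.Injective ((stalkPullIso f (geomPt q)).hom.app F) :=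
    (ConcreteCategory.bijective_of_isIso _).1
  exact hinj (by rw [key', map_zero])

end Apply
end Groth.Agent.H4.StalkPull

namespace Groth.Agent.H4.StalkPull
universe u
section FibConcrete
open EtCoh Groth.Agent.H4.Stalks

variable {X Y : Scheme.{u}} (f : Y ⟶ X) {Ω : Type u} [Field Ω] [IsSepClosed Ω]
  (y : Spec (CommRingCat.of Ω) ⟶ Y)

set_option backward.isDefEq.respectTransparency.types false in
theorem fibPush_left {V : X.Etale} (v' : Fib y ((bc f).obj V)) :
    (fibPush f y v').left = v'.left ≫ pullback.fst V.hom f := by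
  simp only [fibPush, fiberIso, Iso.trans_hom, Iso.symm_hom, NatTrans.comp_app]
  change (((Over.mapPullbackAdj f).homEquiv (Over.mk y) ((Scheme.Etale.forget X).obj V)).symm
    (v' ≫ (MorphismProperty.Over.pullbackCompForgetIso (P := etaleMP) (Q := ⊤) f).hom.app V)).left = _
  rw [Adjunction.homEquiv_counit]
  simp
  exact congrArg (fun t => Over.Hom.left v' ≫ t) (Category.id_comp _)

theorem fibPull_left_fst {V : X.Etale} (v : Fib (y ≫ f) V) :
    (fibPull f y v).left ≫ pullback.fst V.hom f = v.left := by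
  rw [← fibPush_left, fibPush_fibPull]

theorem fibPush_pt {V : X.Etale} (v' : Fib y ((bc f).obj V)) :
    (fibPush f y v').pt = pullback.fst V.hom f v'.pt := by
  unfold Fib.pt
  rw [fibPush_left]
  rfl

theorem fibPull_pt {V : X.Etale} (v : Fib (y ≫ f) V) :
    pullback.fst V.hom f (fibPull f y v).pt = v.pt := by
  rw [← fibPush_pt, fibPush_fibPull]

end FibConcrete
end Groth.Agent.H4.StalkPull
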