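import Groth.Agent.H4.ClosedLift
import Groth.Agent.H4.StalkPull
set_option autoImplicit false
open CategoryTheory CategoryTheory.Limits AlgebraicGeometry Opposite
universe u
open EtCoh Groth.Agent.H4.Stalks Groth.Agent.H4.StalkPull

namespace Groth.Agent.H4.ClosedStalk

variable {Z X : Scheme.{u}} (i : Z ⟶ X) {Ω : Type u} [Field Ω] [IsSepClosed Ω]
  (ζ : Spec (CommRingCat.of Ω) ⟶ Z)

/-- the canonical map from the stalk of `i_* G` to the stalk of `G`. -/
noncomputable def kappa (G : Ab Z) :
    (stalk (ζ ≫ i)).obj ((push i).obj G) ⟶ (stalk ζ).obj G :=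
  (stalkPullIso i ζ).hom.app ((push i).obj G) ≫ (stalk ζ).map ((pullPushAdj i).counit.app G)

theorem kappa_germ (G : Ab Z) {V : X.Etale} (v : Fib (ζ ≫ i) V)
    (σ : ((push i).obj G).obj.obj (op V)) :
    kappa i ζ G (germ ((push i).obj G) v σ) = germ G (fibPull i ζ v) σ := by
  have h1 : kappa i ζ G (germ ((push i).obj G) v σ) =
      (stalk ζ).map ((pullPushAdj i).counit.app G)
        ((stalkPullIso i ζ).hom.app ((push i).obj G) (germ ((push i).obj G) v σ)) := rfl
  have h2 := congrArg (fun t => (stalk ζ).map ((pullPushAdj i).counit.app G) t)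
    (stalkPullIso_germ_apply i ζ ((push i).obj G) v σ)
  have h3 := germ_map ((pullPushAdj i).counit.app G) (fibPull i ζ v)
    (((pullPushAdj i).unit.app ((push i).obj G)).hom.app (op V) σ)
  have h4 : ((pullPushAdj i).counit.app G).hom.app (op ((bc i).obj V))
      (((pullPushAdj i).unit.app ((push i).obj G)).hom.app (op V) σ) = σ := by
    have h := (pullPushAdj i).right_triangle_components G
    have h5 := congrArg (fun t => t.hom.app (op V)) h
    exact ConcreteCategory.congr_hom h5 σ
  exact h1.trans (h2.trans (h3.trans (congrArg (fun t => germ G (fibPull i ζ v) t) h4)))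

set_option backward.isDefEq.respectTransparency.types false in
/-- **Lifting étale neighbourhoods along a closed immersion** (site form). -/
theorem exists_lift [IsClosedImmersion i] (W : Z.Etale) (w : Fib ζ W) :
    ∃ (V : X.Etale) (v' : Fib ζ ((bc i).obj V)) (h : (bc i).obj V ⟶ W),
      (Scheme.pointSmallEtale ζ).fiber.map h v' = w := by
  have : Etale W.hom := W.prop
  obtain ⟨V₀, p, hp, W₁, a, ha, b, hw, sq⟩ := ClosedLift.exists_etale_lift i W.hom w.pt
  let V : X.Etale := Scheme.Etale.mk p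
  let θ : W₁ ≅ pullback p i := sq.isoPullback
  have hθ2 : θ.hom ≫ pullback.snd p i = a ≫ W.hom := sq.isoPullback_hom_snd
  have hθ3 : θ.inv ≫ a ≫ W.hom = pullback.snd p i := by
    rw [← hθ2, Iso.inv_hom_id_assoc]
  let h : (bc i).obj V ⟶ W := MorphismProperty.Over.homMk (A := (bc i).obj V) (B := W)
    (θ.inv ≫ a) (by rw [Category.assoc]; exact hθ3) trivial
  have hrange : Set.range w.left ⊆ Set.range a := by
    rintro _ ⟨t, rfl⟩
    have ht : t = (default : Spec (CommRingCat.of Ω)) :=
      Subsingleton.elim (α := Spec (CommRingCat.of Ω)) _ _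
    rw [ht]; exact hw
  let w₁ := IsOpenImmersion.lift a w.left hrange
  have hw₁ : w₁ ≫ a = w.left := IsOpenImmersion.lift_fac _ _ _
  have hwZ : w.left ≫ W.hom = ζ := Over.w w
  let v' : Fib ζ ((bc i).obj V) := Over.homMk (w₁ ≫ θ.hom) (by
    show (w₁ ≫ θ.hom) ≫ pullback.snd p i = ζ
    exact (Category.assoc _ _ _).trans ((congrArg (fun t => w₁ ≫ t) hθ2).trans
      ((Category.assoc _ _ _).symm.trans ((congrArg (fun t => t ≫ W.hom) hw₁).trans hwZ))))
  refine ⟨V, v', h, ?_⟩
  apply Over.OverMorphism.ext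
  show (w₁ ≫ θ.hom) ≫ θ.inv ≫ a = w.left
  exact (Category.assoc _ _ _).trans ((congrArg (fun t => w₁ ≫ t) (Iso.hom_inv_id_assoc θ a)).trans hw₁)

theorem kappa_surjective [IsClosedImmersion i] (G : Ab Z) :
    Function.Surjective (kappa i ζ G) := by
  intro t
  obtain ⟨W, w, s, rfl⟩ := germ_surjective G t
  obtain ⟨V, v', h, hv⟩ := exists_lift i ζ W w
  refine ⟨germ ((push i).obj G) (fibPush i ζ v') (G.obj.map h.op s), ?_⟩
  have h1 := kappa_germ i ζ G (fibPush i ζ v') (G.obj.map h.op s)
  have h2 : germ G (fibPull i ζ (fibPush i ζ v')) (G.obj.map h.op s) =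
      germ G v' (G.obj.map h.op s) := by
    rw [fibPull_fibPush]
  have h3 := germ_res G h v' s
  have h4 : germ G ((Scheme.pointSmallEtale ζ).fiber.map h v') s = germ G w s := by
    rw [hv]
  exact h1.trans (h2.trans (h3.trans h4))

set_option backward.isDefEq.respectTransparency.types false in
theorem kappa_injective [IsClosedImmersion i] (G : Ab Z) :
    Function.Injective (kappa i ζ G) := by
  rw [injective_iff_map_eq_zero]
  intro t ht
  obtain ⟨V, v, σ, rfl⟩ := germ_surjective ((push i).obj G) t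
  have h0 : germ G (fibPull i ζ v) σ = 0 := (kappa_germ i ζ G v σ).symm.trans ht
  obtain ⟨W, g, w₀, hw₀, hσ⟩ := (germ_eq_zero_iff' G (fibPull i ζ v) σ).1 h0
  have hE : IsOpen (Set.range g.left) := (isOpenMap_left g).isOpen_range
  have hemb : Topology.IsInducing (pullback.fst V.hom i) :=
    (pullback.fst V.hom i).isEmbedding.isInducing
  obtain ⟨V', hV', hpre⟩ := hemb.isOpen_iff.1 hE
  let V'o : V.left.Opens := ⟨V', hV'⟩
  have : Etale V.hom := V.prop
  let V'' : X.Etale := Scheme.Etale.mk (V'o.ι ≫ V.hom)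
  let b : V'' ⟶ V := MorphismProperty.Over.homMk (A := V'') (B := V) V'o.ι rfl trivial
  have hv : v.pt ∈ V' := by
    have h1 : (fibPull i ζ v).pt ∈ pullback.fst V.hom i ⁻¹' V' := by
      rw [hpre]; exact ⟨w₀, hw₀⟩
    have h2 := fibPull_pt i ζ v
    rw [← h2]
    exact h1
  obtain ⟨v'', hv''1, -⟩ := Fib.exists_lift b v ⟨v.pt, hv⟩ rfl
  have hres := germ_res ((push i).obj G) b v'' σ
  suffices h : ((push i).obj G).obj.map b.op σ = 0 by
    have h5 : germ ((push i).obj G) ((Scheme.pointSmallEtale (ζ ≫ i)).fiber.map b v'') σ = 0 :=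
      hres.symm.trans ((congrArg (fun t => germ ((push i).obj G) v'' t) h).trans (map_zero _))
    rw [← hv''1]
    exact h5
  apply eq_zero_of_germs G (V := (bc i).obj V'')
  intro t
  let z : Z := ((bc i).obj V'').hom t
  obtain ⟨x, hx⟩ := Fib.exists_of_point (ξ := Groth.Agent.H4.Stalks.geomPt z) ((bc i).obj V'') t
    (by rw [geomPt_default])
  refine ⟨_, inferInstance, inferInstance, _, x, hx, ?_⟩
  have hres2 := germ_res G ((bc i).map b) x σ
  refine hres2.trans ?_
  rw [germ_eq_zero_iff']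
  have hmem : pullback.fst V.hom i (((bc i).map b).left t) ∈ V' := by
    have hw := (isPullback_bc_map i b).w
    have hw' : pullback.fst V.hom i (((bc i).map b).left t) =
        b.left (pullback.fst V''.hom i t) := congrArg (fun k => k t) hw
    have h3 : V'o.ι (pullback.fst V''.hom i t) ∈ (V'o : Set V.left) := by
      rw [← Scheme.Opens.range_ι]; exact ⟨_, rfl⟩
    exact hw'.symm ▸ h3
  have hmem2 : ((bc i).map b).left t ∈ Set.range g.left :=
    (Set.ext_iff.1 hpre _).1 hmem
  have hpt' : Fib.pt ((Scheme.pointSmallEtale (Groth.Agent.H4.Stalks.geomPt z)).fiber.map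
      ((bc i).map b) x) = ((bc i).map b).left t :=
    (Fib.pt_map ((bc i).map b) x).trans (congrArg (fun k => ((bc i).map b).left k) hx)
  have hpt : Fib.pt ((Scheme.pointSmallEtale (Groth.Agent.H4.Stalks.geomPt z)).fiber.map
      ((bc i).map b) x) ∈ Set.range g.left := hpt'.symm ▸ hmem2
  obtain ⟨w₁, hw₁⟩ := hpt
  exact ⟨W, g, w₁, hw₁, hσ⟩

theorem isIso_kappa [IsClosedImmersion i] (G : Ab Z) : IsIso (kappa i ζ G) :=
  (ConcreteCategory.isIso_iff_bijective _).2 ⟨kappa_injective i ζ G, kappa_surjective i ζ G⟩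

/-- **Stalk of the pushforward along a closed immersion.** -/
noncomputable def stalkPushIso [IsClosedImmersion i] (G : Ab Z) :
    (stalk (ζ ≫ i)).obj ((push i).obj G) ≅ (stalk ζ).obj G :=
  haveI := isIso_kappa i ζ G
  asIso (kappa i ζ G)

theorem isIso_stalk_counit [IsClosedImmersion i] (G : Ab Z) :
    IsIso ((stalk ζ).map ((pullPushAdj i).counit.app G)) := by
  have := isIso_kappa i ζ G
  have h : (stalk ζ).map ((pullPushAdj i).counit.app G) =
      (stalkPullIso i ζ).inv.app ((push i).obj G) ≫ kappa i ζ G := by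
    unfold kappa
    rw [← Category.assoc, ← NatTrans.comp_app, Iso.inv_hom_id, NatTrans.id_app, Category.id_comp]
  rw [h]
  infer_instance

/-- the counit `i⁻¹ i_* G ⟶ G` is an isomorphism for a closed immersion `i`. -/
theorem isIso_counit [IsClosedImmersion i] (G : Ab Z) :
    IsIso ((pullPushAdj i).counit.app G) := by
  rw [(jri Z).isIso_iff]
  rintro ⟨_, ⟨s⟩⟩
  exact isIso_stalk_counit i (Groth.Agent.H4.Stalks.geomPt s) G

end Groth.Agent.H4.ClosedStalk

namespace Groth.Agent.H4.ClosedStalk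

/-- a geometric point landing in a closed subscheme factors through it. -/
theorem exists_lift_geomPoint {Z X : Scheme.{u}} (i : Z ⟶ X) [IsClosedImmersion i]
    {Ω : Type u} [Field Ω] (ξ : Spec (CommRingCat.of Ω) ⟶ X)
    (h : ξ default ∈ Set.range i) : ∃ ζ : Spec (CommRingCat.of Ω) ⟶ Z, ζ ≫ i = ξ := by
  obtain ⟨z, hz⟩ := h
  obtain ⟨p, hp1, hp2⟩ := Scheme.Pullback.exists_preimage_pullback (f := ξ) (g := i) default z hz.symm
  have : Surjective (pullback.fst ξ i) := ⟨fun t => ⟨p, by
    rw [hp1]; exact Subsingleton.elim (α := Spec (CommRingCat.of Ω)) _ _⟩⟩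
  have : IsIso (pullback.fst ξ i) := isIso_of_isClosedImmersion_of_surjective _
  refine ⟨inv (pullback.fst ξ i) ≫ pullback.snd ξ i, ?_⟩
  rw [Category.assoc, ← pullback.condition, IsIso.inv_hom_id_assoc]

variable {Z X : Scheme.{u}} (i : Z ⟶ X) {Ω : Type u} [Field Ω] [IsSepClosed Ω]
  (ζ : Spec (CommRingCat.of Ω) ⟶ Z)

/-- morphisms out of a stalk are determined on germs. -/
theorem stalk_hom_ext {X : Scheme.{u}} {ξ : Spec (CommRingCat.of Ω) ⟶ X} (F : Ab X)
    {A : AddCommGrpCat.{u+1}} (a b : (stalk ξ).obj F ⟶ A)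
    (h : ∀ (V : X.Etale) (v : Fib ξ V) (σ : F.obj.obj (op V)), a (germ F v σ) = b (germ F v σ)) :
    a = b := by
  ext t
  obtain ⟨V, v, σ, rfl⟩ := germ_surjective F t
  exact h V v σ

theorem stalk_unit_comp_kappa (F : Ab X) :
    (stalk (ζ ≫ i)).map ((pullPushAdj i).unit.app F) ≫ kappa i ζ ((pull i).obj F) =
      (stalkPullIso i ζ).hom.app F := by
  apply stalk_hom_ext
  intro V v σ
  have h1 := germ_map ((pullPushAdj i).unit.app F) v σ
  have h2 := kappa_germ i ζ ((pull i).obj F) v (((pullPushAdj i).unit.app F).hom.app (op V) σ)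
  have h3 := stalkPullIso_germ_apply i ζ F v σ
  rw [ConcreteCategory.comp_apply]
  exact (congrArg (fun t => kappa i ζ ((pull i).obj F) t) h1).trans (h2.trans h3.symm)

theorem isIso_stalk_unit [IsClosedImmersion i] (F : Ab X) :
    IsIso ((stalk (ζ ≫ i)).map ((pullPushAdj i).unit.app F)) := by
  have := isIso_kappa i ζ ((pull i).obj F)
  have h : (stalk (ζ ≫ i)).map ((pullPushAdj i).unit.app F) =
      (stalkPullIso i ζ).hom.app F ≫ inv (kappa i ζ ((pull i).obj F)) := by
    rw [← stalk_unit_comp_kappa, Category.assoc, IsIso.hom_inv_id, Category.comp_id]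
  rw [h]
  infer_instance

/-- a morphism of sheaves vanishing on all stalks is zero. -/
theorem hom_eq_zero_of_stalks {X : Scheme.{u}} {F G : Ab X} (a : F ⟶ G)
    (h : ∀ s : X, (stalk (Groth.Agent.H4.Stalks.geomPt s)).map a = 0) : a = 0 := by
  apply Sheaf.hom_ext
  ext V σ
  induction V using Opposite.rec with | _ V => ?_
  show a.hom.app (op V) σ = 0
  apply eq_zero_of_germs G
  intro p
  obtain ⟨x, hx⟩ := Fib.exists_of_point (ξ := Groth.Agent.H4.Stalks.geomPt (V.hom p)) V p
    (by rw [geomPt_default])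
  refine ⟨_, inferInstance, inferInstance, _, x, hx, ?_⟩
  have h1 := germ_map a x σ
  have h2 : (stalk (Groth.Agent.H4.Stalks.geomPt (V.hom p))).map a (germ F x σ) = 0 := by
    have := ConcreteCategory.congr_hom (h (V.hom p)) (germ F x σ)
    exact this
  exact h1.symm.trans h2

end Groth.Agent.H4.ClosedStalk
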