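import Groth.Prelude.Def_EtShriek2
import Mathlib.CategoryTheory.Limits.Final
import Mathlib.Algebra.Category.Grp.AB
import Mathlib.CategoryTheory.Sites.Pullback
import Mathlib.CategoryTheory.Abelian.GrothendieckAxioms.Basic

/-!
# Extension by zero along an étale morphism is exact

The left Kan extension along `(compEtale j).op` is computed by colimits over categories of
costructured arrows which are disjoint unions of categories with a terminal object; such
colimits are coproducts, hence exact in abelian groups.
-/

set_option autoImplicit false
universe u v₁ v₂ v₃ u₁ u₂ u₃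

open CategoryTheory CategoryTheory.Limits AlgebraicGeometry Opposite

namespace Groth.Agent.H4.ExtZero

section Lan

variable {C : Type u₁} [Category.{v₁} C] {D : Type u₂} [Category.{v₂} D]
  (E : Type u₃) [Category.{v₃} E]

set_option backward.defeqAttrib.useBackward true in
set_option backward.isDefEq.respectTransparency false in
/-- The evaluation of `F.lan` at `X` is the colimit over the costructured arrows over `X`
(general universes; same as helper1's `lanEvaluationIsoColimGen`). -/
noncomputable def lanEvaluationIsoColimGen (F : C ⥤ D) (X : D)
    [∀ X : D, HasColimitsOfShape (CostructuredArrow F X) E] :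
    F.lan ⋙ (evaluation D E).obj X ≅
      (Functor.whiskeringLeft _ _ E).obj (CostructuredArrow.proj F X) ⋙ colim :=
  NatIso.ofComponents (fun G =>
    IsColimit.coconePointUniqueUpToIso
    (Functor.isPointwiseLeftKanExtensionLeftKanExtensionUnit F G X)
    (colimit.isColimit _)) (fun {G₁ G₂} φ => by
      apply (Functor.isPointwiseLeftKanExtensionLeftKanExtensionUnit F G₁ X).hom_ext
      intro T
      have h₁ := fun (G : C ⥤ E) => IsColimit.comp_coconePointUniqueUpToIso_hom
        (Functor.isPointwiseLeftKanExtensionLeftKanExtensionUnit F G X) (colimit.isColimit _) T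
      have h₂ := congr_app (F.lanUnit.naturality φ) T.left
      dsimp at h₁ h₂ ⊢
      simp only [Category.assoc] at h₁ ⊢
      simp only [Functor.lan, Functor.lanUnit] at h₂ ⊢
      rw [reassoc_of% h₁, NatTrans.naturality_assoc, ← reassoc_of% h₂, h₁,
        ι_colimMap, Functor.whiskerLeft_app]
      rfl)

/-- If colimits indexed by the categories of costructured arrows of `F` are exact in `E`,
then `F.lan` preserves finite limits. -/
theorem lan_preservesFiniteLimits_of_exact (F : C ⥤ D)
    [HasFiniteLimits E]
    [∀ X : D, HasColimitsOfShape (CostructuredArrow F X) E]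
    [∀ X : D, HasExactColimitsOfShape (CostructuredArrow F X) E] :
    PreservesFiniteLimits (F.lan : (C ⥤ E) ⥤ D ⥤ E) := by
  apply preservesFiniteLimits_of_preservesFiniteLimitsOfSize.{0}
  intro J _ _
  apply preservesLimitsOfShape_of_evaluation (F.lan : (C ⥤ E) ⥤ D ⥤ E) J
  intro K
  exact preservesLimitsOfShape_of_natIso (lanEvaluationIsoColimGen E F K).symm

/-- A category admitting a right adjoint functor from a discrete category has exact colimits
as soon as coproducts indexed by that discrete category are exact. -/
theorem hasExactColimitsOfShape_of_discrete_adjoint {J : Type u₁} [Category.{v₁} J]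
    {T : Type u₂} {L : J ⥤ Discrete T} {R : Discrete T ⥤ J} (adj : L ⊣ R)
    [HasFiniteLimits E] [HasColimitsOfShape J E] [HasColimitsOfShape (Discrete T) E]
    [HasExactColimitsOfShape (Discrete T) E] : HasExactColimitsOfShape J E :=
  haveI : R.Final := Functor.final_of_adjunction adj
  hasExactColimitsOfShape_of_final E R

end Lan

open EtShriek


variable {U X : Scheme.{u}} (j : U ⟶ X) [hj : Etale j]

/-- the object `U → X` of the small étale site of `X`. -/
noncomputable abbrev Xj : X.Etale := Scheme.Etale.mk j

set_option backward.isDefEq.respectTransparency.types false in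
/-- the structure map `(W → U → X) ⟶ (U → X)`. -/
noncomputable def str (W : U.Etale) : (compEtale j).obj W ⟶ Xj j :=
  MorphismProperty.Over.homMk W.hom rfl trivial

set_option backward.isDefEq.respectTransparency.types false in
@[simp] theorem str_left (W : U.Etale) : (str j W).left = W.hom := rfl

set_option backward.isDefEq.respectTransparency.types false in
theorem map_str {W W' : U.Etale} (h : W' ⟶ W) : (compEtale j).map h ≫ str j W = str j W' := by
  apply MorphismProperty.Over.Hom.ext
  change h.left ≫ W.hom = W'.hom
  exact MorphismProperty.Over.w h

set_option backward.isDefEq.respectTransparency.types false in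
/-- `V` viewed as a `U`-scheme via `φ : V ⟶ (U → X)`. -/
noncomputable def Vφ {V : X.Etale} (φ : V ⟶ Xj j) : U.Etale :=
  have e : φ.left ≫ j = V.hom := MorphismProperty.Over.w φ
  MorphismProperty.Over.mk ⊤ φ.left
    (EtCoh.etaleMP.of_postcomp (W' := EtCoh.etaleMP) φ.left j hj (by rw [e]; exact V.prop))

set_option backward.isDefEq.respectTransparency.types false in
/-- `V ⟶ (V → U → X)`, the identity on underlying schemes. -/
noncomputable def toV {V : X.Etale} (φ : V ⟶ Xj j) : V ⟶ (compEtale j).obj (Vφ j φ) :=
  have e : φ.left ≫ j = V.hom := MorphismProperty.Over.w φ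
  MorphismProperty.Over.homMk (𝟙 V.left) ((Category.id_comp _).trans e) trivial

set_option backward.isDefEq.respectTransparency.types false in
@[simp] theorem toV_left {V : X.Etale} (φ : V ⟶ Xj j) : (toV j φ).left = 𝟙 V.left := rfl

variable (V : X.Etale)

/-- The indexing category of the pointwise left Kan extension at `V`. -/
abbrev JV : Type (u + 1) := CostructuredArrow (compEtale j).op (op V)

set_option backward.isDefEq.respectTransparency.types false in
/-- the component of an object of `JV`. -/
noncomputable def comp (c : JV j V) : V ⟶ Xj j := c.hom.unop ≫ str j c.left.unop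

set_option backward.isDefEq.respectTransparency.types false in
theorem comp_eq_of_hom {c c' : JV j V} (g : c ⟶ c') : comp j V c = comp j V c' := by
  have w := CostructuredArrow.w g
  have w' : c'.hom.unop ≫ (compEtale j).map g.left.unop = c.hom.unop := by
    rw [← w]; rfl
  rw [comp, comp, ← w', Category.assoc, map_str]

set_option backward.isDefEq.respectTransparency.types false in
/-- The "component" functor. -/
noncomputable def L : JV j V ⥤ Discrete (V ⟶ Xj j) where
  obj c := ⟨comp j V c⟩
  map g := Discrete.eqToHom (comp_eq_of_hom j V g)

set_option backward.isDefEq.respectTransparency.types false in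
/-- The terminal objects of the components. -/
noncomputable def R : Discrete (V ⟶ Xj j) ⥤ JV j V :=
  Discrete.functor fun φ => CostructuredArrow.mk (Y := op (Vφ j φ)) (toV j φ).op


set_option backward.isDefEq.respectTransparency.types false in
theorem comp_R (φ : V ⟶ Xj j) : comp j V ((R j V).obj ⟨φ⟩) = φ := by
  apply MorphismProperty.Over.Hom.ext
  change 𝟙 _ ≫ φ.left = φ.left
  exact Category.id_comp _

set_option backward.isDefEq.respectTransparency.types false in
instance subsingleton_hom_R (c : JV j V) (d : Discrete (V ⟶ Xj j)) :
    Subsingleton (c ⟶ (R j V).obj d) := by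
  constructor
  intro m m'
  have key : ∀ m : c ⟶ (R j V).obj d, m.left.unop.left = c.hom.unop.left := by
    intro m
    have w := CostructuredArrow.w m
    have w' : toV j d.as ≫ (compEtale j).map m.left.unop = c.hom.unop := by
      rw [← w]; rfl
    have := congrArg (fun k => k.left) w'
    change 𝟙 _ ≫ m.left.unop.left = c.hom.unop.left at this
    rw [← this, Category.id_comp]
  apply CostructuredArrow.hom_ext
  apply Quiver.Hom.unop_inj
  apply MorphismProperty.Over.Hom.ext
  rw [key m, key m']

set_option backward.isDefEq.respectTransparency.types false in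
/-- the unique map from `c` to the terminal object of its component. -/
noncomputable def toR (c : JV j V) (φ : V ⟶ Xj j) (h : comp j V c = φ) : c ⟶ (R j V).obj ⟨φ⟩ :=
  have e : c.hom.unop.left ≫ c.left.unop.hom = φ.left := by
    rw [← h]; rfl
  CostructuredArrow.homMk
    (MorphismProperty.Over.homMk (A := Vφ j φ) (B := c.left.unop) c.hom.unop.left e trivial).op
    (by
      apply Quiver.Hom.unop_inj
      apply MorphismProperty.Over.Hom.ext
      change 𝟙 _ ≫ c.hom.unop.left = c.hom.unop.left
      exact Category.id_comp _)

set_option backward.isDefEq.respectTransparency.types false in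
/-- The adjunction exhibiting `JV` as a disjoint union of categories with terminal objects. -/
noncomputable def adj : L j V ⊣ R j V :=
  Adjunction.mkOfHomEquiv
    { homEquiv := fun c d =>
        { toFun := fun h => toR j V c d.as (Discrete.eq_of_hom h)
          invFun := fun m => Discrete.eqToHom
            ((comp_eq_of_hom j V m).trans (comp_R j V d.as))
          left_inv := fun _ => Subsingleton.elim _ _
          right_inv := fun _ => Subsingleton.elim _ _ }
      homEquiv_naturality_left_symm := fun _ _ => Subsingleton.elim _ _
      homEquiv_naturality_right := fun _ _ => Subsingleton.elim _ _ }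



section Exact

open EtShriek

set_option backward.isDefEq.respectTransparency.types false in
instance hasExactColimitsOfShape_JV (V : (X.Etale)ᵒᵖ) :
    HasExactColimitsOfShape (CostructuredArrow (compEtale j).op V) AddCommGrpCat.{u + 1} := by
  have : AB4OfSize.{u} AddCommGrpCat.{u + 1} := AB4OfSize_shrink.{u, u + 1} _
  exact hasExactColimitsOfShape_of_discrete_adjoint AddCommGrpCat.{u + 1} (adj j V.unop)

instance lan_compEtale_preservesFiniteLimits :
    PreservesFiniteLimits ((compEtale j).op.lan :
      ((U.Etale)ᵒᵖ ⥤ AddCommGrpCat.{u + 1}) ⥤ (X.Etale)ᵒᵖ ⥤ AddCommGrpCat.{u + 1}) :=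
  lan_preservesFiniteLimits_of_exact AddCommGrpCat.{u + 1} (compEtale j).op

/-- Extension by zero along an étale morphism is (left) exact. -/
theorem extZero_preservesFiniteLimits [JCont j] : PreservesFiniteLimits (extZero j) :=
  Functor.sheafPullbackConstruction.preservesFiniteLimits (compEtale j) AddCommGrpCat.{u + 1}
    U.smallEtaleTopology X.smallEtaleTopology

end Exact

end Groth.Agent.H4.ExtZero
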