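import Groth.Agent.H4.Stalks
import Groth.Agent.H4.StalkPull
import Groth.Agent.H4.ExtZero
import Groth.Agent.H4.EtRestr

/-!
# Stalks of extension by zero (helper library, helper4)
-/

set_option autoImplicit false
open CategoryTheory CategoryTheory.Limits AlgebraicGeometry Opposite

namespace Groth.Agent.H4.ExtZeroStalk

universe u

open EtShriek EtCoh Groth.Agent.H4.Stalks

variable {U X : Scheme.{u}} (j : U ⟶ X) [Etale j] [JCont j]
  {Ω : Type u} [Field Ω] [IsSepClosed Ω] (ξ : Spec (CommRingCat.of Ω) ⟶ X)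

/-- The stalk of `j_! F` is the presheaf fiber of the left Kan extension. -/
noncomputable def stalkExtZeroIso (F : Ab U) :
    (stalk ξ).obj ((extZero j).obj F) ≅
      (Scheme.pointSmallEtale ξ).presheafFiber.obj ((compEtale j).op.lan.obj F.obj) :=
  (stalk ξ).mapIso ((Functor.sheafPullbackConstruction.sheafPullbackIso (compEtale j)
    AddCommGrpCat.{u+1} U.smallEtaleTopology X.smallEtaleTopology).app F) ≪≫
  ((Scheme.pointSmallEtale ξ).presheafToSheafCompSheafFiberIso AddCommGrpCat.{u+1}).app _

variable {ξ} in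
lemma isZero_presheafFiber {P : (X.Etale)ᵒᵖ ⥤ AddCommGrpCat.{u+1}}
    (h : ∀ (V : X.Etale) (_ : Fib ξ V), IsZero (P.obj (op V))) :
    IsZero ((Scheme.pointSmallEtale ξ).presheafFiber.obj P) := by
  rw [IsZero.iff_id_eq_zero]
  apply GrothendieckTopology.Point.presheafFiber_hom_ext
  intro V v
  exact (h V v).eq_of_src _ _

lemma isZero_lan_obj (F : Ab U) (V : X.Etale)
    (h : IsEmpty (CostructuredArrow (compEtale j).op (op V))) :
    IsZero (((compEtale j).op.lan.obj F.obj).obj (op V)) := by
  refine IsZero.of_iso ?_ ((Groth.Agent.H4.ExtZero.lanEvaluationIsoColimGen AddCommGrpCat.{u+1}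
    (compEtale j).op (op V)).app F.obj)
  rw [IsZero.iff_id_eq_zero]
  apply colimit.hom_ext
  intro c
  exact (h.false c).elim

/-- If the geometric point `ξ` does not factor through `j`, the stalk of `j_! F` at `ξ` vanishes. -/
theorem isZero_stalk_extZero (F : Ab U) (h : ∀ u : Spec (CommRingCat.of Ω) ⟶ U, u ≫ j ≠ ξ) :
    IsZero ((stalk ξ).obj ((extZero j).obj F)) := by
  refine IsZero.of_iso ?_ (stalkExtZeroIso j ξ F)
  apply isZero_presheafFiber
  intro V v
  apply isZero_lan_obj
  constructor
  intro c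
  apply h (v.left ≫ c.hom.unop.left ≫ c.left.unop.hom)
  have h1 : c.hom.unop.left ≫ c.left.unop.hom ≫ j = V.hom := Over.w c.hom.unop.hom
  have h2 : v.left ≫ V.hom = ξ := Over.w v
  calc (v.left ≫ c.hom.unop.left ≫ c.left.unop.hom) ≫ j
      = v.left ≫ (c.hom.unop.left ≫ c.left.unop.hom ≫ j) := by simp only [Category.assoc]
    _ = v.left ≫ V.hom := congrArg (fun t => v.left ≫ t) h1
    _ = ξ := h2

end Groth.Agent.H4.ExtZeroStalk

namespace Groth.Agent.H4.ExtZeroStalk

universe u

open EtShriek EtCoh Groth.Agent.H4.Stalks Groth.Agent.H4.EtRestr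

section MonoCase

variable {U X : Scheme.{u}} (j : U ⟶ X) [Etale j] [Mono j] [JCont j]
  {Ω : Type u} [Field Ω] [IsSepClosed Ω]

/-- For a monomorphism `j`, the restriction to `U` of the counit `j_! j^{-1} G ⟶ G` is an iso. -/
lemma isIso_restr_counit (G : Ab X) :
    IsIso ((restrAlong j).map ((extZeroAdj j).counit.app G)) := by
  have tri := (extZeroAdj j).right_triangle_components G
  have : IsIso ((extZeroAdj j).unit.app ((restrAlong j).obj G)) := inferInstance
  exact IsIso.of_isIso_fac_left tri

/-- At geometric points factoring through `U`, the counit `j_! j^{-1} G ⟶ G` is an iso on stalks. -/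
lemma isIso_stalk_counit (G : Ab X) (u : Spec (CommRingCat.of Ω) ⟶ U)
    (ξ : Spec (CommRingCat.of Ω) ⟶ X) (hu : u ≫ j = ξ) :
    IsIso ((stalk ξ).map ((extZeroAdj j).counit.app G)) := by
  subst hu
  have hA := isIso_restr_counit j G
  have hB : IsIso ((pull j).map ((extZeroAdj j).counit.app G)) :=
    (NatIso.isIso_map_iff (pullRestrIso j) _).2 hA
  have hC : IsIso ((pull j ⋙ stalk u).map ((extZeroAdj j).counit.app G)) := by
    rw [Functor.comp_map]
    infer_instance
  exact (NatIso.isIso_map_iff (Groth.Agent.H4.StalkPull.stalkPullIso j u) _).2 hC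

end MonoCase

section Coprod

variable {U X : Scheme.{u}} (j : U ⟶ X) [Etale j]
  {Ω : Type u} [Field Ω] [IsSepClosed Ω] (ξ : Spec (CommRingCat.of Ω) ⟶ X)

/-- lifts of the geometric point `ξ` to `U`. -/
abbrev Lifts : Type u := {u : Spec (CommRingCat.of Ω) ⟶ U // u ≫ j = ξ}

variable {j ξ}

/-- an element of the fiber at a lift gives an element of the fiber of `ξ` at `jW`. -/
noncomputable def toX (d : Lifts j ξ) {W : U.Etale} (w : Fib d.1 W) :
    Fib ξ ((compEtale j).obj W) :=
  Over.homMk w.left (by
    have h : w.left ≫ W.hom = d.1 := Over.w w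
    exact (Category.assoc _ _ _).symm.trans ((congrArg (fun t => t ≫ j) h).trans d.2))

/-- the lift determined by an element of the fiber of `ξ` at `jW`. -/
noncomputable def dOf {W : U.Etale} (w : Fib ξ ((compEtale j).obj W)) : Lifts j ξ :=
  ⟨w.left ≫ W.hom, by
    have h : w.left ≫ (W.hom ≫ j) = ξ := Over.w w
    exact (Category.assoc _ _ _).trans h⟩

noncomputable def toU {W : U.Etale} (w : Fib ξ ((compEtale j).obj W)) : Fib (dOf w).1 W :=
  Over.homMk w.left rfl

lemma toX_toU {W : U.Etale} (w : Fib ξ ((compEtale j).obj W)) : toX (dOf w) (toU w) = w := by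
  apply Over.OverMorphism.ext
  rfl

lemma dOf_toX (d : Lifts j ξ) {W : U.Etale} (w : Fib d.1 W) : dOf (toX d w) = d := by
  apply Subtype.ext
  exact Over.w w

lemma dOf_map {W W' : U.Etale} (g : W' ⟶ W) (w' : Fib ξ ((compEtale j).obj W')) :
    dOf ((Scheme.pointSmallEtale ξ).fiber.map ((compEtale j).map g) w') = dOf w' := by
  apply Subtype.ext
  change (w'.left ≫ g.left) ≫ W.hom = w'.left ≫ W'.hom
  have h : g.left ≫ W.hom = W'.hom := Over.w g.hom
  exact (Category.assoc _ _ _).trans (congrArg (fun t => w'.left ≫ t) h)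

variable (P : (U.Etale)ᵒᵖ ⥤ AddCommGrpCat.{u+1})

omit [Etale j] in
lemma germ_congr {T : AddCommGrpCat.{u+1}}
    (c : ∀ d : Lifts j ξ, (Scheme.pointSmallEtale d.1).presheafFiber.obj P ⟶ T)
    {d d' : Lifts j ξ} (h : d = d') {W : U.Etale} (w : Fib d.1 W) (w' : Fib d'.1 W)
    (hw : w.left = w'.left) :
    (Scheme.pointSmallEtale d.1).toPresheafFiber W w P ≫ c d =
      (Scheme.pointSmallEtale d'.1).toPresheafFiber W w' P ≫ c d' := by
  subst h
  obtain rfl : w = w' := Over.OverMorphism.ext hw
  rfl

omit [Etale j] in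
lemma sky_map_π {T : AddCommGrpCat.{u+1}} {V V' : X.Etale} (f : V' ⟶ V) (x' : Fib ξ V') :
    ((Scheme.pointSmallEtale ξ).skyscraperPresheaf T).map f.op ≫ Pi.π (fun _ : Fib ξ V' => T) x' =
      Pi.π (fun _ : Fib ξ V => T) ((Scheme.pointSmallEtale ξ).fiber.map f x') := by
  simp only [GrothendieckTopology.Point.skyscraperPresheafFunctor_obj_map]
  exact (Pi.map'_comp_π _ _ _).trans (Category.comp_id _)

variable {T : AddCommGrpCat.{u+1}}
  (c : ∀ d : Lifts j ξ, (Scheme.pointSmallEtale d.1).presheafFiber.obj P ⟶ T)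

/-- the natural transformation `P ⟶ (compEtale j).op ⋙ sky_ξ T` attached to a family `c`. -/
noncomputable def tau :
    P ⟶ (compEtale j).op ⋙ (Scheme.pointSmallEtale ξ).skyscraperPresheaf T where
  app W := Pi.lift (fun w : Fib ξ ((compEtale j).obj W.unop) =>
    (Scheme.pointSmallEtale (dOf w).1).toPresheafFiber W.unop (toU w) P ≫ c (dOf w))
  naturality W W' g := by
    dsimp
    apply Pi.hom_ext
    intro w'
    refine (Category.assoc _ _ _).trans ((congrArg (fun t => P.map g ≫ t) (Pi.lift_π _ _)).trans ?_)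
    refine Eq.trans ?_ ((Category.assoc _ _ _).trans
      ((congrArg (fun t => Pi.lift _ ≫ t) (sky_map_π ((compEtale j).map g.unop) w')).trans
        (Pi.lift_π _ _))).symm
    have h1 := (Scheme.pointSmallEtale (dOf w').1).toPresheafFiber_w g.unop (toU w') P
    refine (Category.assoc _ _ _).symm.trans ((congrArg (fun t => t ≫ c (dOf w')) h1).trans ?_)
    exact germ_congr P c (dOf_map g.unop w').symm _ _ rfl

variable (j) in
/-- the left Kan extension presheaf. -/
noncomputable abbrev LanP : (X.Etale)ᵒᵖ ⥤ AddCommGrpCat.{u+1} := (compEtale j).op.lan.obj P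

variable (j) in
/-- its unit. -/
noncomputable abbrev lanα : P ⟶ (compEtale j).op ⋙ LanP j P := (compEtale j).op.lanUnit.app P

/-- the forward map attached to a family `c`. -/
noncomputable def fwd : (Scheme.pointSmallEtale ξ).presheafFiber.obj (LanP j P) ⟶ T :=
  (Scheme.pointSmallEtale ξ).skyscraperPresheafHomEquiv.symm
    ((LanP j P).descOfIsLeftKanExtension (lanα j P) _ (tau P c))

lemma fwd_spec {W : U.Etale} (w : Fib ξ ((compEtale j).obj W)) :
    (lanα j P).app (op W) ≫ (Scheme.pointSmallEtale ξ).toPresheafFiber _ w (LanP j P) ≫ fwd P c =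
      (Scheme.pointSmallEtale (dOf w).1).toPresheafFiber W (toU w) P ≫ c (dOf w) := by
  unfold fwd
  rw [GrothendieckTopology.Point.toPresheafFiber_skyscraperPresheafHomEquiv_symm]
  have := (LanP j P).descOfIsLeftKanExtension_fac_app (lanα j P) _ (tau P c) (op W)
  refine (Category.assoc _ _ _).symm.trans
    ((congrArg (fun t => t ≫ Pi.π (fun _ : Fib ξ ((compEtale j).obj W) => T) w) this).trans ?_)
  exact Pi.lift_π _ _

lemma hom_ext_lan {h h' : (Scheme.pointSmallEtale ξ).presheafFiber.obj (LanP j P) ⟶ T}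
    (H : ∀ (W : U.Etale) (w : Fib ξ ((compEtale j).obj W)),
      (lanα j P).app (op W) ≫ (Scheme.pointSmallEtale ξ).toPresheafFiber _ w (LanP j P) ≫ h =
      (lanα j P).app (op W) ≫ (Scheme.pointSmallEtale ξ).toPresheafFiber _ w (LanP j P) ≫ h') :
    h = h' := by
  apply (Scheme.pointSmallEtale ξ).skyscraperPresheafHomEquiv.injective
  apply Functor.hom_ext_of_isLeftKanExtension _ (lanα j P)
  ext W : 2
  dsimp
  apply Pi.hom_ext
  intro w
  have e1 := (Scheme.pointSmallEtale ξ).skyscraperPresheafHomEquiv_app_π h _ w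
  have e2 := (Scheme.pointSmallEtale ξ).skyscraperPresheafHomEquiv_app_π h' _ w
  refine (Category.assoc _ _ _).trans ((congrArg (fun t => (lanα j P).app W ≫ t) e1).trans ?_)
  refine Eq.trans ?_ ((congrArg (fun t => (lanα j P).app W ≫ t) e2).symm.trans
    (Category.assoc _ _ _).symm)
  exact H W.unop w

lemma toX_map (d : Lifts j ξ) {W W' : U.Etale} (g : W ⟶ W') (w : Fib d.1 W) :
    (Scheme.pointSmallEtale ξ).fiber.map ((compEtale j).map g) (toX d w) =
      toX d ((Scheme.pointSmallEtale d.1).fiber.map g w) := by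
  apply Over.OverMorphism.ext
  rfl

/-- the backward component at a lift `d`. -/
noncomputable def bwd (d : Lifts j ξ) :
    (Scheme.pointSmallEtale d.1).presheafFiber.obj P ⟶
      (Scheme.pointSmallEtale ξ).presheafFiber.obj (LanP j P) :=
  (Scheme.pointSmallEtale d.1).presheafFiberDesc
    (fun W w => (lanα j P).app (op W) ≫
      (Scheme.pointSmallEtale ξ).toPresheafFiber _ (toX d w) (LanP j P))
    (by
      intro W W' g w
      have h1 := (lanα j P).naturality g.op
      have h2 := (Scheme.pointSmallEtale ξ).toPresheafFiber_w ((compEtale j).map g) (toX d w)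
        (LanP j P)
      rw [toX_map] at h2
      refine (Category.assoc _ _ _).symm.trans ((congrArg (fun t => t ≫ _) h1).trans ?_)
      refine (Category.assoc _ _ _).trans ?_
      exact congrArg (fun t => (lanα j P).app (op W') ≫ t) h2)

lemma toPresheafFiber_bwd (d : Lifts j ξ) {W : U.Etale} (w : Fib d.1 W) :
    (Scheme.pointSmallEtale d.1).toPresheafFiber W w P ≫ bwd P d =
      (lanα j P).app (op W) ≫
        (Scheme.pointSmallEtale ξ).toPresheafFiber _ (toX d w) (LanP j P) :=
  (Scheme.pointSmallEtale d.1).toPresheafFiber_presheafFiberDesc _ _ W w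

/-- **Stalk of the left Kan extension**: the presheaf fiber at `ξ` of the left Kan extension of
`P` along `compEtale j` is the coproduct of the presheaf fibers of `P` at the lifts of `ξ`. -/
noncomputable def presheafFiberLanIso :
    (Scheme.pointSmallEtale ξ).presheafFiber.obj (LanP j P) ≅
      ∐ fun d : Lifts j ξ => (Scheme.pointSmallEtale d.1).presheafFiber.obj P where
  hom := fwd P (fun d => Sigma.ι (fun d : Lifts j ξ =>
    (Scheme.pointSmallEtale d.1).presheafFiber.obj P) d)
  inv := Sigma.desc (bwd P)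
  hom_inv_id := by
    apply hom_ext_lan
    intro W w
    have h1 := fwd_spec P (fun d => Sigma.ι (fun d : Lifts j ξ =>
      (Scheme.pointSmallEtale d.1).presheafFiber.obj P) d) w
    have h2 := toPresheafFiber_bwd P (dOf w) (toU w)
    rw [toX_toU] at h2
    calc (lanα j P).app (op W) ≫ (Scheme.pointSmallEtale ξ).toPresheafFiber _ w (LanP j P) ≫
          (fwd P (fun d => Sigma.ι (fun d : Lifts j ξ =>
            (Scheme.pointSmallEtale d.1).presheafFiber.obj P) d) ≫ Sigma.desc (bwd P))
        = ((lanα j P).app (op W) ≫ (Scheme.pointSmallEtale ξ).toPresheafFiber _ w (LanP j P) ≫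
          fwd P (fun d => Sigma.ι (fun d : Lifts j ξ =>
            (Scheme.pointSmallEtale d.1).presheafFiber.obj P) d)) ≫ Sigma.desc (bwd P) := by
          simp only [Category.assoc]
      _ = ((Scheme.pointSmallEtale (dOf w).1).toPresheafFiber W (toU w) P ≫
            Sigma.ι (fun d : Lifts j ξ =>
              (Scheme.pointSmallEtale d.1).presheafFiber.obj P) (dOf w)) ≫
              Sigma.desc (bwd P) := by rw [h1]
      _ = (Scheme.pointSmallEtale (dOf w).1).toPresheafFiber W (toU w) P ≫ bwd P (dOf w) := by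
          rw [Category.assoc, Sigma.ι_desc]
      _ = (lanα j P).app (op W) ≫
            (Scheme.pointSmallEtale ξ).toPresheafFiber _ w (LanP j P) := h2
      _ = _ := by rw [Category.comp_id]
  inv_hom_id := by
    apply Sigma.hom_ext
    intro d
    rw [Sigma.ι_desc_assoc, Category.comp_id]
    apply GrothendieckTopology.Point.presheafFiber_hom_ext
    intro W w
    have h1 := fwd_spec P (fun d => Sigma.ι (fun d : Lifts j ξ =>
      (Scheme.pointSmallEtale d.1).presheafFiber.obj P) d) (toX d w)
    have h2 := toPresheafFiber_bwd P d w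
    calc (Scheme.pointSmallEtale d.1).toPresheafFiber W w P ≫ bwd P d ≫
          fwd P (fun d => Sigma.ι (fun d : Lifts j ξ =>
            (Scheme.pointSmallEtale d.1).presheafFiber.obj P) d)
        = ((Scheme.pointSmallEtale d.1).toPresheafFiber W w P ≫ bwd P d) ≫
          fwd P (fun d => Sigma.ι (fun d : Lifts j ξ =>
            (Scheme.pointSmallEtale d.1).presheafFiber.obj P) d) := by
          simp only [Category.assoc]
      _ = ((lanα j P).app (op W) ≫
            (Scheme.pointSmallEtale ξ).toPresheafFiber _ (toX d w) (LanP j P)) ≫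
          fwd P (fun d => Sigma.ι (fun d : Lifts j ξ =>
            (Scheme.pointSmallEtale d.1).presheafFiber.obj P) d) := by rw [h2]
      _ = _ := by rw [Category.assoc, h1]
      _ = _ := germ_congr P _ (dOf_toX d w) _ _ rfl

end Coprod

end Groth.Agent.H4.ExtZeroStalk
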