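import Groth.Agent.H4.ShriekStar
import Groth.Agent.H4.ExtZeroStalk
import Groth.Agent.H4.ClosedStalk
import Groth.Agent.S0622

/-!
# Stalks of `j_! ⟶ j_*`: injectivity (separated étale `j`)

* `constructed_unit_hom`, `abstract_unit_hom_app`: the unit of `sheafPullback ⊣ pushforward` in terms
  of `lanUnit`, `toSheafify` and `sheafPullbackIso`.
* `germ_stalkExtZeroIso_inv`: compatibility of `stalkExtZeroIso` with the unit of `extZeroAdj`.
* `inD`: `F_d ⟶ (j_! F)_ξ` for a lift `d` of `ξ`, `germ_inD`, `isIso_desc_inD`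
  (`(j_! F)_ξ = ∐_d F_d`).
* `mono_of_delta`: a map `∐ A ⟶ ∏ A` of abelian groups with identity matrix is mono.
* `prU`, `fibU`: the projections `(j_* F)_ξ ⟶ F_u`.
* `mono_stalk_τ`, `mono_τ`: `j_! F ⟶ j_* F` is a monomorphism for separated étale `j`.
-/

set_option autoImplicit false
open CategoryTheory CategoryTheory.Limits Opposite

namespace Groth.Agent.H4.ShriekStarStalk

section Site

universe v₁ v₂ v₃ u₁ u₂ u₃

variable {C : Type u₂} [Category.{v₂} C] {D : Type u₃} [Category.{v₃} D] (G : C ⥤ D)
  (A : Type u₁) [Category.{v₁} A]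
  (J : GrothendieckTopology C) (K : GrothendieckTopology D)
  [Functor.IsContinuous G J K] [∀ (F : Cᵒᵖ ⥤ A), G.op.HasLeftKanExtension F] [HasWeakSheafify K A]

/-- the unit of the constructed adjunction `(sheafify ∘ Lan) ⊣ pushforward`. -/
lemma constructed_unit_hom (F : Sheaf J A) :
    ((Functor.sheafPullbackConstruction.sheafAdjunctionContinuous G A J K).unit.app F).hom =
      G.op.lanUnit.app F.obj ≫ Functor.whiskerLeft G.op (toSheafify K (G.op.lan.obj F.obj)) := by
  have h : (sheafToPresheaf J A).map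
      ((Functor.sheafPullbackConstruction.sheafAdjunctionContinuous G A J K).unit.app F) = _ :=
    Adjunction.map_restrictFullyFaithful_unit_app _ _ _ _ _ F
  refine h.trans ?_
  rw [Adjunction.comp_unit_app]
  have e : (sheafToPresheaf K A ⋙ (Functor.whiskeringLeft Cᵒᵖ Dᵒᵖ A).obj G.op).map
      ((Iso.refl (sheafToPresheaf J A ⋙ G.op.lan ⋙ presheafToSheaf K A)).hom.app F) = 𝟙 _ := by
    rw [Iso.refl_hom, NatTrans.id_app, CategoryTheory.Functor.map_id]
  have e' : (Iso.refl (𝟭 (Sheaf K A) ⋙ sheafToPresheaf K A ⋙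
      (Functor.whiskeringLeft Cᵒᵖ Dᵒᵖ A).obj G.op)).hom.app
        ((Functor.sheafPullbackConstruction.sheafPullback G A J K).obj F) = 𝟙 _ := by
    rw [Iso.refl_hom, NatTrans.id_app]
  erw [e, e', Category.comp_id, Category.comp_id]
  rw [Functor.lanAdjunction_unit, sheafificationAdjunction_unit_app]
  rfl

/-- the unit of the abstract adjunction `sheafPullback ⊣ pushforward`, in terms of the left Kan
extension, sheafification and the comparison isomorphism. -/
lemma abstract_unit_hom_app (F : Sheaf J A) (X : Cᵒᵖ) :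
    ((G.sheafAdjunctionContinuous A J K).unit.app F).hom.app X =
      (G.op.lanUnit.app F.obj).app X ≫ (toSheafify K (G.op.lan.obj F.obj)).app (G.op.obj X) ≫
        ((Functor.sheafPullbackConstruction.sheafPullbackIso G A J K).inv.app F).hom.app
          (G.op.obj X) := by
  have h1 := Adjunction.unit_leftAdjointUniq_hom_app (G.sheafAdjunctionContinuous A J K)
    (Functor.sheafPullbackConstruction.sheafAdjunctionContinuous G A J K) F
  have h2 : (G.sheafAdjunctionContinuous A J K).unit.app F =
      (Functor.sheafPullbackConstruction.sheafAdjunctionContinuous G A J K).unit.app F ≫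
        (G.sheafPushforwardContinuous A J K).map
          ((Functor.sheafPullbackConstruction.sheafPullbackIso G A J K).inv.app F) := by
    rw [← h1, Category.assoc, ← Functor.map_comp]
    erw [Iso.hom_inv_id_app]
    rw [CategoryTheory.Functor.map_id]
    exact (Category.comp_id _).symm
  rw [h2]
  have h3 := congrArg (fun t => t.app X) (constructed_unit_hom G A J K F)
  simp only [NatTrans.comp_app, Functor.whiskerLeft_app] at h3
  refine Eq.trans ?_ (Category.assoc _ _ _)
  rw [← h3]
  rfl

end Site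

universe u

open AlgebraicGeometry EtShriek EtCoh Groth.Agent.H4.Stalks Groth.Agent.H4.ExtZeroStalk Groth.Agent.H4.EtRestr

section Compat

variable {U X : Scheme.{u}} (j : U ⟶ X) [Etale j] [JCont j]
  {Ω : Type u} [Field Ω] [IsSepClosed Ω] (ξ : Spec (CommRingCat.of Ω) ⟶ X)

lemma stalkExtZeroIso_inv (F : Ab U) :
    (stalkExtZeroIso j ξ F).inv =
      (Scheme.pointSmallEtale ξ).presheafFiber.map
        (toSheafify X.smallEtaleTopology ((compEtale j).op.lan.obj F.obj)) ≫
      (stalk ξ).map ((Functor.sheafPullbackConstruction.sheafPullbackIso (compEtale j)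
        AddCommGrpCat.{u+1} U.smallEtaleTopology X.smallEtaleTopology).inv.app F) := by
  rfl

lemma germ_stalkExtZeroIso_inv (F : Ab U) (W : U.Etale) (x : Fib ξ ((compEtale j).obj W)) :
    (lanα j F.obj).app (op W) ≫
      (Scheme.pointSmallEtale ξ).toPresheafFiber _ x (LanP j F.obj) ≫
        (stalkExtZeroIso j ξ F).inv =
      ((extZeroAdj j).unit.app F).hom.app (op W) ≫ germ ((extZero j).obj F) x := by
  rw [stalkExtZeroIso_inv]
  have h1 := (Scheme.pointSmallEtale ξ).toPresheafFiber_naturality
    (toSheafify X.smallEtaleTopology ((compEtale j).op.lan.obj F.obj)) ((compEtale j).obj W) x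
  have h2 := (Scheme.pointSmallEtale ξ).toPresheafFiber_naturality
    ((Functor.sheafPullbackConstruction.sheafPullbackIso (compEtale j)
        AddCommGrpCat.{u+1} U.smallEtaleTopology X.smallEtaleTopology).inv.app F).hom
    ((compEtale j).obj W) x
  have h3 := abstract_unit_hom_app (compEtale j) AddCommGrpCat.{u+1} U.smallEtaleTopology
    X.smallEtaleTopology F (op W)
  have h3' : ((extZeroAdj j).unit.app F).hom.app (op W) = _ := h3
  rw [h3']
  have h2' : (Scheme.pointSmallEtale ξ).toPresheafFiber ((compEtale j).obj W) x _ ≫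
      (stalk ξ).map ((Functor.sheafPullbackConstruction.sheafPullbackIso (compEtale j)
        AddCommGrpCat.{u+1} U.smallEtaleTopology X.smallEtaleTopology).inv.app F) = _ := h2
  refine (congrArg (fun t => (lanα j F.obj).app (op W) ≫ t) ?_).trans
    ((Category.assoc _ _ _).symm.trans ((Category.assoc _ _ _).symm.trans
      (congrArg (fun t => t ≫ germ ((extZero j).obj F) x) (Category.assoc _ _ _))))
  refine (Category.assoc _ _ _).symm.trans ?_
  refine (congrArg (fun t => t ≫ (stalk ξ).map
    ((Functor.sheafPullbackConstruction.sheafPullbackIso (compEtale j)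
      AddCommGrpCat.{u+1} U.smallEtaleTopology X.smallEtaleTopology).inv.app F)) h1).trans ?_
  refine (Category.assoc _ _ _).trans ?_
  exact congrArg (fun t => (toSheafify X.smallEtaleTopology
    ((compEtale j).op.lan.obj F.obj)).app (op ((compEtale j).obj W)) ≫ t) h2'

/-- the inclusion of the stalk at a lift into the stalk of `j_! F`. -/
noncomputable def inD (F : Ab U) (d : Lifts j ξ) :
    (stalk d.1).obj F ⟶ (stalk ξ).obj ((extZero j).obj F) :=
  bwd F.obj d ≫ (stalkExtZeroIso j ξ F).inv

lemma germ_inD (F : Ab U) (d : Lifts j ξ) {W : U.Etale} (w : Fib d.1 W) :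
    germ F w ≫ inD j ξ F d =
      ((extZeroAdj j).unit.app F).hom.app (op W) ≫ germ ((extZero j).obj F) (toX d w) := by
  have h1 := toPresheafFiber_bwd F.obj d w
  have h2 := germ_stalkExtZeroIso_inv j ξ F W (toX d w)
  refine (Category.assoc _ _ _).symm.trans ?_
  refine (congrArg (fun t => t ≫ (stalkExtZeroIso j ξ F).inv) h1).trans ?_
  exact (Category.assoc _ _ _).trans h2

lemma isIso_desc_inD (F : Ab U) : IsIso (Sigma.desc (inD j ξ F)) := by
  have : Sigma.desc (inD j ξ F) =
      (presheafFiberLanIso F.obj).inv ≫ (stalkExtZeroIso j ξ F).inv := by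
    apply Sigma.hom_ext
    intro d
    rw [Sigma.ι_desc]
    refine Eq.trans ?_ (Category.assoc _ _ _)
    show inD j ξ F d = (Sigma.ι _ d ≫ Sigma.desc (bwd F.obj)) ≫ (stalkExtZeroIso j ξ F).inv
    rw [Sigma.ι_desc]
    rfl
  rw [this]
  exact ((presheafFiberLanIso F.obj).symm ≪≫ (stalkExtZeroIso j ξ F).symm).isIso_hom

end Compat

section SigmaPi

open Classical

variable {I : Type u} (A : I → AddCommGrpCat.{u+1})

/-- the direct sum cofan. -/
noncomputable def dsCofan : Cofan A :=
  Cofan.mk (AddCommGrpCat.of (DirectSum I (fun d => A d)))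
    (fun d => AddCommGrpCat.ofHom (DirectSum.of (fun d => A d) d))

/-- the direct sum is a coproduct in `AddCommGrpCat`. -/
noncomputable def dsCofanIsColimit : IsColimit (dsCofan A) :=
  Cofan.IsColimit.mk _
    (fun s => AddCommGrpCat.ofHom (DirectSum.toAddMonoid (fun d => (s.inj d).hom)))
    (fun s d => by
      ext x
      exact DirectSum.toAddMonoid_of (fun d => (s.inj d).hom) d x)
    (fun s m hm => by
      ext : 1
      apply DirectSum.addHom_ext
      intro d x
      have h1 := ConcreteCategory.congr_hom (hm d) x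
      have h2 := DirectSum.toAddMonoid_of (fun d => (s.inj d).hom) d x
      exact h1.trans h2.symm)

/-- a map `∐ A ⟶ ∏ A` with "identity matrix" is a monomorphism. -/
theorem mono_of_delta (m : ∐ A ⟶ ∏ᶜ A)
    (h1 : ∀ d, Sigma.ι A d ≫ m ≫ Pi.π A d = 𝟙 _)
    (h0 : ∀ d d', d ≠ d' → Sigma.ι A d ≫ m ≫ Pi.π A d' = 0) :
    Mono m := by
  let e : ∐ A ≅ AddCommGrpCat.of (DirectSum I (fun d => A d)) :=
    (coproductIsCoproduct A).coconePointUniqueUpToIso (dsCofanIsColimit A)
  have he : ∀ d, Sigma.ι A d ≫ e.hom = (dsCofan A).inj d := fun d =>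
    (coproductIsCoproduct A).comp_coconePointUniqueUpToIso_hom (dsCofanIsColimit A) ⟨d⟩
  suffices h : Mono (e.inv ≫ m) by
    have : m = e.hom ≫ (e.inv ≫ m) := by rw [Iso.hom_inv_id_assoc]
    rw [this]
    infer_instance
  rw [AddCommGrpCat.mono_iff_injective]
  -- the composite with the projections is evaluation of the finitely supported function
  have key : ∀ (x : DirectSum I (fun d => A d)) (d' : I),
      (Pi.π A d') ((e.inv ≫ m) x) = x d' := by
    intro x d'
    induction x using DirectSum.induction_on with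
    | zero => simp
    | of d a =>
      have h3 : (dsCofan A).inj d ≫ e.inv = Sigma.ι A d :=
        (coproductIsCoproduct A).comp_coconePointUniqueUpToIso_inv (dsCofanIsColimit A) ⟨d⟩
      have h4 : (e.inv ≫ m) (DirectSum.of (fun d => A d) d a) = m (Sigma.ι A d a) := by
        have := ConcreteCategory.congr_hom h3 a
        show m (e.inv ((dsCofan A).inj d a)) = _
        exact congrArg m this
      rw [h4]
      by_cases hd : d = d'
      · subst hd
        have := ConcreteCategory.congr_hom (h1 d) a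
        rw [DirectSum.of_eq_same]
        exact this
      · have := ConcreteCategory.congr_hom (h0 d d' hd) a
        rw [DirectSum.of_eq_of_ne _ _ _ (Ne.symm hd)]
        exact this
    | add x y hx hy =>
      rw [map_add, map_add, hx, hy]
      rfl
  intro x y hxy
  apply DFinsupp.ext
  intro d'
  have := congrArg (Pi.π A d') hxy
  rw [key, key] at this
  exact this

end SigmaPi

section Proj

open Groth.Agent.H4.StalkPull Groth.Agent.H4.ClosedStalk

variable {U X : Scheme.{u}} (j : U ⟶ X)
  {Ω : Type u} [Field Ω] [IsSepClosed Ω]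

/-- the projection from the stalk of `j_* F` at `ξ` to the stalk of `F` at a lift `u` of `ξ`. -/
noncomputable def prU (u : Spec (CommRingCat.of Ω) ⟶ U) (ξ : Spec (CommRingCat.of Ω) ⟶ X)
    (h : u ≫ j = ξ) (F : Ab U) : (stalk ξ).obj ((push j).obj F) ⟶ (stalk u).obj F := by
  subst h
  exact kappa j u F

/-- transport of fibre elements. -/
noncomputable def fibU (u : Spec (CommRingCat.of Ω) ⟶ U) (ξ : Spec (CommRingCat.of Ω) ⟶ X)
    (h : u ≫ j = ξ) {V : X.Etale} (v : Fib ξ V) : Fib u ((bc j).obj V) := by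
  subst h
  exact fibPull j u v

lemma prU_germ (u : Spec (CommRingCat.of Ω) ⟶ U) (ξ : Spec (CommRingCat.of Ω) ⟶ X)
    (h : u ≫ j = ξ) (F : Ab U) {V : X.Etale} (v : Fib ξ V)
    (σ : ((push j).obj F).obj.obj (op V)) :
    prU j u ξ h F (germ ((push j).obj F) v σ) = germ F (fibU j u ξ h v) σ := by
  subst h
  exact kappa_germ j u F v σ

lemma fibU_left_fst (u : Spec (CommRingCat.of Ω) ⟶ U) (ξ : Spec (CommRingCat.of Ω) ⟶ X)
    (h : u ≫ j = ξ) {V : X.Etale} (v : Fib ξ V) :
    (fibU j u ξ h v).left ≫ pullback.fst V.hom j = v.left := by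
  subst h
  exact fibPull_left_fst j u v

lemma fibU_left_snd (u : Spec (CommRingCat.of Ω) ⟶ U) (ξ : Spec (CommRingCat.of Ω) ⟶ X)
    (h : u ≫ j = ξ) {V : X.Etale} (v : Fib ξ V) :
    (fibU j u ξ h v).left ≫ pullback.snd V.hom j = u :=
  Over.w (fibU j u ξ h v)

end Proj

section Main

open Groth.Agent.H4.ShriekStar Groth.Agent.H4.GlueSec

variable {U X : Scheme.{u}} (j : U ⟶ X) [Etale j] [IsSeparated j]
  {Ω : Type u} [Field Ω] [IsSepClosed Ω] (ξ : Spec (CommRingCat.of Ω) ⟶ X)

/-- the value of the composite `F_d ⟶ (j_! F)_ξ ⟶ (j_* F)_ξ ⟶ F_{d'}` on germs. -/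
lemma comp_germ (F : Ab U) (d d' : Lifts j ξ) {W : U.Etale} (w : Fib d.1 W)
    (s : F.obj.obj (op W)) :
    prU j d'.1 ξ d'.2 F ((stalk ξ).map ((τ j).app F) (inD j ξ F d (germ F w s))) =
      germ F (fibU j d'.1 ξ d'.2 (toX d w)) (extFun F (gr j W) (isClosed_range_gr j W) s) := by
  have h1 : inD j ξ F d (germ F w s) =
      germ ((extZero j).obj F) (toX d w) (((extZeroAdj j).unit.app F).hom.app (op W) s) :=
    ConcreteCategory.congr_hom (germ_inD j ξ F d w) s
  have h2 := germ_map ((τ j).app F) (toX d w) (((extZeroAdj j).unit.app F).hom.app (op W) s)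
  have h3 : ((τ j).app F).hom.app (op ((compEtale j).obj W))
      (((extZeroAdj j).unit.app F).hom.app (op W) s) =
      extFun F (gr j W) (isClosed_range_gr j W) s := by
    have := congrArg (fun t => t.hom.app (op W)) (unit_τ j F)
    exact ConcreteCategory.congr_hom this s
  rw [h1, h2, h3]
  exact prU_germ j d'.1 ξ d'.2 F (toX d w) _

omit [IsSeparated j] in
lemma gr_left_fst (W : U.Etale) :
    (gr j W).left ≫ pullback.fst (W.hom ≫ j) j = 𝟙 W.left := pullback.lift_fst _ _ _

omit [IsSeparated j] in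
lemma gr_left_snd (W : U.Etale) :
    (gr j W).left ≫ pullback.snd (W.hom ≫ j) j = W.hom := pullback.lift_snd _ _ _

omit [IsSeparated j] in
lemma comp_gr_left_fst (W : U.Etale) {T : Scheme.{u}} (a : T ⟶ W.left) :
    (a ≫ (gr j W).left) ≫ pullback.fst (W.hom ≫ j) j = a :=
  (Category.assoc _ _ _).trans ((congrArg (fun t => a ≫ t) (gr_left_fst j W)).trans
    (Category.comp_id _))

omit [IsSeparated j] in
lemma comp_gr_left_snd (W : U.Etale) {T : Scheme.{u}} (a : T ⟶ W.left) :
    (a ≫ (gr j W).left) ≫ pullback.snd (W.hom ≫ j) j = a ≫ W.hom :=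
  (Category.assoc _ _ _).trans (congrArg (fun t => a ≫ t) (gr_left_snd j W))

omit [IsSeparated j] in
lemma fibU_self (d : Lifts j ξ) {W : U.Etale} (w : Fib d.1 W) :
    fibU j d.1 ξ d.2 (toX d w) = (Scheme.pointSmallEtale d.1).fiber.map (gr j W) w := by
  apply Over.OverMorphism.ext
  have h1 := fibU_left_fst j d.1 ξ d.2 (toX d w)
  have h2 := fibU_left_snd j d.1 ξ d.2 (toX d w)
  have hw : w.left ≫ W.hom = d.1 := Over.w w
  show (fibU j d.1 ξ d.2 (toX d w)).left = w.left ≫ (gr j W).left
  apply pullback.hom_ext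
  · refine h1.trans ?_
    exact (comp_gr_left_fst j W w.left).symm
  · refine h2.trans ?_
    exact ((comp_gr_left_snd j W w.left).trans hw).symm

lemma germ_fibU_self (F : Ab U) (d : Lifts j ξ) {W : U.Etale} (w : Fib d.1 W)
    (s : F.obj.obj (op W)) :
    germ F (fibU j d.1 ξ d.2 (toX d w)) (extFun F (gr j W) (isClosed_range_gr j W) s) =
      germ F w s := by
  rw [fibU_self, ← germ_res, map_extFun]

lemma germ_fibU_ne (F : Ab U) (d d' : Lifts j ξ) (hdd : d ≠ d') {W : U.Etale} (w : Fib d.1 W)
    (s : F.obj.obj (op W)) :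
    germ F (fibU j d'.1 ξ d'.2 (toX d w)) (extFun F (gr j W) (isClosed_range_gr j W) s) = 0 := by
  set y := fibU j d'.1 ξ d'.2 (toX d w) with hy
  have h1 : y.left ≫ pullback.fst (W.hom ≫ j) j = w.left := fibU_left_fst j d'.1 ξ d'.2 (toX d w)
  have h2 : y.left ≫ pullback.snd (W.hom ≫ j) j = d'.1 := fibU_left_snd j d'.1 ξ d'.2 (toX d w)
  have hw : w.left ≫ W.hom = d.1 := Over.w w
  have hnot : y.pt ∉ Set.range (gr j W).left := by
    intro hmem
    have hr : Set.range y.left ⊆ Set.range (gr j W).left := by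
      rintro _ ⟨t, rfl⟩
      have ht : t = (default : Spec (CommRingCat.of Ω)) :=
        Subsingleton.elim (α := Spec (CommRingCat.of Ω)) _ _
      rw [ht]; exact hmem
    let l := IsOpenImmersion.lift (gr j W).left y.left hr
    have hl : l ≫ (gr j W).left = y.left := IsOpenImmersion.lift_fac _ _ _
    have hl1 : l = w.left :=
      (comp_gr_left_fst j W l).symm.trans
        ((congrArg (fun t => t ≫ pullback.fst (W.hom ≫ j) j) hl).trans h1)
    have hl2 : l ≫ W.hom = d'.1 :=
      (comp_gr_left_snd j W l).symm.trans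
        ((congrArg (fun t => t ≫ pullback.snd (W.hom ≫ j) j) hl).trans h2)
    apply hdd
    apply Subtype.ext
    exact hw.symm.trans ((congrArg (fun t => t ≫ W.hom) hl1.symm).trans hl2)
  rw [germ_eq_zero_iff']
  have hmem : y.pt ∈ Set.range (opnι _ (cpl (gr j W) (isClosed_range_gr j W))).left := by
    rw [range_opnι]; exact hnot
  obtain ⟨v', hv'⟩ := hmem
  exact ⟨_, opnι _ (cpl (gr j W) (isClosed_range_gr j W)), v', hv', map_cpl_extFun F _ _ s⟩

/-- the comparison map `j_! F ⟶ j_* F` is injective on stalks. -/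
theorem mono_stalk_τ (F : Ab U) : Mono ((stalk ξ).map ((τ j).app F)) := by
  let A : Lifts j ξ → AddCommGrpCat.{u+1} := fun d => (stalk d.1).obj F
  let f := (stalk ξ).map ((τ j).app F)
  let P : (stalk ξ).obj ((push j).obj F) ⟶ ∏ᶜ A := Pi.lift (fun d' => prU j d'.1 ξ d'.2 F)
  let m : ∐ A ⟶ ∏ᶜ A := Sigma.desc (inD j ξ F) ≫ f ≫ P
  have hcomp : ∀ d d' : Lifts j ξ, Sigma.ι A d ≫ m ≫ Pi.π A d' =
      inD j ξ F d ≫ f ≫ prU j d'.1 ξ d'.2 F := by
    intro d d'
    dsimp only [m, P]
    simp only [Category.assoc, Pi.lift_π, Sigma.ι_desc_assoc]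
  have hm : Mono m := by
    apply mono_of_delta A m
    · intro d
      rw [hcomp]
      apply GrothendieckTopology.Point.presheafFiber_hom_ext
      intro W w
      ext s
      have h := comp_germ j ξ F d d w s
      rw [germ_fibU_self] at h
      exact h
    · intro d d' hdd
      rw [hcomp]
      apply GrothendieckTopology.Point.presheafFiber_hom_ext
      intro W w
      ext s
      have h := comp_germ j ξ F d d' w s
      rw [germ_fibU_ne j ξ F d d' hdd] at h
      refine h.trans ?_
      rfl
  have h2 : Mono (Sigma.desc (inD j ξ F) ≫ f) := by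
    have : m = (Sigma.desc (inD j ξ F) ≫ f) ≫ P := by
      dsimp only [m]; rw [Category.assoc]
    rw [this] at hm
    exact mono_of_mono _ P
  have := isIso_desc_inD j ξ F
  have h3 : f = inv (Sigma.desc (inD j ξ F)) ≫ (Sigma.desc (inD j ξ F) ≫ f) := by
    rw [IsIso.inv_hom_id_assoc]
  show Mono f
  rw [h3]
  infer_instance

end Main




section Final

open Groth.Agent.H4.ShriekStar

variable {U X : Scheme.{u}} (j : U ⟶ X) [Etale j] [IsSeparated j]

/-- for a separated étale morphism `j`, the comparison map `j_! F ⟶ j_* F` is a monomorphism. -/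
theorem mono_τ (F : Ab U) : Mono ((τ j).app F) := by
  rw [(Groth.Agent.S0622.result (ShortComplex.mk (0 : (push j).obj F ⟶ (push j).obj F)
    (0 : (push j).obj F ⟶ (push j).obj F) zero_comp) ((τ j).app F)).2.1]
  intro Ω _ _ ξ
  have := mono_stalk_τ j ξ F
  exact (AddCommGrpCat.mono_iff_injective _).1 this

end Final

end Groth.Agent.H4.ShriekStarStalk
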