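import Mathlib
import Groth.Agent.H4.Stalks

/-!
# Gluing sections of abelian étale sheaves; extension by zero over a clopen piece
-/

set_option autoImplicit false
open CategoryTheory CategoryTheory.Limits AlgebraicGeometry Opposite
universe u
open EtCoh Groth.Agent.H4.Stalks

namespace Groth.Agent.H4.GlueSec

variable {X : Scheme.{u}}

/-- gluing sections along a jointly surjective family. -/
theorem exists_glue (F : Ab X) {U : X.Etale} {ι : Type*} (Y : ι → X.Etale) (f : ∀ i, Y i ⟶ U)
    (hcov : ⋃ i, Set.range (f i).left = Set.univ) (x : ∀ i, F.obj.obj (op (Y i)))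
    (compat : ∀ (i j : ι) (T : X.Etale) (gi : T ⟶ Y i) (gj : T ⟶ Y j), gi ≫ f i = gj ≫ f j →
      F.obj.map gi.op (x i) = F.obj.map gj.op (x j)) :
    ∃ s : F.obj.obj (op U), ∀ i, F.obj.map (f i).op s = x i := by
  have hG : Presieve.IsSheaf X.smallEtaleTopology (F.obj ⋙ forget _) :=
    (isSheaf_iff_isSheaf_of_type _ _).mp ((Presheaf.isSheaf_iff_isSheaf_forget _ _ _).1 F.property)
  have hmem : Sieve.ofArrows Y f ∈ X.smallEtaleTopology U :=
    (Scheme.ofArrows_mem_smallEtaleTopology_iff f).2 hcov
  have hsf : Presieve.IsSheafFor (F.obj ⋙ forget _) (Presieve.ofArrows Y f) := by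
    rw [Presieve.isSheafFor_iff_generate]
    exact hG _ hmem
  rw [Presieve.isSheafFor_arrows_iff] at hsf
  obtain ⟨s, hs, -⟩ := hsf x (fun i j T gi gj h => compat i j T gi gj h)
  exact ⟨s, hs⟩

/-- the open subscheme `W` of an étale `X`-scheme `P`, as an object of the small étale site. -/
noncomputable def opn (P : X.Etale) (W : P.left.Opens) : X.Etale :=
  haveI : Etale P.hom := P.prop
  Scheme.Etale.mk (W.ι ≫ P.hom)

/-- the inclusion `W ⟶ P` in the small étale site. -/
noncomputable def opnι (P : X.Etale) (W : P.left.Opens) : opn P W ⟶ P :=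
  MorphismProperty.Over.homMk W.ι rfl trivial

@[simp] lemma opnι_left (P : X.Etale) (W : P.left.Opens) : (opnι P W).left = W.ι := rfl

instance (P : X.Etale) (W : P.left.Opens) : Mono (opnι P W) := by
  constructor
  intro T g h e
  apply MorphismProperty.Over.Hom.ext
  have e1 : g.left ≫ W.ι = h.left ≫ W.ι := congrArg (fun k => k.left) e
  exact (cancel_mono W.ι).1 e1

lemma range_opnι (P : X.Etale) (W : P.left.Opens) :
    Set.range (opnι P W).left = (W : Set P.left) := by
  rw [opnι_left]
  exact W.range_ι

set_option backward.isDefEq.respectTransparency.types false in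
/-- a morphism into `P` landing in the open `W` factors through `opn P W`. -/
lemma exists_lift_opn (P : X.Etale) (W : P.left.Opens) {T : X.Etale} (g : T ⟶ P)
    (h : Set.range g.left ⊆ (W : Set P.left)) : ∃ l : T ⟶ opn P W, l ≫ opnι P W = g := by
  have hr : Set.range g.left ⊆ Set.range W.ι := by rw [W.range_ι]; exact h
  let l : T.left ⟶ (W : Scheme.{u}) := IsOpenImmersion.lift W.ι g.left hr
  have hl : l ≫ W.ι = g.left := IsOpenImmersion.lift_fac _ _ _
  refine ⟨MorphismProperty.Over.homMk (show T.left ⟶ (opn P W).left from l) ?_ trivial, ?_⟩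
  · show l ≫ W.ι ≫ P.hom = T.hom
    rw [← Category.assoc, hl]
    exact Over.w g.hom
  · apply MorphismProperty.Over.Hom.ext
    exact hl

set_option backward.isDefEq.respectTransparency.types false in
/-- extension by zero of a section over a clopen piece. -/
theorem exists_extend_zero (F : Ab X) (P : X.Etale) (W : P.left.Opens)
    (hW : IsClosed (W : Set P.left)) (s : F.obj.obj (op (opn P W))) :
    ∃ t : F.obj.obj (op P), F.obj.map (opnι P W).op t = s ∧
      F.obj.map (opnι P ⟨(W : Set P.left)ᶜ, hW.isOpen_compl⟩).op t = 0 := by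
  classical
  let Wc : P.left.Opens := ⟨(W : Set P.left)ᶜ, hW.isOpen_compl⟩
  let Y : Bool → X.Etale := fun b => if b then opn P W else opn P Wc
  let f : ∀ b, Y b ⟶ P := fun b => by
    cases b
    · exact opnι P Wc
    · exact opnι P W
  let x : ∀ b, F.obj.obj (op (Y b)) := fun b => by
    cases b
    · exact 0
    · exact s
  have hcov : ⋃ b, Set.range (f b).left = Set.univ := by
    ext p
    simp only [Set.mem_iUnion, Set.mem_univ, iff_true]
    by_cases hp : p ∈ (W : Set P.left)
    · refine ⟨true, ?_⟩
      show p ∈ Set.range (opnι P W).left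
      rw [range_opnι]; exact hp
    · refine ⟨false, ?_⟩
      show p ∈ Set.range (opnι P Wc).left
      rw [range_opnι]; exact hp
  have hempty : ∀ (T : X.Etale) (g : T ⟶ opn P W) (g' : T ⟶ opn P Wc),
      g ≫ opnι P W = g' ≫ opnι P Wc → IsEmpty T.left := by
    intro T g g' e
    constructor
    intro t
    have e1 : g.left ≫ W.ι = g'.left ≫ Wc.ι := congrArg (fun k => k.left) e
    have e' : W.ι (g.left t) = Wc.ι (g'.left t) :=
      congrArg (fun (k : T.left ⟶ P.left) => k t) e1
    have h1 : W.ι (g.left t) ∈ (W : Set P.left) := (g.left t).2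
    have h2 : Wc.ι (g'.left t) ∈ (Wc : Set P.left) := (g'.left t).2
    rw [← e'] at h2
    exact h2 h1
  obtain ⟨t, ht⟩ := exists_glue F Y f hcov x (by
    intro i j T gi gj e
    cases i <;> cases j
    · show F.obj.map gi.op 0 = F.obj.map gj.op 0
      rw [map_zero, map_zero]
    · have := hempty T gj gi e.symm
      exact (eq_zero_of_isEmpty F _).trans (eq_zero_of_isEmpty F _).symm
    · have := hempty T gi gj e
      exact (eq_zero_of_isEmpty F _).trans (eq_zero_of_isEmpty F _).symm
    · have : gi = gj := (cancel_mono (opnι P W)).1 e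
      rw [this])
  exact ⟨t, ht true, ht false⟩

/-- a section vanishing on a clopen piece and on its complement is zero. -/
theorem eq_zero_of_clopen (F : Ab X) (P : X.Etale) (W : P.left.Opens)
    (hW : IsClosed (W : Set P.left)) (t : F.obj.obj (op P))
    (h1 : F.obj.map (opnι P W).op t = 0)
    (h2 : F.obj.map (opnι P ⟨(W : Set P.left)ᶜ, hW.isOpen_compl⟩).op t = 0) : t = 0 := by
  apply eq_zero_of_locally_zero F
  intro p
  by_cases hp : p ∈ (W : Set P.left)
  · have : p ∈ Set.range (opnι P W).left := by rw [range_opnι]; exact hp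
    obtain ⟨w, hw⟩ := this
    exact ⟨_, opnι P W, w, hw, h1⟩
  · have : p ∈ Set.range (opnι P ⟨(W : Set P.left)ᶜ, hW.isOpen_compl⟩).left := by
      rw [range_opnι]; exact hp
    obtain ⟨w, hw⟩ := this
    exact ⟨_, opnι P _, w, hw, h2⟩

set_option backward.isDefEq.respectTransparency.types false in
/-- pointwise description of covering sieves of the small étale site. -/
theorem mem_smallEtaleTopology_iff (U : X.Etale) (R : Sieve U) :
    R ∈ X.smallEtaleTopology U ↔
      ∀ x : U.left, ∃ (V : X.Etale) (g : V ⟶ U) (v : V.left), R g ∧ g.left v = x := by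
  have eS : X.smallEtaleTopology =
      (X.smallPretopology (P := EtCoh.etaleMP) (Q := EtCoh.etaleMP)).toGrothendieck :=
    Scheme.smallGrothendieckTopology_eq_toGrothendieck_smallPretopology X le_rfl
  rw [eS]
  constructor
  · intro h x
    obtain ⟨V, g, v, h1, -, h3⟩ := (Scheme.mem_toGrothendieck_smallPretopology U R).1 h x
    exact ⟨V, g, v, h1, h3⟩
  · intro h
    refine (Scheme.mem_toGrothendieck_smallPretopology U R).2 ?_
    intro x
    obtain ⟨V, g, v, h1, h3⟩ := h x
    exact ⟨V, g, v, h1, inferInstanceAs (AlgebraicGeometry.Etale g.left), h3⟩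

end Groth.Agent.H4.GlueSec
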