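import Mathlib
import Groth.Agent.H4.GlueSec
import Groth.Prelude.Def_BigSite

/-!
# Consequences of condition (A) for direct images of abelian étale sheaves
-/

set_option autoImplicit false
open CategoryTheory CategoryTheory.Limits AlgebraicGeometry Opposite
universe u
open EtCoh Groth.Agent.H4.Stalks Groth.Agent.H4.GlueSec

namespace Groth.Agent.H4.PropA

variable {X Y : Scheme.{u}} (f : X ⟶ Y)

set_option backward.isDefEq.respectTransparency.types false in
/-- site form of condition (A). -/
theorem propA_site (hA : BigSite.PropA f) (U : X.Etale) (u : U.left) :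
    ∃ (V : Y.Etale) (W : ((bc f).obj V).left.Opens) (_ : IsClosed (W : Set ((bc f).obj V).left))
      (h : opn ((bc f).obj V) W ⟶ U), u ∈ Set.range h.left := by
  have : Etale U.hom := U.prop
  obtain ⟨V₀, v, hv, W₀, hW₀, h₀, hh₀, w₀, hw₀⟩ := hA U.left U.hom u
  let V : Y.Etale := Scheme.Etale.mk v
  let σ : pullback v f ≅ pullback f v := pullbackSymmetry v f
  let W : (pullback v f).Opens := σ.hom ⁻¹ᵁ W₀
  have hW : IsClosed (W : Set ↥(pullback v f)) := hW₀.preimage σ.hom.continuous
  let r : (W : Scheme.{u}) ⟶ (W₀ : Scheme.{u}) := σ.hom ∣_ W₀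
  have hr : r ≫ W₀.ι = W.ι ≫ σ.hom := morphismRestrict_ι _ _
  have hcomp : (r ≫ h₀) ≫ U.hom = W.ι ≫ pullback.snd v f := by
    rw [Category.assoc, hh₀, ← Category.assoc, hr, Category.assoc]
    congr 1
    exact pullbackSymmetry_hom_comp_fst v f
  refine ⟨V, W, hW, MorphismProperty.Over.homMk (show (opn ((bc f).obj V) W).left ⟶ U.left from r ≫ h₀)
    hcomp trivial, ?_⟩
  have : IsIso r := inferInstanceAs (IsIso (σ.hom ∣_ W₀))
  refine ⟨inv r w₀, ?_⟩
  show (r ≫ h₀) (inv r w₀) = u
  rw [Scheme.Hom.comp_apply, ← Scheme.Hom.comp_apply (inv r) r, IsIso.inv_hom_id]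
  exact hw₀

theorem exists_preimage_of_isPullback {P A B C : Scheme.{u}} {fst : P ⟶ A} {snd : P ⟶ B}
    {f : A ⟶ C} {g : B ⟶ C} (sq : IsPullback fst snd f g) (a : A) (b : B) (h : f a = g b) :
    ∃ z : P, fst z = a ∧ snd z = b := by
  obtain ⟨z, hz1, hz2⟩ := Scheme.Pullback.exists_preimage_pullback (f := f) (g := g) a b h
  refine ⟨sq.isoPullback.inv z, ?_, ?_⟩
  · rw [← hz1, ← Scheme.Hom.comp_apply, IsPullback.isoPullback_inv_fst]
  · rw [← hz2, ← Scheme.Hom.comp_apply, IsPullback.isoPullback_inv_snd]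

/-- naturality of a sheaf morphism on sections, in applied form. -/
lemma hom_naturality {G F : Ab X} (a : G ⟶ F) {U V : X.Etale} (g : V ⟶ U)
    (s : G.obj.obj (op U)) :
    a.hom.app (op V) (G.obj.map g.op s) = F.obj.map g.op (a.hom.app (op U) s) :=
  NatTrans.naturality_apply a.hom g.op s

theorem reflectsMono (hA : BigSite.PropA f) : (push f).ReflectsMonomorphisms := by
  constructor
  intro G F a hmono
  have hinj : ∀ V : Y.Etale, Function.Injective (a.hom.app (op ((bc f).obj V))) := by
    intro V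
    have h1 : Mono ((push f).map a).hom := (Sheaf.Hom.mono_iff_presheaf_mono _ _ _).1 hmono
    have h2 := (NatTrans.mono_iff_mono_app _).1 h1 (op V)
    exact (AddCommGrpCat.mono_iff_injective _).1 h2
  apply Sheaf.mono_of_injective
  rintro ⟨U⟩
  rw [injective_iff_map_eq_zero]
  intro s hs
  apply eq_zero_of_locally_zero G
  intro u
  obtain ⟨V, W, hW, h, w, hw⟩ := propA_site f hA U u
  obtain ⟨t, ht1, ht2⟩ := exists_extend_zero G _ W hW (G.obj.map h.op s)
  have hat : a.hom.app (op ((bc f).obj V)) t = 0 := by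
    apply eq_zero_of_clopen F _ W hW
    · rw [← hom_naturality, ht1, hom_naturality]
      have : a.hom.app (op U) s = 0 := hs
      rw [this, map_zero]
    · rw [← hom_naturality, ht2, map_zero]
  have ht0 : t = 0 := hinj V (hat.trans (map_zero _).symm)
  refine ⟨_, h, w, hw, ?_⟩
  rw [← ht1, ht0, map_zero]

set_option backward.isDefEq.respectTransparency.types false in
theorem reflectsEpi (hA : BigSite.PropA f) : (push f).ReflectsEpimorphisms := by
  constructor
  intro G F a hepi
  rw [← Sheaf.isLocallySurjective_iff_epi'] at hepi ⊢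
  constructor
  intro U s
  rw [mem_smallEtaleTopology_iff]
  intro u
  obtain ⟨V, W, hW, h, w, hw⟩ := propA_site f hA U u
  obtain ⟨t, ht1, ht2⟩ := exists_extend_zero F _ W hW (F.obj.map h.op s)
  have hmem := hepi.imageSieve_mem (U := V) t
  rw [mem_smallEtaleTopology_iff] at hmem
  let p : ((bc f).obj V).left := (opnι _ W).left w
  obtain ⟨V', k, v', ⟨r, hr⟩, hv'⟩ := hmem ((pullback.fst V.hom f : ((bc f).obj V).left ⟶ V.left) p)
  have sq := isPullback_bc_map f k
  obtain ⟨z, hz1, hz2⟩ := exists_preimage_of_isPullback sq p v' hv'.symm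
  -- the open piece of `bc V'` over `W`
  let W' : ((bc f).obj V').left.Opens := ((bc f).map k).left ⁻¹ᵁ W
  let N : X.Etale := opn ((bc f).obj V') W'
  let n₂ : N ⟶ (bc f).obj V' := opnι _ W'
  have hpW : p ∈ (W : Set ((bc f).obj V).left) := by
    rw [← range_opnι]; exact ⟨w, rfl⟩
  have hzW' : z ∈ (W' : Set ((bc f).obj V').left) := by
    show ((bc f).map k).left z ∈ (W : Set ((bc f).obj V).left)
    rw [hz1]; exact hpW
  obtain ⟨n₁, hn₁⟩ := exists_lift_opn ((bc f).obj V) W (n₂ ≫ (bc f).map k) (by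
    rintro _ ⟨q, rfl⟩
    have hq : n₂.left q ∈ (W' : Set ((bc f).obj V').left) := by
      rw [← range_opnι]; exact ⟨q, rfl⟩
    exact hq)
  obtain ⟨n, hn⟩ : ∃ n : N.left, n₂.left n = z := by
    have : z ∈ Set.range (opnι ((bc f).obj V') W').left := by rw [range_opnι]; exact hzW'
    exact this
  have hn1 : n₁.left n = w := by
    have hinj : Function.Injective (opnι ((bc f).obj V) W).left := by
      rw [opnι_left]
      exact W.ι.isOpenEmbedding.injective
    apply hinj
    have e1 : n₁.left ≫ (opnι ((bc f).obj V) W).left = n₂.left ≫ ((bc f).map k).left :=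
      congrArg (fun q => q.left) hn₁
    have e2 := congrArg (fun (q : N.left ⟶ ((bc f).obj V).left) => q n) e1
    refine e2.trans ?_
    show ((bc f).map k).left (n₂.left n) = p
    rw [hn, hz1]
  refine ⟨N, n₁ ≫ h, n, ⟨G.obj.map n₂.op r, ?_⟩, ?_⟩
  · rw [hom_naturality]
    have hr' : a.hom.app (op ((bc f).obj V')) r = F.obj.map ((bc f).map k).op t := hr
    rw [hr', ← ConcreteCategory.comp_apply, ← Functor.map_comp, ← op_comp, ← hn₁, op_comp,
      Functor.map_comp, ConcreteCategory.comp_apply, ht1, ← ConcreteCategory.comp_apply,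
      ← Functor.map_comp, ← op_comp]
  · show h.left (n₁.left n) = u
    rw [hn1, hw]

theorem epi_counit (hA : BigSite.PropA f) (F : Ab X) :
    Epi ((pullPushAdj f).counit.app F) := by
  have := reflectsEpi f hA
  apply (push f).epi_of_epi_map
  have h := (pullPushAdj f).right_triangle_components F
  have : IsSplitEpi ((push f).map ((pullPushAdj f).counit.app F)) :=
    ⟨⟨⟨_, h⟩⟩⟩
  infer_instance

theorem faithful_push (hA : BigSite.PropA f) : (push f).Faithful := by
  have : ∀ F, Epi ((pullPushAdj f).counit.app F) := epi_counit f hA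
  exact (pullPushAdj f).faithful_R_of_epi_counit_app

end Groth.Agent.H4.PropA
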