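import Groth.Agent.H4.EtRestr

/-!
# Extension by zero commutes with base change
-/

set_option autoImplicit false
universe u

open CategoryTheory CategoryTheory.Limits AlgebraicGeometry Opposite EtShriek

namespace Groth.Agent.H4.ExtZeroBC

variable {V' V Y X : Scheme.{u}} (j : V ⟶ X) [hj : Etale j]
    (f : Y ⟶ X) (j' : V' ⟶ Y) [hj' : Etale j'] (f' : V' ⟶ V)
    (h : IsPullback j' f' f j)

include h in
theorem isPullback_big (W : V.Etale) :
    IsPullback (pullback.fst W.hom f') (pullback.snd W.hom f' ≫ j') (W.hom ≫ j) f :=
  ((IsPullback.of_hasPullback W.hom f').flip.paste_horiz h).flip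

set_option backward.isDefEq.respectTransparency.types false in
/-- The base change natural isomorphism of site functors. -/
noncomputable def siteIso : EtCoh.bc f' ⋙ compEtale j' ≅ compEtale j ⋙ EtCoh.bc f :=
  NatIso.ofComponents
    (fun W => MorphismProperty.Over.isoMk (isPullback_big j f j' f' h W).isoPullback
      (by
        change (isPullback_big j f j' f' h W).isoPullback.hom ≫ pullback.snd (W.hom ≫ j) f =
          pullback.snd W.hom f' ≫ j'
        exact IsPullback.isoPullback_hom_snd _))
    (by
      intro W W' g
      apply MorphismProperty.Over.Hom.ext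
      change ((EtCoh.bc f').map g).left ≫ (isPullback_big j f j' f' h W').isoPullback.hom =
        (isPullback_big j f j' f' h W).isoPullback.hom ≫ ((EtCoh.bc f).map ((compEtale j).map g)).left
      have e1 : ((EtCoh.bc f').map g).left ≫ pullback.fst W'.hom f' =
          pullback.fst W.hom f' ≫ g.left := by
        dsimp [EtCoh.bc]
        exact pullback.lift_fst _ _ _
      have e2 : ((EtCoh.bc f').map g).left ≫ pullback.snd W'.hom f' = pullback.snd W.hom f' := by
        dsimp [EtCoh.bc]
        exact pullback.lift_snd _ _ _
      have e3 : ((EtCoh.bc f).map ((compEtale j).map g)).left ≫ pullback.fst (W'.hom ≫ j) f =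
          pullback.fst (W.hom ≫ j) f ≫ g.left := by
        dsimp [EtCoh.bc]
        exact pullback.lift_fst _ _ _
      have e4 : ((EtCoh.bc f).map ((compEtale j).map g)).left ≫ pullback.snd (W'.hom ≫ j) f =
          pullback.snd (W.hom ≫ j) f := by
        dsimp [EtCoh.bc]
        exact pullback.lift_snd _ _ _
      have i1 := (isPullback_big j f j' f' h W').isoPullback_hom_fst
      have i2 := (isPullback_big j f j' f' h W').isoPullback_hom_snd
      have i3 := (isPullback_big j f j' f' h W).isoPullback_hom_fst
      have i4 := (isPullback_big j f j' f' h W).isoPullback_hom_snd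
      apply pullback.hom_ext
      · calc (((EtCoh.bc f').map g).left ≫ (isPullback_big j f j' f' h W').isoPullback.hom) ≫
              pullback.fst (W'.hom ≫ j) f
            = ((EtCoh.bc f').map g).left ≫ pullback.fst W'.hom f' := by
              rw [Category.assoc]; exact congrArg (_ ≫ ·) i1
          _ = pullback.fst W.hom f' ≫ g.left := e1
          _ = ((isPullback_big j f j' f' h W).isoPullback.hom ≫ pullback.fst (W.hom ≫ j) f) ≫ g.left :=
              congrArg (· ≫ g.left) i3.symm
          _ = ((isPullback_big j f j' f' h W).isoPullback.hom ≫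
                ((EtCoh.bc f).map ((compEtale j).map g)).left) ≫ pullback.fst (W'.hom ≫ j) f := by
              rw [Category.assoc, Category.assoc]; exact congrArg (_ ≫ ·) e3.symm
      · calc (((EtCoh.bc f').map g).left ≫ (isPullback_big j f j' f' h W').isoPullback.hom) ≫
              pullback.snd (W'.hom ≫ j) f
            = ((EtCoh.bc f').map g).left ≫ pullback.snd W'.hom f' ≫ j' := by
              rw [Category.assoc]; exact congrArg (_ ≫ ·) i2
          _ = pullback.snd W.hom f' ≫ j' := by
              rw [← Category.assoc]; exact congrArg (· ≫ j') e2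
          _ = (isPullback_big j f j' f' h W).isoPullback.hom ≫ pullback.snd (W.hom ≫ j) f := i4.symm
          _ = ((isPullback_big j f j' f' h W).isoPullback.hom ≫
                ((EtCoh.bc f).map ((compEtale j).map g)).left) ≫ pullback.snd (W'.hom ≫ j) f := by
              rw [Category.assoc]; exact congrArg (_ ≫ ·) e4.symm)


/-- `j'^{-1} ⋙ f'_* ≅ f_* ⋙ j^{-1}` (restriction form), for a cartesian square. -/
noncomputable def restrPushIso :
    restrAlong j' ⋙ EtCoh.push f' ≅ EtCoh.push f ⋙ restrAlong j :=
  haveI : (compEtale j ⋙ EtCoh.bc f).IsContinuous V.smallEtaleTopology Y.smallEtaleTopology :=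
    Functor.isContinuous_comp _ _ _ X.smallEtaleTopology _
  Functor.sheafPushforwardContinuousComp' (siteIso j f j' f' h) AddCommGrpCat.{u + 1}
      V.smallEtaleTopology V'.smallEtaleTopology Y.smallEtaleTopology ≪≫
    (Functor.sheafPushforwardContinuousComp (compEtale j) (EtCoh.bc f) AddCommGrpCat.{u + 1}
      V.smallEtaleTopology X.smallEtaleTopology Y.smallEtaleTopology).symm

/-- Extension by zero commutes with base change. -/
noncomputable def extZeroPullIso :
    EtCoh.pull f' ⋙ extZero j' ≅ extZero j ⋙ EtCoh.pull f :=
  ((EtCoh.pullPushAdj f').comp (extZeroAdj j')).leftAdjointUniq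
    (((extZeroAdj j).comp (EtCoh.pullPushAdj f)).ofNatIsoRight (restrPushIso j f j' f' h).symm)

end Groth.Agent.H4.ExtZeroBC
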