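import Mathlib

/-!
# Ext and adjunctions (helper4)

For an adjunction `L ⊣ R` between abelian categories with `R` exact and preserving injectives
(e.g. `L` preserves monomorphisms), and `D` having enough injectives,
`Ext^n(L A, B) ≃+ Ext^n(A, R B)`, `e ↦ mk₀ (unit A) ≫ R.mapExt e`.
-/

namespace Groth.Agent.H4.ExtAdj

open CategoryTheory Limits Abelian

universe w w' v v' u u'

variable {C : Type u} [Category.{v} C] [Abelian C] {D : Type u'} [Category.{v'} D] [Abelian D]
variable {L : C ⥤ D} {R : D ⥤ C} (adj : L ⊣ R)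
variable [R.Additive] [PreservesFiniteLimits R] [PreservesFiniteColimits R]
variable [HasExt.{w} C] [HasExt.{w'} D]

/-- The comparison map `Ext^n(L A, B) → Ext^n(A, R B)`. -/
noncomputable def phi (A : C) (B : D) (n : ℕ) : Ext.{w'} (L.obj A) B n →+ Ext.{w} A (R.obj B) n :=
  (AddMonoidHom.mk' (fun e => (Ext.mk₀ (adj.unit.app A)).comp e (zero_add n))
    (fun _ _ => Ext.comp_add _ _ _ _)).comp (R.mapExtAddHom (L.obj A) B n)

lemma phi_apply (A : C) (B : D) (n : ℕ) (e : Ext.{w'} (L.obj A) B n) :
    phi adj A B n e = (Ext.mk₀ (adj.unit.app A)).comp (e.mapExactFunctor R) (zero_add n) := rfl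

lemma phi_mk₀ (A : C) (B : D) (f : L.obj A ⟶ B) :
    phi adj A B 0 (Ext.mk₀ f) = Ext.mk₀ (adj.homEquiv A B f) := by
  rw [phi_apply, Ext.mapExactFunctor_mk₀, Ext.mk₀_comp_mk₀, Adjunction.homEquiv_unit]

lemma phi_comp (A : C) {B B' : D} {n m : ℕ} (e : Ext.{w'} (L.obj A) B n) (e' : Ext.{w'} B B' m)
    {k : ℕ} (h : n + m = k) :
    phi adj A B' k (e.comp e' h) = (phi adj A B n e).comp (e'.mapExactFunctor R) h := by
  rw [phi_apply, phi_apply, Ext.mapExactFunctor_comp, Ext.comp_assoc _ _ _ (zero_add n) h (by omega)]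

lemma precomp_phi {A A' : C} (f : A' ⟶ A) (B : D) {n : ℕ} (e : Ext.{w'} (L.obj A) B n) :
    phi adj A' B n ((Ext.mk₀ (L.map f)).comp e (zero_add n)) =
      (Ext.mk₀ f).comp (phi adj A B n e) (zero_add n) := by
  rw [phi_apply, phi_apply, Ext.mapExactFunctor_comp, Ext.mapExactFunctor_mk₀,
    ← Ext.comp_assoc _ _ _ (zero_add 0) (zero_add n) (by omega),
    ← Ext.comp_assoc _ _ _ (zero_add 0) (zero_add n) (by omega), Ext.mk₀_comp_mk₀, Ext.mk₀_comp_mk₀]
  congr 2
  exact (adj.unit.naturality f).symm

attribute [local instance] Ext.subsingleton_of_injective in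
theorem phi_bijective [EnoughInjectives D] [R.PreservesInjectiveObjects] (A : C) (B : D) (n : ℕ) :
    Function.Bijective (phi adj A B n) := by
  induction n generalizing B with
  | zero =>
    have h : ⇑(phi adj A B 0) = (Ext.homEquiv₀ (X := A) (Y := R.obj B)).symm ∘ (adj.homEquiv A B) ∘
        (Ext.homEquiv₀ (X := L.obj A) (Y := B)) := by
      ext x
      rcases (Ext.mk₀_bijective (L.obj A) B).2 x with ⟨y, rfl⟩
      simp [phi_mk₀, Ext.homEquiv₀]
    rw [h]
    exact (Ext.homEquiv₀.symm.bijective.comp (adj.homEquiv A B).bijective).comp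
      Ext.homEquiv₀.bijective
  | succ n hn =>
    let I : InjectivePresentation B := Classical.arbitrary _
    let S := ShortComplex.mk _ _ (cokernel.condition I.f)
    have : Injective (S.map R).X₂ := Functor.PreservesInjectiveObjects.injective_obj I.injective
    have : Injective S.X₂ := I.injective
    have hS : S.ShortExact := { exact := ShortComplex.exact_cokernel I.f }
    exact AddMonoidHom.bijective_of_surjective_of_bijective_of_right_exact _ _ _ _
      (phi adj A S.X₂ n) (phi adj A S.X₃ n) (phi adj A S.X₁ (n + 1))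
      (by
        ext e
        have h1 := phi_comp adj A e (Ext.mk₀ S.g) (add_zero n)
        rw [Ext.mapExactFunctor_mk₀] at h1
        exact h1.symm)
      (by
        ext e
        have h1 := phi_comp adj A e hS.extClass (rfl : n + 1 = n + 1)
        rw [Ext.mapExactFunctor_extClass] at h1
        exact h1.symm)
      ((ShortComplex.ab_exact_iff_function_exact _).mp
        (Ext.covariant_sequence_exact₃' (L.obj A) hS n (n + 1) rfl))
      ((ShortComplex.ab_exact_iff_function_exact _).mp
        (Ext.covariant_sequence_exact₃' A (hS.map_of_exact R) n (n + 1) rfl))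
      (hn _).surjective (hn _)
      (fun x₁ ↦ Ext.covariant_sequence_exact₁ _ hS x₁ (by subsingleton) rfl)
      (fun y₁ ↦ Ext.covariant_sequence_exact₁ _ (hS.map_of_exact R) y₁ (by subsingleton) rfl)

/-- The comparison isomorphism `Ext^n(L A, B) ≃+ Ext^n(A, R B)`. -/
noncomputable def phiEquiv [EnoughInjectives D] [R.PreservesInjectiveObjects] (A : C) (B : D) (n : ℕ) :
    Ext.{w'} (L.obj A) B n ≃+ Ext.{w} A (R.obj B) n :=
  AddEquiv.ofBijective (phi adj A B n) (phi_bijective adj A B n)

end Groth.Agent.H4.ExtAdj
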