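import Groth.Agent.H4.EtSrcLiftV
set_option autoImplicit false
open CategoryTheory CategoryTheory.Limits AlgebraicGeometry Opposite TensorProduct
universe u

namespace Groth.Agent.H4.ClosedLift

/-- pullback square of an affine open and its affine preimage. -/
lemma isPullback_fromSpec {Z X : Scheme.{u}} (i : Z ⟶ X) {X₀ : X.Opens} (hX₀ : IsAffineOpen X₀)
    (hZ₀ : IsAffineOpen (i ⁻¹ᵁ X₀)) :
    IsPullback (Spec.map (i.app X₀)) hZ₀.fromSpec hX₀.fromSpec i := by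
  apply IsOpenImmersion.isPullback
  · rw [Scheme.Hom.app_eq_appLE]
    exact (IsAffineOpen.SpecMap_appLE_fromSpec i hX₀ hZ₀ le_rfl).symm
  · rw [hX₀.opensRange_fromSpec, hZ₀.opensRange_fromSpec]

/-- pullback square of spectra from a tensor product description. -/
lemma isPullback_of_equiv {C B A A' : Type u} [CommRing C] [CommRing B] [CommRing A] [CommRing A']
    [Algebra C B] [Algebra B A] [Algebra C A] [IsScalarTower C B A] [Algebra C A']
    (l : A' →ₐ[C] A) (e : B ⊗[C] A' ≃ₐ[B] A) (he : ∀ r, l r = e (1 ⊗ₜ r)) :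
    IsPullback (Spec.map (CommRingCat.ofHom l.toRingHom))
      (Spec.map (CommRingCat.ofHom (algebraMap B A)))
      (Spec.map (CommRingCat.ofHom (algebraMap C A')))
      (Spec.map (CommRingCat.ofHom (algebraMap C B))) := by
  apply isPullback_SpecMap_of_isPushout
  refine (CommRingCat.isPushout_tensorProduct C B A').flip.of_iso (Iso.refl _) (Iso.refl _) (Iso.refl _)
    e.toRingEquiv.toCommRingCatIso ?_ ?_ ?_ ?_
  · simp
  · simp
  · ext r
    simp [he]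
  · ext b
    simp
    have h1 : (b ⊗ₜ[C] (1 : A') : B ⊗[C] A') = algebraMap B (B ⊗[C] A') b := rfl
    rw [h1, AlgEquiv.commutes]

set_option maxHeartbeats 800000 in
theorem exists_etale_lift {Z X W : Scheme.{u}} (i : Z ⟶ X) [IsClosedImmersion i] (g : W ⟶ Z)
    [Etale g] (w₀ : W) :
    ∃ (V : Scheme.{u}) (p : V ⟶ X) (_ : Etale p) (W₁ : Scheme.{u}) (a : W₁ ⟶ W)
      (_ : IsOpenImmersion a) (b : W₁ ⟶ V), w₀ ∈ Set.range a ∧ IsPullback b (a ≫ g) p i := by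
  obtain ⟨X₀, hX₀, hx₀, -⟩ := exists_isAffineOpen_mem_and_subset (x := i (g w₀)) (U := ⊤) trivial
  have hZ₀ : IsAffineOpen (i ⁻¹ᵁ X₀) := hX₀.preimage i
  have hgw : w₀ ∈ g ⁻¹ᵁ (i ⁻¹ᵁ X₀) := hx₀
  obtain ⟨W₀, hW₀, hw₀, hW₀Z⟩ := exists_isAffineOpen_mem_and_subset (x := w₀)
    (U := g ⁻¹ᵁ (i ⁻¹ᵁ X₀)) hgw
  have hρ : Function.Surjective (i.app X₀) := i.app_surjective X₀ hX₀
  have hσ : (g.appLE (i ⁻¹ᵁ X₀) W₀ hW₀Z).hom.Etale :=
    HasRingHomProperty.appLE (P := @Etale) g inferInstance ⟨_, hZ₀⟩ ⟨W₀, hW₀⟩ hW₀Z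
  algebraize [(i.app X₀).hom, (g.appLE (i ⁻¹ᵁ X₀) W₀ hW₀Z).hom]
  let q := hW₀.primeIdealOf ⟨w₀, hw₀⟩
  have hq : Algebra.IsEtaleAt Γ(Z, i ⁻¹ᵁ X₀) q.asIdeal := by
    have : q ∈ Algebra.etaleLocus Γ(Z, i ⁻¹ᵁ X₀) Γ(W, W₀) := by
      rw [Algebra.etaleLocus_eq_univ_iff.2 inferInstance]; trivial
    exact this
  obtain ⟨f, hfq, hstd⟩ := Algebra.IsEtaleAt.exists_isStandardEtale (R := Γ(Z, i ⁻¹ᵁ X₀)) q.asIdeal
  have hW₁ : IsAffineOpen (W.basicOpen f) := hW₀.basicOpen f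
  have hle : W.basicOpen f ≤ g ⁻¹ᵁ (i ⁻¹ᵁ X₀) := (W.basicOpen_le f).trans hW₀Z
  have hw₁ : w₀ ∈ W.basicOpen f := by
    have h1 : hW₀.fromSpec q = w₀ := hW₀.fromSpec_primeIdealOf ⟨w₀, hw₀⟩
    have h2 : q ∈ hW₀.fromSpec ⁻¹ᵁ W.basicOpen f := by
      rw [hW₀.fromSpec_preimage_basicOpen f]
      exact hfq
    rw [← h1]
    exact h2
  let algBA : Algebra Γ(Z, i ⁻¹ᵁ X₀) Γ(W, W.basicOpen f) :=
    (g.appLE (i ⁻¹ᵁ X₀) (W.basicOpen f) hle).hom.toAlgebra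
  have tower1 : IsScalarTower Γ(Z, i ⁻¹ᵁ X₀) Γ(W, W₀) Γ(W, W.basicOpen f) := by
    apply IsScalarTower.of_algebraMap_eq'
    have := g.appLE_map (U := i ⁻¹ᵁ X₀) hW₀Z (homOfLE (W.basicOpen_le f)).op
    exact congrArg CommRingCat.Hom.hom this.symm
  have hloc : IsLocalization.Away f Γ(W, W.basicOpen f) := hW₀.isLocalization_basicOpen f
  have hstd' : Algebra.IsStandardEtale Γ(Z, i ⁻¹ᵁ X₀) Γ(W, W.basicOpen f) :=
    Algebra.IsStandardEtale.of_equiv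
      ((IsLocalization.algEquiv (.powers f) (Localization.Away f) Γ(W, W.basicOpen f)).restrictScalars
        Γ(Z, i ⁻¹ᵁ X₀))
  let algCA : Algebra Γ(X, X₀) Γ(W, W.basicOpen f) :=
    ((algebraMap Γ(Z, i ⁻¹ᵁ X₀) Γ(W, W.basicOpen f)).comp (algebraMap Γ(X, X₀) Γ(Z, i ⁻¹ᵁ X₀))).toAlgebra
  have tower2 : IsScalarTower Γ(X, X₀) Γ(Z, i ⁻¹ᵁ X₀) Γ(W, W.basicOpen f) :=
    IsScalarTower.of_algebraMap_eq' rfl
  let PP : StandardEtalePresentation Γ(Z, i ⁻¹ᵁ X₀) Γ(W, W.basicOpen f) :=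
    hstd'.nonempty_standardEtalePresentation.some
  obtain ⟨Pt, hf, hg⟩ := Groth.Agent.H4.EtSrcLiftV.exists_lift_pair hρ PP
  let l := Groth.Agent.H4.EtSrcLiftV.liftHom PP Pt hf hg
  let e := Groth.Agent.H4.EtSrcLiftV.liftEquiv PP Pt hf hg
  have sq1 := isPullback_of_equiv l e (Groth.Agent.H4.EtSrcLiftV.liftHom_eq PP Pt hf hg)
  have sq2 := isPullback_fromSpec i hX₀ hZ₀
  have sq := (sq1.flip.paste_horiz sq2.flip).flip
  have hcomm : Spec.map (CommRingCat.ofHom (algebraMap Γ(Z, i ⁻¹ᵁ X₀) Γ(W, W.basicOpen f))) ≫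
      hZ₀.fromSpec = hW₁.fromSpec ≫ g :=
    IsAffineOpen.SpecMap_appLE_fromSpec g hZ₀ hW₁ hle
  rw [hcomm] at sq
  have hp : Etale (Spec.map (CommRingCat.ofHom (algebraMap Γ(X, X₀) Pt.Ring)) ≫ hX₀.fromSpec) := by
    have : Etale (Spec.map (CommRingCat.ofHom (algebraMap Γ(X, X₀) Pt.Ring))) := by
      rw [HasRingHomProperty.Spec_iff (P := @Etale)]
      exact RingHom.etale_algebraMap.mpr inferInstance
    infer_instance
  refine ⟨_, _, hp, _, hW₁.fromSpec, inferInstance, _, ?_, sq⟩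
  rw [hW₁.range_fromSpec]
  exact hw₁

/-- a section of a formally unramified morphism locally of finite type is an open immersion
(argument of helper15). -/
theorem isOpenImmersion_of_section {X Y : Scheme.{u}} (p : X ⟶ Y) [FormallyUnramified p]
    [LocallyOfFiniteType p] (s : Y ⟶ X) (hs : s ≫ p = 𝟙 Y) : IsOpenImmersion s := by
  let Q : MorphismProperty Scheme.{u} := (@FormallyUnramified : MorphismProperty Scheme.{u}) ⊓
    (@LocallyOfFiniteType : MorphismProperty Scheme.{u})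
  have : Q.IsStableUnderBaseChange := MorphismProperty.IsStableUnderBaseChange.inf
  have key : (@IsOpenImmersion : MorphismProperty Scheme.{u}).HasOfPostcompProperty Q := by
    rw [MorphismProperty.hasOfPostcompProperty_iff_le_diagonal]
    intro X Y f ⟨h1, h2⟩
    exact FormallyUnramified.isOpenImmersion_diagonal f
  refine MorphismProperty.of_postcomp (W := @IsOpenImmersion)
    (W' := Q) s p ⟨‹_›, ‹_›⟩ ?_
  rw [hs]
  infer_instance

end Groth.Agent.H4.ClosedLift
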