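import Mathlib.RingTheory.Flat.EquationalCriterion
import Mathlib.RingTheory.Etale.Weakly
import Mathlib.Data.Set.Finite.Lattice

/-!
# Flatness and weak étaleness along a "directed cover" of an algebra

`B` is an `A`-algebra, `C j` a family of `A`-algebras with maps `ι j : C j →ₐ[A] B` which is
directed, jointly surjective, and detects vanishing at a later stage (this is what a filtered
colimit presentation provides).  Then flatness and weak étaleness pass from the `C j` to `B`.
-/

set_option autoImplicit false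
universe u v w
open scoped TensorProduct

namespace Groth.Agent.H4.DirFlat

section general

variable {A : Type u} {B : Type v} [CommRing A] [CommRing B] [Algebra A B]
variable {J : Type w} {C : J → Type v} [∀ j, CommRing (C j)] [∀ j, Algebra A (C j)]
variable (ι : ∀ j, C j →ₐ[A] B)

/-- directedness of the family. -/
def Dir : Prop := ∀ j1 j2, ∃ (j3 : J) (u1 : C j1 →ₐ[A] C j3) (u2 : C j2 →ₐ[A] C j3),
  (ι j3).comp u1 = ι j1 ∧ (ι j3).comp u2 = ι j2

/-- joint surjectivity. -/
def Surj : Prop := ∀ b : B, ∃ (j : J) (c : C j), ι j c = b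

/-- vanishing is detected at a later stage. -/
def Inj : Prop := ∀ (j : J) (c : C j), ι j c = 0 →
  ∃ (j' : J) (u : C j →ₐ[A] C j'), (ι j').comp u = ι j ∧ u c = 0

variable {ι}

theorem directed_range (hd : Dir ι) : Directed (· ⊆ ·) (fun j => Set.range (ι j)) := by
  intro j1 j2
  obtain ⟨j3, u1, u2, h1, h2⟩ := hd j1 j2
  refine ⟨j3, ?_, ?_⟩
  · rintro _ ⟨c, rfl⟩
    exact ⟨u1 c, by rw [← h1]; rfl⟩
  · rintro _ ⟨c, rfl⟩
    exact ⟨u2 c, by rw [← h2]; rfl⟩

theorem nonempty_of_surj (hs : Surj ι) : Nonempty J := by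
  obtain ⟨j, -, -⟩ := hs 0
  exact ⟨j⟩

/-- finitely many elements lift to a common stage. -/
theorem exists_lift_fin (hd : Dir ι) (hs : Surj ι) {l : ℕ} (x : Fin l → B) :
    ∃ (j : J) (x' : Fin l → C j), ∀ i, ι j (x' i) = x i := by
  classical
  haveI := nonempty_of_surj hs
  have hcov : ((Finset.univ.image x : Finset B) : Set B) ⊆ ⋃ j, Set.range (ι j) := by
    intro b _
    obtain ⟨j, c, rfl⟩ := hs b
    exact Set.mem_iUnion.2 ⟨j, c, rfl⟩
  obtain ⟨j, hj⟩ := (directed_range hd).exists_mem_subset_of_finset_subset_biUnion hcov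
  have : ∀ i, ∃ c : C j, ι j c = x i := fun i => hj (by simp)
  choose x' hx' using this
  exact ⟨j, x', hx'⟩

/-- The tensor-square family. -/
noncomputable def ιT (ι : ∀ j, C j →ₐ[A] B) (j : J) : C j ⊗[A] C j →ₐ[A] B ⊗[A] B :=
  Algebra.TensorProduct.map (ι j) (ι j)

theorem dir_ιT (hd : Dir ι) : Dir (ιT ι) := by
  intro j1 j2
  obtain ⟨j3, u1, u2, h1, h2⟩ := hd j1 j2
  refine ⟨j3, Algebra.TensorProduct.map u1 u1, Algebra.TensorProduct.map u2 u2, ?_, ?_⟩
  · rw [ιT, ιT, ← Algebra.TensorProduct.map_comp, h1]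
  · rw [ιT, ιT, ← Algebra.TensorProduct.map_comp, h2]

theorem surj_ιT (hd : Dir ι) (hs : Surj ι) : Surj (ιT ι) := by
  intro t
  induction t using TensorProduct.induction_on with
  | zero =>
    obtain ⟨j⟩ := nonempty_of_surj hs
    exact ⟨j, 0, map_zero _⟩
  | tmul b b' =>
    obtain ⟨j1, c1, rfl⟩ := hs b
    obtain ⟨j2, c2, rfl⟩ := hs b'
    obtain ⟨j3, u1, u2, h1, h2⟩ := hd j1 j2
    refine ⟨j3, u1 c1 ⊗ₜ u2 c2, ?_⟩
    rw [ιT, Algebra.TensorProduct.map_tmul, ← h1, ← h2]
    rfl
  | add t1 t2 ih1 ih2 =>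
    obtain ⟨j1, c1, rfl⟩ := ih1
    obtain ⟨j2, c2, rfl⟩ := ih2
    obtain ⟨j3, u1, u2, h1, h2⟩ := dir_ιT hd j1 j2
    refine ⟨j3, u1 c1 + u2 c2, ?_⟩
    rw [map_add, ← h1, ← h2]
    rfl

/-- Flatness passes to a directed cover limit. -/
theorem flat_of_cover (hd : Dir ι) (hs : Surj ι) (hi : Inj ι)
    (hflat : ∀ j, Module.Flat A (C j)) : Module.Flat A B := by
  refine Module.Flat.of_forall_isTrivialRelation ?_
  intro l f x hfx
  obtain ⟨j, x', hx'⟩ := exists_lift_fin hd hs x
  have h0 : ι j (∑ i, f i • x' i) = 0 := by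
    rw [map_sum, ← hfx]
    refine Finset.sum_congr rfl fun i _ => ?_
    rw [map_smul, hx']
  obtain ⟨j', u, hu, hu0⟩ := hi j _ h0
  have hrel : ∑ i, f i • u (x' i) = 0 := by
    rw [← hu0, map_sum]
    refine Finset.sum_congr rfl fun i _ => ?_
    rw [map_smul]
  obtain ⟨k, a, y, hxy, hfa⟩ := (hflat j').isTrivialRelation_of_sum_smul_eq_zero hrel
  refine ⟨k, a, fun m => ι j' (y m), fun i => ?_, hfa⟩
  have : x i = ι j' (u (x' i)) := by
    rw [← hx' i, ← hu]; rfl
  rw [this, show u (x' i) = _ from hxy i, map_sum]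
  refine Finset.sum_congr rfl fun m _ => ?_
  rw [map_smul]

theorem lmul'_ιT (j : J) (t : C j ⊗[A] C j) :
    Algebra.TensorProduct.lmul' A (S := B) (ιT ι j t) =
      ι j (Algebra.TensorProduct.lmul' A (S := C j) t) := by
  have : (Algebra.TensorProduct.lmul' A (S := B)).comp (ιT ι j) =
      (ι j).comp (Algebra.TensorProduct.lmul' A (S := C j)) := by
    ext c <;> simp [ιT]
  exact DFunLike.congr_fun this t

/-- Flatness of the multiplication map passes to a directed cover limit. -/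
theorem flat_lmul'_of_cover (hd : Dir ι) (hs : Surj ι) (hi : Inj ι)
    (hflat : ∀ j, (Algebra.TensorProduct.lmul' A (S := C j)).Flat) :
    (Algebra.TensorProduct.lmul' A (S := B)).Flat := by
  letI alg : Algebra (B ⊗[A] B) B := (Algebra.TensorProduct.lmul' A (S := B)).toRingHom.toAlgebra
  change Module.Flat (B ⊗[A] B) B
  refine Module.Flat.of_forall_isTrivialRelation ?_
  intro l f x hfx
  have smul_def : ∀ (t : B ⊗[A] B) (b : B), t • b = Algebra.TensorProduct.lmul' A (S := B) t * b :=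
    fun t b => rfl
  obtain ⟨j1, f1, hf1⟩ := exists_lift_fin (dir_ιT hd) (surj_ιT hd hs) f
  obtain ⟨j2, x2, hx2⟩ := exists_lift_fin hd hs x
  obtain ⟨j, u1, u2, h1, h2⟩ := hd j1 j2
  let f' : Fin l → C j ⊗[A] C j := fun i => Algebra.TensorProduct.map u1 u1 (f1 i)
  let x' : Fin l → C j := fun i => u2 (x2 i)
  have hf' : ∀ i, ιT ι j (f' i) = f i := by
    intro i
    rw [← hf1 i]
    change (ιT ι j) ((Algebra.TensorProduct.map u1 u1) (f1 i)) = ιT ι j1 (f1 i)
    rw [ιT, ιT, ← h1, Algebra.TensorProduct.map_comp]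
    rfl
  have hx' : ∀ i, ι j (x' i) = x i := by
    intro i
    rw [← hx2 i, ← h2]; rfl
  have h0 : ι j (∑ i, Algebra.TensorProduct.lmul' A (S := C j) (f' i) * x' i) = 0 := by
    rw [map_sum, ← hfx]
    refine Finset.sum_congr rfl fun i _ => ?_
    rw [map_mul, ← lmul'_ιT, hf', hx', smul_def]
  obtain ⟨j', u, hu, hu0⟩ := hi j _ h0
  letI alg' : Algebra (C j' ⊗[A] C j') (C j') :=
    (Algebra.TensorProduct.lmul' A (S := C j')).toRingHom.toAlgebra
  have hfl : Module.Flat (C j' ⊗[A] C j') (C j') := hflat j'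
  have smul_def' : ∀ (t : C j' ⊗[A] C j') (b : C j'),
      t • b = Algebra.TensorProduct.lmul' A (S := C j') t * b := fun t b => rfl
  let f'' : Fin l → C j' ⊗[A] C j' := fun i => Algebra.TensorProduct.map u u (f' i)
  have hlm : ∀ t : C j ⊗[A] C j, Algebra.TensorProduct.lmul' A (S := C j')
      (Algebra.TensorProduct.map u u t) = u (Algebra.TensorProduct.lmul' A (S := C j) t) := by
    intro t
    have : (Algebra.TensorProduct.lmul' A (S := C j')).comp (Algebra.TensorProduct.map u u) =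
        u.comp (Algebra.TensorProduct.lmul' A (S := C j)) := by
      ext c <;> simp
    exact DFunLike.congr_fun this t
  have hrel : ∑ i, f'' i • u (x' i) = 0 := by
    rw [← hu0, map_sum]
    refine Finset.sum_congr rfl fun i _ => ?_
    rw [smul_def', map_mul, hlm]
  obtain ⟨k, a, y, hxy, hfa⟩ := hfl.isTrivialRelation_of_sum_smul_eq_zero hrel
  refine ⟨k, fun i m => ιT ι j' (a i m), fun m => ι j' (y m), fun i => ?_, fun m => ?_⟩
  · have : x i = ι j' (u (x' i)) := by
      rw [← hx' i, ← hu]; rfl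
    rw [this, show u (x' i) = _ from hxy i, map_sum]
    refine Finset.sum_congr rfl fun m _ => ?_
    rw [smul_def, smul_def', map_mul, lmul'_ιT]
  · have hf'' : ∀ i, ιT ι j' (f'' i) = f i := by
      intro i
      rw [← hf' i]
      change ιT ι j' (Algebra.TensorProduct.map u u (f' i)) = ιT ι j (f' i)
      rw [ιT, ιT, ← hu, Algebra.TensorProduct.map_comp]
      rfl
    have := congrArg (ιT ι j') (hfa m)
    rw [map_sum, map_zero] at this
    rw [← this]
    refine Finset.sum_congr rfl fun i _ => ?_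
    rw [map_mul, hf'']

/-- Weak étaleness passes to a directed cover limit. -/
theorem weaklyEtale_of_cover (hd : Dir ι) (hs : Surj ι) (hi : Inj ι)
    (h : ∀ j, Algebra.WeaklyEtale A (C j)) : Algebra.WeaklyEtale A B where
  flat := flat_of_cover hd hs hi fun j => (h j).flat
  flat_lmul' := flat_lmul'_of_cover hd hs hi fun j => Algebra.WeaklyEtale.flat_lmul' A (C j)

end general

end Groth.Agent.H4.DirFlat
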