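import Groth.Prelude.Def_ProEtS

/-!
# Continuity of `eps X : X.Etale ⥤ X.ProEt` and of pro-étale base change (helper4)
-/

set_option autoImplicit false
open CategoryTheory CategoryTheory.Limits AlgebraicGeometry Opposite
universe u

namespace Groth.Agent.H4.ProEtCont

section Eps
variable (X : Scheme.{u})

lemma eps_comp_forget : ProEtS.eps X ⋙ Scheme.ProEt.forget X = Scheme.Etale.forget X := rfl

instance preservesFiniteLimits_eps : PreservesFiniteLimits (ProEtS.eps X) := by
  have h : PreservesFiniteLimits (ProEtS.eps X ⋙ Scheme.ProEt.forget X) := by
    rw [eps_comp_forget]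
    infer_instance
  exact preservesFiniteLimits_of_reflects_of_preserves (ProEtS.eps X) (Scheme.ProEt.forget X)

instance flat_eps : RepresentablyFlat (ProEtS.eps X) := flat_of_preservesFiniteLimits _

set_option backward.isDefEq.respectTransparency.types false in
lemma proEt_topology_eq : Scheme.ProEt.topology X =
    (Scheme.ProEt.forget X).restrictedTopology (Scheme.proetaleTopology.over X) :=
  MorphismProperty.toGrothendieck_comap_forget_eq_restrictedTopology _
    Scheme.proetalePrecoverage_le_precoverage_weaklyEtale

set_option backward.isDefEq.respectTransparency.types false in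
lemma et_topology_eq : X.smallEtaleTopology =
    (Scheme.Etale.forget X).restrictedTopology (Scheme.etaleTopology.over X) := rfl

set_option backward.isDefEq.respectTransparency.types false in
theorem coverPreserving_eps :
    CoverPreserving X.smallEtaleTopology (Scheme.ProEt.topology X) (ProEtS.eps X) := by
  constructor
  intro U S hS
  rw [proEt_topology_eq, Functor.mem_restrictedTopology_iff]
  have : (Scheme.Etale.forget X).LocallyCoverDense (Scheme.etaleTopology.over X) :=
    Scheme.locallyCoverDense_of_le (P := @Etale) (Q := @Etale) X le_rfl
  rw [et_topology_eq, Functor.mem_restrictedTopology_iff] at hS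
  rw [← Sieve.functorPushforward_comp]
  rw [GrothendieckTopology.mem_over_iff] at hS ⊢
  exact Scheme.etaleTopology_le_proetaleTopology _ hS

theorem epsCont : ProEtS.EpsCont X :=
  Functor.isContinuous_of_coverPreserving (compatiblePreservingOfFlat _ _) (coverPreserving_eps X)

end Eps

section BC
variable {X Y : Scheme.{u}} (f : X ⟶ Y)

lemma bcP_comp_forget :
    ProEtS.bcP f ⋙ Scheme.ProEt.forget X = Scheme.ProEt.forget Y ⋙ Over.pullback f := rfl

instance preservesFiniteLimits_bcP : PreservesFiniteLimits (ProEtS.bcP f) := by
  have h : PreservesFiniteLimits (ProEtS.bcP f ⋙ Scheme.ProEt.forget X) := by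
    rw [bcP_comp_forget]
    infer_instance
  exact preservesFiniteLimits_of_reflects_of_preserves (ProEtS.bcP f) (Scheme.ProEt.forget X)

instance flat_bcP : RepresentablyFlat (ProEtS.bcP f) := flat_of_preservesFiniteLimits _

set_option backward.isDefEq.respectTransparency.types false in
theorem coverPreserving_bcP :
    CoverPreserving (Scheme.ProEt.topology Y) (Scheme.ProEt.topology X) (ProEtS.bcP f) := by
  constructor
  intro V S hS
  rw [proEt_topology_eq, Functor.mem_restrictedTopology_iff] at hS ⊢
  rw [← Sieve.functorPushforward_comp]
  have h := (GrothendieckTopology.coverPreserving_overPullback Scheme.proetaleTopology f).cover_preserve hS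
  rw [← Sieve.functorPushforward_comp] at h
  exact h

theorem pCont : ProEtS.PCont f :=
  Functor.isContinuous_of_coverPreserving (compatiblePreservingOfFlat _ _) (coverPreserving_bcP f)

end BC

end Groth.Agent.H4.ProEtCont
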