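import Groth.Agent.H4.SpectralFib
import Groth.Prelude.Def_ProEtW

/-!
# Pullback of a w-local space along a map from a profinite space to its components
-/

set_option autoImplicit false
open Set Topology

namespace Groth.Agent.H4.WLocalFib

open Groth.Agent.H4.SpectralFib

universe u
variable {X T : Type u} [TopologicalSpace X] [TopologicalSpace T]

/-- specialization implies same connected component. -/
theorem mk_eq_of_specializes {x x' : X} (h : x ⤳ x') :
    (_root_.ConnectedComponents.mk x' : _root_.ConnectedComponents X) = ConnectedComponents.mk x := by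
  rw [ConnectedComponents.coe_eq_coe']
  have h1 : x' ∈ closure ({x} : Set X) := h.mem_closure
  have hc : IsPreconnected (closure ({x} : Set X)) := isPreconnected_singleton.closure
  exact hc.subset_connectedComponent (subset_closure rfl) h1

variable [CompactSpace T] [T2Space T] [TotallyDisconnectedSpace T]
  (g : C(T, _root_.ConnectedComponents X))

theorem isClosed_singleton_iff [SpectralSpace X] (y : Y g) :
    IsClosed ({y} : Set (Y g)) ↔ IsClosed ({y.1.1} : Set X) := by
  constructor
  · intro h
    have hemb := (isClosed_Y g).isClosedEmbedding_subtypeVal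
    have h1 : IsClosed (Subtype.val '' ({y} : Set (Y g))) := hemb.isClosedMap _ h
    rw [Set.image_singleton] at h1
    have h2 : IsClosed ((fun x : X => (x, y.1.2)) ⁻¹' {y.1}) :=
      h1.preimage (by fun_prop)
    convert h2 using 1
    ext x
    simp only [mem_singleton_iff, mem_preimage]
    constructor
    · rintro rfl; rfl
    · intro hx
      exact congrArg Prod.fst hx
  · intro h
    have h1 : IsClosed (({y.1.1} : Set X) ×ˢ ({y.1.2} : Set T)) := h.prod isClosed_singleton
    have h2 : IsClosed ((Subtype.val : Y g → X × T) ⁻¹' (({y.1.1} : Set X) ×ˢ ({y.1.2} : Set T))) :=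
      h1.preimage continuous_subtype_val
    convert h2 using 1
    ext z
    simp only [mem_singleton_iff, mem_preimage, mem_prod]
    constructor
    · rintro rfl; exact ⟨rfl, rfl⟩
    · rintro ⟨h1, h2⟩
      exact Subtype.ext (Prod.ext h1 h2)

theorem closedPoints_eq [SpectralSpace X] :
    ProEtW.closedPoints (Y g) = (fun y : Y g => y.1.1) ⁻¹' ProEtW.closedPoints X := by
  ext y
  exact isClosed_singleton_iff g y

theorem isWLocal_Y (hX : ProEtW.IsWLocal X) : ProEtW.IsWLocal (Y g) := by
  obtain ⟨hsp, hcl, hex⟩ := hX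
  haveI := hsp
  refine ⟨spectralSpace_Y g, ?_, ?_⟩
  · have : {y : Y g | IsClosed ({y} : Set (Y g))} =
        (fun y : Y g => y.1.1) ⁻¹' {x : X | IsClosed ({x} : Set X)} := closedPoints_eq g
    rw [this]
    exact hcl.preimage (continuous_fst.comp continuous_subtype_val)
  · intro y
    obtain ⟨x', ⟨hx'c, hx's⟩, hx'u⟩ := hex y.1.1
    have hmem : _root_.ConnectedComponents.mk x' = g y.1.2 :=
      (mk_eq_of_specializes hx's).trans y.2
    refine ⟨⟨(x', y.1.2), hmem⟩, ⟨?_, ?_⟩, ?_⟩
    · exact (isClosed_singleton_iff g _).2 hx'c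
    · rw [subtype_specializes_iff]
      change (y.1.1, y.1.2) ⤳ (x', y.1.2)
      exact hx's.prod specializes_rfl
    · rintro z ⟨hzc, hzs⟩
      rw [subtype_specializes_iff] at hzs
      have hzs' : (y.1.1, y.1.2) ⤳ (z.1.1, z.1.2) := hzs
      rw [specializes_prod] at hzs'
      have h1 : z.1.1 = x' := hx'u _ ⟨(isClosed_singleton_iff g z).1 hzc, hzs'.1⟩
      have h2 : y.1.2 = z.1.2 := hzs'.2.eq
      exact Subtype.ext (Prod.ext h1 h2.symm)

theorem isWLocalMap_fst [SpectralSpace X] : ProEtW.IsWLocalMap (fun y : Y g => y.1.1) := by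
  refine ⟨⟨continuous_fst.comp continuous_subtype_val, ?_⟩, ?_⟩
  · intro s hso hsc
    have hemb := (isClosed_Y g).isClosedEmbedding_subtypeVal
    have h1 : IsCompact (s ×ˢ (Set.univ : Set T)) := hsc.prod isCompact_univ
    have h2 := hemb.isCompact_preimage h1
    have e : (fun y : Y g => y.1.1) ⁻¹' s =
        (Subtype.val : Y g → X × T) ⁻¹' (s ×ˢ (Set.univ : Set T)) := by
      ext y
      simp
    rw [e]
    exact h2
  · intro y hy
    exact (isClosed_singleton_iff g y).1 hy

end Groth.Agent.H4.WLocalFib
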