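import Groth.Prelude.Def_PBC
import Mathlib.Algebra.Category.Ring.Under.Basic
import Mathlib.CategoryTheory.Adjunction.Limits

set_option autoImplicit false
open CategoryTheory CategoryTheory.Limits Opposite
universe u
open scoped TensorProduct

namespace Groth.Agent.H4

/-- Base change of ind-étale algebras, for an algebra structure of the form `f.toAlgebra`. -/
theorem isIndEtale_baseChange_aux (A B A' : Type u) [CommRing A] [CommRing B] [CommRing A']
    [Algebra A A'] (f : A →+* B) :
    letI := f.toAlgebra
    EtPBC.IsIndEtale A B → EtPBC.IsIndEtale A' (A' ⊗[A] B) := by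
  letI := f.toAlgebra
  intro h
  obtain ⟨J, hJ, hJf, D, c, hc, hEt, ⟨e⟩⟩ := h
  letI : Algebra (CommRingCat.of A) (CommRingCat.of A') := ‹Algebra A A'›
  let F : Under (CommRingCat.of A) ⥤ Under (CommRingCat.of A') :=
    CommRingCat.tensorProd (CommRingCat.of A) (CommRingCat.of A')
  have : PreservesColimitsOfSize.{u, u} F :=
    preservesColimits_of_natIso
      (CommRingCat.tensorProdIsoPushout (CommRingCat.of A) (CommRingCat.of A')).symm
  refine ⟨J, hJ, hJf, D ⋙ F, F.mapCocone c, isColimitOfPreserves F hc, ?_, ⟨?_⟩⟩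
  · intro j
    letI := (D.obj j).hom.hom.toAlgebra
    have h1 : Algebra.Etale A (D.obj j).right := hEt j
    have h2 : Algebra.Etale A' (A' ⊗[A] (D.obj j).right) := inferInstance
    change @Algebra.Etale A' (A' ⊗[A] (D.obj j).right) _ _ (((D ⋙ F).obj j).hom.hom.toAlgebra)
    have h3 : (((D ⋙ F).obj j).hom.hom.toAlgebra : Algebra A' (A' ⊗[A] (D.obj j).right)) =
        Algebra.TensorProduct.leftAlgebra := by
      apply Algebra.algebra_ext
      intro r
      rfl
    rw [h3]
    exact h2
  · exact F.mapIso e

end Groth.Agent.H4
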