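import Mathlib.Topology.Spectral.Basic
import Mathlib.Topology.Separation.Regular
import Mathlib.Topology.Connected.TotallyDisconnected
import Mathlib.Topology.QuasiSeparated

/-!
# Connected components of spectral spaces

In a compact, quasi-separated, prespectral space the connected component of a point is the
intersection of its clopen neighbourhoods, and the space of connected components is Hausdorff.
-/

set_option autoImplicit false
open Set Topology

namespace Groth.Agent.H4.SpectralCC

variable {X : Type*} [TopologicalSpace X]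

/-- In a compact quasi-separated prespectral space, the connected component of a point equals the
intersection of all its clopen neighbourhoods (Stacks 04PK). -/
theorem connectedComponent_eq_iInter_isClopen [CompactSpace X] [QuasiSeparatedSpace X]
    [PrespectralSpace X] (x : X) :
    connectedComponent x = ⋂ s : { s : Set X // IsClopen s ∧ x ∈ s }, s := by
  apply Subset.antisymm connectedComponent_subset_iInter_isClopen
  refine IsPreconnected.subset_connectedComponent ?_ (mem_iInter.2 fun s => s.2.2)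
  have hs : @IsClosed X _ (⋂ s : { s : Set X // IsClopen s ∧ x ∈ s }, s) :=
    isClosed_iInter fun s => s.2.1.1
  rw [isPreconnected_iff_subset_of_fully_disjoint_closed hs]
  intro a b ha hb hab ab_disj
  set S : Set X := ⋂ s : { s : Set X // IsClopen s ∧ x ∈ s }, s with hS
  -- compact opens around `S ∩ a` and `S ∩ b`
  have hBc : IsCompact (S ∩ a) := (hs.inter ha).isCompact
  have hCc : IsCompact (S ∩ b) := (hs.inter hb).isCompact
  obtain ⟨u, huc, huo, hBu, hub⟩ := PrespectralSpace.exists_isCompact_and_isOpen_between hBc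
    hb.isOpen_compl (fun y hy => fun hyb => (Set.disjoint_left.1 ab_disj) hy.2 hyb)
  obtain ⟨v, hvc, hvo, hCv, hva⟩ := PrespectralSpace.exists_isCompact_and_isOpen_between hCc
    ha.isOpen_compl (fun y hy => fun hya => (Set.disjoint_left.1 ab_disj) hya hy.2)
  have hSuv : S ⊆ u ∪ v := by
    intro y hy
    rcases hab hy with h | h
    · exact Or.inl (hBu ⟨hy, h⟩)
    · exact Or.inr (hCv ⟨hy, h⟩)
  have huvS : Disjoint (u ∩ v) S := by
    rw [Set.disjoint_left]
    rintro y ⟨hyu, hyv⟩ hyS
    rcases hab hyS with h | h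
    · exact hva hyv h
    · exact hub hyu h
  -- a clopen neighbourhood of `x` contained in `u ∪ v`
  obtain ⟨s1, H1⟩ : ∃ s : Set X, IsClopen s ∧ x ∈ s ∧ s ⊆ u ∪ v := by
    have H1 := (huo.union hvo).isClosed_compl.isCompact.inter_iInter_nonempty
      (fun s : { s : Set X // IsClopen s ∧ x ∈ s } => s) fun s => s.2.1.1
    rw [← not_disjoint_iff_nonempty_inter, imp_not_comm, not_forall] at H1
    obtain ⟨si, H2⟩ := H1 (disjoint_compl_left_iff_subset.2 hSuv)
    refine ⟨⋂ U ∈ si, Subtype.val U, ?_, ?_, ?_⟩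
    · exact isClopen_biInter_finset fun s _ => s.2.1
    · exact mem_iInter₂.2 fun s _ => s.2.2
    · rwa [← disjoint_compl_left_iff_subset, disjoint_iff_inter_eq_empty,
        ← not_nonempty_iff_eq_empty]
  -- a clopen neighbourhood of `x` disjoint from `u ∩ v`
  obtain ⟨s2, H2⟩ : ∃ s : Set X, IsClopen s ∧ x ∈ s ∧ Disjoint (u ∩ v) s := by
    have huv : IsCompact (u ∩ v) := QuasiSeparatedSpace.inter_isCompact u v huo huc hvo hvc
    have H1 := huv.inter_iInter_nonempty
      (fun s : { s : Set X // IsClopen s ∧ x ∈ s } => s) fun s => s.2.1.1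
    rw [← not_disjoint_iff_nonempty_inter, imp_not_comm, not_forall] at H1
    obtain ⟨si, H2⟩ := H1 huvS
    refine ⟨⋂ U ∈ si, Subtype.val U, ?_, ?_, ?_⟩
    · exact isClopen_biInter_finset fun s _ => s.2.1
    · exact mem_iInter₂.2 fun s _ => s.2.2
    · rwa [disjoint_iff_inter_eq_empty, ← not_nonempty_iff_eq_empty]
  -- the clopen `s = s1 ∩ s2` is the disjoint union of `s ∩ u` and `s ∩ v`
  set s : Set X := s1 ∩ s2 with hsdef
  have hsclopen : IsClopen s := H1.1.inter H2.1
  have hxs : x ∈ s := ⟨H1.2.1, H2.2.1⟩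
  have hu' : IsOpen (u ∩ s2) := huo.inter H2.1.isOpen
  have hv' : IsOpen (v ∩ s2) := hvo.inter H2.1.isOpen
  have hdisj : Disjoint (u ∩ s2) (v ∩ s2) := by
    rw [Set.disjoint_left]
    rintro y ⟨hyu, hys2⟩ ⟨hyv, -⟩
    exact (Set.disjoint_left.1 H2.2.2) ⟨hyu, hyv⟩ hys2
  have hcov : s ⊆ (u ∩ s2) ∪ (v ∩ s2) := by
    rintro y ⟨hy1, hy2⟩
    rcases H1.2.2 hy1 with h | h
    · exact Or.inl ⟨h, hy2⟩
    · exact Or.inr ⟨h, hy2⟩
  have K1 := isClopen_inter_of_disjoint_cover_clopen hsclopen hcov hu' hv' hdisj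
  have K2 := isClopen_inter_of_disjoint_cover_clopen hsclopen
    (by rwa [union_comm] at hcov) hv' hu' hdisj.symm
  have hxS : x ∈ S := mem_iInter.2 fun i => i.2.2
  rcases hab hxS with hxa | hxb
  · left
    have hxu : x ∈ u := hBu ⟨hxS, hxa⟩
    have hSsub : S ⊆ s ∩ (u ∩ s2) :=
      iInter_subset (fun s : { s : Set X // IsClopen s ∧ x ∈ s } => s.1)
        ⟨s ∩ (u ∩ s2), K1, ⟨hxs, hxu, H2.2.1⟩⟩
    intro y hy
    rcases hab hy with h | h
    · exact h
    · exact absurd h (hub (hSsub hy).2.1)
  · right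
    have hxv : x ∈ v := hCv ⟨hxS, hxb⟩
    have hSsub : S ⊆ s ∩ (v ∩ s2) :=
      iInter_subset (fun s : { s : Set X // IsClopen s ∧ x ∈ s } => s.1)
        ⟨s ∩ (v ∩ s2), K2, ⟨hxs, hxv, H2.2.1⟩⟩
    intro y hy
    rcases hab hy with h | h
    · exact absurd h (hva (hSsub hy).2.1)
    · exact h

/-- The space of connected components of a spectral space is Hausdorff. -/
theorem t2Space_connectedComponents [CompactSpace X] [QuasiSeparatedSpace X]
    [PrespectralSpace X] : T2Space (ConnectedComponents X) := by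
  refine ⟨ConnectedComponents.surjective_coe.forall₂.2 fun a b ne => ?_⟩
  rw [ConnectedComponents.coe_ne_coe] at ne
  have h := connectedComponent_disjoint ne
  rw [connectedComponent_eq_iInter_isClopen b, disjoint_iff_inter_eq_empty] at h
  obtain ⟨U, V, hU, ha, hb, rfl⟩ : ∃ (U : Set X) (V : Set (ConnectedComponents X)),
      IsClopen U ∧ connectedComponent a ∩ U = ∅ ∧ connectedComponent b ⊆ U ∧ (↑) ⁻¹' V = U := by
    have h :=
      (isClosed_connectedComponent (α := X)).isCompact.elim_finite_subfamily_closed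
        _ (fun s : { s : Set X // IsClopen s ∧ b ∈ s } => s.2.1.1) h
    obtain ⟨fin_a, ha⟩ := h
    set U : Set X := ⋂ (i : { s // IsClopen s ∧ b ∈ s }) (_ : i ∈ fin_a), i
    have hU : IsClopen U := isClopen_biInter_finset fun i _ => i.2.1
    exact ⟨U, (↑) '' U, hU, ha, subset_iInter₂ fun s _ => s.2.1.connectedComponent_subset s.2.2,
      (connectedComponents_preimage_image U).symm ▸ hU.biUnion_connectedComponent_eq⟩
  rw [ConnectedComponents.isQuotientMap_coe.isClopen_preimage] at hU
  refine ⟨Vᶜ, V, hU.compl.isOpen, hU.isOpen, ?_, hb mem_connectedComponent, disjoint_compl_left⟩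
  exact fun h => flip Set.Nonempty.ne_empty ha ⟨a, mem_connectedComponent, h⟩

end Groth.Agent.H4.SpectralCC
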