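import Groth.Prelude.Def_ProEtS
import Mathlib.CategoryTheory.Adjunction.Triple
import Mathlib.CategoryTheory.Adjunction.Unique

/-!
# Restriction of abelian pro-étale sheaves along a weakly étale monomorphism
-/

set_option autoImplicit false
universe u

open CategoryTheory CategoryTheory.Limits AlgebraicGeometry Opposite ProEtS

namespace Groth.Agent.H4.ProEtRestr

variable {U X : Scheme.{u}} (j : U ⟶ X) [hj : WeaklyEtale j]

/-- The adjunction `compP j ⊣ bcP j`. -/
noncomputable def compBcAdj : compP j ⊣ bcP j :=
  MorphismProperty.Over.mapPullbackAdj (@WeaklyEtale) ⊤ j hj trivial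

set_option backward.isDefEq.respectTransparency.types false in
instance full_compP [Mono j] : (compP j).Full where
  map_surjective {V W} g := by
    have e : ((g.left : V.left ⟶ W.left) ≫ W.hom) ≫ j = V.hom ≫ j := by
      rw [Category.assoc]; exact MorphismProperty.Over.w g
    exact ⟨MorphismProperty.Over.homMk g.left ((cancel_mono j).1 e), MorphismProperty.Over.Hom.ext rfl⟩

set_option backward.isDefEq.respectTransparency.types false in
instance faithful_compP : (compP j).Faithful where
  map_injective {_ _} _ _ h :=
    MorphismProperty.Over.Hom.ext (congrArg (fun k => k.left) h :)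

variable [JPCont j] [PCont j]

/-- The adjunction `restrP j ⊣ pushP j`. -/
noncomputable def restrPushAdj : restrP j ⊣ pushP j :=
  (compBcAdj j).sheafPushforwardContinuous (E := AddCommGrpCat.{u + 1})
    (Scheme.ProEt.topology U) (Scheme.ProEt.topology X)

/-- For weakly étale `j`, the inverse image `pullP j` is restriction along `compP j`. -/
noncomputable def pullRestrIso : pullP j ≅ restrP j :=
  (pullPushAdjP j).leftAdjointUniq (restrPushAdj j)

section Mono

variable [Mono j]

instance isIso_compBcAdj_unit : IsIso (compBcAdj j).unit :=
  (compBcAdj j).unit_isIso_of_L_fully_faithful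

set_option backward.isDefEq.respectTransparency.types false in
instance isIso_restrPushAdj_counit_app (F : AbP U) : IsIso ((restrPushAdj j).counit.app F) := by
  have h : IsIso ((sheafToPresheaf _ _).map ((restrPushAdj j).counit.app F)) := by
    change IsIso (((compBcAdj j).op.whiskerLeft _).counit.app F.obj)
    rw [NatTrans.isIso_iff_isIso_app]
    intro V
    rw [Adjunction.whiskerLeft_counit_app_app]
    change IsIso (F.obj.map ((compBcAdj j).unit.app V.unop).op)
    infer_instance
  exact isIso_of_reflects_iso _ (sheafToPresheaf _ _)

instance isIso_restrPushAdj_counit : IsIso (restrPushAdj j).counit :=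
  NatIso.isIso_of_isIso_app _

instance isIso_extZeroPAdj_unit : IsIso (extZeroPAdj j).unit :=
  (Adjunction.Triple.isIso_unit_iff_isIso_counit
    (⟨extZeroPAdj j, restrPushAdj j⟩ : Adjunction.Triple (extZeroP j) (restrP j) (pushP j))).2
    inferInstance

theorem isIso_pullPushAdjP_counit_app (F : AbP U) :
    IsIso ((pullPushAdjP j).counit.app F) := by
  have := Adjunction.leftAdjointUniq_hom_app_counit (pullPushAdjP j) (restrPushAdj j) F
  rw [← this]
  infer_instance

end Mono

end Groth.Agent.H4.ProEtRestr
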