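import Mathlib

/-!
# Acyclicity of direct images by dimension shifting (helper4)

Abstract setting: `adj : L ⊣ R` between abelian categories with `R` preserving injectives
(e.g. `L` exact), a class `T` of test objects of the target `B` which detects epimorphisms.
If `G` satisfies `Ext^q(L t, G) = 0` for all `t ∈ T`, `q > 0`, then
`Ext^q(t, R G) = 0` for all `t ∈ T`, `q > 0`  (`ext_eq_zero`).
-/

set_option autoImplicit false
universe w w' v v' u u'
open CategoryTheory CategoryTheory.Limits Abelian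

namespace Groth.Agent.H4.AcycPush

variable {A : Type u} [Category.{v} A] [Abelian A] [HasExt.{w} A] [EnoughInjectives A]
  {B : Type u'} [Category.{v'} B] [Abelian B] [HasExt.{w'} B]
  {L : B ⥤ A} {R : A ⥤ B} (adj : L ⊣ R) [R.Additive] [R.PreservesInjectiveObjects]
  [PreservesFiniteLimits R]
  (T : B → Prop)

/-- `G` is acyclic with respect to the test objects `L t`, `t ∈ T`. -/
def Acyc (L : B ⥤ A) (T : B → Prop) (G : A) : Prop :=
  ∀ t, T t → ∀ q : ℕ, 0 < q → ∀ e : Ext.{w} (L.obj t) G q, e = 0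

omit [EnoughInjectives A] in
lemma acyc_X₃ (S : ShortComplex A) (hS : S.ShortExact) [Injective S.X₂]
    (h₁ : Acyc L T S.X₁) : Acyc L T S.X₃ := by
  intro t ht q hq e
  have h0 : e.comp hS.extClass (rfl : q + 1 = q + 1) = 0 := h₁ t ht (q + 1) (by omega) _
  obtain ⟨x₂, rfl⟩ := Ext.covariant_sequence_exact₃ _ hS e rfl h0
  obtain ⟨q', rfl⟩ : ∃ q', q = q' + 1 := ⟨q - 1, by omega⟩
  rw [Ext.eq_zero_of_injective x₂, Ext.zero_comp]

include adj in
omit [EnoughInjectives A] [R.Additive] [R.PreservesInjectiveObjects] [PreservesFiniteLimits R]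
  [HasExt.{w'} B] in
lemma exists_lift (S : ShortComplex A) (hS : S.ShortExact)
    (h₁ : Acyc L T S.X₁) (t : B) (ht : T t) (s : t ⟶ R.obj S.X₃) :
    ∃ s' : t ⟶ R.obj S.X₂, s' ≫ R.map S.g = s := by
  let s₀ : L.obj t ⟶ S.X₃ := (adj.homEquiv t S.X₃).symm s
  have h0 : (Ext.mk₀ s₀).comp hS.extClass (zero_add 1) = 0 := h₁ t ht 1 (by omega) _
  obtain ⟨x₂, hx₂⟩ := Ext.covariant_sequence_exact₃ _ hS (Ext.mk₀ s₀) (zero_add 1) h0
  obtain ⟨u, rfl⟩ := (Ext.mk₀_bijective _ _).2 x₂
  rw [Ext.mk₀_comp_mk₀] at hx₂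
  have hu : u ≫ S.g = s₀ := (Ext.mk₀_bijective _ _).1 hx₂
  refine ⟨adj.homEquiv t S.X₂ u, ?_⟩
  rw [← Adjunction.homEquiv_naturality_right, hu, Equiv.apply_symm_apply]

variable (hT : ∀ {M N : B} (φ : M ⟶ N),
  (∀ t, T t → ∀ s : t ⟶ N, ∃ s' : t ⟶ M, s' ≫ φ = s) → Epi φ)

include adj hT in
omit [EnoughInjectives A] [R.PreservesInjectiveObjects] [HasExt.{w'} B] in
lemma map_shortExact (S : ShortComplex A) (hS : S.ShortExact)
    (h₁ : Acyc L T S.X₁) : (S.map R).ShortExact := by
  have := hS.mono_f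
  have hex : (S.map R).Exact :=
    hS.exact.map_of_mono_of_preservesKernel R hS.mono_f inferInstance
  have hm : Mono (S.map R).f := by
    change Mono (R.map S.f)
    infer_instance
  have he : Epi (S.map R).g := hT _ (fun t ht s => exists_lift adj T S hS h₁ t ht s)
  exact ShortComplex.ShortExact.mk' hex hm he

include adj hT in
/-- Dimension shifting: `Ext^{q+1}(t, R G) = 0` for `G` acyclic and `t ∈ T`. -/
theorem ext_eq_zero (q : ℕ) (G : A) (hG : Acyc L T G) (t : B) (ht : T t)
    (e : Ext.{w'} t (R.obj G) (q + 1)) : e = 0 := by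
  induction q generalizing G with
  | zero =>
    let I : InjectivePresentation G := Classical.arbitrary _
    let S := ShortComplex.mk _ _ (cokernel.condition I.f)
    have : Injective (S.map R).X₂ := Functor.PreservesInjectiveObjects.injective_obj I.injective
    have : Injective S.X₂ := I.injective
    have hS : S.ShortExact := { exact := ShortComplex.exact_cokernel I.f }
    have hRS := map_shortExact adj T hT S hS hG
    obtain ⟨x₃, rfl⟩ := Ext.covariant_sequence_exact₁ t hRS e
      (Ext.eq_zero_of_injective _) (zero_add 1)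
    obtain ⟨u, rfl⟩ := (Ext.mk₀_bijective _ _).2 x₃
    obtain ⟨s', hs'⟩ : ∃ s' : t ⟶ (S.map R).X₂, s' ≫ (S.map R).g = u :=
      exists_lift adj T S hS hG t ht u
    have h1 : Ext.mk₀ u = (Ext.mk₀ s').comp (Ext.mk₀ (S.map R).g)
        (add_zero 0) := by
      rw [Ext.mk₀_comp_mk₀]
      exact congrArg _ hs'.symm
    rw [h1, Ext.comp_assoc_of_second_deg_zero, ShortComplex.ShortExact.comp_extClass,
      Ext.comp_zero]
    rfl
  | succ q ih =>
    let I : InjectivePresentation G := Classical.arbitrary _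
    let S := ShortComplex.mk _ _ (cokernel.condition I.f)
    have : Injective (S.map R).X₂ := Functor.PreservesInjectiveObjects.injective_obj I.injective
    have : Injective S.X₂ := I.injective
    have hS : S.ShortExact := { exact := ShortComplex.exact_cokernel I.f }
    have hRS := map_shortExact adj T hT S hS hG
    obtain ⟨x₃, rfl⟩ := Ext.covariant_sequence_exact₁ t hRS e
      (Ext.eq_zero_of_injective _) (rfl : q + 1 + 1 = q + 1 + 1)
    have h3 : Acyc L T S.X₃ := acyc_X₃ T S hS hG
    have : x₃ = 0 := ih S.X₃ h3 x₃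
    rw [this]
    exact Ext.zero_comp _ _ _ _ _

end Groth.Agent.H4.AcycPush
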