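import Mathlib

/-!
# Acyclicity of direct images by dimension shifting, indexed version (helper4)

`R : A ⥤ B` additive, left exact, preserving injectives; families of test objects `t i : B`,
`s i : A` with bijections `(s i ⟶ X) ≃ (t i ⟶ R X)` natural in `X`; the `t i` detect epimorphisms.
If `Ext^q(s i, G) = 0` for all `i`, `q > 0`, then `Ext^q(t i, R G) = 0` for all `i`, `q > 0`.
-/

set_option autoImplicit false
universe w w' v v' u u' u''
open CategoryTheory CategoryTheory.Limits Abelian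

namespace Groth.Agent.H4.AcycPush2

variable {A : Type u} [Category.{v} A] [Abelian A] [HasExt.{w} A]
  {B : Type u'} [Category.{v'} B] [Abelian B] [HasExt.{w'} B]
  {R : A ⥤ B}
  {ι : Type u''} (t : ι → B) (s : ι → A)
  (e : ∀ i (X : A), (s i ⟶ X) ≃ (t i ⟶ R.obj X))
  (he : ∀ i {X Y : A} (a : s i ⟶ X) (φ : X ⟶ Y), e i Y (a ≫ φ) = e i X a ≫ R.map φ)

/-- `G` is acyclic with respect to the test objects `s i`. -/
def Acyc (s : ι → A) (G : A) : Prop :=
  ∀ i (q : ℕ), 0 < q → ∀ x : Ext.{w} (s i) G q, x = 0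

lemma acyc_X₃ (S : ShortComplex A) (hS : S.ShortExact) [Injective S.X₂]
    (h₁ : Acyc s S.X₁) : Acyc s S.X₃ := by
  intro i q hq x
  have h0 : x.comp hS.extClass (rfl : q + 1 = q + 1) = 0 := h₁ i (q + 1) (by omega) _
  obtain ⟨x₂, rfl⟩ := Ext.covariant_sequence_exact₃ _ hS x rfl h0
  obtain ⟨q', rfl⟩ : ∃ q', q = q' + 1 := ⟨q - 1, by omega⟩
  rw [Ext.eq_zero_of_injective x₂, Ext.zero_comp]

include he in
lemma exists_lift (S : ShortComplex A) (hS : S.ShortExact)
    (h₁ : Acyc s S.X₁) (i : ι) (x : t i ⟶ R.obj S.X₃) :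
    ∃ x' : t i ⟶ R.obj S.X₂, x' ≫ R.map S.g = x := by
  let s₀ : s i ⟶ S.X₃ := (e i S.X₃).symm x
  have h0 : (Ext.mk₀ s₀).comp hS.extClass (zero_add 1) = 0 := h₁ i 1 (by omega) _
  obtain ⟨x₂, hx₂⟩ := Ext.covariant_sequence_exact₃ _ hS (Ext.mk₀ s₀) (zero_add 1) h0
  obtain ⟨u, rfl⟩ := (Ext.mk₀_bijective _ _).2 x₂
  rw [Ext.mk₀_comp_mk₀] at hx₂
  have hu : u ≫ S.g = s₀ := (Ext.mk₀_bijective _ _).1 hx₂
  refine ⟨e i S.X₂ u, ?_⟩
  rw [← he, hu, Equiv.apply_symm_apply]

variable [R.Additive] [PreservesFiniteLimits R]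
  (hT : ∀ {M N : B} (φ : M ⟶ N),
    (∀ i (x : t i ⟶ N), ∃ x' : t i ⟶ M, x' ≫ φ = x) → Epi φ)

include he hT in
lemma map_shortExact (S : ShortComplex A) (hS : S.ShortExact)
    (h₁ : Acyc s S.X₁) : (S.map R).ShortExact := by
  have := hS.mono_f
  have hex : (S.map R).Exact :=
    hS.exact.map_of_mono_of_preservesKernel R hS.mono_f inferInstance
  have hm : Mono (S.map R).f := by
    change Mono (R.map S.f)
    infer_instance
  have hep : Epi (S.map R).g := hT _ (fun i x => exists_lift t s e he S hS h₁ i x)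
  exact ShortComplex.ShortExact.mk' hex hm hep

variable [EnoughInjectives A] [R.PreservesInjectiveObjects]

include he hT in
/-- Dimension shifting: `Ext^{q+1}(t i, R G) = 0` for `G` acyclic. -/
theorem ext_eq_zero (q : ℕ) (G : A) (hG : Acyc s G) (i : ι)
    (x : Ext.{w'} (t i) (R.obj G) (q + 1)) : x = 0 := by
  induction q generalizing G with
  | zero =>
    let I : InjectivePresentation G := Classical.arbitrary _
    let S := ShortComplex.mk _ _ (cokernel.condition I.f)
    have : Injective (S.map R).X₂ := Functor.PreservesInjectiveObjects.injective_obj I.injective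
    have : Injective S.X₂ := I.injective
    have hS : S.ShortExact := { exact := ShortComplex.exact_cokernel I.f }
    have hRS := map_shortExact t s e he hT S hS hG
    obtain ⟨x₃, rfl⟩ := Ext.covariant_sequence_exact₁ (t i) hRS x
      (Ext.eq_zero_of_injective _) (zero_add 1)
    obtain ⟨u, rfl⟩ := (Ext.mk₀_bijective _ _).2 x₃
    obtain ⟨s', hs'⟩ : ∃ s' : t i ⟶ (S.map R).X₂, s' ≫ (S.map R).g = u :=
      exists_lift t s e he S hS hG i u
    have h1 : Ext.mk₀ u = (Ext.mk₀ s').comp (Ext.mk₀ (S.map R).g)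
        (add_zero 0) := by
      rw [Ext.mk₀_comp_mk₀]
      exact congrArg _ hs'.symm
    rw [h1, Ext.comp_assoc_of_second_deg_zero, ShortComplex.ShortExact.comp_extClass,
      Ext.comp_zero]
    rfl
  | succ q ih =>
    let I : InjectivePresentation G := Classical.arbitrary _
    let S := ShortComplex.mk _ _ (cokernel.condition I.f)
    have : Injective (S.map R).X₂ := Functor.PreservesInjectiveObjects.injective_obj I.injective
    have : Injective S.X₂ := I.injective
    have hS : S.ShortExact := { exact := ShortComplex.exact_cokernel I.f }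
    have hRS := map_shortExact t s e he hT S hS hG
    obtain ⟨x₃, rfl⟩ := Ext.covariant_sequence_exact₁ (t i) hRS x
      (Ext.eq_zero_of_injective _) (rfl : q + 1 + 1 = q + 1 + 1)
    have h3 : Acyc s S.X₃ := acyc_X₃ s S hS hG
    have : x₃ = 0 := ih S.X₃ h3 x₃
    rw [this]
    exact Ext.zero_comp _ _ _ _ _

end Groth.Agent.H4.AcycPush2
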