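import Mathlib
import Groth.Prelude.Def_BigSite

/-!
# Big sites: the counit `f_big⁻¹ f_big,* F ⟶ F` is an isomorphism for a monomorphism `f`
-/

set_option autoImplicit false
open CategoryTheory CategoryTheory.Limits AlgebraicGeometry Opposite

namespace Groth.Agent.H4.BigMono

universe v u v' u'

section General
variable {C : Type u} [Category.{v} C] [HasPullbacks C]

theorem isIso_lift_of_mono {X Y : C} (f : X ⟶ Y) [Mono f] {A : C} (a : A ⟶ X)
    (h : 𝟙 A ≫ a ≫ f = a ≫ f) : IsIso (pullback.lift (𝟙 A) a h : A ⟶ pullback (a ≫ f) f) := by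
  refine ⟨pullback.fst _ _, pullback.lift_fst _ _ _, ?_⟩
  apply pullback.hom_ext
  · rw [Category.assoc, pullback.lift_fst, Category.comp_id, Category.id_comp]
  · rw [Category.assoc, pullback.lift_snd, Category.id_comp, ← cancel_mono f, Category.assoc]
    exact pullback.condition

theorem isIso_unit_of_mono {X Y : C} (f : X ⟶ Y) [Mono f] (U : Over X) :
    IsIso ((Over.mapPullbackAdj f).unit.app U) := by
  have : IsIso ((Over.forget X).map ((Over.mapPullbackAdj f).unit.app U)) := by
    rw [Over.mapPullbackAdj_unit_app]
    exact isIso_lift_of_mono f U.hom _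
  exact isIso_of_reflects_iso _ (Over.forget X)

end General

universe w

theorem isIso_counit (K : Precoverage Scheme.{w}) {X Y : Scheme.{w}} (f : X ⟶ Y) [Mono f]
    (A : Type u') [Category.{v'} A] (F : Sheaf (QuotSh.J K X) A) :
    IsIso ((BigSite.bigAdj K f A).counit.app F) := by
  have h : IsIso ((sheafToPresheaf _ _).map ((BigSite.bigAdj K f A).counit.app F)) := by
    change IsIso (((Over.mapPullbackAdj f).op.whiskerLeft _).counit.app F.obj)
    rw [NatTrans.isIso_iff_isIso_app]
    intro V
    rw [Adjunction.whiskerLeft_counit_app_app]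
    change IsIso (F.obj.map ((Over.mapPullbackAdj f).unit.app V.unop).op)
    have := isIso_unit_of_mono f V.unop
    infer_instance
  exact isIso_of_reflects_iso _ (sheafToPresheaf _ _)

end Groth.Agent.H4.BigMono
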