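import Mathlib
import Groth.Agent.H4.ExtZero
import Groth.Prelude.Def_BigSite

/-!
# `f_big!` on abelian sheaves of the big sites is exact

Same argument as for extension by zero on the small étale site: the categories of costructured arrows
of `(Over.map f).op` are disjoint unions of categories with a terminal object.
-/

set_option autoImplicit false
open CategoryTheory CategoryTheory.Limits Opposite

namespace Groth.Agent.H4.BigShriek

universe v u

section General

variable {C : Type u} [Category.{v} C] {X Y : C} (f : X ⟶ Y)

/-- the object `X → Y` of `Over Y`. -/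
abbrev Xf : Over Y := Over.mk f

/-- the structure map `(W → X → Y) ⟶ (X → Y)`. -/
def str (W : Over X) : (Over.map f).obj W ⟶ Xf f := Over.homMk W.hom (by simp)

@[simp] theorem str_left (W : Over X) : (str f W).left = W.hom := rfl

theorem map_str {W W' : Over X} (h : W' ⟶ W) : (Over.map f).map h ≫ str f W = str f W' := by
  ext
  simp

/-- the object of `Over X` attached to a `Y`-morphism `V → X`. -/
def Vφ {V : Over Y} (φ : V ⟶ Xf f) : Over X := Over.mk φ.left

def toV {V : Over Y} (φ : V ⟶ Xf f) : V ⟶ (Over.map f).obj (Vφ f φ) :=
  Over.homMk (𝟙 V.left) (by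
    have := Over.w φ
    simp only [Vφ, Over.map_obj_hom, Over.mk_hom, Category.id_comp]
    exact this)

@[simp] theorem toV_left {V : Over Y} (φ : V ⟶ Xf f) : (toV f φ).left = 𝟙 V.left := rfl

variable (V : Over Y)

/-- The indexing category of the pointwise left Kan extension at `V`. -/
abbrev JV : Type (max u v) := CostructuredArrow (Over.map f).op (op V)

/-- the component of an object of `JV`. -/
def comp (c : JV f V) : V ⟶ Xf f := c.hom.unop ≫ str f c.left.unop

theorem comp_eq_of_hom {c c' : JV f V} (g : c ⟶ c') : comp f V c = comp f V c' := by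
  have w := CostructuredArrow.w g
  have w' : c'.hom.unop ≫ (Over.map f).map g.left.unop = c.hom.unop := by
    rw [← w]; rfl
  rw [comp, comp, ← w', Category.assoc, map_str]

/-- The "component" functor. -/
def L : JV f V ⥤ Discrete (V ⟶ Xf f) where
  obj c := ⟨comp f V c⟩
  map g := Discrete.eqToHom (comp_eq_of_hom f V g)

/-- The terminal objects of the components. -/
def R : Discrete (V ⟶ Xf f) ⥤ JV f V :=
  Discrete.functor fun φ => CostructuredArrow.mk (Y := op (Vφ f φ)) (toV f φ).op

theorem comp_R (φ : V ⟶ Xf f) : comp f V ((R f V).obj ⟨φ⟩) = φ := by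
  ext
  change 𝟙 _ ≫ φ.left = φ.left
  exact Category.id_comp _

instance subsingleton_hom_R (c : JV f V) (d : Discrete (V ⟶ Xf f)) :
    Subsingleton (c ⟶ (R f V).obj d) := by
  constructor
  intro m m'
  have key : ∀ m : c ⟶ (R f V).obj d, m.left.unop.left = c.hom.unop.left := by
    intro m
    have w := CostructuredArrow.w m
    have w' : toV f d.as ≫ (Over.map f).map m.left.unop = c.hom.unop := by
      rw [← w]; rfl
    have := congrArg (fun k => k.left) w'
    change 𝟙 _ ≫ m.left.unop.left = c.hom.unop.left at this
    rw [← this, Category.id_comp]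
  apply CostructuredArrow.hom_ext
  apply Quiver.Hom.unop_inj
  apply Over.OverMorphism.ext
  rw [key m, key m']

/-- the unique map from `c` to the terminal object of its component. -/
def toR (c : JV f V) (φ : V ⟶ Xf f) (h : comp f V c = φ) : c ⟶ (R f V).obj ⟨φ⟩ :=
  have e : c.hom.unop.left ≫ c.left.unop.hom = φ.left := by
    rw [← h]; rfl
  CostructuredArrow.homMk
    (Over.homMk (U := Vφ f φ) (V := c.left.unop) c.hom.unop.left e).op
    (by
      apply Quiver.Hom.unop_inj
      apply Over.OverMorphism.ext
      change 𝟙 _ ≫ c.hom.unop.left = c.hom.unop.left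
      exact Category.id_comp _)

/-- The adjunction exhibiting `JV` as a disjoint union of categories with terminal objects. -/
def adj : L f V ⊣ R f V :=
  Adjunction.mkOfHomEquiv
    { homEquiv := fun c d =>
        { toFun := fun h => toR f V c d.as (Discrete.eq_of_hom h)
          invFun := fun m => Discrete.eqToHom
            ((comp_eq_of_hom f V m).trans (comp_R f V d.as))
          left_inv := fun _ => Subsingleton.elim _ _
          right_inv := fun _ => Subsingleton.elim _ _ }
      homEquiv_naturality_left_symm := fun _ _ => Subsingleton.elim _ _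
      homEquiv_naturality_right := fun _ _ => Subsingleton.elim _ _ }

end General

section Schemes
open AlgebraicGeometry

universe w

variable {X Y : Scheme.{w}} (f : X ⟶ Y)

instance hasExactColimitsOfShape_JV (V : (Over Y)ᵒᵖ) :
    HasExactColimitsOfShape (CostructuredArrow (Over.map f).op V) AddCommGrpCat.{w + 1} := by
  have : AB4OfSize.{w} AddCommGrpCat.{w + 1} := AB4OfSize_shrink.{w, w + 1} _
  exact Groth.Agent.H4.ExtZero.hasExactColimitsOfShape_of_discrete_adjoint AddCommGrpCat.{w + 1}
    (adj f V.unop)

instance lan_overMap_preservesFiniteLimits :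
    PreservesFiniteLimits ((Over.map f).op.lan :
      ((Over X)ᵒᵖ ⥤ AddCommGrpCat.{w + 1}) ⥤ (Over Y)ᵒᵖ ⥤ AddCommGrpCat.{w + 1}) :=
  Groth.Agent.H4.ExtZero.lan_preservesFiniteLimits_of_exact AddCommGrpCat.{w + 1} (Over.map f).op

/-- `f_big!` on abelian sheaves is (left) exact, for any precoverage `K`. -/
theorem shriekAb_preservesFiniteLimits (K : Precoverage Scheme.{w}) :
    PreservesFiniteLimits (BigSite.shriekAb K f) :=
  Functor.sheafPullbackConstruction.preservesFiniteLimits (Over.map f) AddCommGrpCat.{w + 1}
    (QuotSh.J K X) (QuotSh.J K Y)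

end Schemes

end Groth.Agent.H4.BigShriek
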