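import Mathlib
import Groth.Agent.H4.ExtZero
import Groth.Agent.H4.BigShriek
import Groth.Prelude.Def_BigSite

/-!
# Restriction from the big site to the small étale site: exact left adjoint, preservation of injectives
-/

set_option autoImplicit false
open CategoryTheory CategoryTheory.Limits AlgebraicGeometry Opposite

namespace Groth.Agent.H4.BigRes

universe u

variable (K : Precoverage Scheme.{u}) (S : Scheme.{u})

set_option backward.isDefEq.respectTransparency.types false in
noncomputable instance preservesFiniteLimits_a : PreservesFiniteLimits (EtFppf.a S) :=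
  inferInstanceAs (PreservesFiniteLimits (MorphismProperty.Over.forget EtCoh.etaleMP.{u} ⊤ S))

noncomputable instance representablyFlat_a : RepresentablyFlat (EtFppf.a S) :=
  flat_of_preservesFiniteLimits _

/-- `π_S⁻¹` is exact. -/
instance piEtPull_preservesFiniteLimits [BigSite.AEtCont K S] :
    PreservesFiniteLimits (BigSite.piEtPull K S) := by
  have hfilt : ∀ V : (Over S)ᵒᵖ, IsFiltered (CostructuredArrow (EtFppf.a S).op V) := fun V =>
    IsFiltered.of_equivalence (structuredArrowOpEquivalence (EtFppf.a S) (unop V))
  have hAB5 : AB5OfSize.{u, u + 1} AddCommGrpCat.{u + 1} :=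
    AB5OfSize_of_univLE.{u, u + 1, u + 1, u + 1} AddCommGrpCat.{u + 1}
  have hex : ∀ V : (Over S)ᵒᵖ,
      HasExactColimitsOfShape (CostructuredArrow (EtFppf.a S).op V) AddCommGrpCat.{u + 1} :=
    fun V => inferInstance
  have : PreservesFiniteLimits ((EtFppf.a S).op.lan :
      ((S.Etale)ᵒᵖ ⥤ AddCommGrpCat.{u + 1}) ⥤ (Over S)ᵒᵖ ⥤ AddCommGrpCat.{u + 1}) :=
    Groth.Agent.H4.ExtZero.lan_preservesFiniteLimits_of_exact AddCommGrpCat.{u + 1} (EtFppf.a S).op
  exact Functor.sheafPullbackConstruction.preservesFiniteLimits (EtFppf.a S) AddCommGrpCat.{u + 1}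
    S.smallEtaleTopology (QuotSh.J K S)

/-- restriction to the small étale site preserves injectives. -/
theorem injective_resEt [BigSite.AEtCont K S] (I : BigSite.Ab K S) [Injective I] :
    Injective ((BigSite.resEt K S).obj I) :=
  (BigSite.piEtAdj K S).map_injective I inferInstance

/-- `f_big⁻¹` preserves injectives. -/
theorem injective_pullBig {S T : Scheme.{u}} (f : T ⟶ S) (I : BigSite.Ab K S) [Injective I] :
    Injective ((BigSite.pullBig K f AddCommGrpCat.{u + 1}).obj I) := by
  have := Groth.Agent.H4.BigShriek.shriekAb_preservesFiniteLimits f K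
  exact (BigSite.shriekAbAdj K f).map_injective I inferInstance

theorem injective_resEtAlong {S T : Scheme.{u}} (f : T ⟶ S) [BigSite.AEtCont K T]
    (I : BigSite.Ab K S) [Injective I] :
    Injective ((BigSite.resEtAlong K f).obj I) := by
  have := injective_pullBig K f I
  exact injective_resEt K T _

end Groth.Agent.H4.BigRes
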