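import Mathlib
import Groth.Prelude.Def_BigSite


set_option autoImplicit false
open CategoryTheory CategoryTheory.Limits AlgebraicGeometry Opposite

universe v v' u u' w

namespace Groth.Agent.H4.UnitIso

section General

variable {C : Type u} [Category.{v} C] {D : Type u'} [Category.{v'} D]
  (G : C ⥤ D) (A : Type w) [Category.{max u v} A]
  (J : GrothendieckTopology C) (K : GrothendieckTopology D)
  [G.IsContinuous J K] [G.IsCocontinuous J K] [G.Full] [G.Faithful]
  [∀ (X : Dᵒᵖ), HasLimitsOfShape (StructuredArrow X G.op) A]

theorem isIso_counit_cocontinuous (F : Sheaf J A) :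
    IsIso ((G.sheafAdjunctionCocontinuous A J K).counit.app F) := by
  have : IsIso ((sheafToPresheaf J A).map ((G.sheafAdjunctionCocontinuous A J K).counit.app F)) := by
    have h := Functor.sheafAdjunctionCocontinuous_counit_app_hom (G := G) (A := A) (J := J) (K := K) F
    change IsIso ((G.sheafAdjunctionCocontinuous A J K).counit.app F).hom
    rw [h]
    exact Functor.instIsIsoAppCounitRanAdjunctionOfHasPointwiseRightKanExtension (L := G.op) (H := A) F.obj
  exact isIso_of_reflects_iso _ (sheafToPresheaf J A)

/-- For a fully faithful, continuous and cocontinuous functor, the unit of `G^* ⊣ G_*` is an iso. -/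
theorem isIso_unit_continuous {L : Sheaf J A ⥤ Sheaf K A}
    (adj : L ⊣ G.sheafPushforwardContinuous A J K) (F : Sheaf J A) :
    IsIso (adj.unit.app F) := by
  let t : Adjunction.Triple L (G.sheafPushforwardContinuous A J K)
      (G.sheafPushforwardCocontinuous A J K) :=
    ⟨adj, G.sheafAdjunctionCocontinuous A J K⟩
  have h2 : IsIso t.adj₂.counit := by
    have : ∀ F, IsIso (t.adj₂.counit.app F) := fun F => isIso_counit_cocontinuous G A J K F
    exact NatIso.isIso_of_isIso_app _
  have h1 : IsIso t.adj₁.unit := t.isIso_unit_iff_isIso_counit.2 h2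
  exact (inferInstance : IsIso (t.adj₁.unit.app F))

end General

section Etale

variable (X : Scheme.{u})

instance full_a : (EtFppf.a X).Full := inferInstanceAs (Scheme.Etale.forget X).Full
instance faithful_a : (EtFppf.a X).Faithful := inferInstanceAs (Scheme.Etale.forget X).Faithful

/-- The unit `G ⟶ π_{X,*} π_X⁻¹ G` is an isomorphism (abelian sheaves, étale topology). -/
theorem isIso_unit_piEtAdj (G : EtCoh.Ab X) :
    IsIso ((BigSite.piEtAdj Scheme.etalePrecoverage X).unit.app G) :=
  isIso_unit_continuous (EtFppf.a X) AddCommGrpCat.{u + 1} X.smallEtaleTopology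
    (QuotSh.J Scheme.etalePrecoverage X) (BigSite.piEtAdj Scheme.etalePrecoverage X) G

end Etale

end Groth.Agent.H4.UnitIso
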