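import Mathlib
import Groth.Prelude.Def_BigSite
import Groth.Prelude.Def_EtCore
import Groth.Agent.H4.UnitIso
import Groth.Agent.H4.ExtAdj
import Groth.Agent.H4.BigRes

set_option autoImplicit false
open CategoryTheory CategoryTheory.Limits AlgebraicGeometry Opposite

universe u

namespace Groth.Agent.H4.BigSmallCoh

open Abelian

section ExtCongr
universe w v' u'
variable {C : Type u'} [Category.{v'} C] [Abelian C] [HasExt.{w} C]

/-- `Ext` is invariant under isomorphisms in both variables. -/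
noncomputable def extCongr {A A' B B' : C} (eA : A ≅ A') (eB : B ≅ B') (n : ℕ) :
    Ext.{w} A B n ≃+ Ext.{w} A' B' n where
  toFun x := (Ext.mk₀ eA.inv).comp (x.comp (Ext.mk₀ eB.hom) (add_zero n)) (zero_add n)
  invFun y := (Ext.mk₀ eA.hom).comp (y.comp (Ext.mk₀ eB.inv) (add_zero n)) (zero_add n)
  left_inv x := by
    simp
  right_inv y := by
    simp
  map_add' x y := by
    simp [Ext.add_comp, Ext.comp_add]

end ExtCongr

section PushRes

variable (K : Precoverage Scheme.{u}) {T S : Scheme.{u}} (f : T ⟶ S)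
  [BigSite.AEtCont K S] [BigSite.AEtCont K T]

/-- `f_{big,*}` then restriction to `S_et` is restriction to `T_et` then `f_{small,*}`. -/
noncomputable def pushResIso :
    BigSite.pushBig K f AddCommGrpCat.{u + 1} ⋙ BigSite.resEt K S ≅
      BigSite.resEt K T ⋙ EtCoh.push f := by
  have hL : (EtFppf.a S ⋙ Over.pullback f).IsContinuous S.smallEtaleTopology (QuotSh.J K T) :=
    Functor.isContinuous_comp (EtFppf.a S) (Over.pullback f) S.smallEtaleTopology (QuotSh.J K S)
      (QuotSh.J K T)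
  have hR : (EtCoh.bc f ⋙ EtFppf.a T).IsContinuous S.smallEtaleTopology (QuotSh.J K T) :=
    Functor.isContinuous_comp (EtCoh.bc f) (EtFppf.a T) S.smallEtaleTopology
      T.smallEtaleTopology (QuotSh.J K T)
  let e0 : EtCoh.bc f ⋙ EtFppf.a T ≅ EtFppf.a S ⋙ Over.pullback f :=
    MorphismProperty.Over.pullbackCompForgetIso (P := EtCoh.etaleMP) (Q := ⊤) f
  have iL : BigSite.pushBig K f AddCommGrpCat.{u + 1} ⋙ BigSite.resEt K S ≅
      (EtFppf.a S ⋙ Over.pullback f).sheafPushforwardContinuous AddCommGrpCat.{u + 1}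
        S.smallEtaleTopology (QuotSh.J K T) := Iso.refl _
  have iR : BigSite.resEt K T ⋙ EtCoh.push f ≅
      (EtCoh.bc f ⋙ EtFppf.a T).sheafPushforwardContinuous AddCommGrpCat.{u + 1}
        S.smallEtaleTopology (QuotSh.J K T) := Iso.refl _
  exact iL ≪≫ Functor.sheafPushforwardContinuousIso e0.symm _ _ _ ≪≫ iR.symm

/-- `f_big⁻¹ π_S⁻¹ ≅ π_T⁻¹ f_small⁻¹`. -/
noncomputable def pullPiIso :
    BigSite.piEtPull K S ⋙ BigSite.pullBig K f AddCommGrpCat.{u + 1} ≅
      EtCoh.pull f ⋙ BigSite.piEtPull K T :=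
  Adjunction.leftAdjointUniq
    ((BigSite.piEtAdj K S).comp (BigSite.bigAdj K f AddCommGrpCat.{u + 1}))
    (((EtCoh.pullPushAdj f).comp (BigSite.piEtAdj K T)).ofNatIsoRight (pushResIso K f).symm)

end PushRes

section Const

variable (K : Precoverage Scheme.{u}) (T : Scheme.{u}) [BigSite.AEtCont K T]

/-- Global sections on the big site. -/
noncomputable abbrev gsecBig : BigSite.Ab K T ⥤ AddCommGrpCat.{u + 1} :=
  (sheafSections (QuotSh.J K T) AddCommGrpCat.{u + 1}).obj (op (Over.mk (𝟙 T)))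

noncomputable abbrev constAdjBig :
    constantSheaf (QuotSh.J K T) AddCommGrpCat.{u + 1} ⊣ gsecBig K T :=
  constantSheafAdj (QuotSh.J K T) AddCommGrpCat.{u + 1} Over.mkIdTerminal

noncomputable def resGsecIso : BigSite.resEt K T ⋙ EtCore.gsec T ≅ gsecBig K T :=
  Iso.refl _

/-- `π_T⁻¹` of a constant sheaf is constant. -/
noncomputable def piConstIso :
    constantSheaf T.smallEtaleTopology AddCommGrpCat.{u + 1} ⋙ BigSite.piEtPull K T ≅
      constantSheaf (QuotSh.J K T) AddCommGrpCat.{u + 1} :=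
  Adjunction.leftAdjointUniq
    (((EtCore.constAdj T).comp (BigSite.piEtAdj K T)).ofNatIsoRight (resGsecIso K T))
    (constAdjBig K T)

end Const

section Coh

variable (K : Precoverage Scheme.{u}) (T : Scheme.{u}) [BigSite.AEtCont K T] [BigSite.AEtCocont K T]

instance resEt_preservesFiniteLimits : PreservesFiniteLimits (BigSite.resEt K T) := by
  have : PreservesLimitsOfSize.{0, 0} (BigSite.resEt K T) :=
    (BigSite.piEtAdj K T).rightAdjoint_preservesLimits
  exact PreservesLimitsOfSize.preservesFiniteLimits _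

instance resEt_preservesFiniteColimits : PreservesFiniteColimits (BigSite.resEt K T) := by
  have : PreservesColimitsOfSize.{0, 0} (BigSite.resEt K T) :=
    (BigSite.iEtAdj K T).leftAdjoint_preservesColimits
  exact PreservesColimitsOfSize.preservesFiniteColimits _

instance resEt_preservesInjectiveObjects : (BigSite.resEt K T).PreservesInjectiveObjects :=
  ⟨fun {I} hI => by have := hI; exact Groth.Agent.H4.BigRes.injective_resEt K T I⟩

/-- `H^n(big T, π_T⁻¹ G) ≃+ H^n(T_et, G)`. -/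
noncomputable def bigSmallH (G : EtCoh.Ab T) (n : ℕ) :
    BigSite.H K T ((BigSite.piEtPull K T).obj G) n ≃+ EtCoh.H T G n := by
  have hu : IsIso ((BigSite.piEtAdj K T).unit.app G) :=
    Groth.Agent.H4.UnitIso.isIso_unit_continuous (EtFppf.a T) AddCommGrpCat.{u + 1}
      T.smallEtaleTopology (QuotSh.J K T) (BigSite.piEtAdj K T) G
  let Z := (constantSheaf T.smallEtaleTopology AddCommGrpCat.{u + 1}).obj
    (AddCommGrpCat.of (ULift ℤ))
  let e1 : BigSite.H K T ((BigSite.piEtPull K T).obj G) n ≃+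
      Ext.{u + 1} ((BigSite.piEtPull K T).obj Z) ((BigSite.piEtPull K T).obj G) n :=
    extCongr ((piConstIso K T).app (AddCommGrpCat.of (ULift ℤ))).symm (Iso.refl _) n
  let e2 : Ext.{u + 1} ((BigSite.piEtPull K T).obj Z) ((BigSite.piEtPull K T).obj G) n ≃+
      Ext.{u + 1} Z ((BigSite.resEt K T).obj ((BigSite.piEtPull K T).obj G)) n :=
    Groth.Agent.H4.ExtAdj.phiEquiv (BigSite.piEtAdj K T) Z _ n
  let e3 : Ext.{u + 1} Z ((BigSite.resEt K T).obj ((BigSite.piEtPull K T).obj G)) n ≃+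
      EtCoh.H T G n :=
    extCongr (Iso.refl _) (asIso ((BigSite.piEtAdj K T).unit.app G)).symm n
  exact e1.trans (e2.trans e3)

/-- `H^n((T → S)_big, π_S⁻¹ F) ≃+ H^n(T_et, f⁻¹ F)`. -/
noncomputable def HUEquiv {S : Scheme.{u}} [BigSite.AEtCont K S] (f : T ⟶ S) (F : EtCoh.Ab S) (n : ℕ) :
    BigSite.HU K ((BigSite.piEtPull K S).obj F) n (Over.mk f) ≃+
      EtCoh.H T ((EtCoh.pull f).obj F) n :=
  (extCongr (Iso.refl _) ((pullPiIso K f).app F) n).trans (bigSmallH K T ((EtCoh.pull f).obj F) n)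

end Coh

end Groth.Agent.H4.BigSmallCoh
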