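import Groth.Agent.H4.ClosedStalk
import Groth.Agent.S0069
import Groth.Agent.S0067
import Groth.Agent.S0068
set_option autoImplicit false
open CategoryTheory CategoryTheory.Limits AlgebraicGeometry Opposite
universe u
open EtCoh Groth.Agent.H4.Stalks Groth.Agent.H4.StalkPull

namespace Groth.Agent.H4.ClosedStalk

/-- a sheaf all of whose stalks vanish is zero. -/
theorem isZero_of_stalks {X : Scheme.{u}} (F : Ab X)
    (h : ∀ s : X, IsZero ((stalk (Groth.Agent.H4.Stalks.geomPt s)).obj F)) : IsZero F := by
  rw [IsZero.iff_id_eq_zero]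
  apply hom_eq_zero_of_stalks
  intro s
  exact (h s).eq_of_src _ _

/-- the unit `F ⟶ f_* f⁻¹ F` is a (split) monomorphism on stalks at points coming from the source. -/
theorem mono_stalk_unit {Z X : Scheme.{u}} (f : Z ⟶ X) {Ω : Type u} [Field Ω] [IsSepClosed Ω]
    (ζ : Spec (CommRingCat.of Ω) ⟶ Z) (F : Ab X) :
    Mono ((stalk (ζ ≫ f)).map ((pullPushAdj f).unit.app F)) := by
  have h := stalk_unit_comp_kappa f ζ F
  have : Mono ((stalk (ζ ≫ f)).map ((pullPushAdj f).unit.app F) ≫ kappa f ζ ((pull f).obj F)) := by
    rw [h]; infer_instance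
  exact mono_of_mono _ (kappa f ζ ((pull f).obj F))

/-- `j⁻¹ i_* B = 0` when the images of `i` (closed immersion) and `j` are disjoint. -/
theorem isZero_pull_push_of_disjoint {Z X U : Scheme.{u}} (i : Z ⟶ X) [IsClosedImmersion i]
    (j : U ⟶ X) (hd : Disjoint (Set.range j.base) (Set.range i.base)) (B : Ab Z) :
    IsZero ((pull j).obj ((push i).obj B)) := by
  apply isZero_of_stalks
  intro s
  refine IsZero.of_iso ?_ ((stalkPullIso j (Groth.Agent.H4.Stalks.geomPt s)).app ((push i).obj B)).symm
  apply Groth.Agent.S0069.result i B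
  rw [Set.disjoint_left]
  rintro _ ⟨a, rfl⟩ h
  exact Set.disjoint_left.1 hd ⟨(Groth.Agent.H4.Stalks.geomPt s) a, rfl⟩ h

section Supp

variable {Z X U : Scheme.{u}} (i : Z ⟶ X) [IsClosedImmersion i]
    (j : U ⟶ X) [IsOpenImmersion j] (hZU : Set.range j = (Set.range i)ᶜ)

omit [IsClosedImmersion i] in
include hZU in
/-- the sheaf of sections supported on `Z` vanishes on étale schemes missing `Z`. -/
theorem isZero_kernel_unit_sections (I : Ab X) (V : X.Etale)
    (hV : Disjoint (Set.range V.hom.base) (Set.range i.base)) :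
    IsZero ((kernel ((pullPushAdj j).unit.app I)).obj.obj (op V)) := by
  suffices h : ∀ σ : (kernel ((pullPushAdj j).unit.app I)).obj.obj (op V), σ = 0 by
    have : Subsingleton ((kernel ((pullPushAdj j).unit.app I)).obj.obj (op V)) :=
      ⟨fun a b => (h a).trans (h b).symm⟩
    exact AddCommGrpCat.isZero_of_subsingleton _
  intro σ
  apply eq_zero_of_germs
  intro p
  obtain ⟨x, hx⟩ := Fib.exists_of_point (ξ := Groth.Agent.H4.Stalks.geomPt (V.hom p)) V p
    (by rw [geomPt_default])
  refine ⟨_, inferInstance, inferInstance, _, x, hx, ?_⟩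
  -- the stalk of the kernel vanishes
  have hr : Set.range (Groth.Agent.H4.Stalks.geomPt (V.hom p)).base ⊆ Set.range j.base := by
    rintro _ ⟨a, rfl⟩
    rw [Subsingleton.elim a default, hZU]
    have := geomPt_default (V.hom p)
    rw [show (Groth.Agent.H4.Stalks.geomPt (V.hom p)).base default = V.hom p from this]
    intro h
    exact Set.disjoint_left.1 hV ⟨p, rfl⟩ h
  have hz : IsZero ((stalk (Groth.Agent.H4.Stalks.geomPt (V.hom p))).obj
      (kernel ((pullPushAdj j).unit.app I))) := by
    generalize Groth.Agent.H4.Stalks.geomPt (V.hom p) = ξ at hr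
    obtain ⟨u, rfl⟩ : ∃ u, u ≫ j = ξ := ⟨IsOpenImmersion.lift j ξ hr, IsOpenImmersion.lift_fac _ _ _⟩
    have hm := mono_stalk_unit j u I
    have h0 : (stalk (u ≫ j)).map (kernel.ι ((pullPushAdj j).unit.app I)) ≫
        (stalk (u ≫ j)).map ((pullPushAdj j).unit.app I) = 0 := by
      rw [← Functor.map_comp, kernel.condition, Functor.map_zero]
    have h1 : (stalk (u ≫ j)).map (kernel.ι ((pullPushAdj j).unit.app I)) = 0 := by
      rw [← cancel_mono ((stalk (u ≫ j)).map ((pullPushAdj j).unit.app I)), h0, zero_comp]
    exact IsZero.of_mono_eq_zero _ h1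
  have := AddCommGrpCat.subsingleton_of_isZero hz
  exact Subsingleton.elim _ _

include hZU in
/-- for an injective sheaf `I`, the sheaf of sections supported on `Z`, pulled back to `Z`,
is injective. -/
theorem injective_pull_kernel (I : Ab X) [Injective I] :
    Injective ((pull i).obj (kernel ((pullPushAdj j).unit.app I))) := by
  obtain ⟨G, ⟨e⟩⟩ : (push i).essImage (kernel ((pullPushAdj j).unit.app I)) :=
    (Groth.Agent.S0068.result i _).2 (fun V hV => isZero_kernel_unit_sections i j hZU I V hV)
  obtain ⟨hfull, hfaith⟩ := Groth.Agent.S0067.result i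
  have hG : Injective G := by
    constructor
    intro A B a m _
    have : Mono ((push i).map m) := inferInstance
    obtain ⟨h, hh⟩ := Injective.factors
      ((push i).map a ≫ e.hom ≫ kernel.ι ((pullPushAdj j).unit.app I)) ((push i).map m)
    have hz : h ≫ (pullPushAdj j).unit.app I = 0 := by
      have nat := (pullPushAdj j).unit.naturality h
      have hzero : IsZero ((pull j).obj ((push i).obj B)) :=
        isZero_pull_push_of_disjoint i j (by
          have : Set.range j.base = (Set.range i.base)ᶜ := hZU
          rw [this]; exact disjoint_compl_left) B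
      have h0 : (pullPushAdj j).unit.app ((push i).obj B) = 0 :=
        ((push j).map_isZero hzero).eq_of_tgt _ _
      have nat' : h ≫ (pullPushAdj j).unit.app I =
          (pullPushAdj j).unit.app ((push i).obj B) ≫ (push j).map ((pull j).map h) := nat
      rw [nat', h0, zero_comp]
    have hk : kernel.lift _ h hz ≫ kernel.ι ((pullPushAdj j).unit.app I) = h := kernel.lift_ι _ _ _
    have h2 : (push i).map m ≫ kernel.lift _ h hz = (push i).map a ≫ e.hom := by
      rw [← cancel_mono (kernel.ι ((pullPushAdj j).unit.app I)), Category.assoc, hk, hh,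
        Category.assoc]
    obtain ⟨b, hb⟩ := (push i).map_surjective (kernel.lift _ h hz ≫ e.inv)
    refine ⟨b, ?_⟩
    apply (push i).map_injective
    rw [Functor.map_comp, hb, ← Category.assoc, h2, Category.assoc, e.hom_inv_id, Category.comp_id]
  have : IsIso ((pullPushAdj i).counit.app G) := isIso_counit i G
  exact Injective.of_iso ((pull i).mapIso e.symm ≪≫ asIso ((pullPushAdj i).counit.app G)).symm hG

end Supp

end Groth.Agent.H4.ClosedStalk
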