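import Groth.Agent.H4.CohShrink
import Groth.Agent.H12.RestrictLim
import Groth.Prelude.Def_Coh

/-!
helper4: extension of a homomorphism of coherent modules from an open subscheme of a locally
Noetherian scheme to a coherent submodule (graph construction + `CohShrink.exists_sub_mono`).
-/

set_option autoImplicit false
universe u
noncomputable section
namespace Groth.Agent.H4.CohExtendHom

open CategoryTheory CategoryTheory.Limits Opposite TopologicalSpace AlgebraicGeometry
open Groth.Agent.H18 Groth.Agent.H12.SubSheaf Groth.Agent.H4.CohShrink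

variable {X : Scheme.{u}}

/-- a section of a biproduct with both components zero is zero. -/
theorem biprod_section_eq_zero {F G : X.Modules} (W : X.Opens) (x : Γ(F ⊞ G, W))
    (h1 : (biprod.fst : F ⊞ G ⟶ F).app W x = 0) (h2 : (biprod.snd : F ⊞ G ⟶ G).app W x = 0) :
    x = 0 := by
  have h : (𝟙 (F ⊞ G) : F ⊞ G ⟶ F ⊞ G).app W x = 0 := by
    rw [← biprod.total]
    rw [Scheme.Modules.Hom.add_app, Scheme.Modules.Hom.comp_app, Scheme.Modules.Hom.comp_app]
    change (biprod.inl : F ⟶ F ⊞ G).app W ((biprod.fst : F ⊞ G ⟶ F).app W x) +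
      (biprod.inr : G ⟶ F ⊞ G).app W ((biprod.snd : F ⊞ G ⟶ G).app W x) = 0
    rw [h1, h2, map_zero, map_zero, add_zero]
  exact h

theorem extend_hom [IsLocallyNoetherian X] (F G : X.Modules)
    (hF : Coh.IsCoh F) (hG : Coh.IsCoh G) (U : X.Opens)
    (φ : (Scheme.Modules.restrictFunctor U.ι).obj F ⟶ (Scheme.Modules.restrictFunctor U.ι).obj G) :
    ∃ (F' : X.Modules) (ι : F' ⟶ F) (φ' : F' ⟶ G), Mono ι ∧ Coh.IsCoh F' ∧
      IsIso ((Scheme.Modules.restrictFunctor U.ι).map ι) ∧
      (Scheme.Modules.restrictFunctor U.ι).map φ' = (Scheme.Modules.restrictFunctor U.ι).map ι ≫ φ := by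
  classical
  obtain ⟨hFq, hFf⟩ := hF
  obtain ⟨hGq, hGf⟩ := hG
  have : F.IsQuasicoherent := hFq
  have : G.IsQuasicoherent := hGq
  let R := Scheme.Modules.restrictFunctor U.ι
  let P := Scheme.Modules.pushforward U.ι
  let adj : R ⊣ P := Scheme.Modules.restrictAdjunction U.ι
  let a : F ⟶ P.obj (R.obj G) := adj.unit.app F ≫ P.map φ
  let b : G ⟶ P.obj (R.obj G) := adj.unit.app G
  have h2 : (R.obj G).IsQuasicoherent := Scheme.Modules.isQuasicoherent_restrictFunctor U.ι G
  have h3 : (P.obj (R.obj G)).IsQuasicoherent :=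
    Groth.Agent.H8.isQuasicoherent_pushforward_of_qcqs U.ι (R.obj G)
  have hH : (pullback a b).IsQuasicoherent :=
    Groth.Agent.H12.QCohAbelian.isQuasicoherent_pullback a b
  let p₁ : pullback a b ⟶ F := pullback.fst a b
  let p₂ : pullback a b ⟶ G := pullback.snd a b
  -- restriction to `U`
  have hpb : IsPullback (R.map p₁) (R.map p₂) (R.map a) (R.map b) :=
    (IsPullback.of_hasPullback a b).map R
  have htriG : R.map b ≫ adj.counit.app (R.obj G) = 𝟙 _ := adj.left_triangle_components G
  have hc : IsIso (adj.counit.app (R.obj G)) := inferInstance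
  have hRb : IsIso (R.map b) := by
    have : R.map b = inv (adj.counit.app (R.obj G)) := by
      rw [← cancel_mono (adj.counit.app (R.obj G)), htriG, IsIso.inv_hom_id]
    rw [this]
    infer_instance
  have hfst : IsIso (R.map p₁) := hpb.isIso_fst_of_isIso
  have hRa : R.map a ≫ adj.counit.app (R.obj G) = φ := by
    change R.map (adj.unit.app F ≫ P.map φ) ≫ adj.counit.app (R.obj G) = φ
    rw [R.map_comp, Category.assoc]
    have hnat : R.map (P.map φ) ≫ adj.counit.app (R.obj G) = adj.counit.app (R.obj F) ≫ φ :=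
      adj.counit.naturality φ
    rw [hnat, ← Category.assoc, adj.left_triangle_components F]
    exact Category.id_comp φ
  have hsnd : R.map p₂ = R.map p₁ ≫ φ := by
    have hw := hpb.w
    have h1 : R.map p₂ = (R.map p₂ ≫ R.map b) ≫ adj.counit.app (R.obj G) := by
      rw [Category.assoc, htriG, Category.comp_id]
    rw [h1, ← hw, Category.assoc, hRa]
  -- finiteness of sections of the pullback
  have hfin : ∀ V : X.Opens, IsAffineOpen V → Module.Finite Γ(X, V) Γ(pullback a b, V) := by
    intro V hV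
    have hR : IsNoetherianRing Γ(X, V) := IsLocallyNoetherian.component_noetherian ⟨V, hV⟩
    have hfF : Module.Finite Γ(X, V) Γ(F, V) := Groth.Agent.H44.finite_sections_of_isFiniteType F hV
    have hfG : Module.Finite Γ(X, V) Γ(G, V) := Groth.Agent.H44.finite_sections_of_isFiniteType G hV
    have : IsNoetherian Γ(X, V) (Γ(F, V) × Γ(G, V)) := isNoetherian_of_isNoetherianRing_of_finite _ _
    let ψ : Γ(pullback a b, V) →ₗ[Γ(X, V)] (Γ(F, V) × Γ(G, V)) :=
      (appLin p₁ V).prod (appLin p₂ V)
    refine Module.Finite.of_injective ψ ?_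
    rw [← LinearMap.ker_eq_bot, LinearMap.ker_eq_bot']
    intro s hs
    have hs1 : p₁.app V s = 0 := congrArg Prod.fst hs
    have hs2 : p₂.app V s = 0 := congrArg Prod.snd hs
    let m : pullback a b ⟶ F ⊞ G := biprod.lift p₁ p₂
    have hm : Mono m := by
      refine ⟨fun {Z} f g hfg => ?_⟩
      apply pullback.hom_ext
      · have := congrArg (fun k => k ≫ (biprod.fst : F ⊞ G ⟶ F)) hfg
        simpa [m] using this
      · have := congrArg (fun k => k ≫ (biprod.snd : F ⊞ G ⟶ G)) hfg
        simpa [m] using this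
    apply Groth.Agent.H12.QCohAbelian.app_injective_of_mono m V
    rw [map_zero]
    apply biprod_section_eq_zero
    · have : (m ≫ biprod.fst).app V s = 0 := by rw [biprod.lift_fst]; exact hs1
      exact this
    · have : (m ≫ biprod.snd).app V s = 0 := by rw [biprod.lift_snd]; exact hs2
      exact this
  -- injectivity of `p₁` over `U`
  have hpU : ∀ W : X.Opens, W ≤ U → ∀ s : Γ(pullback a b, W), p₁.app W s = 0 → s = 0 := by
    intro W hW s hs
    let W₀ : (U : Scheme.{u}).Opens := U.ι ⁻¹ᵁ W
    have hle : U.ι ''ᵁ W₀ ≤ W := by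
      rintro _ ⟨x, hx, rfl⟩
      exact hx
    have hle' : W ≤ U.ι ''ᵁ W₀ := by
      intro x hx
      exact ⟨⟨x, hW hx⟩, hx, rfl⟩
    have hinj : Function.Injective ((R.map p₁).app W₀) :=
      ((ConcreteCategory.isIso_iff_bijective ((R.map p₁).app W₀)).mp inferInstance).1
    have h1 : (R.map p₁).app W₀ (mres (pullback a b) hle s) = 0 := by
      change p₁.app (U.ι ''ᵁ W₀) (mres (pullback a b) hle s) = 0
      rw [← Groth.Agent.H12.QCohExt.app_mres, hs, map_zero]
    have h2 : mres (pullback a b) hle s = 0 := by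
      apply hinj
      exact h1.trans (map_zero _).symm
    have h3 := congrArg (mres (pullback a b) hle') h2
    rwa [mres_mres, mres_self, map_zero] at h3
  obtain ⟨H', k, hk, hq, hft, hiso, hmono⟩ := exists_sub_mono p₁ U hfin hpU
  refine ⟨H', k ≫ p₁, k ≫ p₂, hmono, ⟨hq, hft⟩, ?_, ?_⟩
  · rw [R.map_comp]
    infer_instance
  · rw [R.map_comp, R.map_comp, hsnd, Category.assoc]

end Groth.Agent.H4.CohExtendHom
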