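import Groth.Agent.H12.ExtAffine
import Groth.Agent.H12.QCohIso
import Groth.Agent.H18.QCohCriterion
import Groth.Agent.H44.FiniteSections
import Groth.Agent.H71.QCoh.ExactSections
import Mathlib.RingTheory.Filtration
import Mathlib.RingTheory.Finiteness.Ideal

/-!
helper4: shrinking a coherent module away from an open so that a given map becomes injective
(the Artin–Rees / Zorn step behind the extension of homomorphisms of coherent modules from an
open subscheme of a locally Noetherian scheme).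
-/

set_option autoImplicit false
universe u

noncomputable section

namespace Groth.Agent.H4.CohShrink

open CategoryTheory CategoryTheory.Limits Opposite TopologicalSpace AlgebraicGeometry
open Groth.Agent.H18 Groth.Agent.H12.SubSheaf

/-- Artin–Rees: if `J`-power torsion elements make up `N₀ ⊓ K`, then `J ^ n • N₀` meets `K`
trivially for `n` large. -/
theorem exists_pow_smul_inf_eq_bot {R M : Type*} [CommRing R] [IsNoetherianRing R]
    [AddCommGroup M] [Module R M] [Module.Finite R M] (J : Ideal R) (N₀ K : Submodule R M)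
    (h : ∀ s ∈ N₀ ⊓ K, ∀ r ∈ J, ∃ n : ℕ, r ^ n • s = 0) :
    ∃ n : ℕ, (J ^ n • N₀) ⊓ K = ⊥ := by
  classical
  have : IsNoetherian R M := isNoetherian_of_isNoetherianRing_of_finite R M
  set P : Submodule R M := N₀ ⊓ K with hP
  obtain ⟨S, hS⟩ := (IsNoetherian.noetherian P : P.FG)
  have hrad : J ≤ (P.annihilator).radical := by
    intro r hr
    have hn : ∀ s : M, s ∈ P → ∃ n : ℕ, r ^ n • s = 0 := fun s hs => h s hs r hr
    choose! n hn using hn
    refine ⟨S.sup n, ?_⟩
    rw [← hS, Submodule.mem_annihilator_span]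
    rintro ⟨s, hs⟩
    have hsP : s ∈ P := by rw [← hS]; exact Submodule.subset_span hs
    have hle : n s ≤ S.sup n := Finset.le_sup (Finset.mem_coe.mp hs)
    obtain ⟨q, hq⟩ := Nat.exists_eq_add_of_le hle
    change r ^ S.sup n • s = 0
    rw [hq, add_comm, pow_add, mul_smul, hn s hsP, smul_zero]
  obtain ⟨k, hk⟩ := Ideal.exists_pow_le_of_le_radical_of_fg hrad (IsNoetherian.noetherian J)
  let P' : Submodule R N₀ := K.comap N₀.subtype
  obtain ⟨c, hc⟩ := Ideal.exists_pow_inf_eq_pow_smul J P'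
  refine ⟨c + k, ?_⟩
  rw [eq_bot_iff]
  rintro x ⟨hx1, hx2⟩
  have hmap : (J ^ (c + k) • (⊤ : Submodule R N₀)).map N₀.subtype = J ^ (c + k) • N₀ := by
    rw [Submodule.map_smul'', Submodule.map_top, Submodule.range_subtype]
  rw [← hmap] at hx1
  obtain ⟨x', hx', rfl⟩ := hx1
  have hx'P : x' ∈ P' := hx2
  have h1 : x' ∈ J ^ (c + k) • (⊤ : Submodule R N₀) ⊓ P' := ⟨hx', hx'P⟩
  rw [hc (c + k) (Nat.le_add_right c k), Nat.add_sub_cancel_left] at h1
  have h2 : J ^ k • (J ^ c • (⊤ : Submodule R N₀) ⊓ P') ≤ ⊥ := by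
    rw [Submodule.smul_le]
    intro a ha y hy
    have hyP : (y : M) ∈ P := ⟨y.2, hy.2⟩
    have : a • (y : M) = 0 := (Submodule.mem_annihilator.mp (hk ha)) _ hyP
    rw [Submodule.mem_bot]
    exact Subtype.ext this
  have h3 := h2 h1
  rw [Submodule.mem_bot] at h3
  rw [Submodule.mem_bot, h3]
  rfl

variable {X : Scheme.{u}} {H F : X.Modules}

/-- a section over a basic open killed by a power of the (invertible) function is zero. -/
theorem eq_zero_of_pow_smul_eq_zero {V : X.Opens} (f : Γ(X, V)) (n : ℕ)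
    (t : Γ(H, X.basicOpen f))
    (h : (X.presheaf.map (homOfLE (X.basicOpen_le f)).op f) ^ n • t = 0) : t = 0 := by
  have hu : IsUnit (X.presheaf.map (homOfLE (X.basicOpen_le f)).op f) :=
    RingedSpace.isUnit_res_basicOpen _ f
  exact ((hu.pow n).smul_eq_zero).mp h

/-- membership in a submodule over a basic open can be tested after multiplying by a power of
the function. -/
theorem mem_of_pow_smul_mem {V : X.Opens} (f : Γ(X, V)) (n : ℕ)
    (S : Submodule Γ(X, X.basicOpen f) Γ(H, X.basicOpen f)) (t : Γ(H, X.basicOpen f))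
    (h : (X.presheaf.map (homOfLE (X.basicOpen_le f)).op f) ^ n • t ∈ S) : t ∈ S := by
  have hu : IsUnit (X.presheaf.map (homOfLE (X.basicOpen_le f)).op f) :=
    RingedSpace.isUnit_res_basicOpen _ f
  obtain ⟨v, hv⟩ := hu.pow n
  rw [← hv] at h
  have h3 := Submodule.smul_mem S (↑v⁻¹ : Γ(X, X.basicOpen f)) h
  rwa [smul_smul, Units.inv_mul, one_smul] at h3

section Loc

variable [F.IsQuasicoherent] (p : H ⟶ F) {V : X.Opens} (hV : IsAffineOpen V)

include hV

/-- if the span of `T` over the affine open `V` meets the kernel of `p` trivially, so does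
`gen V T` over every open of `V`. -/
theorem gen_inj_of_span_inj (T : Set Γ(H, V))
    (hT : ∀ x ∈ Submodule.span Γ(X, V) T, p.app V x = 0 → x = 0)
    {W : X.Opens} (hW : W ≤ V) (s : Γ(H, W)) (hs : s ∈ (gen V T).carrier W)
    (hps : p.app W s = 0) : s = 0 := by
  apply Groth.Agent.H12.QCohIso.modules_eq_of_locally_eq H s 0
  intro x hx
  obtain ⟨f, hfW, hxf⟩ := hV.exists_basicOpen_le (V := W) ⟨x, hx⟩ (hW hx)
  refine ⟨X.basicOpen f, hfW, hxf, ?_⟩
  rw [map_zero]
  have h1 : mres H hfW s ∈ resSpan H (X.basicOpen_le f) T := hs f hfW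
  rw [← resSpan_span] at h1
  obtain ⟨n, m, hm, hnm⟩ := exists_pow_smul_eq_mres hV (Submodule.span Γ(X, V) T) f h1
  -- `p m` restricts to zero on `D(f)`
  have h2 : mres F (X.basicOpen_le f) (p.app V m) = 0 := by
    rw [Groth.Agent.H12.QCohExt.app_mres, ← hnm, Scheme.Modules.Hom.app_smul,
      ← Groth.Agent.H12.QCohExt.app_mres, hps, map_zero, smul_zero]
  obtain ⟨k, hk⟩ := exists_pow_smul_eq_zero_of_isQuasicoherent F hV f _ h2
  have h3 : p.app V (f ^ k • m) = 0 := by
    rw [Scheme.Modules.Hom.app_smul, hk]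
  have h4 : f ^ k • m = 0 := hT _ (Submodule.smul_mem _ _ hm) h3
  have h5 : (X.presheaf.map (homOfLE (X.basicOpen_le f)).op f) ^ (k + n) • mres H hfW s = 0 := by
    rw [pow_add, mul_smul, hnm, ← map_pow, ← mres_smul, h4, map_zero]
  exact eq_zero_of_pow_smul_eq_zero f _ _ h5

end Loc

/-- the ideal of functions on `V` whose non-vanishing locus lies in `Y`. -/
def idealIn (V Y : X.Opens) : Ideal Γ(X, V) where
  carrier := {r | X.basicOpen r ≤ Y}
  zero_mem' := by
    change X.basicOpen (0 : Γ(X, V)) ≤ Y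
    rw [Scheme.basicOpen_zero]; exact bot_le
  add_mem' := by
    intro a b ha hb
    exact (X.basicOpen_add_le a b).trans (sup_le ha hb)
  smul_mem' := by
    intro c a ha
    change X.basicOpen (c * a) ≤ Y
    rw [Scheme.basicOpen_mul]
    exact inf_le_right.trans ha

theorem mem_idealIn {V Y : X.Opens} (r : Γ(X, V)) : r ∈ idealIn V Y ↔ X.basicOpen r ≤ Y := Iff.rfl

/-- `p.app V` as a linear map. -/
def appLin (p : H ⟶ F) (V : X.Opens) : Γ(H, V) →ₗ[Γ(X, V)] Γ(F, V) where
  toFun x := p.app V x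
  map_add' x y := map_add _ x y
  map_smul' r x := Scheme.Modules.Hom.app_smul p r x

section Shrink

variable [IsLocallyNoetherian X] [H.IsQuasicoherent] (p : H ⟶ F)
  {V : X.Opens} (hV : IsAffineOpen V)

include hV

theorem exists_shrink (hfin : Module.Finite Γ(X, V) Γ(H, V)) {Y : X.Opens} (hYV : Y ≤ V)
    (T₀ : Finset Γ(H, V))
    (hinj : ∀ W : X.Opens, W ≤ Y → ∀ s ∈ (gen V (T₀ : Set Γ(H, V))).carrier W,
      p.app W s = 0 → s = 0) :
    ∃ T₁ : Finset Γ(H, V),
      (∀ W : X.Opens, W ≤ Y → (gen V (T₁ : Set Γ(H, V))).carrier W =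
        (gen V (T₀ : Set Γ(H, V))).carrier W) ∧
      ∀ x ∈ Submodule.span Γ(X, V) (T₁ : Set Γ(H, V)), p.app V x = 0 → x = 0 := by
  classical
  have hR : IsNoetherianRing Γ(X, V) := IsLocallyNoetherian.component_noetherian ⟨V, hV⟩
  have hNoeth : IsNoetherian Γ(X, V) Γ(H, V) := isNoetherian_of_isNoetherianRing_of_finite _ _
  set J : Ideal Γ(X, V) := idealIn V Y with hJ
  set N₀ : Submodule Γ(X, V) Γ(H, V) := Submodule.span Γ(X, V) (T₀ : Set Γ(H, V)) with hN₀
  set K : Submodule Γ(X, V) Γ(H, V) := LinearMap.ker (appLin p V) with hK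
  have hkill : ∀ s ∈ N₀ ⊓ K, ∀ r ∈ J, ∃ n : ℕ, r ^ n • s = 0 := by
    rintro s ⟨hs1, hs2⟩ r hr
    have hrY : X.basicOpen r ≤ Y := hr
    have h1 : mres H (X.basicOpen_le r) s ∈ (gen V (T₀ : Set Γ(H, V))).carrier (X.basicOpen r) :=
      resSpan_le_gen V _ (X.basicOpen_le r) (mres_mem_resSpan_of_mem_span H _ _ hs1)
    have h2 : p.app (X.basicOpen r) (mres H (X.basicOpen_le r) s) = 0 := by
      rw [← Groth.Agent.H12.QCohExt.app_mres]
      have : p.app V s = 0 := hs2
      rw [this, map_zero]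
    have h3 := hinj _ hrY _ h1 h2
    exact exists_pow_smul_eq_zero_of_isQuasicoherent H hV r s h3
  obtain ⟨n, hn⟩ := exists_pow_smul_inf_eq_bot J N₀ K hkill
  obtain ⟨T₁, hT₁⟩ := (IsNoetherian.noetherian (J ^ n • N₀) : (J ^ n • N₀).FG)
  refine ⟨T₁, ?_, ?_⟩
  · intro W hW
    apply le_antisymm
    · refine gen_le_of_isLocal hV _ (isLocal_gen hV _) (le_rfl : V ≤ V) ?_ (hW.trans hYV)
      intro m hm
      rw [mres_self]
      have hm' : m ∈ J ^ n • N₀ := by rw [← hT₁]; exact Submodule.subset_span hm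
      have hm'' : m ∈ N₀ := Submodule.smul_le_right hm'
      have := resSpan_le_gen V (T₀ : Set Γ(H, V)) (le_rfl : V ≤ V)
        (mres_mem_resSpan_of_mem_span H _ _ hm'')
      rwa [mres_self] at this
    · intro t ht
      apply isLocal_gen hV
      intro x hx
      obtain ⟨r, hrY, hxr⟩ := hV.exists_basicOpen_le (V := Y) ⟨x, hW hx⟩ (hYV (hW hx))
      refine ⟨W ⊓ X.basicOpen r, inf_le_left, ⟨hx, hxr⟩, ?_⟩
      have h1 : mres H (inf_le_left : W ⊓ X.basicOpen r ≤ W) t ∈
          (gen V (T₀ : Set Γ(H, V))).carrier (W ⊓ X.basicOpen r) := (gen V _).res _ ht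
      refine gen_le_of_isLocal hV _ (isLocal_gen hV _) (X.basicOpen_le r) ?_ inf_le_right h1
      intro m hm
      have hr : r ∈ J := hrY
      have h2 : r ^ n • m ∈ J ^ n • N₀ :=
        Submodule.smul_mem_smul (Ideal.pow_mem_pow hr n) (Submodule.subset_span hm)
      rw [← hT₁] at h2
      have h3 := resSpan_le_gen V (T₁ : Set Γ(H, V)) (X.basicOpen_le r)
        (mres_mem_resSpan_of_mem_span H _ _ h2)
      rw [mres_smul, map_pow] at h3
      exact mem_of_pow_smul_mem r n _ _ h3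
  · intro x hx hpx
    rw [hT₁] at hx
    have : x ∈ (J ^ n • N₀) ⊓ K := ⟨hx, hpx⟩
    rw [hn] at this
    exact this

end Shrink

/-- states of the Zorn argument: an open `Y` and a family of submodules of `H`. -/
structure St (H : X.Modules) where
  Y : X.Opens
  N : SubFam H

instance : Preorder (St H) where
  le a b := a.Y ≤ b.Y ∧ ∀ W : X.Opens, W ≤ a.Y → a.N.carrier W = b.N.carrier W
  le_refl a := ⟨le_rfl, fun _ _ => rfl⟩
  le_trans a b c hab hbc :=
    ⟨hab.1.trans hbc.1, fun W hW => (hab.2 W hW).trans (hbc.2 W (hW.trans hab.1))⟩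

theorem St.le_def (a b : St H) :
    a ≤ b ↔ a.Y ≤ b.Y ∧ ∀ W : X.Opens, W ≤ a.Y → a.N.carrier W = b.N.carrier W := Iff.rfl

/-- the invariant of the Zorn argument. -/
structure Good (p : H ⟶ F) (U : X.Opens) (a : St H) : Prop where
  le : U ≤ a.Y
  isLocal : a.N.IsLocal
  sat : ∀ (W : X.Opens) (s : Γ(H, W)),
    mres H (inf_le_left : W ⊓ a.Y ≤ W) s ∈ a.N.carrier (W ⊓ a.Y) → s ∈ a.N.carrier W
  coh : a.N.IsCohOn a.Y
  top : ∀ W : X.Opens, W ≤ U → a.N.carrier W = ⊤
  inj : ∀ W : X.Opens, W ≤ a.Y → ∀ s ∈ a.N.carrier W, p.app W s = 0 → s = 0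

section Chain

variable (p : H ⟶ F) (U : X.Opens)

theorem chain_key {c : Set (St H)} (hc : ∀ a ∈ c, Good p U a) (hchain : IsChain (· ≤ ·) c)
    {a b : St H} (ha : a ∈ c) (hb : b ∈ c) {W : X.Opens} (hW : W ≤ a.Y) :
    a.N.carrier W ≤ b.N.carrier W := by
  rcases hchain.total ha hb with hab | hba
  · exact (hab.2 W hW).le
  · intro s hs
    apply (hc b hb).sat W s
    rw [hba.2 _ inf_le_right]
    exact a.N.res _ hs

theorem chain_bound (c : Set (St H)) (hc : ∀ a ∈ c, Good p U a) (hchain : IsChain (· ≤ ·) c)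
    (y : St H) (hy : y ∈ c) : ∃ ub, Good p U ub ∧ ∀ z ∈ c, z ≤ ub := by
  let ub : St H := ⟨⨆ a : c, a.1.Y, SubFam.iInf (fun a : c => a.1.N)⟩
  have key : ∀ (a : St H) (ha : a ∈ c) (W : X.Opens), W ≤ a.Y →
      ub.N.carrier W = a.N.carrier W := by
    intro a ha W hW
    apply le_antisymm
    · intro s hs
      exact (SubFam.mem_iInf _ W s).mp hs ⟨a, ha⟩
    · intro s hs
      rw [SubFam.mem_iInf]
      intro b
      exact chain_key p U hc hchain ha b.2 hW hs
  have hle : ∀ (a : St H) (ha : a ∈ c), a.Y ≤ ub.Y := fun a ha =>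
    le_iSup (fun a : c => a.1.Y) ⟨a, ha⟩
  refine ⟨ub, ?_, fun z hz => ⟨hle z hz, fun W hW => (key z hz W hW).symm⟩⟩
  refine ⟨(hc y hy).le.trans (hle y hy), SubFam.isLocal_iInf _ (fun a => (hc a.1 a.2).isLocal),
    ?_, ?_, ?_, ?_⟩
  · intro W s hs
    change s ∈ (SubFam.iInf (fun a : c => a.1.N)).carrier W
    rw [SubFam.mem_iInf]
    intro a
    apply (hc a.1 a.2).sat W s
    have h1 : W ⊓ a.1.Y ≤ W ⊓ ub.Y := inf_le_inf_left W (hle a.1 a.2)
    have h2 := ub.N.res h1 hs
    rw [mres_mres] at h2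
    exact (SubFam.mem_iInf _ _ _).mp h2 a
  · intro x hx
    obtain ⟨a, hxa⟩ := Opens.mem_iSup.mp hx
    obtain ⟨W', T, hW', hxW', hW'Y, hT⟩ := (hc a.1 a.2).coh x hxa
    refine ⟨W', T, hW', hxW', hW'Y.trans (hle a.1 a.2), fun W'' hW'' => ?_⟩
    rw [key a.1 a.2 W'' (hW''.trans hW'Y)]
    exact hT W'' hW''
  · intro W hW
    rw [key y hy W (hW.trans (hc y hy).le)]
    exact (hc y hy).top W hW
  · intro W hW s hs hps
    apply Groth.Agent.H12.QCohIso.modules_eq_of_locally_eq H s 0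
    intro x hx
    obtain ⟨a, hxa⟩ := Opens.mem_iSup.mp (hW hx)
    refine ⟨W ⊓ a.1.Y, inf_le_left, ⟨hx, hxa⟩, ?_⟩
    rw [map_zero]
    have h1 : mres H (inf_le_left : W ⊓ a.1.Y ≤ W) s ∈ ub.N.carrier (W ⊓ a.1.Y) := ub.N.res _ hs
    rw [key a.1 a.2 _ inf_le_right] at h1
    refine (hc a.1 a.2).inj _ inf_le_right _ h1 ?_
    rw [← Groth.Agent.H12.QCohExt.app_mres, hps, map_zero]

end Chain

/-- over an affine open, a quasi-coherent module is generated by any generating set of its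
sections. -/
theorem gen_eq_top_of_span_eq_top' [H.IsQuasicoherent] {W' : X.Opens}
    (hW' : IsAffineOpen W') (T : Set Γ(H, W')) (hT : Submodule.span Γ(X, W') T = ⊤)
    {W'' : X.Opens} (_hW'' : W'' ≤ W') : (gen W' T).carrier W'' = ⊤ := by
  rw [eq_top_iff]
  intro t _ f hf
  obtain ⟨n, x, hx⟩ := exists_pow_smul_eq_res_of_isQuasicoherent H hW' f (mres H hf t)
  have hxT : x ∈ Submodule.span Γ(X, W') T := by rw [hT]; trivial
  have h1 := mres_mem_resSpan_of_mem_span H (X.basicOpen_le f) T hxT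
  rw [← hx] at h1
  exact mem_of_pow_smul_mem f n _ _ h1

section Extend

variable [IsLocallyNoetherian X] [H.IsQuasicoherent] [F.IsQuasicoherent] (p : H ⟶ F)
  (U : X.Opens) (hfin : ∀ V : X.Opens, IsAffineOpen V → Module.Finite Γ(X, V) Γ(H, V))

include hfin

theorem exists_extend (a : St H) (ha : Good p U a) {V : X.Opens} (hV : IsAffineOpen V) :
    ∃ b : St H, Good p U b ∧ a ≤ b ∧ V ≤ b.Y := by
  classical
  have hR : IsNoetherianRing Γ(X, V) := IsLocallyNoetherian.component_noetherian ⟨V, hV⟩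
  have hVN : NoetherianSpace V := noetherianSpace_of_isAffineOpen V hV
  have hYc : IsCompact ((V ⊓ a.Y : X.Opens) : Set X) :=
    ((noetherianSpace_set_iff _).mp hVN) _ Set.inter_subset_left
  have hcoh : a.N.IsCohOn (V ⊓ a.Y) := ha.coh.mono inf_le_right
  obtain ⟨T₀, -, hT₀⟩ := exists_fg_extension hV ha.isLocal (inf_le_left : V ⊓ a.Y ≤ V) hYc hcoh
  have hinj₀ : ∀ W : X.Opens, W ≤ V ⊓ a.Y → ∀ s ∈ (gen V (T₀ : Set Γ(H, V))).carrier W,
      p.app W s = 0 → s = 0 := by
    intro W hW s hs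
    rw [hT₀ W hW] at hs
    exact ha.inj W (hW.trans inf_le_right) s hs
  obtain ⟨T₁, hT₁eq, hT₁inj⟩ := exists_shrink p hV (hfin V hV) inf_le_left T₀ hinj₀
  have hA : ∀ W : X.Opens, W ≤ a.Y → a.N.carrier W ≤ (gen V (T₁ : Set Γ(H, V))).carrier W := by
    intro W hW s hs
    rw [mem_gen_iff_inf]
    have h1 : W ⊓ V ≤ V ⊓ a.Y := le_inf inf_le_right (inf_le_left.trans hW)
    rw [hT₁eq _ h1, hT₀ _ h1]
    exact a.N.res _ hs
  have hB : ∀ W : X.Opens, W ≤ V → (gen V (T₁ : Set Γ(H, V))).carrier W ≤ a.N.carrier W := by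
    intro W hW s hs
    apply ha.sat W s
    have h1 : W ⊓ a.Y ≤ V ⊓ a.Y := le_inf (inf_le_left.trans hW) inf_le_right
    rw [← hT₀ _ h1, ← hT₁eq _ h1]
    exact (gen V _).res _ hs
  let b : St H := ⟨a.Y ⊔ V, a.N.inf (gen V (T₁ : Set Γ(H, V)))⟩
  have hbY : ∀ W : X.Opens, W ≤ a.Y → b.N.carrier W = a.N.carrier W := fun W hW =>
    inf_eq_left.mpr (hA W hW)
  have hbV : ∀ W : X.Opens, W ≤ V → b.N.carrier W = (gen V (T₁ : Set Γ(H, V))).carrier W :=
    fun W hW => inf_eq_right.mpr (hB W hW)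
  refine ⟨b, ?_, ⟨le_sup_left, fun W hW => (hbY W hW).symm⟩, le_sup_right⟩
  refine ⟨ha.le.trans le_sup_left, ha.isLocal.inf (isLocal_gen hV _), ?_, ?_, ?_, ?_⟩
  · intro W s hs
    refine ⟨?_, ?_⟩
    · apply ha.sat W s
      have h1 : W ⊓ a.Y ≤ W ⊓ (a.Y ⊔ V) := inf_le_inf_left W le_sup_left
      have h2 := a.N.res h1 hs.1
      rwa [mres_mres] at h2
    · refine (mem_gen_iff_inf V _ W s).mpr ?_
      have h1 : W ⊓ V ≤ W ⊓ (a.Y ⊔ V) := inf_le_inf_left W le_sup_right
      have h2 := (gen V (T₁ : Set Γ(H, V))).res h1 hs.2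
      rwa [mres_mres] at h2
  · intro x hx
    rcases (Opens.mem_sup.mp hx) with hxY | hxV
    · obtain ⟨W', T, hW', hxW', hW'Y, hT⟩ := ha.coh x hxY
      refine ⟨W', T, hW', hxW', hW'Y.trans le_sup_left, fun W'' hW'' => ?_⟩
      rw [hbY W'' (hW''.trans hW'Y)]
      exact hT W'' hW''
    · exact ⟨V, T₁, hV, hxV, le_sup_right, fun W'' hW'' => hbV W'' hW''⟩
  · intro W hW
    rw [hbY W (hW.trans ha.le)]
    exact ha.top W hW
  · intro W hW s hs hps
    apply Groth.Agent.H12.QCohIso.modules_eq_of_locally_eq H s 0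
    intro x hx
    rcases (Opens.mem_sup.mp (hW hx)) with hxY | hxV
    · refine ⟨W ⊓ a.Y, inf_le_left, ⟨hx, hxY⟩, ?_⟩
      rw [map_zero]
      refine ha.inj _ inf_le_right _ (a.N.res _ hs.1) ?_
      rw [← Groth.Agent.H12.QCohExt.app_mres, hps, map_zero]
    · refine ⟨W ⊓ V, inf_le_left, ⟨hx, hxV⟩, ?_⟩
      rw [map_zero]
      refine gen_inj_of_span_inj p hV _ hT₁inj inf_le_right _
        ((gen V (T₁ : Set Γ(H, V))).res _ hs.2) ?_
      rw [← Groth.Agent.H12.QCohExt.app_mres, hps, map_zero]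

theorem exists_subFam (hpU : ∀ W : X.Opens, W ≤ U → ∀ s : Γ(H, W), p.app W s = 0 → s = 0) :
    ∃ N : SubFam H, N.IsLocal ∧ N.IsCohOn ⊤ ∧ (∀ W : X.Opens, W ≤ U → N.carrier W = ⊤) ∧
      ∀ (W : X.Opens), ∀ s ∈ N.carrier W, p.app W s = 0 → s = 0 := by
  let a₀ : St H := ⟨U, SubFam.top H⟩
  have h₀ : Good p U a₀ := by
    refine ⟨le_rfl, SubFam.isLocal_top, fun _ _ _ => trivial, ?_, fun _ _ => rfl,
      fun W hW s _ hs => hpU W hW s hs⟩
    intro x hx
    obtain ⟨W', hW', hxW', hW'U⟩ := exists_isAffineOpen_mem_and_subset (X := X) (x := x) (U := U) hx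
    obtain ⟨T, hT⟩ := (hfin W' hW').fg_top
    refine ⟨W', T, hW', hxW', hW'U, fun W'' hW'' => ?_⟩
    rw [gen_eq_top_of_span_eq_top' hW' (T : Set Γ(H, W')) hT hW'']
    rfl
  obtain ⟨m, -, hm⟩ := zorn_le_nonempty₀ {a : St H | Good p U a}
    (fun c hc hchain y hy => chain_bound p U c hc hchain y hy) a₀ h₀
  have hmG : Good p U m := hm.1
  have hmY : m.Y = ⊤ := by
    rw [eq_top_iff]
    intro x _
    obtain ⟨V, hV, hxV, -⟩ := exists_isAffineOpen_mem_and_subset (X := X) (x := x) (U := ⊤) trivial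
    obtain ⟨b, hb, hmb, hVb⟩ := exists_extend p U hfin m hmG hV
    have hbm : b ≤ m := hm.2 hb hmb
    exact hbm.1 (hVb hxV)
  refine ⟨m.N, hmG.isLocal, ?_, hmG.top, fun W s hs => hmG.inj W (by rw [hmY]; exact le_top) s hs⟩
  rw [← hmY]
  exact hmG.coh

end Extend

theorem isIso_of_bijective_app {M N : X.Modules} (φ : M ⟶ N)
    (h : ∀ W : X.Opens, Function.Bijective (φ.app W)) : IsIso φ := by
  rw [Scheme.Modules.Hom.isIso_iff_isIso_app]
  intro W
  exact (ConcreteCategory.isIso_iff_bijective (φ.app W)).mpr (h W)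

theorem mono_of_injective_app {M N : X.Modules} (φ : M ⟶ N)
    (h : ∀ O : X.Opens, Function.Injective (φ.app O)) : Mono φ := by
  have : Mono ((Scheme.Modules.toPresheaf X).map φ) := by
    have : ∀ c, Mono (((Scheme.Modules.toPresheaf X).map φ).app c) := fun c =>
      (AddCommGrpCat.mono_iff_injective _).2 (h c.unop)
    exact NatTrans.mono_of_mono_app _
  exact Functor.mono_of_mono_map (Scheme.Modules.toPresheaf X) this

theorem bijective_restrict_ι_app (N : SubFam H) (hN : N.IsLocal) (U : X.Opens)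
    (hNU : ∀ W : X.Opens, W ≤ U → N.carrier W = ⊤) (W : (U : Scheme.{u}).Opens) :
    Function.Bijective (((Scheme.Modules.restrictFunctor U.ι).map (N.ι hN)).app W) := by
  have hle : U.ι ''ᵁ W ≤ U := by
    rintro _ ⟨x, -, rfl⟩
    exact x.2
  constructor
  · exact N.ι_app_injective hN (U.ι ''ᵁ W)
  · intro s
    have hs : (s : Γ(H, U.ι ''ᵁ W)) ∈ N.carrier (U.ι ''ᵁ W) := by
      rw [hNU _ hle]; trivial
    exact N.exists_ι_app_eq hN (U.ι ''ᵁ W) s hs

theorem isQuasicoherent_toModules_of_isCohOn [H.IsQuasicoherent] (N : SubFam H) (hN : N.IsLocal)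
    (hcoh : N.IsCohOn ⊤) : (N.toModules hN).IsQuasicoherent := by
  choose V T hV hxV _ hNV using (fun x : X => hcoh x trivial)
  have hcov : IsOpenCover (fun x : X => V x) := by
    rw [IsOpenCover, eq_top_iff]
    intro x _
    exact Opens.mem_iSup.mpr ⟨x, hxV x⟩
  have hspan : ∀ (l : X) (m : Γ(H, V l)),
      m ∈ Submodule.span Γ(X, V l) (T l : Set Γ(H, V l)) → m ∈ N.carrier (V l) := by
    intro l m hm
    rw [hNV l (V l) le_rfl]
    have := resSpan_le_gen (V l) (T l : Set Γ(H, V l)) (le_rfl : V l ≤ V l)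
      (mres_mem_resSpan_of_mem_span H _ _ hm)
    rwa [mres_self] at this
  refine isQuasicoherent_of_localizes (N.toModules hN) (fun x : X => V x) hcov hV ?_ ?_
  · intro l r y
    have hy : ((N.ι hN).app (X.basicOpen r)).hom y ∈ N.carrier (X.basicOpen r) :=
      N.ι_app_mem hN _ y
    rw [hNV l _ (X.basicOpen_le r),
      gen_carrier_eq_resSpan (hV l) _ ((hV l).basicOpen r) (X.basicOpen_le r),
      ← resSpan_span] at hy
    obtain ⟨n, m, hm, hnm⟩ := exists_pow_smul_eq_mres (hV l)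
      (Submodule.span Γ(X, V l) (T l : Set Γ(H, V l))) r hy
    obtain ⟨x, hx⟩ := N.exists_ι_app_eq hN (V l) m (hspan l m hm)
    refine ⟨n, x, ?_⟩
    apply N.ι_app_injective hN
    have h1 := Scheme.Modules.Hom.app_smul (N.ι hN)
      ((X.presheaf.map (homOfLE (X.basicOpen_le r)).op r) ^ n) y
    have h2 := Groth.Agent.H12.QCohExt.app_mres (N.ι hN) (X.basicOpen_le r) x
    exact h1.trans (hnm.trans ((congrArg (mres H (X.basicOpen_le r)) hx).symm.trans h2))
  · intro l r x hx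
    have h2 := Groth.Agent.H12.QCohExt.app_mres (N.ι hN) (X.basicOpen_le r) x
    have h3 : mres H (X.basicOpen_le r) (((N.ι hN).app (V l)).hom x) = 0 := by
      refine h2.trans ?_
      rw [hx, map_zero]
    obtain ⟨n, hn⟩ := exists_pow_smul_eq_zero_of_isQuasicoherent H (hV l) r _ h3
    refine ⟨n, ?_⟩
    apply N.ι_app_injective hN
    have h1 := Scheme.Modules.Hom.app_smul (N.ι hN) (r ^ n) x
    exact h1.trans (hn.trans (map_zero _).symm)

/-- **shrinking lemma**: on a locally Noetherian scheme, a coherent module `H` with a map `p` to a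
quasi-coherent module which is injective over the open `U` has a coherent submodule `H'`, equal to
`H` over `U`, on which `p` is injective. -/
theorem exists_sub_mono [IsLocallyNoetherian X] [H.IsQuasicoherent] [F.IsQuasicoherent] (p : H ⟶ F)
    (U : X.Opens) (hfin : ∀ V : X.Opens, IsAffineOpen V → Module.Finite Γ(X, V) Γ(H, V))
    (hpU : ∀ W : X.Opens, W ≤ U → ∀ s : Γ(H, W), p.app W s = 0 → s = 0) :
    ∃ (H' : X.Modules) (k : H' ⟶ H), Mono k ∧ H'.IsQuasicoherent ∧
      SheafOfModules.IsFiniteType (R := X.ringCatSheaf) H' ∧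
      IsIso ((Scheme.Modules.restrictFunctor U.ι).map k) ∧ Mono (k ≫ p) := by
  obtain ⟨N, hN, hcoh, htop, hinj⟩ := exists_subFam p U hfin hpU
  have hq : (N.toModules hN).IsQuasicoherent := isQuasicoherent_toModules_of_isCohOn N hN hcoh
  refine ⟨N.toModules hN, N.ι hN, inferInstance, hq, ?_, ?_, ?_⟩
  · refine Groth.Agent.H71.QCoh.isFiniteType_of_finite_sections (N.toModules hN) (fun V => ?_)
    have hR : IsNoetherianRing Γ(X, V.1) := IsLocallyNoetherian.component_noetherian V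
    have := hfin V.1 V.2
    have : IsNoetherian Γ(X, V.1) Γ(H, V.1) := isNoetherian_of_isNoetherianRing_of_finite _ _
    exact Module.Finite.of_injective (appLin (N.ι hN) V.1) (N.ι_app_injective hN V.1)
  · exact isIso_of_bijective_app _ (bijective_restrict_ι_app N hN U htop)
  · refine mono_of_injective_app _ (fun W => ?_)
    rw [injective_iff_map_eq_zero]
    intro x hx
    have h1 : p.app W ((N.ι hN).app W x) = 0 := hx
    have h2 := hinj W _ (N.ι_app_mem hN W x) h1
    apply N.ι_app_injective hN W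
    rw [h2, map_zero]

end Groth.Agent.H4.CohShrink
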