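import Mathlib
import Groth.Agent.H33.DerAdjU

/-!
# Derived fully faithfulness for "closed immersion like" adjunctions (helper4)

Abstract setting: `iS ⊣ iP` exact functors between abelian categories with invertible counit,
and an exact functor `jS` killing the image of `iP`, such that `(iS, jS)` is jointly conservative.
Then for a complex `C` whose homology is killed by `jS`, the termwise unit `C ⟶ iP iS C` is a
quasi-isomorphism.
-/

set_option autoImplicit false

namespace Groth.Agent.H4.DerFF

open CategoryTheory Limits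

variable {A B A' : Type*} [Category A] [Category B] [Category A'] [Abelian A] [Abelian B] [Abelian A']

/-- For an exact functor `F`, `F.map (H^n φ)` is an isomorphism as soon as `F φ` is a quasi-isomorphism
in degree `n`. -/
lemma isIso_map_homologyMap (F : A ⥤ B) [F.Additive] [PreservesFiniteLimits F] [PreservesFiniteColimits F]
    {K L : CochainComplex A ℤ} (φ : K ⟶ L) (n : ℤ)
    (h : QuasiIsoAt ((F.mapHomologicalComplex (ComplexShape.up ℤ)).map φ) n) :
    IsIso (F.map (HomologicalComplex.homologyMap φ n)) := by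
  rw [quasiIsoAt_iff_isIso_homologyMap] at h
  have hn := ShortComplex.mapHomologyIso_hom_naturality
    ((HomologicalComplex.shortComplexFunctor A (ComplexShape.up ℤ) n).map φ) F
  have h2 := IsIso.comp_isIso' h (Iso.isIso_hom (((HomologicalComplex.shortComplexFunctor A
    (ComplexShape.up ℤ) n).obj L).mapHomologyIso F))
  have h3 := hn ▸ h2
  exact @IsIso.of_isIso_comp_left _ _ _ _ _ _ _ (Iso.isIso_hom _) h3

/-- homology commutes with exact functors. -/
noncomputable def mapHomologyIso (F : A ⥤ B) [F.Additive] [PreservesFiniteLimits F]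
    [PreservesFiniteColimits F] (K : CochainComplex A ℤ) (n : ℤ) :
    ((F.mapHomologicalComplex (ComplexShape.up ℤ)).obj K).homology n ≅ F.obj (K.homology n) :=
  (K.sc n).mapHomologyIso F

section Abstract

variable {iS : A ⥤ B} {iP : B ⥤ A} (adjI : iS ⊣ iP) (jS : A ⥤ A')
  [iS.Additive] [iP.Additive] [jS.Additive]
  [PreservesFiniteLimits iS] [PreservesFiniteColimits iS]
  [PreservesFiniteLimits iP] [PreservesFiniteColimits iP]
  [PreservesFiniteLimits jS] [PreservesFiniteColimits jS]

include adjI in
lemma isIso_iS_unit (hε : ∀ G, IsIso (adjI.counit.app G)) (F : A) :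
    IsIso (iS.map (adjI.unit.app F)) := by
  have h := adjI.left_triangle_components F
  have := hε (iS.obj F)
  have h' : iS.map (adjI.unit.app F) = inv (adjI.counit.app (iS.obj F)) := by
    rw [← cancel_mono (adjI.counit.app (iS.obj F)), h, IsIso.inv_hom_id]
    rfl
  rw [h']
  infer_instance

/-- The termwise unit `C ⟶ iP iS C` is a quasi-isomorphism when `jS` kills the homology of `C`. -/
theorem quasiIso_unitC (hε : ∀ G, IsIso (adjI.counit.app G)) (hz : ∀ G, IsZero (jS.obj (iP.obj G)))
    (hc : ∀ {F F' : A} (φ : F ⟶ F'), IsIso (iS.map φ) → IsIso (jS.map φ) → IsIso φ)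
    (C : CochainComplex A ℤ) (hC : ∀ n, IsZero (jS.obj (C.homology n))) :
    QuasiIso (Groth.Agent.H33.DerAdjU.unitC adjI (ComplexShape.up ℤ) C) := by
  refine ⟨fun n => ?_⟩
  rw [quasiIsoAt_iff_isIso_homologyMap]
  refine hc _ ?_ ?_
  · apply isIso_map_homologyMap
    have : IsIso ((iS.mapHomologicalComplex (ComplexShape.up ℤ)).map
        (Groth.Agent.H33.DerAdjU.unitC adjI (ComplexShape.up ℤ) C)) := by
      have : ∀ k, IsIso (((iS.mapHomologicalComplex (ComplexShape.up ℤ)).map
          (Groth.Agent.H33.DerAdjU.unitC adjI (ComplexShape.up ℤ) C)).f k) := fun k =>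
        isIso_iS_unit adjI hε (C.X k)
      exact HomologicalComplex.Hom.isIso_of_components _
    infer_instance
  · have h1 : IsZero (jS.obj (C.homology n)) := hC n
    have h2 : IsZero (jS.obj (((iP.mapHomologicalComplex (ComplexShape.up ℤ)).obj
        ((iS.mapHomologicalComplex (ComplexShape.up ℤ)).obj C)).homology n)) :=
      IsZero.of_iso (hz _) (jS.mapIso (mapHomologyIso iP _ n))
    exact ⟨0, h1.eq_of_src _ _, h2.eq_of_src _ _⟩

end Abstract

section Derived

universe w₁ w₂ v₁ v₂ v₃ u₁ u₂ u₃

variable {A : Type u₁} [Category.{v₁} A] [Abelian A] {B : Type u₂} [Category.{v₂} B] [Abelian B]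
  {A' : Type u₃} [Category.{v₃} A'] [Abelian A']
  [HasDerivedCategory.{w₁} A] [HasDerivedCategory.{w₂} B]
  {iS : A ⥤ B} {iP : B ⥤ A} (adjI : iS ⊣ iP) (jS : A ⥤ A')
  [iS.Additive] [iP.Additive] [jS.Additive]
  [PreservesFiniteLimits iS] [PreservesFiniteColimits iS]
  [PreservesFiniteLimits iP] [PreservesFiniteColimits iP]
  [PreservesFiniteLimits jS] [PreservesFiniteColimits jS]
  (hKinj : ∀ K : CochainComplex B ℤ, ∃ (I : CochainComplex B ℤ) (f : K ⟶ I),
    I.IsKInjective ∧ QuasiIso f)

include adjI hKinj in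
/-- `iP` induces a fully faithful functor on derived categories when the counit is invertible. -/
theorem full_faithful (hε : ∀ G, IsIso (adjI.counit.app G)) :
    iP.mapDerivedCategory.Full ∧ iP.mapDerivedCategory.Faithful := by
  have hcounit : IsIso adjI.counit := NatIso.isIso_of_isIso_app _
  have hRD : (iP.mapHomotopyCategory (ComplexShape.up ℤ) ⋙ DerivedCategory.Qh).HasRightDerivedFunctor
      (HomotopyCategory.quasiIso B (ComplexShape.up ℤ)) :=
    Groth.Agent.H5.KInjDeriv.hasRightDerivedFunctor hKinj _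
  let adjD := Groth.Agent.H33.DerAdjU.derivedAdj adjI hKinj
  have hD : IsIso adjD.counit := Groth.Agent.H33.DerAdjU.isIso_derivedAdj_counit adjI hKinj
  have hR1 : iP.mapDerivedCategory.IsRightDerivedFunctor iP.mapDerivedCategoryFactorsh.inv
      (HomotopyCategory.quasiIso B (ComplexShape.up ℤ)) :=
    Functor.isRightDerivedFunctor_of_inverts _ _ iP.mapDerivedCategoryFactorsh
  let e : Groth.Agent.H33.DerAdjU.RR iP ≅ iP.mapDerivedCategory :=
    Functor.rightDerivedUnique (Groth.Agent.H33.DerAdjU.RR iP) iP.mapDerivedCategory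
      (Groth.Agent.H33.DerAdjU.RRunit iP) iP.mapDerivedCategoryFactorsh.inv
      (HomotopyCategory.quasiIso B (ComplexShape.up ℤ))
  let ff := adjD.fullyFaithfulROfIsIsoCounit
  have h1 : (Groth.Agent.H33.DerAdjU.RR iP).Full := ff.full
  have h2 : (Groth.Agent.H33.DerAdjU.RR iP).Faithful := ff.faithful
  exact ⟨Functor.Full.of_iso e, Functor.Faithful.of_iso e⟩

include adjI in
/-- The essential image of `iP` on derived categories: objects whose homology is killed by `jS`. -/
theorem mem_essImage_iff (hε : ∀ G, IsIso (adjI.counit.app G))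
    (hz : ∀ G, IsZero (jS.obj (iP.obj G)))
    (hc : ∀ {F F' : A} (φ : F ⟶ F'), IsIso (iS.map φ) → IsIso (jS.map φ) → IsIso φ)
    (K : DerivedCategory A) :
    iP.mapDerivedCategory.essImage K ↔
      ∀ n : ℤ, IsZero (jS.obj ((DerivedCategory.homologyFunctor A n).obj K)) := by
  constructor
  · rintro ⟨M, ⟨e⟩⟩ n
    let C := DerivedCategory.Q.objPreimage M
    let eM : DerivedCategory.Q.obj C ≅ M := DerivedCategory.Q.objObjPreimageIso M
    let e1 : (DerivedCategory.homologyFunctor A n).obj K ≅ iP.obj (C.homology n) :=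
      (DerivedCategory.homologyFunctor A n).mapIso
        (e.symm ≪≫ iP.mapDerivedCategory.mapIso eM.symm ≪≫ iP.mapDerivedCategoryFactors.app C) ≪≫
      (DerivedCategory.homologyFunctorFactors A n).app _ ≪≫ mapHomologyIso iP C n
    exact IsZero.of_iso (hz _) (jS.mapIso e1)
  · intro h
    let C := DerivedCategory.Q.objPreimage K
    let eK : DerivedCategory.Q.obj C ≅ K := DerivedCategory.Q.objObjPreimageIso K
    have hC : ∀ n, IsZero (jS.obj (C.homology n)) := fun n =>
      IsZero.of_iso (h n) (jS.mapIso (((DerivedCategory.homologyFunctorFactors A n).app C).symm ≪≫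
        (DerivedCategory.homologyFunctor A n).mapIso eK))
    have hq := quasiIso_unitC adjI jS hε hz hc C hC
    have : IsIso (DerivedCategory.Q.map (Groth.Agent.H33.DerAdjU.unitC adjI (ComplexShape.up ℤ) C)) :=
      inferInstance
    refine ⟨DerivedCategory.Q.obj ((iS.mapHomologicalComplex (ComplexShape.up ℤ)).obj C), ⟨?_⟩⟩
    exact iP.mapDerivedCategoryFactors.app _ ≪≫
      (asIso (DerivedCategory.Q.map
        (Groth.Agent.H33.DerAdjU.unitC adjI (ComplexShape.up ℤ) C))).symm ≪≫ eK

end Derived

end Groth.Agent.H4.DerFF
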