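import Groth.Agent.H30.DerivedLES

/-!
# Mayer–Vietoris long exact sequence for right derived functors (helper4)

Additivity of `NatTrans.rightDerived`, the remaining exactness statements for
`Groth.Agent.H30.DerivedLES`, and the abstract Mayer–Vietoris sequence `mv`.
-/


set_option autoImplicit false
universe v v' u u'
open CategoryTheory Limits

namespace Groth.Agent.H4.DerivedMV

open Groth.Agent.H30.DerivedLES

section Additivity

variable {C : Type u} [Category.{v} C] [Abelian C] [HasInjectiveResolutions C]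
  {D : Type u'} [Category.{v'} D] [Abelian D]
  {F G : C ⥤ D} [F.Additive] [G.Additive]

lemma rightDerived_add (α β : F ⟶ G) (n : ℕ) :
    NatTrans.rightDerived (α + β) n = NatTrans.rightDerived α n + NatTrans.rightDerived β n := by
  ext X
  let I := injectiveResolution X
  rw [NatTrans.app_add, InjectiveResolution.rightDerived_app_eq (α + β) I n,
    InjectiveResolution.rightDerived_app_eq α I n, InjectiveResolution.rightDerived_app_eq β I n]
  have : (NatTrans.mapHomologicalComplex (α + β) (ComplexShape.up ℕ)).app I.cocomplex =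
      (NatTrans.mapHomologicalComplex α (ComplexShape.up ℕ)).app I.cocomplex +
      (NatTrans.mapHomologicalComplex β (ComplexShape.up ℕ)).app I.cocomplex := by
    ext i
    rfl
  rw [this, Functor.map_add, Preadditive.add_comp, Preadditive.comp_add]

lemma rightDerived_zero (n : ℕ) : NatTrans.rightDerived (0 : F ⟶ G) n = 0 := by
  have h := rightDerived_add (0 : F ⟶ G) 0 n
  rw [add_zero] at h
  exact left_eq_add.mp h

lemma rightDerived_neg (α : F ⟶ G) (n : ℕ) :
    NatTrans.rightDerived (-α) n = -NatTrans.rightDerived α n := by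
  have h := rightDerived_add α (-α) n
  rw [add_neg_cancel, rightDerived_zero] at h
  exact (neg_eq_of_add_eq_zero_right h.symm).symm

lemma rightDerived_sub (α β : F ⟶ G) (n : ℕ) :
    NatTrans.rightDerived (α - β) n = NatTrans.rightDerived α n - NatTrans.rightDerived β n := by
  rw [sub_eq_add_neg, rightDerived_add, rightDerived_neg, ← sub_eq_add_neg]

end Additivity


section LES

variable {C : Type u} [Category.{v} C] [Abelian C] [HasInjectiveResolutions C]
  {D : Type u'} [Category.{v'} D] [Abelian D]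
  {Γ E P : C ⥤ D} [Γ.Additive] [E.Additive] [P.Additive]
  (κ : Γ ⟶ E) (η : E ⟶ P) (w : κ ≫ η = 0)
  (h : ∀ Q : C, Injective Q →
    (ShortComplex.mk (κ.app Q) (η.app Q) (w_app κ η w Q)).ShortExact)

include w in
lemma rightDerived_comp_zero (i : ℕ) (X : C) :
    (NatTrans.rightDerived κ i).app X ≫ (NatTrans.rightDerived η i).app X = 0 := by
  rw [← NatTrans.comp_app, ← NatTrans.rightDerived_comp, w, rightDerived_zero]
  rfl

include w in
lemma homologyMap_comp_homologyMap {X : C} (I : InjectiveResolution X) (i : ℕ) :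
    HomologicalComplex.homologyMap ((NatTrans.mapHomologicalComplex κ _).app I.cocomplex) i ≫
      HomologicalComplex.homologyMap ((NatTrans.mapHomologicalComplex η _).app I.cocomplex) i = 0 := by
  rw [← HomologicalComplex.homologyMap_comp]
  have : (NatTrans.mapHomologicalComplex κ (ComplexShape.up ℕ)).app I.cocomplex ≫
      (NatTrans.mapHomologicalComplex η (ComplexShape.up ℕ)).app I.cocomplex = 0 :=
    (SC κ η w I.cocomplex).zero
  rw [this, HomologicalComplex.homologyMap_zero]

include h in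
lemma exact₂_I {X : C} (I : InjectiveResolution X) (i : ℕ) :
    (ShortComplex.mk _ _ (homologyMap_comp_homologyMap κ η w I i)).Exact :=
  (shortExact_SC κ η w h I).homology_exact₂ i

include h in
/-- Exactness of `R^i Γ X ⟶ R^i E X ⟶ R^i P X`. -/
lemma exact₂ (i : ℕ) (X : C) :
    (ShortComplex.mk ((NatTrans.rightDerived κ i).app X) ((NatTrans.rightDerived η i).app X)
      (rightDerived_comp_zero κ η w i X)).Exact := by
  let I := injectiveResolution X
  refine ShortComplex.exact_of_iso (ShortComplex.isoMk (isoH Γ I i).symm (isoH E I i).symm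
    (isoH P I i).symm ?_ ?_) (exact₂_I κ η w h I i)
  · dsimp only [Iso.symm_hom]
    rw [rightDerived_app_eq κ I i]
    simp only [Category.assoc, Iso.inv_hom_id_assoc]
  · dsimp only [Iso.symm_hom]
    rw [rightDerived_app_eq η I i]
    simp only [Category.assoc, Iso.inv_hom_id_assoc]

lemma δI_comp_homologyMap {X : C} (I : InjectiveResolution X) (i : ℕ) :
    δI κ η w h I i ≫ HomologicalComplex.homologyMap
      ((NatTrans.mapHomologicalComplex κ _).app I.cocomplex) (i + 1) = 0 :=
  (shortExact_SC κ η w h I).δ_comp i (i + 1) rfl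

lemma exact₁_I {X : C} (I : InjectiveResolution X) (i : ℕ) :
    (ShortComplex.mk _ _ (δI_comp_homologyMap κ η w h I i)).Exact :=
  (shortExact_SC κ η w h I).homology_exact₁ i (i + 1) rfl

lemma δ_comp_rightDerived (i : ℕ) (X : C) :
    (δ κ η w h i).app X ≫ (NatTrans.rightDerived κ (i + 1)).app X = 0 := by
  let I := injectiveResolution X
  have h0 := δI_comp_homologyMap κ η w h I i
  rw [δ_app_eq κ η w h I i, rightDerived_app_eq κ I (i + 1)]
  dsimp only [δapp]
  simp only [Category.assoc, Iso.inv_hom_id_assoc]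
  rw [reassoc_of% h0, zero_comp, comp_zero]

/-- Exactness of `R^i P X ⟶ R^{i+1} Γ X ⟶ R^{i+1} E X`. -/
lemma exact₁ (i : ℕ) (X : C) :
    (ShortComplex.mk ((δ κ η w h i).app X) ((NatTrans.rightDerived κ (i + 1)).app X)
      (δ_comp_rightDerived κ η w h i X)).Exact := by
  let I := injectiveResolution X
  refine ShortComplex.exact_of_iso (ShortComplex.isoMk (isoH P I i).symm (isoH Γ I (i + 1)).symm
    (isoH E I (i + 1)).symm ?_ ?_) (exact₁_I κ η w h I i)
  · dsimp only [Iso.symm_hom]
    rw [δ_app_eq κ η w h I i]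
    dsimp only [δapp]
    simp only [Iso.inv_hom_id_assoc]
  · dsimp only [Iso.symm_hom]
    rw [rightDerived_app_eq κ I (i + 1)]
    simp only [Iso.inv_hom_id_assoc]

include h in
/-- `R⁰Γ X ⟶ R⁰E X` is a monomorphism. -/
lemma mono_zero (X : C) : Mono ((NatTrans.rightDerived κ 0).app X) := by
  let I := injectiveResolution X
  let φ := (NatTrans.mapHomologicalComplex κ (ComplexShape.up ℕ)).app I.cocomplex
  have hφ0 : Mono (φ.f 0) := (h (I.cocomplex.X 0) inferInstance).mono_f
  have hc : Mono (HomologicalComplex.cyclesMap φ 0) := by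
    have : Mono (HomologicalComplex.cyclesMap φ 0 ≫ HomologicalComplex.iCycles _ 0) := by
      rw [HomologicalComplex.cyclesMap_i]
      infer_instance
    exact mono_of_mono _ (HomologicalComplex.iCycles _ 0)
  have hh : Mono (HomologicalComplex.homologyMap φ 0) := by
    have e := CochainComplex.isoHomologyπ₀_inv_naturality φ
    have : HomologicalComplex.homologyMap φ 0 =
        (CochainComplex.isoHomologyπ₀ _).inv ≫ HomologicalComplex.cyclesMap φ 0 ≫
          (CochainComplex.isoHomologyπ₀ _).hom := by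
      rw [← reassoc_of% e, Iso.inv_hom_id, Category.comp_id]
    rw [this]
    infer_instance
  rw [rightDerived_app_eq κ I 0]
  infer_instance

end LES


section MV

variable {C : Type u} [Category.{v} C] [Abelian C] [HasInjectiveResolutions C]
  {D : Type u'} [Category.{v'} D] [Abelian D]
  {G₀ G₁ G₂ G₃ : C ⥤ D} [G₀.Additive] [G₁.Additive] [G₂.Additive] [G₃.Additive]
  (α₁ : G₀ ⟶ G₁) (α₂ : G₀ ⟶ G₂) (β₁ : G₁ ⟶ G₃) (β₂ : G₂ ⟶ G₃)
  (comm : α₁ ≫ β₁ = α₂ ≫ β₂)

variable (G₁ G₂) in
/-- The functor `X ↦ G₁ X ⊞ G₂ X`. -/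
@[simps]
noncomputable def EE : C ⥤ D where
  obj X := G₁.obj X ⊞ G₂.obj X
  map f := biprod.map (G₁.map f) (G₂.map f)

instance : (EE G₁ G₂).Additive where
  map_add {X Y f g} := by
    change biprod.map (G₁.map (f + g)) (G₂.map (f + g)) =
      biprod.map (G₁.map f) (G₂.map f) + biprod.map (G₁.map g) (G₂.map g)
    rw [Functor.map_add, Functor.map_add]
    apply biprod.hom_ext
    · rw [biprod.map_fst, Preadditive.add_comp, biprod.map_fst, biprod.map_fst,
        Preadditive.comp_add]
    · rw [biprod.map_snd, Preadditive.add_comp, biprod.map_snd, biprod.map_snd,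
        Preadditive.comp_add]

/-- `G₀ ⟶ G₁ ⊞ G₂`. -/
@[simps]
noncomputable def kap : G₀ ⟶ EE G₁ G₂ where
  app X := biprod.lift (α₁.app X) (α₂.app X)
  naturality X Y f := by
    change G₀.map f ≫ biprod.lift (α₁.app Y) (α₂.app Y) =
      biprod.lift (α₁.app X) (α₂.app X) ≫ biprod.map (G₁.map f) (G₂.map f)
    apply biprod.hom_ext
    · rw [Category.assoc, Category.assoc, biprod.lift_fst, biprod.map_fst, biprod.lift_fst_assoc,
        α₁.naturality]
    · rw [Category.assoc, Category.assoc, biprod.lift_snd, biprod.map_snd, biprod.lift_snd_assoc,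
        α₂.naturality]

/-- `G₁ ⊞ G₂ ⟶ G₃`. -/
@[simps]
noncomputable def eta : EE G₁ G₂ ⟶ G₃ where
  app X := biprod.desc (β₁.app X) (-β₂.app X)
  naturality X Y f := by
    change biprod.map (G₁.map f) (G₂.map f) ≫ biprod.desc (β₁.app Y) (-β₂.app Y) =
      biprod.desc (β₁.app X) (-β₂.app X) ≫ G₃.map f
    apply biprod.hom_ext'
    · rw [biprod.inl_map_assoc, biprod.inl_desc, biprod.inl_desc_assoc, β₁.naturality]
    · rw [biprod.inr_map_assoc, biprod.inr_desc, biprod.inr_desc_assoc, Preadditive.comp_neg,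
        Preadditive.neg_comp, β₂.naturality]

variable (G₁ G₂) in
@[simps] noncomputable def pr₁ : EE G₁ G₂ ⟶ G₁ where
  app X := biprod.fst
  naturality X Y f := biprod.map_fst _ _
variable (G₁ G₂) in
@[simps] noncomputable def pr₂ : EE G₁ G₂ ⟶ G₂ where
  app X := biprod.snd
  naturality X Y f := biprod.map_snd _ _
variable (G₁ G₂) in
@[simps] noncomputable def in₁ : G₁ ⟶ EE G₁ G₂ where
  app X := biprod.inl
  naturality X Y f := (biprod.inl_map _ _).symm
variable (G₁ G₂) in
@[simps] noncomputable def in₂ : G₂ ⟶ EE G₁ G₂ where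
  app X := biprod.inr
  naturality X Y f := (biprod.inr_map _ _).symm

include comm in
lemma kap_eta : kap α₁ α₂ ≫ eta β₁ β₂ = 0 := by
  ext X
  have h1 : α₁.app X ≫ β₁.app X = α₂.app X ≫ β₂.app X := by
    rw [← NatTrans.comp_app, comm, NatTrans.comp_app]
  have h2 : biprod.lift (α₁.app X) (α₂.app X) ≫ biprod.desc (β₁.app X) (-β₂.app X) =
      α₁.app X ≫ β₁.app X + α₂.app X ≫ (-β₂.app X) := biprod.lift_desc
  rw [Preadditive.comp_neg, h1, add_neg_cancel] at h2
  exact h2

lemma kap_pr₁ : kap α₁ α₂ ≫ pr₁ G₁ G₂ = α₁ := by ext X; exact biprod.lift_fst _ _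
lemma kap_pr₂ : kap α₁ α₂ ≫ pr₂ G₁ G₂ = α₂ := by ext X; exact biprod.lift_snd _ _
lemma in₁_eta : in₁ G₁ G₂ ≫ eta β₁ β₂ = β₁ := by ext X; exact biprod.inl_desc _ _
lemma in₂_eta : in₂ G₁ G₂ ≫ eta β₁ β₂ = -β₂ := by ext X; exact biprod.inr_desc _ _
lemma in₁_pr₁ : in₁ G₁ G₂ ≫ pr₁ G₁ G₂ = 𝟙 _ := by ext X; exact biprod.inl_fst
lemma in₂_pr₂ : in₂ G₁ G₂ ≫ pr₂ G₁ G₂ = 𝟙 _ := by ext X; exact biprod.inr_snd
lemma in₁_pr₂ : in₁ G₁ G₂ ≫ pr₂ G₁ G₂ = 0 := by ext X; exact biprod.inl_snd
lemma in₂_pr₁ : in₂ G₁ G₂ ≫ pr₁ G₁ G₂ = 0 := by ext X; exact biprod.inr_fst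
lemma pr_in : pr₁ G₁ G₂ ≫ in₁ G₁ G₂ + pr₂ G₁ G₂ ≫ in₂ G₁ G₂ = 𝟙 _ := by
  ext X
  exact biprod.total

variable (G₁ G₂) in
/-- `Rⁿ(G₁ ⊞ G₂) X ≅ RⁿG₁ X ⊞ RⁿG₂ X`. -/
noncomputable def theta (n : ℕ) (X : C) :
    ((EE G₁ G₂).rightDerived n).obj X ≅ (G₁.rightDerived n).obj X ⊞ (G₂.rightDerived n).obj X where
  hom := biprod.lift ((NatTrans.rightDerived (pr₁ G₁ G₂) n).app X)
    ((NatTrans.rightDerived (pr₂ G₁ G₂) n).app X)
  inv := biprod.desc ((NatTrans.rightDerived (in₁ G₁ G₂) n).app X)
    ((NatTrans.rightDerived (in₂ G₁ G₂) n).app X)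
  hom_inv_id := by
    rw [biprod.lift_desc, ← NatTrans.comp_app, ← NatTrans.comp_app, ← NatTrans.rightDerived_comp,
      ← NatTrans.rightDerived_comp, ← NatTrans.app_add, ← rightDerived_add, pr_in,
      NatTrans.rightDerived_id]
    rfl
  inv_hom_id := by
    apply biprod.hom_ext' <;> apply biprod.hom_ext <;>
      simp only [Category.assoc, biprod.inl_desc_assoc, biprod.inr_desc_assoc, biprod.lift_fst,
        biprod.lift_snd, Category.id_comp, biprod.inl_fst, biprod.inl_snd, biprod.inr_fst,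
        biprod.inr_snd] <;>
      rw [← NatTrans.comp_app, ← NatTrans.rightDerived_comp]
    · rw [in₁_pr₁, NatTrans.rightDerived_id]; rfl
    · rw [in₁_pr₂, rightDerived_zero]; rfl
    · rw [in₂_pr₁, rightDerived_zero]; rfl
    · rw [in₂_pr₂, NatTrans.rightDerived_id]; rfl

lemma kap_theta (n : ℕ) (X : C) :
    (NatTrans.rightDerived (kap α₁ α₂) n).app X ≫ (theta G₁ G₂ n X).hom =
      biprod.lift ((NatTrans.rightDerived α₁ n).app X) ((NatTrans.rightDerived α₂ n).app X) := by
  apply biprod.hom_ext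
  · simp only [theta, Category.assoc, biprod.lift_fst]
    rw [← NatTrans.comp_app, ← NatTrans.rightDerived_comp, kap_pr₁]
  · simp only [theta, Category.assoc, biprod.lift_snd]
    rw [← NatTrans.comp_app, ← NatTrans.rightDerived_comp, kap_pr₂]

lemma theta_inv_eta (n : ℕ) (X : C) :
    (theta G₁ G₂ n X).inv ≫ (NatTrans.rightDerived (eta β₁ β₂) n).app X =
      biprod.desc ((NatTrans.rightDerived β₁ n).app X) (-(NatTrans.rightDerived β₂ n).app X) := by
  apply biprod.hom_ext'
  · simp only [theta, biprod.inl_desc_assoc, biprod.inl_desc]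
    rw [← NatTrans.comp_app, ← NatTrans.rightDerived_comp, in₁_eta]
  · simp only [theta, biprod.inr_desc_assoc, biprod.inr_desc]
    rw [← NatTrans.comp_app, ← NatTrans.rightDerived_comp, in₂_eta, rightDerived_neg]
    rfl

end MV


section Main

variable {C : Type u} [Category.{v} C] [Abelian C] [HasInjectiveResolutions C]
  {D : Type u'} [Category.{v'} D] [Abelian D]
  {G₀ G₁ G₂ G₃ : C ⥤ D} [G₀.Additive] [G₁.Additive] [G₂.Additive] [G₃.Additive]
  (α₁ : G₀ ⟶ G₁) (α₂ : G₀ ⟶ G₂) (β₁ : G₁ ⟶ G₃) (β₂ : G₂ ⟶ G₃)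
  (comm : α₁ ≫ β₁ = α₂ ≫ β₂)
  (hex : ∀ Q : C, Injective Q →
    (ShortComplex.mk (biprod.lift (α₁.app Q) (α₂.app Q)) (biprod.desc (β₁.app Q) (-β₂.app Q))
      (w_app (kap α₁ α₂) (eta β₁ β₂) (kap_eta α₁ α₂ β₁ β₂ comm) Q)).ShortExact)

include hex in
/-- Abstract Mayer–Vietoris long exact sequence for right derived functors. -/
theorem mv (F : C) :
    ∃ δ : ∀ n : ℕ, (G₃.rightDerived n).obj F ⟶ (G₀.rightDerived (n + 1)).obj F,
      Mono (biprod.lift ((NatTrans.rightDerived α₁ 0).app F) ((NatTrans.rightDerived α₂ 0).app F)) ∧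
      ∀ n : ℕ,
        (ComposableArrows.mk₂
          (biprod.lift ((NatTrans.rightDerived α₁ n).app F) ((NatTrans.rightDerived α₂ n).app F))
          (biprod.desc ((NatTrans.rightDerived β₁ n).app F)
            (-((NatTrans.rightDerived β₂ n).app F)))).Exact ∧
        (ComposableArrows.mk₂
          (biprod.desc ((NatTrans.rightDerived β₁ n).app F)
            (-((NatTrans.rightDerived β₂ n).app F)))
          (δ n)).Exact ∧
        (ComposableArrows.mk₂ (δ n)
          (biprod.lift ((NatTrans.rightDerived α₁ (n + 1)).app F)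
            ((NatTrans.rightDerived α₂ (n + 1)).app F))).Exact := by
  let κ := kap α₁ α₂
  let η := eta β₁ β₂
  have w : κ ≫ η = 0 := kap_eta α₁ α₂ β₁ β₂ comm
  have h : ∀ Q : C, Injective Q →
      (ShortComplex.mk (κ.app Q) (η.app Q) (w_app κ η w Q)).ShortExact := hex
  refine ⟨fun n => (δ κ η w h n).app F, ?_, fun n => ⟨?_, ?_, ?_⟩⟩
  · have := mono_zero κ η w h F
    rw [← kap_theta α₁ α₂ 0 F]
    infer_instance
  · have e := exact₂ κ η w h n F
    have e' : (ShortComplex.mk
        (biprod.lift ((NatTrans.rightDerived α₁ n).app F) ((NatTrans.rightDerived α₂ n).app F))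
        (biprod.desc ((NatTrans.rightDerived β₁ n).app F) (-((NatTrans.rightDerived β₂ n).app F)))
        (by
          rw [← kap_theta α₁ α₂ n F, ← theta_inv_eta β₁ β₂ n F, Category.assoc,
            Iso.hom_inv_id_assoc]
          exact rightDerived_comp_zero κ η w n F)).Exact := by
      refine ShortComplex.exact_of_iso ?_ e
      refine ShortComplex.isoMk (Iso.refl _) (theta G₁ G₂ n F) (Iso.refl _) ?_ ?_
      · dsimp only [Iso.refl_hom]
        rw [Category.id_comp]
        exact (kap_theta α₁ α₂ n F).symm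
      · dsimp only [Iso.refl_hom]
        rw [Category.comp_id, ← theta_inv_eta β₁ β₂ n F, Iso.hom_inv_id_assoc]
    exact e'.exact_toComposableArrows
  · have e := Groth.Agent.H30.DerivedLES.exact₃ κ η w h n F
    have e' : (ShortComplex.mk
        (biprod.desc ((NatTrans.rightDerived β₁ n).app F) (-((NatTrans.rightDerived β₂ n).app F)))
        ((δ κ η w h n).app F)
        (by
          have hz : (NatTrans.rightDerived η n).app F ≫ (δ κ η w h n).app F = 0 := by
            rw [← NatTrans.comp_app, rightDerived_comp_δ]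
            rfl
          rw [← theta_inv_eta β₁ β₂ n F, Category.assoc]
          exact (congrArg (fun t => (theta G₁ G₂ n F).inv ≫ t) hz).trans comp_zero)).Exact := by
      refine ShortComplex.exact_of_iso ?_ e
      refine ShortComplex.isoMk (theta G₁ G₂ n F) (Iso.refl _) (Iso.refl _) ?_ ?_
      · dsimp only [Iso.refl_hom]
        rw [Category.comp_id, ← theta_inv_eta β₁ β₂ n F, Iso.hom_inv_id_assoc]
      · dsimp only [Iso.refl_hom]
        rw [Category.id_comp, Category.comp_id]
    exact e'.exact_toComposableArrows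
  · have e := exact₁ κ η w h n F
    have e' : (ShortComplex.mk ((δ κ η w h n).app F)
        (biprod.lift ((NatTrans.rightDerived α₁ (n + 1)).app F)
          ((NatTrans.rightDerived α₂ (n + 1)).app F))
        (by
          rw [← kap_theta α₁ α₂ (n + 1) F, ← Category.assoc, δ_comp_rightDerived, zero_comp])).Exact := by
      refine ShortComplex.exact_of_iso ?_ e
      refine ShortComplex.isoMk (Iso.refl _) (Iso.refl _) (theta G₁ G₂ (n + 1) F) ?_ ?_
      · dsimp only [Iso.refl_hom]
        rw [Category.id_comp, Category.comp_id]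
      · dsimp only [Iso.refl_hom]
        rw [Category.id_comp]
        exact (kap_theta α₁ α₂ (n + 1) F).symm
    exact e'.exact_toComposableArrows

end Main

end Groth.Agent.H4.DerivedMV
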