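import Mathlib.AlgebraicGeometry.Morphisms.FormallyUnramified
import Mathlib.AlgebraicGeometry.Morphisms.Etale
import Mathlib.AlgebraicGeometry.Morphisms.IsIso
import Mathlib.AlgebraicGeometry.Morphisms.UnderlyingMap

/-!
# Two morphisms into a scheme with open diagonal which agree after a surjection are equal
-/

set_option autoImplicit false
universe u

open CategoryTheory CategoryTheory.Limits AlgebraicGeometry

namespace Groth.Agent.H4

/-- Let `g : U₂ ⟶ S` have an open immersion as diagonal (e.g. `g` étale or unramified), and let
`a b : U₁ ⟶ U₂` be two `S`-morphisms which agree after composing with a surjective `q : W ⟶ U₁`.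
Then `a = b`. -/
theorem eq_of_surjective_comp_eq {S U₁ U₂ W : Scheme.{u}} (g : U₂ ⟶ S)
    [IsOpenImmersion (pullback.diagonal g)] (a b : U₁ ⟶ U₂) (hab : a ≫ g = b ≫ g)
    (q : W ⟶ U₁) [Surjective q] (hq : q ≫ a = q ≫ b) : a = b := by
  let ab : U₁ ⟶ pullback g g := pullback.lift a b hab
  have ab1 : ab ≫ pullback.fst g g = a := pullback.lift_fst _ _ _
  have ab2 : ab ≫ pullback.snd g g = b := pullback.lift_snd _ _ _
  have d1 : pullback.diagonal g ≫ pullback.fst g g = 𝟙 _ := pullback.diagonal_fst g
  have d2 : pullback.diagonal g ≫ pullback.snd g g = 𝟙 _ := pullback.diagonal_snd g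
  let ι : pullback ab (pullback.diagonal g) ⟶ U₁ := pullback.fst _ _
  have hι : ι ≫ a = ι ≫ b := by
    have h1 : ι ≫ ab = pullback.snd ab (pullback.diagonal g) ≫ pullback.diagonal g :=
      pullback.condition
    have ha : ι ≫ a = pullback.snd ab (pullback.diagonal g) := by
      have := congrArg (· ≫ pullback.fst g g) h1
      simp only [Category.assoc] at this
      rw [ab1, d1, Category.comp_id] at this
      exact this
    have hb : ι ≫ b = pullback.snd ab (pullback.diagonal g) := by
      have := congrArg (· ≫ pullback.snd g g) h1
      simp only [Category.assoc] at this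
      rw [ab2, d2, Category.comp_id] at this
      exact this
    rw [ha, hb]
  let l : W ⟶ pullback ab (pullback.diagonal g) :=
    pullback.lift q (q ≫ a) (by
      apply pullback.hom_ext
      · rw [Category.assoc, Category.assoc, ab1, d1, Category.comp_id]
      · rw [Category.assoc, Category.assoc, ab2, d2, Category.comp_id, hq])
  have hl : l ≫ ι = q := pullback.lift_fst _ _ _
  haveI : Surjective ι := by
    constructor
    intro x
    obtain ⟨w, rfl⟩ := q.surjective x
    exact ⟨l.base w, by rw [← Scheme.Hom.comp_apply, hl]⟩
  haveI : IsIso ι := (isIso_iff_isOpenImmersion_and_surjective ι).2 ⟨inferInstance, inferInstance⟩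
  exact (cancel_epi ι).1 hι

end Groth.Agent.H4
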