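import Mathlib.AlgebraicGeometry.Morphisms.Etale
import Mathlib.AlgebraicGeometry.Limits
import Mathlib.AlgebraicGeometry.Artinian
import Mathlib.RingTheory.Etale.Field
import Mathlib.RingTheory.RingHom.Etale
import Mathlib.RingTheory.Unramified.Finite
import Mathlib.RingTheory.Artinian.Ring
set_option autoImplicit false
open CategoryTheory CategoryTheory.Limits AlgebraicGeometry Opposite
universe u

namespace Groth.Agent.H4.EtField

/-- étale algebra over a field with exactly one prime is a field, finite separable. -/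
theorem isField_of_etale (k : Type u) [Field k] (B : Type u) [CommRing B] [Algebra k B]
    [Algebra.Etale k B] [Subsingleton (PrimeSpectrum B)] [Nonempty (PrimeSpectrum B)] :
    IsField B := by
  have hfin : Module.Finite k B := Algebra.FormallyUnramified.finite_of_free k B
  have : IsArtinianRing B := IsArtinianRing.of_finite k B
  have : IsReduced B := Algebra.FormallyUnramified.isReduced_of_field k B
  have : Nontrivial B := by
    obtain ⟨p⟩ := ‹Nonempty (PrimeSpectrum B)›
    exact p.nontrivial
  have : IsLocalRing B := by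
    apply IsLocalRing.of_unique_max_ideal
    obtain ⟨m, hm⟩ := Ideal.exists_maximal B
    refine ⟨m, hm, fun m' hm' => ?_⟩
    have := Subsingleton.elim (⟨m, hm.isPrime⟩ : PrimeSpectrum B) ⟨m', hm'.isPrime⟩
    exact (congrArg PrimeSpectrum.asIdeal this).symm
  exact IsArtinianRing.isField_of_isReduced_of_isLocalRing B

variable (k : Type u) [Field k] {U : Scheme.{u}} (φ : U ⟶ Spec (CommRingCat.of k))

/-- the structure ring map of an affine open. -/
noncomputable def ringMap {W : U.Opens} (hW : IsAffineOpen W) : CommRingCat.of k ⟶ Γ(U, W) :=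
  Spec.preimage (hW.fromSpec ≫ φ)

lemma spec_ringMap {W : U.Opens} (hW : IsAffineOpen W) :
    Spec.map (ringMap k φ hW) = hW.fromSpec ≫ φ := Spec.map_preimage _

lemma ringMap_etale [Etale φ] {W : U.Opens} (hW : IsAffineOpen W) : (ringMap k φ hW).hom.Etale := by
  refine (HasRingHomProperty.Spec_iff (P := @Etale)).1 ?_
  rw [spec_ringMap]
  infer_instance

lemma isArtinian_of_etale [Etale φ] {W : U.Opens} (hW : IsAffineOpen W) : IsArtinianRing Γ(U, W) := by
  have h := ringMap_etale k φ hW
  algebraize [(ringMap k φ hW).hom]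
  have hfin : Module.Finite k Γ(U, W) := Algebra.FormallyUnramified.finite_of_free k _
  exact IsArtinianRing.of_finite k _

lemma discrete [Etale φ] : DiscreteTopology U := by
  apply discreteTopology_iff_isOpen_singleton.mpr
  intro x
  obtain ⟨W, hW1, hW2, _⟩ := exists_isAffineOpen_mem_and_subset (TopologicalSpace.Opens.mem_top x)
  have : IsArtinianRing Γ(U, W) := isArtinian_of_etale k φ hW1
  have : DiscreteTopology (Spec Γ(U, W)) := inferInstanceAs (DiscreteTopology (PrimeSpectrum _))
  have : DiscreteTopology W := hW1.isoSpec.hom.homeomorph.symm.discreteTopology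
  have h := (isOpen_discrete ({⟨x, hW2⟩} : Set W)).trans W.2
  have h2 : (Subtype.val '' ({⟨x, hW2⟩} : Set W) : Set U) = {x} := by
    apply Set.eq_of_subset_of_subset
    · rintro _ ⟨z, hz, rfl⟩
      have hz' : z = ⟨x, hW2⟩ := hz
      subst hz'
      exact Set.mem_singleton _
    · rintro _ rfl
      exact ⟨⟨_, hW2⟩, Set.mem_singleton _, rfl⟩
  exact h2 ▸ h

section main
variable [Etale φ]

/-- singleton opens -/
noncomputable def W (u : U) : U.Opens :=
  ⟨{u}, (discreteTopology_iff_isOpen_singleton.1 (discrete k φ)) u⟩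

lemma isAffineOpen_W (u : U) : IsAffineOpen (W k φ u) := by
  obtain ⟨V, hV1, hV2, hV3⟩ := exists_isAffineOpen_mem_and_subset (x := u) (U := W k φ u)
    (Set.mem_singleton u)
  have : V = W k φ u := by
    apply TopologicalSpace.Opens.ext
    apply le_antisymm hV3
    intro y hy
    have hy' : y = u := hy
    rw [hy']; exact hV2
  exact this ▸ hV1

instance (u : U) : Subsingleton (W k φ u) :=
  ⟨fun a b => Subtype.ext ((show a.1 = u from a.2).trans (show b.1 = u from b.2).symm)⟩

instance (u : U) : Nonempty (W k φ u) := ⟨⟨u, Set.mem_singleton u⟩⟩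

instance (u : U) : Subsingleton (PrimeSpectrum Γ(U, W k φ u)) :=
  (isAffineOpen_W k φ u).isoSpec.inv.homeomorph.injective.subsingleton

instance (u : U) : Nonempty (PrimeSpectrum Γ(U, W k φ u)) :=
  ⟨(isAffineOpen_W k φ u).isoSpec.hom ⟨u, Set.mem_singleton u⟩⟩

lemma isField_K (u : U) : IsField Γ(U, W k φ u) := by
  have h := ringMap_etale k φ (isAffineOpen_W k φ u)
  algebraize [(ringMap k φ (isAffineOpen_W k φ u)).hom]
  exact isField_of_etale k Γ(U, W k φ u)

theorem mp : ∃ (ι : Type u) (K : ι → Type u) (_ : ∀ i, Field (K i)) (_ : ∀ i, Algebra k (K i))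
        (_ : ∀ i, FiniteDimensional k (K i)) (_ : ∀ i, Algebra.IsSeparable k (K i))
        (e : (∐ fun i => Spec (CommRingCat.of (K i))) ≅ U),
        ∀ i, Sigma.ι (fun i => Spec (CommRingCat.of (K i))) i ≫ e.hom ≫ φ =
          Spec.map (CommRingCat.ofHom (algebraMap k (K i))) := by
  let K : U → Type u := fun u => Γ(U, W k φ u)
  let fK : ∀ u, Field (K u) := fun u => (isField_K k φ u).toField
  let aK : ∀ u, Algebra k (K u) := fun u => (ringMap k φ (isAffineOpen_W k φ u)).hom.toAlgebra
  have hE : ∀ u, Algebra.Etale k (K u) := fun u => ringMap_etale k φ (isAffineOpen_W k φ u)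
  have hfin : ∀ u, Module.Finite k (K u) := fun u =>
    have := hE u
    Algebra.FormallyUnramified.finite_of_free k (K u)
  have hsep : ∀ u, Algebra.IsSeparable k (K u) := fun u =>
    have := hE u
    have := hfin u
    (Algebra.FormallyEtale.iff_isSeparable k (K u)).1 inferInstance
  let f : ∀ u : U, Spec (CommRingCat.of (K u)) ⟶ U := fun u => (isAffineOpen_W k φ u).fromSpec
  have : ∀ u, IsOpenImmersion (f u) := fun u => inferInstanceAs (IsOpenImmersion (isAffineOpen_W k φ u).fromSpec)
  have hr : ∀ u, (f u).opensRange = W k φ u := fun u => (isAffineOpen_W k φ u).opensRange_fromSpec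
  obtain ⟨hc⟩ := nonempty_isColimit_cofanMk_of f (by
      rw [eq_top_iff]
      intro x _
      have : x ∈ (f x).opensRange := by rw [hr]; exact Set.mem_singleton x
      exact TopologicalSpace.Opens.mem_iSup.2 ⟨x, this⟩) (by
      intro a b hab
      show Disjoint (f a).opensRange (f b).opensRange
      rw [hr, hr, disjoint_iff]
      ext x
      simp only [TopologicalSpace.Opens.coe_inf, TopologicalSpace.Opens.coe_bot, Set.mem_inter_iff,
        Set.mem_empty_iff_false, iff_false, not_and]
      intro h1 h2
      exact hab ((show x = a from h1).symm.trans (show x = b from h2)))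
  let e := (colimit.isColimit (Discrete.functor fun u => Spec (CommRingCat.of (K u)))).coconePointUniqueUpToIso hc
  refine ⟨U, K, fK, aK, hfin, hsep, e, fun u => ?_⟩
  have h1 : Sigma.ι (fun u => Spec (CommRingCat.of (K u))) u ≫ e.hom = f u :=
    colimit.comp_coconePointUniqueUpToIso_hom hc ⟨u⟩
  rw [← Category.assoc, h1]
  exact (spec_ringMap k φ (isAffineOpen_W k φ u)).symm

end main

set_option backward.isDefEq.respectTransparency.types false in
theorem mpr (h : ∃ (ι : Type u) (K : ι → Type u) (_ : ∀ i, Field (K i)) (_ : ∀ i, Algebra k (K i))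
        (_ : ∀ i, FiniteDimensional k (K i)) (_ : ∀ i, Algebra.IsSeparable k (K i))
        (e : (∐ fun i => Spec (CommRingCat.of (K i))) ≅ U),
        ∀ i, Sigma.ι (fun i => Spec (CommRingCat.of (K i))) i ≫ e.hom ≫ φ =
          Spec.map (CommRingCat.ofHom (algebraMap k (K i)))) : Etale φ := by
  obtain ⟨ι, K, fK, aK, hfin, hsep, e, he⟩ := h
  have h1 : ∀ i, Etale (Spec.map (CommRingCat.ofHom (algebraMap k (K i)))) := by
    intro i
    rw [HasRingHomProperty.Spec_iff (P := @Etale)]
    have : Algebra.FormallyEtale k (K i) := Algebra.FormallyEtale.of_isSeparable k (K i)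
    have : Algebra.Etale k (K i) :=
      { finitePresentation := Algebra.FinitePresentation.of_finiteType.1 inferInstance }
    exact RingHom.etale_algebraMap.mpr this
  have h2 : e.hom ≫ φ = Sigma.desc (fun i => Spec.map (CommRingCat.ofHom (algebraMap k (K i)))) := by
    apply Sigma.hom_ext
    intro i
    rw [he i, colimit.ι_desc]
    rfl
  have h3 : Etale (e.hom ≫ φ) := by
    rw [h2]
    exact IsZariskiLocalAtSource.sigmaDesc (P := @Etale) h1
  have h4 : φ = e.inv ≫ (e.hom ≫ φ) := by simp
  rw [h4]
  infer_instance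

end Groth.Agent.H4.EtField
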