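import Groth.Prelude.Def_SixF1
import Groth.Agent.H1.LanFlat

/-!
# Exactness of inverse image of sheaves of `Λ`-modules on small étale sites (helper4)
-/

set_option autoImplicit false

namespace Groth.Agent.H4.EtModPull

open CategoryTheory Limits AlgebraicGeometry Opposite

universe u

variable (Λ : Type (u + 1)) [CommRing Λ] {X Y : Scheme.{u}} (f : X ⟶ Y)

instance pull_preservesFiniteLimits : PreservesFiniteLimits (EtModW.pull Λ f) := by
  have hfilt : ∀ K : (X.Etale)ᵒᵖ, IsFiltered (CostructuredArrow (EtCoh.bc f).op K) := fun K =>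
    IsFiltered.of_equivalence (structuredArrowOpEquivalence (EtCoh.bc f) (unop K))
  have hAB5 : AB5OfSize.{u, u + 1} (ModuleCat.{u + 1} Λ) :=
    AB5OfSize_of_univLE.{u, u + 1, u + 1, u + 1} (ModuleCat.{u + 1} Λ)
  have hex : ∀ K : (X.Etale)ᵒᵖ,
      HasExactColimitsOfShape (CostructuredArrow (EtCoh.bc f).op K) (ModuleCat.{u + 1} Λ) :=
    fun K => inferInstance
  have : PreservesFiniteLimits ((EtCoh.bc f).op.lan :
      ((Y.Etale)ᵒᵖ ⥤ ModuleCat.{u + 1} Λ) ⥤ (X.Etale)ᵒᵖ ⥤ ModuleCat.{u + 1} Λ) :=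
    Groth.Agent.H1.lan_preservesFiniteLimits_of_flat_gen (ModuleCat.{u + 1} Λ) (EtCoh.bc f)
  exact Functor.sheafPullbackConstruction.preservesFiniteLimits (EtCoh.bc f) (ModuleCat.{u + 1} Λ)
    Y.smallEtaleTopology X.smallEtaleTopology

instance pull_preservesFiniteColimits : PreservesFiniteColimits (EtModW.pull Λ f) := by
  have : PreservesColimitsOfSize.{0, 0} (EtModW.pull Λ f) :=
    (EtSix.pullPushModAdj Λ f).leftAdjoint_preservesColimits
  exact PreservesColimitsOfSize.preservesFiniteColimits _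

end Groth.Agent.H4.EtModPull
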