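import Mathlib

/-!
# Higher right derived functors of an exact functor vanish
-/

set_option autoImplicit false
open CategoryTheory CategoryTheory.Limits

namespace Groth.Agent.H4.ExactDerived

universe v v' u u'

variable {A : Type u} [Category.{v} A] [Abelian A] [HasInjectiveResolutions A]
  {B : Type u'} [Category.{v'} B] [Abelian B]
  (F : A ⥤ B) [F.Additive] [PreservesFiniteLimits F] [PreservesFiniteColimits F]

theorem isZero_rightDerived_succ (X : A) (n : ℕ) : IsZero ((F.rightDerived (n + 1)).obj X) := by
  let I : InjectiveResolution X := Classical.choice (HasInjectiveResolution.out (Z := X))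
  refine IsZero.of_iso ?_ (I.isoRightDerivedObj F (n + 1))
  show IsZero (((F.mapHomologicalComplex _).obj I.cocomplex).homology (n + 1))
  rw [← HomologicalComplex.exactAt_iff_isZero_homology,
    HomologicalComplex.exactAt_iff' _ n (n + 1) (n + 2) (by simp)
      (by simp only [CochainComplex.next]; rfl)]
  exact (I.exact_succ n).map F

end Groth.Agent.H4.ExactDerived
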