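import Mathlib
import Groth.Agent.H4.GlueSec
import Groth.Prelude.Def_EtShriek2

/-!
# Sections with support in a closed subset; excision for H⁰ with supports
-/

set_option autoImplicit false
open CategoryTheory CategoryTheory.Limits AlgebraicGeometry Opposite
universe u
open EtCoh Groth.Agent.H4.Stalks Groth.Agent.H4.GlueSec

namespace Groth.Agent.H4.SuppSec

section Plain

/-- two `K`-points of `U'` at the same point `x'` with equal images in `U` agree, when the residue
field extension at `x'` is trivial. -/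
theorem eq_of_residueFieldMap_bijective {U' U : Scheme.{u}} (φ : U' ⟶ U) {K : Type u} [Field K]
    (a b : Spec (CommRingCat.of K) ⟶ U') (x' : U') (p : Spec (CommRingCat.of K))
    (ha : a p = x') (hb : b p = x')
    (hρ : Function.Bijective (φ.residueFieldMap x'))
    (e : a ≫ φ = b ≫ φ) : a = b := by
  obtain ⟨⟨x₀, α⟩, ha'⟩ := (Scheme.SpecToEquivOfField K U').symm.surjective a
  obtain ⟨⟨x₁, β⟩, hb'⟩ := (Scheme.SpecToEquivOfField K U').symm.surjective b
  have ea : a = Spec.map α ≫ U'.fromSpecResidueField x₀ := ha'.symm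
  have eb : b = Spec.map β ≫ U'.fromSpecResidueField x₁ := hb'.symm
  have h0 : x' = x₀ := by
    rw [← ha, ea, Scheme.Hom.comp_apply, Scheme.fromSpecResidueField_apply]
  have h1 : x₁ = x' := by
    rw [← hb, eb, Scheme.Hom.comp_apply, Scheme.fromSpecResidueField_apply]
  subst h0
  subst h1
  rw [ea, eb] at e ⊢
  rw [Category.assoc, Category.assoc, ← Scheme.Hom.SpecMap_residueFieldMap_fromSpecResidueField,
    ← Category.assoc, ← Category.assoc, cancel_mono, ← Spec.map_comp, ← Spec.map_comp,
    Spec.map_inj] at e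
  congr 2
  ext t
  obtain ⟨t', rfl⟩ := hρ.2 t
  exact ConcreteCategory.congr_hom e t'

/-- a point of `U' ×_U U'` both of whose projections are a point `x'` with trivial residue field
extension lies on the diagonal. -/
theorem mem_range_diagonal {U' U : Scheme.{u}} (φ : U' ⟶ U) (p : ↥(pullback φ φ)) (x' : U')
    (h1 : pullback.fst φ φ p = x') (h2 : pullback.snd φ φ p = x')
    (hρ : Function.Bijective (φ.residueFieldMap x')) :
    p ∈ Set.range (pullback.diagonal φ) := by
  let ξ := Groth.Agent.H4.Stalks.geomPt p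
  have hab : ξ ≫ pullback.fst φ φ = ξ ≫ pullback.snd φ φ :=
    eq_of_residueFieldMap_bijective φ _ _ x' default
      (by rw [Scheme.Hom.comp_apply, geomPt_default, h1])
      (by rw [Scheme.Hom.comp_apply, geomPt_default, h2]) hρ
      (by rw [Category.assoc, Category.assoc, pullback.condition])
  have hξ : ξ = (ξ ≫ pullback.fst φ φ) ≫ pullback.diagonal φ := by
    apply pullback.hom_ext
    · rw [Category.assoc, pullback.diagonal_fst, Category.comp_id]
    · rw [Category.assoc, pullback.diagonal_snd, Category.comp_id, hab]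
  refine ⟨(ξ ≫ pullback.fst φ φ) default, ?_⟩
  rw [← Scheme.Hom.comp_apply, ← hξ, geomPt_default]

end Plain

variable {X : Scheme.{u}}

set_option backward.isDefEq.respectTransparency.types false in
/-- fibre product in the small étale site, with a chosen point. -/
theorem exists_pullback_point {U V W : X.Etale} (g : V ⟶ U) (h : W ⟶ U) (v : V.left) (w : W.left)
    (e : g.left v = h.left w) :
    ∃ (T : X.Etale) (a : T ⟶ V) (b : T ⟶ W) (t : T.left),
      a ≫ g = b ≫ h ∧ a.left t = v ∧ b.left t = w := by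
  have : Etale V.hom := V.prop
  obtain ⟨t, ht1, ht2⟩ := Scheme.Pullback.exists_preimage_pullback (f := g.left) (g := h.left) v w e
  let T : X.Etale := Scheme.Etale.mk (pullback.fst g.left h.left ≫ V.hom)
  have hb : pullback.snd g.left h.left ≫ W.hom = T.hom := by
    have h1 : h.left ≫ U.hom = W.hom := Over.w h.hom
    have h2 : g.left ≫ U.hom = V.hom := Over.w g.hom
    show _ = pullback.fst g.left h.left ≫ V.hom
    rw [← h1, ← h2, ← Category.assoc, ← Category.assoc, pullback.condition]
  let a : T ⟶ V := MorphismProperty.Over.homMk (pullback.fst g.left h.left) rfl trivial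
  let b : T ⟶ W := MorphismProperty.Over.homMk (pullback.snd g.left h.left) hb trivial
  refine ⟨T, a, b, t, ?_, ht1, ht2⟩
  apply MorphismProperty.Over.Hom.ext
  exact pullback.condition

theorem not_mem_sectSupp_iff (F : Ab X) (U : X.Etale) (s : F.obj.obj (op U)) (x : U.left) :
    x ∉ EtShriek.sectSupp F U s ↔
      ∃ (W : X.Etale) (g : W ⟶ U) (w : W.left), g.left w = x ∧ F.obj.map g.op s = 0 := by
  unfold EtShriek.sectSupp
  simp only [Set.mem_ofPred_eq, not_forall, ne_eq, not_not]
  constructor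
  · rintro ⟨W, g, ⟨w, hw⟩, h0⟩
    exact ⟨W, g, w, hw, h0⟩
  · rintro ⟨W, g, w, hw, h0⟩
    exact ⟨W, g, ⟨w, hw⟩, h0⟩

/-- restriction composed, in applied form. -/
lemma map_comp_apply (F : Ab X) {U V W : X.Etale} (a : W ⟶ V) (g : V ⟶ U) (s : F.obj.obj (op U)) :
    F.obj.map a.op (F.obj.map g.op s) = F.obj.map (a ≫ g).op s := by
  rw [op_comp, Functor.map_comp, ConcreteCategory.comp_apply]

theorem supp_subset_iff (F : Ab X) (U : X.Etale) (Z : Set U.left) (hZ : IsClosed Z)
    (s : F.obj.obj (op U)) :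
    EtShriek.sectSupp F U s ⊆ Z ↔ F.obj.map (opnι U ⟨Zᶜ, hZ.isOpen_compl⟩).op s = 0 := by
  constructor
  · intro h
    apply eq_zero_of_locally_zero F
    intro p
    have hx : (opnι U ⟨Zᶜ, hZ.isOpen_compl⟩).left p ∉ Z := by
      have : (opnι U ⟨Zᶜ, hZ.isOpen_compl⟩).left p ∈ Set.range (opnι U ⟨Zᶜ, hZ.isOpen_compl⟩).left :=
        ⟨p, rfl⟩
      rw [range_opnι] at this
      exact this
    have hx' : (opnι U ⟨Zᶜ, hZ.isOpen_compl⟩).left p ∉ EtShriek.sectSupp F U s := fun h' => hx (h h')
    obtain ⟨W, g, w, hw, h0⟩ := (not_mem_sectSupp_iff F U s _).1 hx'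
    obtain ⟨T, a, b, t, hab, hat, -⟩ := exists_pullback_point (opnι U ⟨Zᶜ, hZ.isOpen_compl⟩) g p w hw.symm
    refine ⟨T, a, t, hat, ?_⟩
    rw [map_comp_apply, hab, ← map_comp_apply, h0, map_zero]
  · intro h x hx
    by_contra hxZ
    have : x ∈ Set.range (opnι U ⟨Zᶜ, hZ.isOpen_compl⟩).left := by
      rw [range_opnι]; exact hxZ
    obtain ⟨w, hw⟩ := this
    exact hx _ (opnι U ⟨Zᶜ, hZ.isOpen_compl⟩) ⟨w, hw⟩ h

theorem map_eq_zero_of_range (F : Ab X) (U : X.Etale) (Z : Set U.left) (hZ : IsClosed Z)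
    (s : F.obj.obj (op U)) (hs : EtShriek.sectSupp F U s ⊆ Z) {T : X.Etale} (k : T ⟶ U)
    (hk : Set.range k.left ⊆ Zᶜ) : F.obj.map k.op s = 0 := by
  obtain ⟨l, hl⟩ := exists_lift_opn U ⟨Zᶜ, hZ.isOpen_compl⟩ k hk
  rw [← hl, ← map_comp_apply, (supp_subset_iff F U Z hZ s).1 hs, map_zero]

set_option backward.isDefEq.respectTransparency.types false in
/-- equality of two maps to an étale scheme near a point where they agree with trivial residue
field extension. -/
theorem exists_open_eq {U U' T : X.Etale} (φ : U' ⟶ U) (gi gj : T ⟶ U') (e : gi ≫ φ = gj ≫ φ)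
    (t : T.left) (ht : gi.left t = gj.left t)
    (hρ : Function.Bijective (φ.left.residueFieldMap (gi.left t))) :
    ∃ (T₁ : T.left.Opens), t ∈ T₁ ∧ opnι T T₁ ≫ gi = opnι T T₁ ≫ gj := by
  have e1 : gi.left ≫ φ.left = gj.left ≫ φ.left := congrArg (fun q => q.left) e
  let c : T.left ⟶ pullback φ.left φ.left := pullback.lift gi.left gj.left e1
  have hc1 : c ≫ pullback.fst φ.left φ.left = gi.left := pullback.lift_fst _ _ _
  have hc2 : c ≫ pullback.snd φ.left φ.left = gj.left := pullback.lift_snd _ _ _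
  have hp : c t ∈ Set.range (pullback.diagonal φ.left) := by
    apply mem_range_diagonal φ.left (c t) (gi.left t) _ _ hρ
    · rw [← Scheme.Hom.comp_apply, hc1]
    · rw [← Scheme.Hom.comp_apply, hc2, ht]
  let T₁ : T.left.Opens := c ⁻¹ᵁ (pullback.diagonal φ.left).opensRange
  refine ⟨T₁, hp, ?_⟩
  apply MorphismProperty.Over.Hom.ext
  show T₁.ι ≫ gi.left = T₁.ι ≫ gj.left
  have hr : Set.range (T₁.ι ≫ c) ⊆ Set.range (pullback.diagonal φ.left) := by
    rintro _ ⟨q, rfl⟩
    exact q.2
  let l := IsOpenImmersion.lift (pullback.diagonal φ.left) (T₁.ι ≫ c) hr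
  have hl : l ≫ pullback.diagonal φ.left = T₁.ι ≫ c := IsOpenImmersion.lift_fac _ _ _
  have h1 : T₁.ι ≫ gi.left = l := by
    rw [← hc1, ← Category.assoc, ← hl, Category.assoc, pullback.diagonal_fst, Category.comp_id]
  have h2 : T₁.ι ≫ gj.left = l := by
    rw [← hc2, ← Category.assoc, ← hl, Category.assoc, pullback.diagonal_snd, Category.comp_id]
  rw [h1, h2]

set_option backward.isDefEq.respectTransparency.types false in
theorem restrict_bijOn (F : EtCoh.Ab X) {U U' : X.Etale}
    (φ : U' ⟶ U) (Z : Set ↥U.left) (hZ : IsClosed Z)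
    (hbij : Set.BijOn φ.left.base (φ.left.base ⁻¹' Z) Z)
    (hres : ∀ x ∈ φ.left.base ⁻¹' Z, Function.Bijective (φ.left.residueFieldMap x)) :
    Set.BijOn (F.obj.map φ.op) {s | EtShriek.sectSupp F U s ⊆ Z}
      {s' | EtShriek.sectSupp F U' s' ⊆ φ.left.base ⁻¹' Z} := by
  have hZ' : IsClosed (φ.left.base ⁻¹' Z) := hZ.preimage φ.left.continuous
  refine ⟨?_, ?_, ?_⟩
  · -- maps to
    intro s hs
    show EtShriek.sectSupp F U' (F.obj.map φ.op s) ⊆ φ.left.base ⁻¹' Z
    rw [supp_subset_iff F U' _ hZ', map_comp_apply]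
    apply map_eq_zero_of_range F U Z hZ s hs
    rintro _ ⟨q, rfl⟩
    have : (opnι U' ⟨(φ.left.base ⁻¹' Z)ᶜ, hZ'.isOpen_compl⟩).left q ∈
        Set.range (opnι U' ⟨(φ.left.base ⁻¹' Z)ᶜ, hZ'.isOpen_compl⟩).left := ⟨q, rfl⟩
    rw [range_opnι] at this
    exact this
  · -- injective
    intro s₁ hs₁ s₂ hs₂ h
    have h' : F.obj.map φ.op s₁ = F.obj.map φ.op s₂ := h
    rw [← sub_eq_zero]
    apply eq_zero_of_locally_zero F
    intro p
    by_cases hp : p ∈ Z
    · obtain ⟨p', -, hp'⟩ := hbij.surjOn hp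
      exact ⟨U', φ, p', hp', by rw [map_sub, h', sub_self]⟩
    · have : p ∈ Set.range (opnι U ⟨Zᶜ, hZ.isOpen_compl⟩).left := by rw [range_opnι]; exact hp
      obtain ⟨w, hw⟩ := this
      refine ⟨_, opnι U ⟨Zᶜ, hZ.isOpen_compl⟩, w, hw, ?_⟩
      rw [map_sub, (supp_subset_iff F U Z hZ s₁).1 hs₁, (supp_subset_iff F U Z hZ s₂).1 hs₂,
        sub_zero]
  · -- surjective
    intro s' hs'
    have hs'' : EtShriek.sectSupp F U' s' ⊆ φ.left.base ⁻¹' Z := hs'
    let Zc : U.left.Opens := ⟨Zᶜ, hZ.isOpen_compl⟩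
    let Y : Bool → X.Etale := fun b => if b then U' else opn U Zc
    let f : ∀ b, Y b ⟶ U := fun b => by
      cases b
      · exact opnι U Zc
      · exact φ
    let x : ∀ b, F.obj.obj (op (Y b)) := fun b => by
      cases b
      · exact 0
      · exact s'
    have hcov : ⋃ b, Set.range (f b).left = Set.univ := by
      ext p
      simp only [Set.mem_iUnion, Set.mem_univ, iff_true]
      by_cases hp : p ∈ Z
      · obtain ⟨p', -, hp'⟩ := hbij.surjOn hp
        exact ⟨true, p', hp'⟩
      · refine ⟨false, ?_⟩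
        show p ∈ Set.range (opnι U Zc).left
        rw [range_opnι]; exact hp
    -- mixed compatibility
    have hmix : ∀ (T : X.Etale) (gi : T ⟶ U') (gj : T ⟶ opn U Zc),
        gi ≫ φ = gj ≫ opnι U Zc → F.obj.map gi.op s' = 0 := by
      intro T gi gj e
      apply map_eq_zero_of_range F U' _ hZ' s' hs''
      rintro _ ⟨t, rfl⟩
      have e1 : gi.left ≫ φ.left = gj.left ≫ (opnι U Zc).left := congrArg (fun q => q.left) e
      have e2 : φ.left (gi.left t) = (opnι U Zc).left (gj.left t) :=
        congrArg (fun (q : T.left ⟶ U.left) => q t) e1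
      have h3 : (opnι U Zc).left (gj.left t) ∈ Set.range (opnι U Zc).left := ⟨_, rfl⟩
      rw [range_opnι] at h3
      show φ.left (gi.left t) ∉ Z
      rw [e2]
      exact h3
    obtain ⟨s, hs⟩ := exists_glue F Y f hcov x (by
      intro i j T gi gj e
      cases i <;> cases j
      · show F.obj.map gi.op 0 = F.obj.map gj.op 0
        rw [map_zero, map_zero]
      · show F.obj.map gi.op 0 = F.obj.map gj.op s'
        rw [map_zero, hmix T gj gi e.symm]
      · show F.obj.map gi.op s' = F.obj.map gj.op 0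
        rw [map_zero, hmix T gi gj e]
      · show F.obj.map gi.op s' = F.obj.map gj.op s'
        have e' : gi ≫ φ = gj ≫ φ := e
        rw [← sub_eq_zero]
        apply eq_zero_of_locally_zero F
        intro t
        have e1 : gi.left ≫ φ.left = gj.left ≫ φ.left := congrArg (fun q => q.left) e'
        have e2 : φ.left (gi.left t) = φ.left (gj.left t) :=
          congrArg (fun (q : T.left ⟶ U.left) => q t) e1
        by_cases hx : φ.left (gi.left t) ∈ Z
        · have hx1 : gi.left t ∈ φ.left.base ⁻¹' Z := hx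
          have hx2 : gj.left t ∈ φ.left.base ⁻¹' Z := by
            show φ.left (gj.left t) ∈ Z
            rw [← e2]; exact hx
          have hxx : gi.left t = gj.left t := hbij.injOn hx1 hx2 e2
          obtain ⟨T₁, ht₁, hk⟩ := exists_open_eq φ gi gj e' t hxx (hres _ hx1)
          have : t ∈ Set.range (opnι T T₁).left := by rw [range_opnι]; exact ht₁
          obtain ⟨t', ht'⟩ := this
          refine ⟨_, opnι T T₁, t', ht', ?_⟩
          rw [map_sub, map_comp_apply, map_comp_apply, hk, sub_self]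
        · let T₀ : T.left.Opens :=
            (gi.left ⁻¹ᵁ ⟨(φ.left.base ⁻¹' Z)ᶜ, hZ'.isOpen_compl⟩) ⊓
              (gj.left ⁻¹ᵁ ⟨(φ.left.base ⁻¹' Z)ᶜ, hZ'.isOpen_compl⟩)
          have ht₀ : t ∈ T₀ := ⟨hx, by
            show φ.left (gj.left t) ∉ Z
            rw [← e2]; exact hx⟩
          have : t ∈ Set.range (opnι T T₀).left := by rw [range_opnι]; exact ht₀
          obtain ⟨t', ht'⟩ := this
          refine ⟨_, opnι T T₀, t', ht', ?_⟩
          rw [map_sub, map_comp_apply, map_comp_apply,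
            map_eq_zero_of_range F U' _ hZ' s' hs'' (opnι T T₀ ≫ gi) (by
              rintro _ ⟨q, rfl⟩
              have hq : (opnι T T₀).left q ∈ (T₀ : Set T.left) := by
                rw [← range_opnι]; exact ⟨q, rfl⟩
              exact hq.1),
            map_eq_zero_of_range F U' _ hZ' s' hs'' (opnι T T₀ ≫ gj) (by
              rintro _ ⟨q, rfl⟩
              have hq : (opnι T T₀).left q ∈ (T₀ : Set T.left) := by
                rw [← range_opnι]; exact ⟨q, rfl⟩
              exact hq.2), sub_zero])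
    refine ⟨s, ?_, hs true⟩
    show EtShriek.sectSupp F U s ⊆ Z
    rw [supp_subset_iff F U Z hZ]
    exact hs false

end Groth.Agent.H4.SuppSec
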