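import Groth.Agent.H4.UnitSplit
import Groth.Agent.H4.SuppSec
import Groth.Agent.H30.DerivedComp
import Groth.Prelude.Def_EtCore

/-!
# Étale excision for cohomology with supports

* `unit_apply_eq_zero_iff`: a section `s ∈ G(V)` is killed by the unit `G ⟶ j_* j⁻¹ G` iff its
  restriction to `V ×_X U` vanishes.
* `ιγ j : gammaSupp j ⟶ gsec X` and the description of its range by supports.
* `gammaSuppExcision`: for étale `f : X' ⟶ X` inducing an isomorphism `Z' ≅ Z` (bijective, trivial
  residue field extensions), `gammaSupp j ≅ pull f ⋙ gammaSupp j'`.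
* `HYExcision`: the induced isomorphism on derived functors.
-/

set_option autoImplicit false
universe u
open CategoryTheory CategoryTheory.Limits AlgebraicGeometry Opposite EtShriek EtCoh
open Groth.Agent.H4.EtRestr Groth.Agent.H4.UnitSplit Groth.Agent.H4.SuppSec Groth.Agent.H4.GlueSec

namespace Groth.Agent.H4.Excision

section K

variable {U X : Scheme.{u}} (j : U ⟶ X) [Etale j]

lemma restrPushAdj_unit_app (G : Ab X) (V : X.Etale) :
    ((restrPushAdj j).unit.app G).hom.app (op V) = G.obj.map ((compBcAdj j).counit.app V).op := by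
  rfl

/-- A section is killed by the unit `G ⟶ j_* j⁻¹ G` iff its restriction to `V ×_X U` vanishes. -/
theorem unit_apply_eq_zero_iff (G : Ab X) (V : X.Etale) (s : G.obj.obj (op V)) :
    (EtDual.unitApp j G).hom.app (op V) s = 0 ↔
      G.obj.map ((compBcAdj j).counit.app V).op s = 0 := by
  have h1 : EtDual.unitApp j G ≫ (push j).map ((pullRestrIso j).hom.app G) =
      (restrPushAdj j).unit.app G :=
    Adjunction.unit_leftAdjointUniq_hom_app _ _ _
  have h2 : ∀ t, ((push j).map ((pullRestrIso j).hom.app G)).hom.app (op V)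
      ((EtDual.unitApp j G).hom.app (op V) t) = G.obj.map ((compBcAdj j).counit.app V).op t := by
    intro t
    rw [← restrPushAdj_unit_app, ← h1]
    rfl
  have hinj : Function.Injective (((push j).map ((pullRestrIso j).hom.app G)).hom.app (op V)) := by
    have : IsIso (((push j).map ((pullRestrIso j).hom.app G)).hom.app (op V)) := by
      change IsIso (((sheafToPresheaf _ _).map ((push j).map ((pullRestrIso j).hom.app G))).app (op V))
      infer_instance
    exact (ConcreteCategory.bijective_of_isIso _).1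
  rw [← h2 s]
  constructor
  · intro h; rw [h, map_zero]; rfl
  · intro h; exact hinj (h.trans (map_zero _).symm)

end K

/-- global sections functor -/
noncomputable abbrev gsec (X : Scheme.{u}) : Ab X ⥤ AddCommGrpCat.{u+1} :=
  sheafToPresheaf X.smallEtaleTopology AddCommGrpCat.{u+1} ⋙
    (evaluation X.Etaleᵒᵖ AddCommGrpCat.{u+1}).obj (op (EtCoh.top X))

section Supp

variable {X : Scheme.{u}}

/-- support criterion through any morphism onto the open complement. -/
theorem supp_subset_iff_of_range (F : Ab X) (V : X.Etale) (Z : Set V.left) (hZ : IsClosed Z)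
    (s : F.obj.obj (op V)) {T : X.Etale} (k : T ⟶ V) (hk : Set.range k.left = Zᶜ) :
    EtShriek.sectSupp F V s ⊆ Z ↔ F.obj.map k.op s = 0 := by
  constructor
  · intro h
    exact map_eq_zero_of_range F V Z hZ s h k hk.le
  · intro h x hx
    by_contra hxZ
    have : x ∈ Set.range k.left := by rw [hk]; exact hxZ
    obtain ⟨w, hw⟩ := this
    exact hx T k ⟨w, hw⟩ h

end Supp

section Gamma

variable {U X : Scheme.{u}} (j : U ⟶ X)

/-- the inclusion `Γ_Z(X, F) ⟶ Γ(X, F)`. -/
noncomputable def ιγ : EtDual.gammaSupp j ⟶ gsec X := Functor.whiskerRight (κ j) (gsec X)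

lemma ιγ_app (F : Ab X) : (ιγ j).app F = (gsec X).map (kernel.ι (EtDual.unitApp j F)) := rfl

lemma injective_ιγ (F : Ab X) : Function.Injective ((ιγ j).app F) := by
  rw [ιγ_app]
  have : Mono ((gsec X).map (kernel.ι (EtDual.unitApp j F))) := inferInstance
  exact (AddCommGrpCat.mono_iff_injective _).1 this

lemma mem_range_ιγ_iff (F : Ab X) (s : F.obj.obj (op (EtCoh.top X))) :
    s ∈ Set.range ((ιγ j).app F) ↔ (EtDual.unitApp j F).hom.app (op (EtCoh.top X)) s = 0 := by
  have hS : (ShortComplex.mk (kernel.ι (EtDual.unitApp j F)) (EtDual.unitApp j F)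
      (kernel.condition _)).Exact :=
    ShortComplex.exact_of_f_is_kernel _ (kernelIsKernel (EtDual.unitApp j F))
  have hS' := hS.map_of_mono_of_preservesKernel (gsec X) inferInstance inferInstance
  rw [ShortComplex.ab_exact_iff] at hS'
  constructor
  · rintro ⟨x, rfl⟩
    have hz : (gsec X).map (kernel.ι (EtDual.unitApp j F)) ≫
        (gsec X).map (EtDual.unitApp j F) = 0 := by
      rw [← Functor.map_comp, kernel.condition, Functor.map_zero]
    exact ConcreteCategory.congr_hom hz x
  · intro h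
    exact hS' s h

end Gamma

universe w v₁ u₁

section N

variable {A : Type u₁} [Category.{v₁} A] {Γ₁ Γ₂ E₁ E₂ : A ⥤ AddCommGrpCat.{w}}
  (ι₁ : Γ₁ ⟶ E₁) (ι₂ : Γ₂ ⟶ E₂) (ρ : E₁ ⟶ E₂)

/-- Two subfunctors `Γ₁ ⊆ E₁`, `Γ₂ ⊆ E₂` of abelian-group-valued functors are isomorphic as soon as
a natural transformation `ρ : E₁ ⟶ E₂` restricts objectwise to a bijection between them. -/
theorem nonempty_iso_of_bijOn
    (h₁ : ∀ F, Function.Injective (ι₁.app F)) (h₂ : ∀ F, Function.Injective (ι₂.app F))
    (hb : ∀ F, Set.BijOn (ρ.app F) (Set.range (ι₁.app F)) (Set.range (ι₂.app F))) :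
    Nonempty (Γ₁ ≅ Γ₂) := by
  have hex : ∀ F (x : Γ₁.obj F), ∃ y : Γ₂.obj F, ι₂.app F y = ρ.app F (ι₁.app F x) := fun F x =>
    (hb F).mapsTo ⟨x, rfl⟩
  choose a ha using hex
  let α : ∀ F, Γ₁.obj F ⟶ Γ₂.obj F := fun F => AddCommGrpCat.ofHom
    { toFun := a F
      map_zero' := by
        apply h₂ F
        rw [ha, map_zero, map_zero, map_zero]
      map_add' := fun x y => by
        apply h₂ F
        rw [ha, map_add, map_add, map_add, ha, ha] }
  have hα : ∀ F, α F ≫ ι₂.app F = ι₁.app F ≫ ρ.app F := by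
    intro F
    ext x
    exact ha F x
  have hmono : ∀ F, Mono (ι₂.app F) := fun F => (AddCommGrpCat.mono_iff_injective _).2 (h₂ F)
  have hiso : ∀ F, IsIso (α F) := by
    intro F
    apply (ConcreteCategory.isIso_iff_bijective _).2
    constructor
    · intro x x' hx
      apply h₁ F
      apply (hb F).injOn ⟨x, rfl⟩ ⟨x', rfl⟩
      rw [← ha F x, ← ha F x']
      exact congrArg _ hx
    · intro y
      obtain ⟨_, ⟨x, rfl⟩, hx⟩ := (hb F).surjOn ⟨y, rfl⟩
      refine ⟨x, h₂ F ?_⟩
      exact (ha F x).trans hx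
  refine ⟨NatIso.ofComponents (fun F => asIso (α F)) ?_⟩
  intro F G g
  dsimp only [asIso_hom]
  rw [← cancel_mono (ι₂.app G), Category.assoc, Category.assoc, hα, ι₂.naturality,
    reassoc_of% (hα F), ← ρ.naturality, ι₁.naturality_assoc]

end N

section Exc

variable {X X' U U' : Scheme.{u}} (f : X' ⟶ X) [AlgebraicGeometry.Etale f]
  (j : U ⟶ X) [IsOpenImmersion j] (j' : U' ⟶ X') [IsOpenImmersion j']

/-- `X'` as an object of the small étale site of `X`. -/
noncomputable abbrev X'obj : X.Etale := (compEtale f).obj (EtCoh.top X')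

/-- the structure map `X' ⟶ X` in the small étale site of `X`. -/
noncomputable def φ : X'obj f ⟶ EtCoh.top X :=
  MorphismProperty.Over.homMk f ((Category.comp_id f).trans (Category.id_comp f).symm) trivial

@[simp] lemma φ_left : (φ f).left = f := rfl

/-- restriction `Γ(X, F) ⟶ Γ(X', F|_{X'})`. -/
noncomputable def ρ : gsec X ⟶ restrAlong f ⋙ gsec X' where
  app F := F.obj.map (φ f).op
  naturality F G g := (g.hom.naturality (φ f).op).symm

/-- sections over `X` supported off `U`. -/
lemma range_ιγ (F : Ab X) :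
    Set.range ((ιγ j).app F) =
      {s : F.obj.obj (op (EtCoh.top X)) |
        EtShriek.sectSupp F (EtCoh.top X) s ⊆ ((Set.range j.base)ᶜ : Set X)} := by
  ext s
  have hcl : IsClosed ((Set.range j.base)ᶜ : Set X) :=
    j.isOpenEmbedding.isOpen_range.isClosed_compl
  refine (mem_range_ιγ_iff j F s).trans ((unit_apply_eq_zero_iff j F (EtCoh.top X) s).trans ?_)
  refine (supp_subset_iff_of_range F (EtCoh.top X) ((Set.range j.base)ᶜ : Set X) hcl s
      ((compBcAdj j).counit.app (EtCoh.top X)) ?_).symm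
  refine Eq.trans ?_ (compl_compl _).symm
  exact (Scheme.Pullback.range_fst (𝟙 X) j).trans rfl

/-- sections over `X'` supported off `U'`, for the restricted sheaf. -/
lemma range_ιγ' (F : Ab X) :
    Set.range ((ιγ j').app ((restrAlong f).obj F)) =
      {s' : F.obj.obj (op (X'obj f)) |
        EtShriek.sectSupp F (X'obj f) s' ⊆ ((Set.range j'.base)ᶜ : Set X')} := by
  ext s'
  have hcl : IsClosed ((Set.range j'.base)ᶜ : Set X') :=
    j'.isOpenEmbedding.isOpen_range.isClosed_compl
  refine (mem_range_ιγ_iff j' ((restrAlong f).obj F) s').trans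
    ((unit_apply_eq_zero_iff j' ((restrAlong f).obj F) (EtCoh.top X') s').trans ?_)
  refine (supp_subset_iff_of_range F (X'obj f) ((Set.range j'.base)ᶜ : Set X') hcl s'
      ((compEtale f).map ((compBcAdj j').counit.app (EtCoh.top X'))) ?_).symm
  refine Eq.trans ?_ (compl_compl _).symm
  exact (Scheme.Pullback.range_fst (𝟙 X') j').trans rfl

variable (hU' : Set.range j'.base = f.base ⁻¹' Set.range j.base)
    (hZ : Set.BijOn f.base (Set.range j'.base)ᶜ (Set.range j.base)ᶜ)
    (hκ : ∀ x' : ↥X', x' ∉ Set.range j'.base → Function.Surjective (f.residueFieldMap x'))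

include hU' hZ hκ in
theorem bijOn_ρ (F : Ab X) :
    Set.BijOn ((ρ f).app F) (Set.range ((ιγ j).app F))
      (Set.range ((ιγ j').app ((restrAlong f).obj F))) := by
  rw [range_ιγ, range_ιγ']
  have hcl : IsClosed ((Set.range j.base)ᶜ : Set X) :=
    j.isOpenEmbedding.isOpen_range.isClosed_compl
  have hpre : (f.base ⁻¹' ((Set.range j.base)ᶜ : Set X)) = ((Set.range j'.base)ᶜ : Set X') := by
    rw [hU']; rfl
  have hZ' : Set.BijOn f.base (f.base ⁻¹' ((Set.range j.base)ᶜ : Set X))
      ((Set.range j.base)ᶜ : Set X) := by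
    rw [hpre]; exact hZ
  have hres : ∀ x ∈ (f.base ⁻¹' ((Set.range j.base)ᶜ : Set X)),
      Function.Bijective (f.residueFieldMap x) := by
    intro x hx
    rw [hpre] at hx
    exact ⟨(f.residueFieldMap x).hom.injective, hκ x hx⟩
  have key := restrict_bijOn F (φ f) ((Set.range j.base)ᶜ : Set X) hcl hZ' hres
  have hpre' : ((φ f).left.base ⁻¹' ((Set.range j.base)ᶜ : Set X)) =
      ((Set.range j'.base)ᶜ : Set X') := hpre
  exact hpre' ▸ key


include hU' hZ hκ in
/-- excision for sections with support: `Γ_Z(X, -) ≅ Γ_{Z'}(X', f⁻¹ -)`. -/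
theorem gammaSuppExcision :
    Nonempty (EtDual.gammaSupp j ≅ EtCoh.pull f ⋙ EtDual.gammaSupp j') := by
  obtain ⟨e⟩ := nonempty_iso_of_bijOn (ιγ j) (Functor.whiskerLeft (restrAlong f) (ιγ j')) (ρ f)
    (injective_ιγ j) (fun F => injective_ιγ j' ((restrAlong f).obj F))
    (fun F => bijOn_ρ f j j' hU' hZ hκ F)
  exact ⟨e ≪≫ Functor.isoWhiskerRight (pullRestrIso f).symm (EtDual.gammaSupp j')⟩

end Exc

section Derived

universe v v' u₂ u₃

variable {C : Type u₂} [Category.{v} C] [Abelian C] [HasInjectiveResolutions C]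
  {D : Type u₃} [Category.{v'} D] [Abelian D]

/-- right derived functors of isomorphic functors are isomorphic. -/
noncomputable def rightDerivedIso {F G : C ⥤ D} [F.Additive] [G.Additive] (e : F ≅ G) (n : ℕ) :
    F.rightDerived n ≅ G.rightDerived n where
  hom := NatTrans.rightDerived e.hom n
  inv := NatTrans.rightDerived e.inv n
  hom_inv_id := by rw [← NatTrans.rightDerived_comp, e.hom_inv_id, NatTrans.rightDerived_id]
  inv_hom_id := by rw [← NatTrans.rightDerived_comp, e.inv_hom_id, NatTrans.rightDerived_id]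

end Derived

section HY

variable {X X' U U' : Scheme.{u}} (f : X' ⟶ X) [AlgebraicGeometry.Etale f]
  (j : U ⟶ X) [IsOpenImmersion j] (j' : U' ⟶ X') [IsOpenImmersion j']
  (hU' : Set.range j'.base = f.base ⁻¹' Set.range j.base)
  (hZ : Set.BijOn f.base (Set.range j'.base)ᶜ (Set.range j.base)ᶜ)
  (hκ : ∀ x' : ↥X', x' ∉ Set.range j'.base → Function.Surjective (f.residueFieldMap x'))

include hU' hZ hκ in
/-- étale excision: `H^r_Z(X, F) ≅ H^r_{Z'}(X', f⁻¹ F)`. -/
theorem HYExcision (F : Ab X) (r : ℕ) :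
    Nonempty ((EtDual.HY j r).obj F ≅ (EtDual.HY j' r).obj ((EtCoh.pull f).obj F)) := by
  obtain ⟨e⟩ := gammaSuppExcision f j j' hU' hZ hκ
  have hc : PreservesFiniteColimits (EtCoh.pull f) := by
    have : PreservesColimitsOfSize.{0, 0} (EtCoh.pull f) :=
      (EtCoh.pullPushAdj f).leftAdjoint_preservesColimits
    infer_instance
  have e2 := Groth.Agent.H30.DerivedComp.rightDerivedCompIso (EtCoh.pull f)
    (fun Q hQ => injective_pull f Q) (EtDual.gammaSupp j') r
  exact ⟨(rightDerivedIso e r).app F ≪≫ e2.app F⟩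

end HY

end Groth.Agent.H4.Excision
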