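import Mathlib
import Groth.Agent.H33.RDLes

/-!
# Ext and adjunctions, exact left adjoint (helper4)

For an adjunction `L ⊣ R` between abelian categories with `L` exact, the comparison map
`psi : Ext^n(A, R B) → Ext^n(L A, B)`, `x ↦ L(x) ≫ ε_B`, is bijective for all `n` as soon as the higher
right derived functors `R^q R` vanish on `B` (edge map of the Grothendieck/Leray spectral sequence).
-/

namespace Groth.Agent.H4.ExtAdjL

open CategoryTheory Limits Abelian

universe w w' v v' u u'

variable {C : Type u} [Category.{v} C] [Abelian C] {D : Type u'} [Category.{v'} D] [Abelian D]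
variable {L : C ⥤ D} {R : D ⥤ C} (adj : L ⊣ R)
variable [L.Additive] [PreservesFiniteLimits L] [PreservesFiniteColimits L] [R.Additive]
variable [HasExt.{w} C] [HasExt.{w'} D]

/-- The comparison map `Ext^n(A, R B) → Ext^n(L A, B)`. -/
noncomputable def psi (A : C) (B : D) (n : ℕ) : Ext.{w} A (R.obj B) n →+ Ext.{w'} (L.obj A) B n :=
  (AddMonoidHom.mk' (fun e => e.comp (Ext.mk₀ (adj.counit.app B)) (add_zero n))
    (fun _ _ => Ext.add_comp _ _ _ _)).comp (L.mapExtAddHom A (R.obj B) n)

lemma psi_apply (A : C) (B : D) (n : ℕ) (e : Ext.{w} A (R.obj B) n) :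
    psi adj A B n e = (e.mapExactFunctor L).comp (Ext.mk₀ (adj.counit.app B)) (add_zero n) := rfl

lemma psi_mk₀ (A : C) (B : D) (f : A ⟶ R.obj B) :
    psi adj A B 0 (Ext.mk₀ f) = Ext.mk₀ ((adj.homEquiv A B).symm f) := by
  rw [psi_apply, Ext.mapExactFunctor_mk₀, Ext.mk₀_comp_mk₀, Adjunction.homEquiv_counit]

/-- Naturality of `psi` in `B` (degree zero maps). -/
lemma psi_comp_mk₀ (A : C) {B B' : D} {n : ℕ} (e : Ext.{w} A (R.obj B) n) (g : B ⟶ B') :
    psi adj A B' n (e.comp (Ext.mk₀ (R.map g)) (add_zero n)) =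
      (psi adj A B n e).comp (Ext.mk₀ g) (add_zero n) := by
  rw [psi_apply, psi_apply, Ext.mapExactFunctor_comp, Ext.mapExactFunctor_mk₀,
    Ext.comp_assoc _ _ _ (add_zero n) (add_zero 0) (by omega),
    Ext.comp_assoc _ _ _ (add_zero n) (add_zero 0) (by omega), Ext.mk₀_comp_mk₀, Ext.mk₀_comp_mk₀]
  congr 2
  exact adj.counit.naturality g

/-- General composition formula. -/
lemma psi_comp (A : C) {Y : C} (B : D) {n m k : ℕ} (e : Ext.{w} A Y n) (e' : Ext.{w} Y (R.obj B) m)
    (h : n + m = k) :
    psi adj A B k (e.comp e' h) = (e.mapExactFunctor L).comp (psi adj Y B m e') h := by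
  rw [psi_apply, psi_apply, Ext.mapExactFunctor_comp,
    Ext.comp_assoc _ _ _ h (add_zero m) (by omega)]

/-- Naturality of extension classes for a morphism `L T ⟶ S`. -/
lemma map_extClass_comp {T : ShortComplex C} (hT : T.ShortExact) {S : ShortComplex D}
    (hS : S.ShortExact) (φ : T.map L ⟶ S) :
    (hT.extClass.mapExactFunctor L).comp (Ext.mk₀ φ.τ₁) (add_zero 1) =
      (Ext.mk₀ φ.τ₃).comp hS.extClass (zero_add 1) := by
  rw [Ext.mapExactFunctor_extClass]
  exact ShortComplex.ShortExact.extClass_naturality (hT.map_of_exact L) hS φ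

/-- The counit as a morphism of short complexes `L R S ⟶ S`. -/
@[simps]
def counitSC (S : ShortComplex D) : (S.map R).map L ⟶ S where
  τ₁ := adj.counit.app S.X₁
  τ₂ := adj.counit.app S.X₂
  τ₃ := adj.counit.app S.X₃
  comm₁₂ := (adj.counit.naturality S.f).symm
  comm₂₃ := (adj.counit.naturality S.g).symm

/-- Compatibility of `psi` with connecting classes. -/
lemma psi_comp_extClass (A : C) {S : ShortComplex D} (hS : S.ShortExact)
    (hRS : (S.map R).ShortExact) {n : ℕ} (e : Ext.{w} A (S.map R).X₃ n) :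
    psi adj A S.X₁ (n + 1) (e.comp hRS.extClass rfl) =
      (psi adj A S.X₃ n e).comp hS.extClass rfl := by
  have h1 := map_extClass_comp (L := L) hRS hS (counitSC adj S)
  have h2 : psi adj A S.X₁ (n + 1) (e.comp hRS.extClass rfl) =
      (e.mapExactFunctor L).comp ((hRS.extClass.mapExactFunctor L).comp
        (Ext.mk₀ (counitSC adj S).τ₁) (add_zero 1)) rfl := by
    have h3 := psi_apply adj A S.X₁ (n + 1) (e.comp hRS.extClass rfl)
    have h4 := Ext.mapExactFunctor_comp L e hRS.extClass (rfl : n + 1 = n + 1)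
    have h5 := Ext.comp_assoc (e.mapExactFunctor L) (hRS.extClass.mapExactFunctor L)
      (Ext.mk₀ (counitSC adj S).τ₁) (rfl : n + 1 = n + 1) (add_zero 1) (by omega : n + 1 + 0 = n + 1)
    exact h3.trans ((congrArg (fun t => Ext.comp t (Ext.mk₀ (adj.counit.app S.X₁))
      (add_zero (n + 1))) h4).trans h5)
  rw [h2, h1]
  have h6 := Ext.comp_assoc (e.mapExactFunctor L) (Ext.mk₀ (counitSC adj S).τ₃) hS.extClass
    (add_zero n) (zero_add 1) (by omega : n + 0 + 1 = n + 1)
  exact h6.symm

include adj in
/-- A short exact sequence whose first term is `R`-acyclic in degree one stays short exact after `R`. -/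
lemma shortExact_map_of_isZero [EnoughInjectives D] {S : ShortComplex D} (hS : S.ShortExact)
    (h1 : IsZero ((R.rightDerived 1).obj S.X₁)) : (S.map R).ShortExact := by
  have : PreservesLimitsOfSize.{0, 0} R := adj.rightAdjoint_preservesLimits
  have : PreservesFiniteLimits R := PreservesLimitsOfSize.preservesFiniteLimits R
  obtain ⟨_, _, δ, hδ⟩ := Groth.Agent.H33.RDLes.exists_les R S hS
  obtain ⟨w₁, _, e₃, _⟩ := hδ 0
  have hepi0 : Epi ((R.rightDerived 0).map S.g) := e₃.epi_f (h1.eq_of_tgt _ _)
  have hnat := R.rightDerivedZeroIsoSelf.hom.naturality S.g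
  have hepi : Epi (R.map S.g) := by
    have h2 : R.map S.g = R.rightDerivedZeroIsoSelf.inv.app S.X₂ ≫ (R.rightDerived 0).map S.g ≫
        R.rightDerivedZeroIsoSelf.hom.app S.X₃ := by
      rw [hnat, Iso.inv_hom_id_app_assoc]
    rw [h2]
    infer_instance
  have hmono : Mono S.f := hS.mono_f
  have hmono' : Mono (R.map S.f) := inferInstance
  exact { exact := hS.exact.map_of_mono_of_preservesKernel R hmono inferInstance
          mono_f := hmono'
          epi_g := hepi }

attribute [local instance] Ext.subsingleton_of_injective in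
/-- **Edge map**: if the higher derived functors of `R` vanish on `B`, then
`psi : Ext^n(A, R B) → Ext^n(L A, B)` is bijective. -/
theorem psi_bijective [EnoughInjectives D] (A : C) (B : D)
    (hB : ∀ q : ℕ, 0 < q → IsZero ((R.rightDerived q).obj B)) (n : ℕ) :
    Function.Bijective (psi adj A B n) := by
  induction n generalizing B with
  | zero =>
    have h : ⇑(psi adj A B 0) = (Ext.homEquiv₀ (X := L.obj A) (Y := B)).symm ∘
        (adj.homEquiv A B).symm ∘ (Ext.homEquiv₀ (X := A) (Y := R.obj B)) := by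
      ext x
      rcases (Ext.mk₀_bijective A (R.obj B)).2 x with ⟨y, rfl⟩
      simp [psi_mk₀, Ext.homEquiv₀]
    rw [h]
    exact (Ext.homEquiv₀.symm.bijective.comp (adj.homEquiv A B).symm.bijective).comp
      Ext.homEquiv₀.bijective
  | succ n hn =>
    let I : InjectivePresentation B := Classical.arbitrary _
    let S := ShortComplex.mk _ _ (cokernel.condition I.f)
    have hI : Injective S.X₂ := I.injective
    have hRI : Injective (S.map R).X₂ := adj.map_injective _ I.injective
    have hS : S.ShortExact := { exact := ShortComplex.exact_cokernel I.f }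
    have hRS : (S.map R).ShortExact := shortExact_map_of_isZero adj hS (hB 1 Nat.one_pos)
    have hI0 : ∀ q : ℕ, 0 < q → IsZero ((R.rightDerived q).obj S.X₂) := by
      intro q hq
      obtain ⟨k, rfl⟩ : ∃ k, q = k + 1 := ⟨q - 1, by omega⟩
      exact Functor.isZero_rightDerived_obj_injective_succ R k S.X₂
    have hQ0 : ∀ q : ℕ, 0 < q → IsZero ((R.rightDerived q).obj S.X₃) := by
      intro q hq
      obtain ⟨_, _, δ, hδ⟩ := Groth.Agent.H33.RDLes.exists_les R S hS
      obtain ⟨w₁, _, e₃, _⟩ := hδ q
      exact e₃.isZero_X₂ ((hI0 q hq).eq_of_src _ _) ((hB (q + 1) (Nat.succ_pos q)).eq_of_tgt _ _)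
    exact AddMonoidHom.bijective_of_surjective_of_bijective_of_right_exact _ _ _ _
      (psi adj A S.X₂ n) (psi adj A S.X₃ n) (psi adj A S.X₁ (n + 1))
      (by
        ext e
        exact (psi_comp_mk₀ adj A e S.g).symm)
      (by
        ext e
        exact (psi_comp_extClass adj A hS hRS e).symm)
      ((ShortComplex.ab_exact_iff_function_exact _).mp
        (Ext.covariant_sequence_exact₃' A hRS n (n + 1) rfl))
      ((ShortComplex.ab_exact_iff_function_exact _).mp
        (Ext.covariant_sequence_exact₃' (L.obj A) hS n (n + 1) rfl))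
      (hn _ hI0).surjective (hn _ hQ0)
      (fun x₁ ↦ Ext.covariant_sequence_exact₁ _ hRS x₁ (by subsingleton) rfl)
      (fun y₁ ↦ Ext.covariant_sequence_exact₁ _ hS y₁ (by subsingleton) rfl)

end Groth.Agent.H4.ExtAdjL
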