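import Groth.Agent.H4.ShriekSections

/-! # Extension by zero along a clopen immersion in the small étale site (helper4) -/

set_option autoImplicit false
open CategoryTheory CategoryTheory.Limits AlgebraicGeometry Opposite
universe u
open EtCoh EtShriek Groth.Agent.H4.Stalks Groth.Agent.H4.GlueSec Groth.Agent.H4.SuppSec
open Groth.Agent.H4.ShriekSheaf Groth.Agent.H4.ShriekSections

namespace Groth.Agent.H4.ExtClopen

variable {X : Scheme.{u}} (F : Ab X)

/-- `s` is an extension by zero of `t` along `γ`. -/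
def IsExt {A B : X.Etale} (γ : A ⟶ B) (t : F.obj.obj (op A)) (s : F.obj.obj (op B)) : Prop :=
  F.obj.map γ.op s = t ∧
    ∀ (T : X.Etale) (g : T ⟶ B), Disjoint (Set.range g.left) (Set.range γ.left) →
      F.obj.map g.op s = 0

variable {F}

theorem IsExt.zero {A B : X.Etale} (γ : A ⟶ B) : IsExt F γ 0 0 :=
  ⟨map_zero _, fun _ _ _ => map_zero _⟩

theorem IsExt.add {A B : X.Etale} {γ : A ⟶ B} {t t' : F.obj.obj (op A)} {s s' : F.obj.obj (op B)}
    (h : IsExt F γ t s) (h' : IsExt F γ t' s') : IsExt F γ (t + t') (s + s') :=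
  ⟨by rw [map_add, h.1, h'.1], fun T g hg => by rw [map_add, h.2 T g hg, h'.2 T g hg, add_zero]⟩

theorem IsExt.neg {A B : X.Etale} {γ : A ⟶ B} {t : F.obj.obj (op A)} {s : F.obj.obj (op B)}
    (h : IsExt F γ t s) : IsExt F γ (-t) (-s) :=
  ⟨by rw [map_neg, h.1], fun T g hg => by rw [map_neg, h.2 T g hg, neg_zero]⟩

theorem IsExt.sub {A B : X.Etale} {γ : A ⟶ B} {t t' : F.obj.obj (op A)} {s s' : F.obj.obj (op B)}
    (h : IsExt F γ t s) (h' : IsExt F γ t' s') : IsExt F γ (t - t') (s - s') := by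
  rw [sub_eq_add_neg, sub_eq_add_neg]
  exact h.add h'.neg

theorem IsExt.eq_zero {A B : X.Etale} {γ : A ⟶ B} (hcl : IsClosed (Set.range γ.left))
    {s : F.obj.obj (op B)} (h : IsExt F γ 0 s) : s = 0 := by
  apply eq_zero_of_locally_zero F
  intro p
  by_cases hp : p ∈ Set.range γ.left
  · obtain ⟨a, ha⟩ := hp
    exact ⟨A, γ, a, ha, h.1⟩
  · let Wc : B.left.Opens := ⟨(Set.range γ.left)ᶜ, hcl.isOpen_compl⟩
    have : p ∈ Set.range (opnι B Wc).left := by rw [range_opnι]; exact hp
    obtain ⟨w, hw⟩ := this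
    refine ⟨_, opnι B Wc, w, hw, h.2 _ _ ?_⟩
    rw [range_opnι]
    exact disjoint_compl_left

theorem IsExt.unique {A B : X.Etale} {γ : A ⟶ B} (hcl : IsClosed (Set.range γ.left))
    {t : F.obj.obj (op A)} {s s' : F.obj.obj (op B)} (h : IsExt F γ t s) (h' : IsExt F γ t s') :
    s = s' := by
  have := (h.sub h')
  rw [sub_self] at this
  exact sub_eq_zero.1 (this.eq_zero hcl)

theorem mono_of_isOpenImmersion {A B : X.Etale} (γ : A ⟶ B) [IsOpenImmersion γ.left] : Mono γ := by
  constructor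
  intro T g h e
  apply MorphismProperty.Over.Hom.ext
  have e1 : g.left ≫ γ.left = h.left ≫ γ.left := congrArg (fun k => k.left) e
  exact (cancel_mono γ.left).1 e1

variable (F) in
theorem exists_isExt {A B : X.Etale} (γ : A ⟶ B) [IsOpenImmersion γ.left]
    (hcl : IsClosed (Set.range γ.left)) (t : F.obj.obj (op A)) :
    ∃ s : F.obj.obj (op B), IsExt F γ t s := by
  classical
  have hmono := mono_of_isOpenImmersion γ
  let Wc : B.left.Opens := ⟨(Set.range γ.left)ᶜ, hcl.isOpen_compl⟩
  let Y : Bool → X.Etale := fun b => if b then A else opn B Wc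
  let f : ∀ b, Y b ⟶ B := fun b => by
    cases b
    · exact opnι B Wc
    · exact γ
  let x : ∀ b, F.obj.obj (op (Y b)) := fun b => by
    cases b
    · exact 0
    · exact t
  have hcov : ⋃ b, Set.range (f b).left = Set.univ := by
    ext p
    simp only [Set.mem_iUnion, Set.mem_univ, iff_true]
    by_cases hp : p ∈ Set.range γ.left
    · exact ⟨true, hp⟩
    · refine ⟨false, ?_⟩
      show p ∈ Set.range (opnι B Wc).left
      rw [range_opnι]; exact hp
  have hempty : ∀ (T : X.Etale) (g : T ⟶ A) (g' : T ⟶ opn B Wc),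
      g ≫ γ = g' ≫ opnι B Wc → IsEmpty T.left := by
    intro T g g' e
    constructor
    intro t
    have e1 : g.left ≫ γ.left = g'.left ≫ Wc.ι := congrArg (fun k => k.left) e
    have e' : γ.left (g.left t) = Wc.ι (g'.left t) :=
      congrArg (fun (k : T.left ⟶ B.left) => k t) e1
    have h2 : Wc.ι (g'.left t) ∈ (Wc : Set B.left) := (g'.left t).2
    rw [← e'] at h2
    exact h2 ⟨_, rfl⟩
  obtain ⟨s, hs⟩ := exists_glue F Y f hcov x (by
    intro i j T gi gj e
    cases i <;> cases j
    · show F.obj.map gi.op 0 = F.obj.map gj.op 0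
      rw [map_zero, map_zero]
    · have := hempty T gj gi e.symm
      exact (eq_zero_of_isEmpty F _).trans (eq_zero_of_isEmpty F _).symm
    · have := hempty T gi gj e
      exact (eq_zero_of_isEmpty F _).trans (eq_zero_of_isEmpty F _).symm
    · have : gi = gj := (cancel_mono γ).1 e
      rw [this])
  refine ⟨s, hs true, ?_⟩
  intro T g hg
  obtain ⟨l, hl⟩ := exists_lift_opn B Wc g (by
    intro p hp
    exact fun hp' => Set.disjoint_left.1 hg hp hp')
  rw [← hl, ← map_comp_apply]
  have h0 : F.obj.map (opnι B Wc).op s = 0 := hs false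
  rw [h0, map_zero]

/-- base change of extensions by zero. -/
theorem IsExt.map {A B A' B' : X.Etale} {γ : A ⟶ B} {γ' : A' ⟶ B'} (a : A' ⟶ A) (b : B' ⟶ B)
    (w : γ' ≫ b = a ≫ γ) (hpre : b.left ⁻¹' (Set.range γ.left) ⊆ Set.range γ'.left)
    {t : F.obj.obj (op A)} {s : F.obj.obj (op B)} (h : IsExt F γ t s) :
    IsExt F γ' (F.obj.map a.op t) (F.obj.map b.op s) := by
  constructor
  · rw [map_comp_apply, w, ← map_comp_apply, h.1]
  · intro T g hg
    rw [map_comp_apply]
    apply h.2
    rw [Set.disjoint_left]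
    rintro _ ⟨x, rfl⟩ hx
    have : g.left x ∈ b.left ⁻¹' (Set.range γ.left) := by
      show b.left (g.left x) ∈ Set.range γ.left
      have h1 : (g ≫ b).left x = b.left (g.left x) := rfl
      rw [← h1]; exact hx
    exact Set.disjoint_left.1 hg ⟨x, rfl⟩ (hpre this)

theorem IsExt.supp_subset {A B : X.Etale} {γ : A ⟶ B} (hcl : IsClosed (Set.range γ.left))
    {t : F.obj.obj (op A)} {s : F.obj.obj (op B)} (h : IsExt F γ t s) :
    sectSupp F B s ⊆ Set.range γ.left := by
  intro p hp
  by_contra hcon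
  let Wc : B.left.Opens := ⟨(Set.range γ.left)ᶜ, hcl.isOpen_compl⟩
  have : p ∈ Set.range (opnι B Wc).left := by rw [range_opnι]; exact hcon
  obtain ⟨w, hw⟩ := this
  refine (not_mem_sectSupp_iff F B s p).2 ⟨_, opnι B Wc, w, hw, h.2 _ _ ?_⟩ hp
  rw [range_opnι]
  exact disjoint_compl_left

theorem IsExt.app {F F' : Ab X} (α : F ⟶ F') {A B : X.Etale} {γ : A ⟶ B}
    {t : F.obj.obj (op A)} {s : F.obj.obj (op B)} (h : IsExt F γ t s) :
    IsExt F' γ (α.hom.app (op A) t) (α.hom.app (op B) s) := by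
  constructor
  · rw [← h.1]
    exact (NatTrans.naturality_apply α.hom γ.op s).symm
  · intro T g hg
    have := NatTrans.naturality_apply α.hom g.op s
    rw [← this, h.2 T g hg, map_zero]

theorem isExt_of_supp_subset {A B : X.Etale} (γ : A ⟶ B) (s : F.obj.obj (op B))
    (hs : sectSupp F B s ⊆ Set.range γ.left) : IsExt F γ (F.obj.map γ.op s) s := by
  refine ⟨rfl, ?_⟩
  intro T g hg
  apply eq_zero_of_sectSupp_eq_empty
  rw [sectSupp_map]
  ext x
  simp only [Set.mem_preimage, Set.mem_empty_iff_false, iff_false]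
  intro hx
  exact Set.disjoint_left.1 hg ⟨x, rfl⟩ (hs hx)


variable (F) in
/-- extension by zero along a clopen immersion. -/
noncomputable def ext {A B : X.Etale} (γ : A ⟶ B) [IsOpenImmersion γ.left]
    (hcl : IsClosed (Set.range γ.left)) (t : F.obj.obj (op A)) : F.obj.obj (op B) :=
  (exists_isExt F γ hcl t).choose

section Ext

variable {A B : X.Etale} (γ : A ⟶ B) [IsOpenImmersion γ.left] (hcl : IsClosed (Set.range γ.left))

theorem isExt_ext (t : F.obj.obj (op A)) : IsExt F γ t (ext F γ hcl t) :=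
  (exists_isExt F γ hcl t).choose_spec

theorem ext_eq_of_isExt {t : F.obj.obj (op A)} {s : F.obj.obj (op B)} (h : IsExt F γ t s) :
    ext F γ hcl t = s :=
  (isExt_ext γ hcl t).unique hcl h

@[simp] theorem map_ext (t : F.obj.obj (op A)) : F.obj.map γ.op (ext F γ hcl t) = t :=
  (isExt_ext γ hcl t).1

theorem ext_zero : ext F γ hcl 0 = 0 := ext_eq_of_isExt γ hcl (IsExt.zero γ)

theorem ext_add (t t' : F.obj.obj (op A)) :
    ext F γ hcl (t + t') = ext F γ hcl t + ext F γ hcl t' :=
  ext_eq_of_isExt γ hcl ((isExt_ext γ hcl t).add (isExt_ext γ hcl t'))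

theorem ext_neg (t : F.obj.obj (op A)) : ext F γ hcl (-t) = -ext F γ hcl t :=
  ext_eq_of_isExt γ hcl (isExt_ext γ hcl t).neg

theorem supp_ext_subset (t : F.obj.obj (op A)) :
    sectSupp F B (ext F γ hcl t) ⊆ Set.range γ.left :=
  (isExt_ext γ hcl t).supp_subset hcl

theorem eq_ext_of_supp_subset (s : F.obj.obj (op B)) (hs : sectSupp F B s ⊆ Set.range γ.left) :
    ext F γ hcl (F.obj.map γ.op s) = s :=
  ext_eq_of_isExt γ hcl (isExt_of_supp_subset γ s hs)

/-- removing the part of a section over a clopen piece. -/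
theorem supp_sub_ext_subset (s : F.obj.obj (op B)) :
    sectSupp F B (s - ext F γ hcl (F.obj.map γ.op s)) ⊆ sectSupp F B s \ Set.range γ.left := by
  intro x hx
  have h1 : x ∉ Set.range γ.left := by
    rintro ⟨a, rfl⟩
    have h0 : F.obj.map γ.op (s - ext F γ hcl (F.obj.map γ.op s)) = 0 := by
      rw [map_sub, map_ext, sub_self]
    have : a ∈ sectSupp F A (F.obj.map γ.op (s - ext F γ hcl (F.obj.map γ.op s))) := by
      rw [sectSupp_map]; exact hx
    rw [h0, sectSupp_zero] at this
    exact this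
  refine ⟨?_, h1⟩
  rw [sub_eq_add_neg] at hx
  rcases sectSupp_add_subset F B _ _ hx with h | h
  · exact h
  · rw [sectSupp_neg] at h
    exact (h1 (supp_ext_subset γ hcl _ h)).elim

end Ext

end Groth.Agent.H4.ExtClopen
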