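import Groth.Agent.H4.HpullAPI
import Groth.Agent.H4.ExtZero

/-!
# Étale pullback on cohomology via `j_!` (helper4)

For étale `j : U ⟶ X`: `adjJ j : extZero j ⊣ pull j`, `ZJ j = j_! ℤ_U`, `εJ j : j_! ℤ_U ⟶ ℤ_X`,
`phiJ j F n : Ext^n(j_! ℤ, F) ≃+ H^n(U, j⁻¹F)`, and `Hpull j F n e = phiJ (εJ^* e)`.
For a factorisation `jW = k ≫ jU` of étale maps, `aJ : j_{W!} ℤ ⟶ j_{U!} ℤ` with
`HpullVia k jU jW w F n (phiJ jU x) = phiJ jW (aJ^* x)` and `aJ ≫ εJ jU = εJ jW`.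
-/

set_option autoImplicit false
open CategoryTheory CategoryTheory.Limits AlgebraicGeometry Opposite Abelian

namespace Groth.Agent.H4.HpullEt

universe u

open EtCoh EtCore EtShriek Groth.Agent.H4.EtRestr Groth.Agent.H4.HpullAPI

section One

variable {U X : Scheme.{u}} (j : U ⟶ X) [Etale j]

/-- `j_! ⊣ j⁻¹` for étale `j` (with `j⁻¹ = EtCoh.pull j`). -/
noncomputable def adjJ : extZero j ⊣ EtCoh.pull j :=
  (extZeroAdj j).ofNatIsoRight (pullRestrIso j).symm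

instance : (EtCoh.pull j).PreservesInjectiveObjects :=
  Functor.preservesInjectiveObjects_of_adjunction_of_preservesMonomorphisms (adjJ j)

/-- `j_! ℤ_U` -/
noncomputable abbrev ZJ : Ab X := (extZero j).obj (EtCoh.const U ℤ)

/-- the canonical map `j_! ℤ_U ⟶ ℤ_X` -/
noncomputable def εJ : ZJ j ⟶ EtCoh.const X ℤ :=
  ((adjJ j).homEquiv _ _).symm (pullConst j ℤ).inv

lemma unit_map_εJ :
    (adjJ j).unit.app (EtCoh.const U ℤ) ≫ (EtCoh.pull j).map (εJ j) = (pullConst j ℤ).inv := by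
  have h := (adjJ j).homEquiv_unit (X := EtCoh.const U ℤ) (Y := EtCoh.const X ℤ) (f := εJ j)
  rw [← h, εJ, Equiv.apply_symm_apply]

/-- `Ext^n(j_! ℤ, F) ≃+ H^n(U, j⁻¹ F)` -/
noncomputable def phiJ (F : Ab X) (n : ℕ) :
    Ext (ZJ j) F n ≃+ EtCoh.H U ((EtCoh.pull j).obj F) n :=
  ExtAdj.phiEquiv (adjJ j) (EtCoh.const U ℤ) F n

lemma phiJ_apply (F : Ab X) (n : ℕ) (x : Ext (ZJ j) F n) :
    phiJ j F n x = (Ext.mk₀ ((adjJ j).unit.app (EtCoh.const U ℤ))).comp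
      (x.mapExactFunctor (EtCoh.pull j)) (zero_add n) := rfl

/-- The pullback map on cohomology along an étale `j` is precomposition with `εJ j`,
under the adjunction isomorphism. -/
theorem Hpull_eq_phiJ [PreservesFiniteLimits (EtCoh.pull j)] (F : Ab X) (n : ℕ)
    (e : EtCoh.H X F n) :
    Hpull j F n e = phiJ j F n ((Ext.mk₀ (εJ j)).comp e (zero_add n)) := by
  rw [Hpull_apply, phiJ_apply, Ext.mapExactFunctor_comp, Ext.mapExactFunctor_mk₀,
    Ext.mk₀_comp_mk₀_assoc, unit_map_εJ]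

end One

section Two

variable {W U X : Scheme.{u}} (k : W ⟶ U) (jU : U ⟶ X) (jW : W ⟶ X) (w : k ≫ jU = jW)
  [Etale k] [Etale jU] [Etale jW]

/-- the comparison isomorphism `k⁻¹ jU⁻¹ ≅ jW⁻¹` used in `HpullVia` -/
noncomputable abbrev θ : EtCoh.pull jU ⋙ EtCoh.pull k ≅ EtCoh.pull jW :=
  (pullComp k jU).symm ≪≫ pullCongr w

/-- the map `ℤ_W ⟶ jW⁻¹ (jU_! ℤ_U)` adjoint to `aJ` -/
noncomputable def βJ : EtCoh.const W ℤ ⟶ (EtCoh.pull jW).obj (ZJ jU) :=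
  (pullConst k ℤ).inv ≫ (EtCoh.pull k).map ((adjJ jU).unit.app (EtCoh.const U ℤ)) ≫
    (θ k jU jW w).hom.app (ZJ jU)

/-- the transition map `jW_! ℤ_W ⟶ jU_! ℤ_U` -/
noncomputable def aJ : ZJ jW ⟶ ZJ jU :=
  ((adjJ jW).homEquiv _ _).symm (βJ k jU jW w)

lemma unit_map_aJ :
    (adjJ jW).unit.app (EtCoh.const W ℤ) ≫ (EtCoh.pull jW).map (aJ k jU jW w) = βJ k jU jW w := by
  have h := (adjJ jW).homEquiv_unit (X := EtCoh.const W ℤ) (Y := ZJ jU) (f := aJ k jU jW w)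
  rw [← h, aJ, Equiv.apply_symm_apply]

theorem HpullVia_phiJ [PreservesFiniteLimits (EtCoh.pull k)] (F : Ab X) (n : ℕ)
    (x : Ext (ZJ jU) F n) :
    HpullVia k jU jW w F n (phiJ jU F n x) =
      phiJ jW F n ((Ext.mk₀ (aJ k jU jW w)).comp x (zero_add n)) := by
  have hC := MapExtNat.mapExactFunctor_comp_functor (EtCoh.pull jU) (EtCoh.pull k) x
  have hN := MapExtNat.mapExactFunctor_naturality (θ k jU jW w).hom x
  have hθ : ((θ k jU jW w).app F).hom = (θ k jU jW w).hom.app F := rfl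
  rw [HpullVia_apply, Hpull_apply, phiJ_apply, phiJ_apply, Ext.mapExactFunctor_comp,
    Ext.mapExactFunctor_mk₀, Ext.mapExactFunctor_comp, Ext.mapExactFunctor_mk₀, ← hC, hθ,
    Ext.comp_assoc _ _ _ (zero_add n) (add_zero n) (by omega),
    Ext.comp_assoc _ _ _ (zero_add n) (add_zero n) (by omega), hN, Ext.mk₀_comp_mk₀_assoc,
    Ext.mk₀_comp_mk₀_assoc, Ext.mk₀_comp_mk₀_assoc, unit_map_aJ]
  rfl

theorem aJ_εJ : aJ k jU jW w ≫ εJ jU = εJ jW := by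
  apply ((adjJ jW).homEquiv _ _).injective
  rw [Adjunction.homEquiv_naturality_right]
  have h1 : (adjJ jW).homEquiv _ _ (aJ k jU jW w) = βJ k jU jW w := Equiv.apply_symm_apply _ _
  have h2 : (adjJ jW).homEquiv _ _ (εJ jW) = (pullConst jW ℤ).inv := Equiv.apply_symm_apply _ _
  rw [h1, h2]
  subst w
  rw [βJ, Category.assoc, Category.assoc, ← (θ k jU (k ≫ jU) rfl).hom.naturality (εJ jU),
    Functor.comp_map, ← Functor.map_comp_assoc, unit_map_εJ, pullConst_comp_inv]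
  congr 2

end Two

end Groth.Agent.H4.HpullEt
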