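import Groth.Agent.H4.AcycPush
import Groth.Agent.H4.HpullEt
import Groth.Agent.H4.ExtZeroBC

/-!
# Direct images of étale-acyclic sheaves (helper4)

* `ev j N : (j_! ℤ ⟶ N) → N(U → X)`: evaluation at the canonical section, natural and surjective.
* `epi_of_lifts`: the sheaves `j_! ℤ` (`j` étale) detect epimorphisms.
* `pullZJIso`: `f⁻¹ (j_! ℤ) ≅ j'_! ℤ` for the base change `j'` of `j`.
* `ext_push_eq_zero`: if `Ext^q(W_! ℤ, F) = 0` for all étale `W → X`, `q > 0`, then
  `Ext^q(W'_! ℤ, f_* F) = 0` for all étale `W' → Y`, `q > 0`.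
* `subsingleton_H_push`: the same in terms of `H^q(W, F|_W)`.
-/

set_option autoImplicit false
open CategoryTheory CategoryTheory.Limits AlgebraicGeometry Opposite Abelian

namespace Groth.Agent.H4.FlasquePush

universe u

open EtCoh EtCore EtShriek Groth.Agent.H4.EtRestr Groth.Agent.H4.HpullEt

section Ev

variable {U X : Scheme.{u}} (j : U ⟶ X) [Etale j]

/-- evaluation of a map `j_! ℤ ⟶ N` at the canonical section over `U → X` -/
noncomputable def ev (N : Ab X) (t : ZJ j ⟶ N) : N.obj.obj (op ((compEtale j).obj (top U))) :=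
  ((constAdj U).homEquiv _ _ ((extZeroAdj j).homEquiv _ _ t)).hom (ULift.up 1)

lemma ev_comp {M N : Ab X} (t : ZJ j ⟶ M) (φ : M ⟶ N) :
    ev j N (t ≫ φ) = φ.hom.app (op ((compEtale j).obj (top U))) (ev j M t) := by
  unfold ev
  rw [Adjunction.homEquiv_naturality_right, Adjunction.homEquiv_naturality_right]
  rfl

lemma ev_surjective (N : Ab X) : Function.Surjective (ev j N) := by
  intro s
  let h : AddCommGrpCat.of (ULift.{u+1} ℤ) ⟶ (gsec U).obj ((restrAlong j).obj N) :=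
    AddCommGrpCat.ofHom ((zmultiplesHom _ s).comp AddEquiv.ulift.toAddMonoidHom)
  refine ⟨((extZeroAdj j).homEquiv _ _).symm (((constAdj U).homEquiv _ _).symm h), ?_⟩
  unfold ev
  rw [Equiv.apply_symm_apply, Equiv.apply_symm_apply]
  change (zmultiplesHom _ s) (1 : ℤ) = s
  simp

end Ev

section Epi

variable {Y : Scheme.{u}}

/-- the canonical isomorphism `(W → W → Y) ≅ W` in the small étale site -/
noncomputable def selfIso (W : Y.Etale) : (compEtale W.hom).obj (top W.left) ≅ W :=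
  MorphismProperty.Over.isoMk (Iso.refl _) (by rfl)

/-- the test objects `W_! ℤ`, `W` étale over `Y` -/
def T (Y : Scheme.{u}) (t : Ab Y) : Prop := ∃ W : Y.Etale, t = ZJ W.hom

/-- The sheaves `W_! ℤ` detect epimorphisms. -/
theorem epi_of_lifts {M N : Ab Y} (φ : M ⟶ N)
    (h : ∀ t, T Y t → ∀ s : t ⟶ N, ∃ s' : t ⟶ M, s' ≫ φ = s) : Epi φ := by
  rw [← Sheaf.isLocallySurjective_iff_epi']
  constructor
  intro W' s
  haveI : Etale W'.hom := inferInstance
  -- transport `s` to the isomorphic object `(W' → W' → Y)`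
  let i := selfIso W'
  obtain ⟨t, ht⟩ := ev_surjective W'.hom N (N.obj.map i.hom.op s)
  obtain ⟨t', ht'⟩ := h _ ⟨W', rfl⟩ t
  have h1 : φ.hom.app _ (ev W'.hom M t') = N.obj.map i.hom.op s := by
    rw [← ev_comp, ht', ht]
  have h2 : φ.hom.app (op W') (M.obj.map i.inv.op (ev W'.hom M t')) = s := by
    have hn := congrArg (fun ψ => ψ (ev W'.hom M t'))
      (congrArg AddCommGrpCat.Hom.hom (φ.hom.naturality i.inv.op))
    simp only [AddCommGrpCat.hom_comp, AddMonoidHom.coe_comp, Function.comp_apply] at hn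
    refine hn.trans ?_
    refine (congrArg (AddCommGrpCat.Hom.hom (N.obj.map i.inv.op)) h1).trans ?_
    change (N.obj.map i.hom.op ≫ N.obj.map i.inv.op) s = s
    rw [← N.obj.map_comp, ← op_comp, Iso.inv_hom_id, op_id, N.obj.map_id]
    rfl
  have h3 : Presheaf.imageSieve φ.hom s = ⊤ := by
    rw [← Sieve.id_mem_iff_eq_top]
    refine ⟨M.obj.map i.inv.op (ev W'.hom M t'), ?_⟩
    rw [h2]
    simp
  rw [h3]
  exact GrothendieckTopology.top_mem _ _

end Epi

section Main

variable {X Y : Scheme.{u}} (f : X ⟶ Y)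

instance : (EtCoh.push f).PreservesInjectiveObjects :=
  Functor.preservesInjectiveObjects_of_adjunction_of_preservesMonomorphisms (EtCoh.pullPushAdj f)

/-- `f⁻¹ (W'_! ℤ) ≅ (X ×_Y W')_! ℤ` -/
noncomputable def pullZJIso (W' : Y.Etale) :
    (EtCoh.pull f).obj (ZJ W'.hom) ≅ ZJ ((bc f).obj W').hom :=
  ((Groth.Agent.H4.ExtZeroBC.extZeroPullIso W'.hom f ((bc f).obj W').hom
      (pullback.fst W'.hom f) (IsPullback.of_hasPullback W'.hom f).flip).app
        (EtCoh.const W'.left ℤ)).symm ≪≫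
    (extZero ((bc f).obj W').hom).mapIso (pullConst (pullback.fst W'.hom f) ℤ)

/-- acyclicity for all `W_! ℤ` passes to direct images -/
theorem ext_push_eq_zero (F : Ab X)
    (hF : ∀ (W : X.Etale) (q : ℕ), 0 < q → ∀ e : Ext (ZJ W.hom) F q, e = 0)
    (W' : Y.Etale) (q : ℕ) (hq : 0 < q) (e : Ext (ZJ W'.hom) ((EtCoh.push f).obj F) q) :
    e = 0 := by
  obtain ⟨q, rfl⟩ : ∃ q', q = q' + 1 := ⟨q - 1, by omega⟩
  refine Groth.Agent.H4.AcycPush.ext_eq_zero (EtCoh.pullPushAdj f) (T Y)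
    (fun φ h => epi_of_lifts φ h) q F ?_ _ ⟨W', rfl⟩ e
  rintro t ⟨W₁, rfl⟩ q' hq' x
  have h0 := hF ((bc f).obj W₁) q' hq' ((Ext.mk₀ (pullZJIso f W₁).inv).comp x (zero_add q'))
  have h1 : x = (Ext.mk₀ (pullZJIso f W₁).hom).comp
      ((Ext.mk₀ (pullZJIso f W₁).inv).comp x (zero_add q')) (zero_add q') := by
    rw [← Ext.comp_assoc _ _ _ (zero_add 0) (zero_add q') (by omega), Ext.mk₀_comp_mk₀,
      Iso.hom_inv_id, Ext.mk₀_id_comp]
  rw [h1, h0, Ext.comp_zero]

/-- If `H^q(W, F|_W) = 0` for all étale `W → X` and `q > 0`, the same holds for `f_* F`. -/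
theorem subsingleton_H_push (F : Ab X)
    (hF : ∀ (W : X.Etale) (q : ℕ), 0 < q →
      Subsingleton (EtCoh.H W.left ((EtCoh.pull W.hom).obj F) q))
    (W' : Y.Etale) (q : ℕ) (hq : 0 < q) :
    Subsingleton (EtCoh.H W'.left ((EtCoh.pull W'.hom).obj ((EtCoh.push f).obj F)) q) := by
  have h1 : ∀ (W : X.Etale) (q : ℕ), 0 < q → ∀ e : Ext (ZJ W.hom) F q, e = 0 := by
    intro W q hq e
    have hs := hF W q hq
    apply (phiJ W.hom F q).injective
    exact hs.elim _ _
  have h2 := ext_push_eq_zero f F h1 W' q hq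
  have : Subsingleton (Ext (ZJ W'.hom) ((EtCoh.push f).obj F) q) :=
    ⟨fun a b => by rw [h2 a, h2 b]⟩
  exact (phiJ W'.hom ((EtCoh.push f).obj F) q).symm.toEquiv.subsingleton

end Main

end Groth.Agent.H4.FlasquePush
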