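import Mathlib.RingTheory.AdicCompletion.Basic
import Mathlib.RingTheory.Nakayama
import Mathlib.RingTheory.Noetherian.Defs
import Mathlib.RingTheory.Finiteness.Basic
import Mathlib.LinearAlgebra.Pi
import Mathlib.LinearAlgebra.Finsupp.LinearCombination
import Mathlib.Tactic.Module

set_option autoImplicit false
universe u

namespace Groth.Agent.H4.FS

section Basic

variable {A : Type u} [CommRing A] {M : ℕ → Type u} [∀ n, AddCommGroup (M n)]
  [∀ n, Module A (M n)] (f : ∀ n, M (n + 1) →ₗ[A] M n)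

/-- The image of `m : M n` in `M j` for `j ≤ n`. -/
def down {n : ℕ} (m : M n) {j : ℕ} (h : j ≤ n) : M j :=
  Nat.decreasingInduction (motive := fun k _ => M k) (fun k _ z => f k z) m h

theorem down_self {n : ℕ} (m : M n) : down f m le_rfl = m :=
  Nat.decreasingInduction_self _ _

theorem down_succ_left {n j : ℕ} (m : M n) (h : j + 1 ≤ n) (h' : j ≤ n) :
    down f m h' = f j (down f m h) :=
  Nat.decreasingInduction_succ_left _ _ h h'

/-- A chosen lift of `m : M n` to `M j` for `n ≤ j`. -/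
noncomputable def up (hf : ∀ n, Function.Surjective (f n)) {n : ℕ} (m : M n) {j : ℕ}
    (h : n ≤ j) : M j :=
  Nat.leRec (motive := fun k _ => M k) m (fun k _ z => Classical.choose (hf k z)) h

theorem up_self (hf : ∀ n, Function.Surjective (f n)) {n : ℕ} (m : M n) :
    up f hf m le_rfl = m :=
  Nat.leRec_self _ _

theorem up_succ (hf : ∀ n, Function.Surjective (f n)) {n j : ℕ} (m : M n) (h : n ≤ j)
    (h' : n ≤ j + 1) : f j (up f hf m h') = up f hf m h := by
  have : up f hf m h' = Classical.choose (hf j (up f hf m h)) := Nat.leRec_succ _ _ h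
  rw [this]
  exact Classical.choose_spec (hf j _)

theorem exists_compat (hf : ∀ n, Function.Surjective (f n)) {n : ℕ} (m : M n) :
    ∃ x : ∀ k, M k, (∀ k, f k (x (k + 1)) = x k) ∧ x n = m := by
  refine ⟨fun k => if h : k ≤ n then down f m h else up f hf m (le_of_not_ge h), ?_, ?_⟩
  · intro k
    by_cases h : k + 1 ≤ n
    · simp only [dif_pos h, dif_pos (Nat.le_of_succ_le h)]
      exact (down_succ_left f m h _).symm
    · by_cases h' : k ≤ n
      · have hk : k = n := by omega
        subst hk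
        simp only [dif_neg h, dif_pos le_rfl, down_self]
        rw [up_succ f hf m le_rfl, up_self]
      · simp only [dif_neg h, dif_neg h']
        exact up_succ f hf m _ _
  · simp only [dif_pos le_rfl, down_self]

/-- In a compatible sequence, vanishing at a higher level forces vanishing below. -/
theorem compat_zero_of_le {x : ∀ k, M k} (hx : ∀ k, f k (x (k + 1)) = x k) {k K : ℕ}
    (hkK : k ≤ K) (h0 : x K = 0) : x k = 0 := by
  induction K, hkK using Nat.le_induction with
  | base => exact h0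
  | succ K _ ih =>
    apply ih
    rw [← hx K, h0, map_zero]

end Basic


/-- Dependent choice with a varying invariant. -/
theorem exists_seq_of_step {α : Type*} (P : ℕ → α → Prop) (R : ℕ → α → α → Prop) (a₀ : α)
    (h₀ : P 0 a₀) (step : ∀ n a, P n a → ∃ b, P (n + 1) b ∧ R n a b) :
    ∃ s : ℕ → α, s 0 = a₀ ∧ (∀ n, P n (s n)) ∧ ∀ n, R n (s n) (s (n + 1)) := by
  let s' : (n : ℕ) → {a // P n a} := fun n =>
    Nat.rec (motive := fun n => {a // P n a}) ⟨a₀, h₀⟩
      (fun n a => ⟨Classical.choose (step n a.1 a.2), (Classical.choose_spec (step n a.1 a.2)).1⟩) n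
  refine ⟨fun n => (s' n).1, rfl, fun n => (s' n).2, fun n => ?_⟩
  exact (Classical.choose_spec (step n (s' n).1 (s' n).2)).2

section Main

variable {A : Type u} [CommRing A] (I : Ideal A) {M : ℕ → Type u}
  [∀ n, AddCommGroup (M n)] [∀ n, Module A (M n)]
  (f : ∀ n, M (n + 1) →ₗ[A] M n)
  (L : Submodule A (∀ n, M n))

/-- The projection from the module of compatible sequences. -/
abbrev proj (n : ℕ) : L →ₗ[A] M n := (LinearMap.proj n).comp L.subtype

variable {L} in
theorem proj_apply (n : ℕ) (ℓ : L) : proj L n ℓ = (ℓ : ∀ k, M k) n := rfl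

variable (hL : ∀ x : ∀ n, M n, x ∈ L ↔ ∀ n, f n (x (n + 1)) = x n)
include hL

theorem proj_surjective (hf : ∀ n, Function.Surjective (f n)) (n : ℕ) :
    Function.Surjective (proj L n) := by
  intro m
  obtain ⟨x, hx, hxn⟩ := exists_compat f hf m
  exact ⟨⟨x, (hL x).mpr hx⟩, hxn⟩

theorem compat (ℓ : L) (n : ℕ) : f n ((ℓ : ∀ k, M k) (n + 1)) = (ℓ : ∀ k, M k) n :=
  (hL ℓ).mp ℓ.2 n

theorem eq_zero_of_forall_add (n₀ : ℕ) (ℓ : L) (h : ∀ k, (ℓ : ∀ k, M k) (n₀ + k) = 0) : ℓ = 0 := by
  apply Subtype.ext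
  funext k
  exact compat_zero_of_le f (compat f L hL ℓ) (Nat.le_add_left k n₀) (h k)

variable (hker : ∀ n, LinearMap.ker (f n) = I ^ (n + 1) • (⊤ : Submodule A (M (n + 1))))
include hker

theorem mem_pow_smul_top_succ (ℓ : L) (n : ℕ) (h : (ℓ : ∀ k, M k) n = 0) :
    (ℓ : ∀ k, M k) (n + 1) ∈ I ^ (n + 1) • (⊤ : Submodule A (M (n + 1))) := by
  rw [← hker n, LinearMap.mem_ker, compat f L hL ℓ n, h]

variable [IsAdicComplete I A] [∀ n, Module.Finite A (M n)]

/-- Generators of `M 0` lifted to `L` generate every `M n`. -/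
theorem span_proj_eq_top {r : ℕ} (x : Fin r → L)
    (h0 : Submodule.span A (Set.range fun j => proj L 0 (x j)) = ⊤) (n : ℕ) :
    Submodule.span A (Set.range fun j => proj L n (x j)) = ⊤ := by
  induction n with
  | zero => exact h0
  | succ n ih =>
    rw [eq_top_iff]
    refine Submodule.le_of_le_smul_of_le_jacobson_bot (I := I) (Module.Finite.fg_top)
      (IsAdicComplete.le_jacobson_bot I) ?_
    intro y _
    have hy : f n y ∈ Submodule.map (f n)
        (Submodule.span A (Set.range fun j => proj L (n + 1) (x j))) := by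
      rw [Submodule.map_span, ← Set.range_comp]
      have : (⇑(f n) ∘ fun j => proj L (n + 1) (x j)) = fun j => proj L n (x j) := by
        funext j
        exact compat f L hL (x j) n
      rw [this, ih]
      exact Submodule.mem_top
    obtain ⟨z, hz, hzy⟩ := hy
    have hsub : y - z ∈ I • (⊤ : Submodule A (M (n + 1))) := by
      have : y - z ∈ LinearMap.ker (f n) := by
        rw [LinearMap.mem_ker, map_sub, hzy, sub_self]
      rw [hker n] at this
      exact Submodule.smul_mono_left (Ideal.pow_le_self (Nat.succ_ne_zero n)) this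
    have : y = z + (y - z) := by abel
    rw [this]
    exact Submodule.add_mem_sup hz hsub


/-- One approximation step. -/
theorem exists_step {r : ℕ} (x : Fin r → L)
    (h0 : Submodule.span A (Set.range fun j => proj L 0 (x j)) = ⊤) (ℓ : L) (n : ℕ)
    (h : (ℓ : ∀ k, M k) n ∈ I ^ n • (⊤ : Submodule A (M n))) :
    ∃ c : Fin r → A, (∀ j, c j ∈ I ^ n) ∧
      ((ℓ - ∑ j, c j • x j : L) : ∀ k, M k) n = 0 := by
  rw [← span_proj_eq_top I f L hL hker x h0 n,
    Submodule.mem_ideal_smul_span_iff_exists_sum] at h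
  obtain ⟨a, ha, hsum⟩ := h
  refine ⟨a, ha, ?_⟩
  rw [Finsupp.sum_fintype a (fun i c => c • proj L n (x i)) (fun i => zero_smul _ _)] at hsum
  have : ((ℓ - ∑ j, a j • x j : L) : ∀ k, M k) n =
      (ℓ : ∀ k, M k) n - ∑ j, a j • proj L n (x j) := by
    rw [← proj_apply, map_sub, map_sum]
    simp only [map_smul, proj_apply]
  rw [this, hsum, sub_self]

theorem exists_seq {r : ℕ} (x : Fin r → L)
    (h0 : Submodule.span A (Set.range fun j => proj L 0 (x j)) = ⊤) (ℓ : L) (n₀ : ℕ)
    (h : (ℓ : ∀ k, M k) n₀ ∈ I ^ n₀ • (⊤ : Submodule A (M n₀))) :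
    ∃ s : ℕ → (Fin r → A), s 0 = 0 ∧
      (∀ i j, s (i + 1) j - s i j ∈ I ^ (n₀ + i)) ∧
      ∀ i, ((ℓ - ∑ j, s (i + 1) j • x j : L) : ∀ k, M k) (n₀ + i) = 0 := by
  obtain ⟨s, hs0, -, hsR⟩ := exists_seq_of_step
    (fun i (s : Fin r → A) => ((ℓ - ∑ j, s j • x j : L) : ∀ k, M k) (n₀ + i) ∈
      I ^ (n₀ + i) • (⊤ : Submodule A (M (n₀ + i))))
    (fun i (s s' : Fin r → A) => (∀ j, s' j - s j ∈ I ^ (n₀ + i)) ∧
      ((ℓ - ∑ j, s' j • x j : L) : ∀ k, M k) (n₀ + i) = 0)
    0 (by simpa using h) (by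
      intro i s hs
      obtain ⟨c, hc, hc0⟩ := exists_step I f L hL hker x h0 (ℓ - ∑ j, s j • x j) (n₀ + i) hs
      have heq : ℓ - ∑ j, (s + c) j • x j = ℓ - ∑ j, s j • x j - ∑ j, c j • x j := by
        simp only [Pi.add_apply, add_smul, Finset.sum_add_distrib]
        abel
      refine ⟨s + c, ?_, ?_, ?_⟩
      · have := mem_pow_smul_top_succ I f L hL hker (ℓ - ∑ j, (s + c) j • x j) (n₀ + i)
          (by rw [heq]; exact hc0)
        exact this
      · intro j
        simpa using hc j
      · rw [heq]; exact hc0)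
  exact ⟨s, hs0, fun i j => (hsR i).1 j, fun i => (hsR i).2⟩


variable (hk : ∀ n, I ^ (n + 1) • (⊤ : Submodule A (M n)) = ⊥)
include hk

theorem exists_coeffs {r : ℕ} (x : Fin r → L)
    (h0 : Submodule.span A (Set.range fun j => proj L 0 (x j)) = ⊤) (ℓ : L) (n₀ : ℕ)
    (h : (ℓ : ∀ k, M k) n₀ ∈ I ^ n₀ • (⊤ : Submodule A (M n₀))) :
    ∃ a : Fin r → A, (∀ j, a j ∈ I ^ n₀) ∧ ℓ = ∑ j, a j • x j := by
  obtain ⟨s, hs0, hs1, hs2⟩ := exists_seq I f L hL hker x h0 ℓ n₀ h
  have tel : ∀ i i', i ≤ i' → ∀ j, s i' j - s i j ∈ I ^ (n₀ + i) := by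
    intro i i' hii' j
    induction i', hii' using Nat.le_induction with
    | base => simp
    | succ i' hi' ih =>
      have h2 : s (i' + 1) j - s i' j ∈ I ^ (n₀ + i) :=
        Ideal.pow_le_pow_right (by omega) (hs1 i' j)
      have : s (i' + 1) j - s i j = (s (i' + 1) j - s i' j) + (s i' j - s i j) := by ring
      rw [this]
      exact Ideal.add_mem _ h2 ih
  have hlim : ∀ j, ∃ a : A, ∀ i, s i j ≡ a [SMOD (I ^ i • ⊤ : Submodule A A)] := by
    intro j
    apply IsPrecomplete.prec (IsAdicComplete.toIsPrecomplete (I := I) (M := A))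
      (f := fun i => s i j)
    intro m n hmn
    rw [SModEq.sub_mem, smul_eq_mul, Ideal.mul_top]
    have := tel m n hmn j
    rw [← neg_sub]
    exact Ideal.neg_mem_iff _ |>.mpr (Ideal.pow_le_pow_right (Nat.le_add_left m n₀) this)
  choose a ha using hlim
  have ha' : ∀ i j, a j - s i j ∈ I ^ (n₀ + i) := by
    intro i j
    have h1 := ha j (n₀ + i)
    rw [SModEq.sub_mem, smul_eq_mul, Ideal.mul_top] at h1
    have h2 := tel i (n₀ + i) (Nat.le_add_left i n₀) j
    have : a j - s i j = -(s (n₀ + i) j - a j) + (s (n₀ + i) j - s i j) := by ring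
    rw [this]
    exact Ideal.add_mem _ ((Ideal.neg_mem_iff _).mpr h1) h2
  refine ⟨a, ?_, ?_⟩
  · intro j
    have := ha' 0 j
    rw [hs0] at this
    simpa using this
  · rw [← sub_eq_zero]
    apply eq_zero_of_forall_add f L hL n₀
    intro k
    have hdecomp : ℓ - ∑ j, a j • x j =
        (ℓ - ∑ j, s (k + 1) j • x j) - ∑ j, (a j - s (k + 1) j) • x j := by
      have h3 : ∑ j, (a j - s (k + 1) j) • x j =
          ∑ j, a j • x j - ∑ j, s (k + 1) j • x j := by
        rw [← Finset.sum_sub_distrib]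
        exact Finset.sum_congr rfl fun j _ => by module
      rw [h3]
      abel
    rw [hdecomp, Submodule.coe_sub, Pi.sub_apply, hs2 k, zero_sub, neg_eq_zero]
    have hmem : ((∑ j, (a j - s (k + 1) j) • x j : L) : ∀ k, M k) (n₀ + k) ∈
        I ^ (n₀ + k + 1) • (⊤ : Submodule A (M (n₀ + k))) := by
      rw [← proj_apply, map_sum]
      apply Submodule.sum_mem
      intro j _
      rw [map_smul]
      exact Submodule.smul_mem_smul (ha' (k + 1) j) Submodule.mem_top
    rw [hk] at hmem
    exact (Submodule.mem_bot A).mp hmem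

theorem finite_and_ker (hf : ∀ n, Function.Surjective (f n)) :
    Module.Finite A L ∧ ∀ n, Function.Surjective (proj L n) ∧
      LinearMap.ker (proj L n) = I ^ (n + 1) • (⊤ : Submodule A L) := by
  obtain ⟨r, y, hy⟩ := Module.Finite.exists_fin (R := A) (M := M 0)
  have hsurj := proj_surjective f L hL hf
  choose x hx using fun j => hsurj 0 (y j)
  have h0 : Submodule.span A (Set.range fun j => proj L 0 (x j)) = ⊤ := by
    rw [← hy]
    congr 2
    funext j
    exact hx j
  refine ⟨?_, fun n => ⟨hsurj n, ?_⟩⟩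
  · refine Module.Finite.of_surjective (Fintype.linearCombination A x) ?_
    intro ℓ
    obtain ⟨a, -, ha⟩ := exists_coeffs I f L hL hker hk x h0 ℓ 0 (by simp)
    exact ⟨a, by rw [ha, Fintype.linearCombination_apply]⟩
  · apply le_antisymm
    · intro ℓ hℓ
      rw [LinearMap.mem_ker, proj_apply] at hℓ
      obtain ⟨a, ha1, ha2⟩ := exists_coeffs I f L hL hker hk x h0 ℓ (n + 1)
        (mem_pow_smul_top_succ I f L hL hker ℓ n hℓ)
      rw [ha2]
      apply Submodule.sum_mem
      intro j _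
      exact Submodule.smul_mem_smul (ha1 j) Submodule.mem_top
    · rw [Submodule.smul_le]
      intro a ha ℓ _
      rw [LinearMap.mem_ker, map_smul]
      have : a • proj L n ℓ ∈ I ^ (n + 1) • (⊤ : Submodule A (M n)) :=
        Submodule.smul_mem_smul ha Submodule.mem_top
      rw [hk] at this
      exact (Submodule.mem_bot A).mp this

end Main

end Groth.Agent.H4.FS
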