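import Mathlib

/-!
# The free abelian sheaf on a representable presheaf (helper4)

For a site `(C, J)` with `C : Type u₁`, `Category.{u} C` and sheaves valued in `AddCommGrpCat.{u+1}`:
`freeSh J U` with `freeShEquiv : (freeSh J U ⟶ N) ≃ N(U)`, natural in `N` (`freeShEquiv_comp`).
-/

set_option autoImplicit false
universe u u₁
open CategoryTheory CategoryTheory.Limits Opposite

namespace Groth.Agent.H4.FreeSh

variable {C : Type u₁} [Category.{u} C]

/-- the free abelian presheaf on the representable presheaf of `U` -/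
noncomputable abbrev freePre (U : C) : Cᵒᵖ ⥤ AddCommGrpCat.{u + 1} :=
  (uliftYoneda.{u + 1}.obj U) ⋙ AddCommGrpCat.free.{u + 1}

/-- `Hom(ℤ[h_U], P) ≃ P(U)` -/
noncomputable def freePreEquiv (U : C) (P : Cᵒᵖ ⥤ AddCommGrpCat.{u + 1}) :
    (freePre U ⟶ P) ≃ P.obj (op U) :=
  ((Adjunction.whiskerRight Cᵒᵖ AddCommGrpCat.adj.{u + 1}).homEquiv
      (uliftYoneda.{u + 1}.obj U) P).trans
    (uliftYonedaEquiv.{u + 1} (F := P ⋙ forget AddCommGrpCat.{u + 1}))

lemma freePreEquiv_comp (U : C) {P Q : Cᵒᵖ ⥤ AddCommGrpCat.{u + 1}} (a : freePre U ⟶ P)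
    (φ : P ⟶ Q) : freePreEquiv U Q (a ≫ φ) = φ.app (op U) (freePreEquiv U P a) := by
  change uliftYonedaEquiv.{u + 1} (F := Q ⋙ forget AddCommGrpCat.{u + 1})
      ((Adjunction.whiskerRight Cᵒᵖ AddCommGrpCat.adj.{u + 1}).homEquiv
        (uliftYoneda.{u + 1}.obj U) Q (a ≫ φ)) = _
  rw [Adjunction.homEquiv_naturality_right]
  rfl

variable (J : GrothendieckTopology C) [HasSheafify J AddCommGrpCat.{u + 1}]

/-- the free abelian sheaf on the representable presheaf of `U` -/
noncomputable abbrev freeSh (U : C) : Sheaf J AddCommGrpCat.{u + 1} :=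
  (presheafToSheaf J AddCommGrpCat.{u + 1}).obj (freePre U)

/-- `Hom(ℤ_U, N) ≃ N(U)` -/
noncomputable def freeShEquiv (U : C) (N : Sheaf J AddCommGrpCat.{u + 1}) :
    (freeSh J U ⟶ N) ≃ N.obj.obj (op U) :=
  ((sheafificationAdjunction J AddCommGrpCat.{u + 1}).homEquiv (freePre U) N).trans
    (freePreEquiv U N.obj)

lemma freeShEquiv_comp (U : C) {M N : Sheaf J AddCommGrpCat.{u + 1}} (a : freeSh J U ⟶ M)
    (φ : M ⟶ N) : freeShEquiv J U N (a ≫ φ) = φ.hom.app (op U) (freeShEquiv J U M a) := by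
  change freePreEquiv U N.obj
      ((sheafificationAdjunction J AddCommGrpCat.{u + 1}).homEquiv (freePre U) N (a ≫ φ)) = _
  rw [Adjunction.homEquiv_naturality_right]
  exact freePreEquiv_comp U _ _

end Groth.Agent.H4.FreeSh
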