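import Mathlib

/-!
# Abstract Artin gluing (recollement)

For adjunctions `iS ⊣ iP` (`C ⇄ A`) and `jS ⊣ jP` (`C ⇄ B`) with `iP`, `jP` fully faithful (counits
iso), `jS ∘ iP = 0`, `iS`, `jS` preserving pullbacks and equalizers and jointly reflecting isomorphisms,
the functor `F ↦ (iS F, jS F, iS (unit))` into the comma category `(𝟭 A) ↓ (jP ⋙ iS)` is an equivalence.
-/

set_option autoImplicit false
set_option linter.unusedSectionVars false
open CategoryTheory CategoryTheory.Limits

namespace Groth.Agent.H4.Glue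

universe v₁ v₂ v₃ u₁ u₂ u₃
variable {C : Type u₁} [Category.{v₁} C] {A : Type u₂} [Category.{v₂} A]
  {B : Type u₃} [Category.{v₃} B]
variable {iS : C ⥤ A} {iP : A ⥤ C} (adjI : iS ⊣ iP) {jS : C ⥤ B} {jP : B ⥤ C} (adjJ : jS ⊣ jP)

/-- The gluing functor `F ↦ (iS F, jS F, iS (η^j_F))`. -/
def glue (iS : C ⥤ A) : C ⥤ Comma (𝟭 A) (jP ⋙ iS) where
  obj F :=
    { left := iS.obj F
      right := jS.obj F
      hom := iS.map (adjJ.unit.app F) }
  map {F G} φ :=
    { left := iS.map φ
      right := jS.map φ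
      w := by
        dsimp
        rw [← Functor.map_comp, ← Functor.map_comp]
        congr 1
        exact adjJ.unit.naturality φ }
  map_id F := by ext <;> simp
  map_comp φ ψ := by ext <;> simp

variable [HasPullbacks C]

/-- the glued object. -/
noncomputable def L (T : Comma (𝟭 A) (jP ⋙ iS)) : C :=
  pullback (adjI.unit.app (jP.obj T.right)) (iP.map T.hom)

noncomputable def p₁ (T : Comma (𝟭 A) (jP ⋙ iS)) : L adjI T ⟶ jP.obj T.right :=
  pullback.fst _ _

noncomputable def p₂ (T : Comma (𝟭 A) (jP ⋙ iS)) : L adjI T ⟶ iP.obj T.left :=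
  pullback.snd _ _

lemma p_cond (T : Comma (𝟭 A) (jP ⋙ iS)) :
    p₁ adjI T ≫ adjI.unit.app (jP.obj T.right) = p₂ adjI T ≫ iP.map T.hom :=
  pullback.condition

lemma isPullback_L (T : Comma (𝟭 A) (jP ⋙ iS)) :
    IsPullback (p₁ adjI T) (p₂ adjI T) (adjI.unit.app (jP.obj T.right)) (iP.map T.hom) :=
  IsPullback.of_hasPullback _ _

section
variable [PreservesLimitsOfShape WalkingCospan iS] [PreservesLimitsOfShape WalkingCospan jS]
  (hI : ∀ G, IsIso (adjI.counit.app G)) (hJ : ∀ H, IsIso (adjJ.counit.app H))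
  (hz : ∀ G, IsZero (jS.obj (iP.obj G)))

include hI in
lemma isIso_iS_unit (F : C) : IsIso (iS.map (adjI.unit.app F)) := by
  have h := adjI.left_triangle_components F
  have := hI (iS.obj F)
  have h2 : IsIso (iS.map (adjI.unit.app F) ≫ adjI.counit.app (iS.obj F)) := by
    rw [h]; exact IsIso.id _
  exact IsIso.of_isIso_comp_right _ (adjI.counit.app (iS.obj F))

include hJ in
lemma isIso_jS_unit (F : C) : IsIso (jS.map (adjJ.unit.app F)) := by
  have h := adjJ.left_triangle_components F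
  have := hJ (jS.obj F)
  have h2 : IsIso (jS.map (adjJ.unit.app F) ≫ adjJ.counit.app (jS.obj F)) := by
    rw [h]; exact IsIso.id _
  exact IsIso.of_isIso_comp_right _ (adjJ.counit.app (jS.obj F))

include hz in
lemma isIso_jS_p₁ (T : Comma (𝟭 A) (jP ⋙ iS)) : IsIso (jS.map (p₁ adjI T)) := by
  have hp := (isPullback_L adjI T).map jS
  have : IsIso (jS.map (iP.map T.hom)) :=
    ⟨⟨(hz _).to_ _, (hz _).eq_of_src _ _, (hz _).eq_of_src _ _⟩⟩
  exact hp.isIso_fst_of_isIso

include hI in
lemma isIso_iS_p₂ (T : Comma (𝟭 A) (jP ⋙ iS)) : IsIso (iS.map (p₂ adjI T)) := by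
  have hp := (isPullback_L adjI T).map iS
  have : IsIso (iS.map (adjI.unit.app (jP.obj T.right))) := isIso_iS_unit adjI hI _
  exact hp.isIso_snd_of_isIso


/-- essential surjectivity: `glue (L T) ≅ T`. -/
noncomputable def glueLIso (T : Comma (𝟭 A) (jP ⋙ iS)) :
    (glue adjJ iS).obj (L adjI T) ≅ T := by
  have h1 : IsIso (iS.map (p₂ adjI T) ≫ adjI.counit.app T.left) := by
    have := isIso_iS_p₂ adjI hI T
    have := hI T.left
    infer_instance
  have h2 : IsIso (jS.map (p₁ adjI T) ≫ adjJ.counit.app T.right) := by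
    have := isIso_jS_p₁ adjI hz T
    have := hJ T.right
    infer_instance
  refine Comma.isoMk (@asIso _ _ _ _ (iS.map (p₂ adjI T) ≫ adjI.counit.app T.left) h1)
    (@asIso _ _ _ _ (jS.map (p₁ adjI T) ≫ adjJ.counit.app T.right) h2) ?_
  dsimp [glue]
  have e1 : iS.map (adjJ.unit.app (L adjI T)) ≫
      iS.map (jP.map (jS.map (p₁ adjI T) ≫ adjJ.counit.app T.right)) = iS.map (p₁ adjI T) := by
    rw [← Functor.map_comp]
    congr 1
    rw [Functor.map_comp, ← Category.assoc]
    have := adjJ.unit.naturality (p₁ adjI T)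
    dsimp at this
    rw [← this, Category.assoc, adjJ.right_triangle_components, Category.comp_id]
  have e2 : (iS.map (p₂ adjI T) ≫ adjI.counit.app T.left) ≫ T.hom = iS.map (p₁ adjI T) := by
    have n := adjI.counit.naturality T.hom
    dsimp at n
    rw [Category.assoc, ← n, ← Category.assoc, ← Functor.map_comp, ← p_cond, Functor.map_comp,
      Category.assoc, adjI.left_triangle_components, Category.comp_id]
  exact e2.trans e1.symm


/-- the unit `F ⟶ L (glue F)`. -/
noncomputable def u (F : C) : F ⟶ L adjI ((glue adjJ iS).obj F) :=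
  pullback.lift (adjJ.unit.app F) (adjI.unit.app F) (by
    have := adjI.unit.naturality (adjJ.unit.app F)
    dsimp at this
    dsimp [glue]
    exact this)

/-- projections of `L (glue F)` with explicit types. -/
noncomputable def q₁ (F : C) : L adjI ((glue adjJ iS).obj F) ⟶ jP.obj (jS.obj F) := p₁ adjI _

noncomputable def q₂ (F : C) : L adjI ((glue adjJ iS).obj F) ⟶ iP.obj (iS.obj F) := p₂ adjI _

lemma u_q₁ (F : C) : u adjI adjJ F ≫ q₁ adjI adjJ F = adjJ.unit.app F :=
  pullback.lift_fst _ _ _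

lemma u_q₂ (F : C) : u adjI adjJ F ≫ q₂ adjI adjJ F = adjI.unit.app F :=
  pullback.lift_snd _ _ _

lemma exists_lift_q {W F : C} (x : W ⟶ jP.obj (jS.obj F)) (y : W ⟶ iP.obj (iS.obj F))
    (h : x ≫ adjI.unit.app (jP.obj (jS.obj F)) = y ≫ iP.map (iS.map (adjJ.unit.app F))) :
    ∃ l : W ⟶ L adjI ((glue adjJ iS).obj F), l ≫ q₁ adjI adjJ F = x ∧ l ≫ q₂ adjI adjJ F = y :=
  ⟨pullback.lift x y h, pullback.lift_fst _ _ _, pullback.lift_snd _ _ _⟩

variable (hc : ∀ {F F' : C} (f : F ⟶ F'), IsIso (iS.map f) → IsIso (jS.map f) → IsIso f)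

include hI hJ hz hc in
lemma isIso_u (F : C) : IsIso (u adjI adjJ F) := by
  apply hc
  · have h := congrArg iS.map (u_q₂ adjI adjJ F)
    rw [Functor.map_comp] at h
    have : IsIso (iS.map (q₂ adjI adjJ F)) := isIso_iS_p₂ adjI hI ((glue adjJ iS).obj F)
    have : IsIso (iS.map (u adjI adjJ F) ≫ iS.map (q₂ adjI adjJ F)) := by
      rw [h]; exact isIso_iS_unit adjI hI F
    exact IsIso.of_isIso_comp_right _ (iS.map (q₂ adjI adjJ F))
  · have h := congrArg jS.map (u_q₁ adjI adjJ F)
    rw [Functor.map_comp] at h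
    have : IsIso (jS.map (q₁ adjI adjJ F)) := isIso_jS_p₁ adjI hz ((glue adjJ iS).obj F)
    have : IsIso (jS.map (u adjI adjJ F) ≫ jS.map (q₁ adjI adjJ F)) := by
      rw [h]; exact isIso_jS_unit adjJ hJ F
    exact IsIso.of_isIso_comp_right _ (jS.map (q₁ adjI adjJ F))

include hI hJ hz hc in
theorem exists_map {F F' : C} (a : iS.obj F ⟶ iS.obj F') (b : jS.obj F ⟶ jS.obj F')
    (hw : a ≫ iS.map (adjJ.unit.app F') = iS.map (adjJ.unit.app F) ≫ iS.map (jP.map b)) :
    ∃ ψ : F ⟶ F', iS.map ψ = a ∧ jS.map ψ = b := by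
  have := isIso_u adjI adjJ hI hJ hz hc F'
  have hcomp : (adjJ.unit.app F ≫ jP.map b) ≫ adjI.unit.app (jP.obj (jS.obj F')) =
      (adjI.unit.app F ≫ iP.map a) ≫ iP.map (iS.map (adjJ.unit.app F')) := by
    have n := adjI.unit.naturality (adjJ.unit.app F ≫ jP.map b)
    dsimp at n
    rw [n, Category.assoc, ← Functor.map_comp, hw, ← Functor.map_comp]
  obtain ⟨ψ', h1, h2⟩ := exists_lift_q adjI adjJ _ _ hcomp
  refine ⟨ψ' ≫ inv (u adjI adjJ F'), ?_, ?_⟩
  · apply (adjI.homEquiv _ _).injective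
    rw [adjI.homEquiv_unit, adjI.homEquiv_unit]
    have n := adjI.unit.naturality (ψ' ≫ inv (u adjI adjJ F'))
    dsimp at n
    rw [← n, ← u_q₂ adjI adjJ F', Category.assoc, IsIso.inv_hom_id_assoc, h2]
  · apply (adjJ.homEquiv _ _).injective
    rw [adjJ.homEquiv_unit, adjJ.homEquiv_unit]
    have n := adjJ.unit.naturality (ψ' ≫ inv (u adjI adjJ F'))
    dsimp at n
    rw [← n, ← u_q₁ adjI adjJ F', Category.assoc, IsIso.inv_hom_id_assoc, h1]

include hI hJ hz hc in
theorem full_glue : (glue adjJ iS).Full := by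
  constructor
  intro F F' f
  obtain ⟨ψ, h1, h2⟩ := exists_map adjI adjJ hI hJ hz hc (F := F) (F' := F') f.left f.right f.w
  exact ⟨ψ, CommaMorphism.ext h1 h2⟩

include hI hJ hz in
theorem essSurj_glue : (glue adjJ iS).EssSurj :=
  ⟨fun T => ⟨L adjI T, ⟨glueLIso adjI adjJ hI hJ hz T⟩⟩⟩

variable [HasEqualizers C] [PreservesLimitsOfShape WalkingParallelPair iS]
  [PreservesLimitsOfShape WalkingParallelPair jS]

include hc in
theorem faithful_glue : (glue adjJ iS).Faithful := by
  constructor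
  intro F F' f g h
  have hi : iS.map f = iS.map g := congrArg CommaMorphism.left h
  have hj : jS.map f = jS.map g := congrArg CommaMorphism.right h
  have : IsIso (equalizer.ι f g) := by
    apply hc
    · have hl := isLimitForkMapOfIsLimit iS (equalizer.condition f g) (equalizerIsEqualizer f g)
      exact isIso_limit_cone_parallelPair_of_eq hi hl
    · have hl := isLimitForkMapOfIsLimit jS (equalizer.condition f g) (equalizerIsEqualizer f g)
      exact isIso_limit_cone_parallelPair_of_eq hj hl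
  rw [← cancel_epi (equalizer.ι f g)]
  exact equalizer.condition f g

include hI hJ hz hc in
theorem isEquivalence_glue : (glue adjJ iS).IsEquivalence := by
  have := full_glue adjI adjJ hI hJ hz hc
  have := essSurj_glue adjI adjJ hI hJ hz
  have := faithful_glue adjJ hc
  exact { }

end

end Groth.Agent.H4.Glue
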