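import Mathlib

/-!
# Naturality and functoriality of `Ext.mapExactFunctor` (helper4)

* `mapExactFunctor_naturality`: for a natural transformation `τ : G ⟶ G'` between exact functors,
  `G.mapExt e ≫ mk₀ (τ B) = mk₀ (τ A) ≫ G'.mapExt e`.
* `mapExactFunctor_comp_functor`: `(G ⋙ G').mapExt e = G'.mapExt (G.mapExt e)`.
Both by dimension shifting (enough injectives in the source).
-/

namespace Groth.Agent.H4.MapExtNat

open CategoryTheory Limits Abelian

universe w w' w'' v v' v'' u u' u''

variable {C : Type u} [Category.{v} C] [Abelian C] {D : Type u'} [Category.{v'} D] [Abelian D]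
variable {E : Type u''} [Category.{v''} E] [Abelian E]
variable [HasExt.{w} C] [HasExt.{w'} D] [HasExt.{w''} E]

section Nat

variable {G G' : C ⥤ D} [G.Additive] [PreservesFiniteLimits G] [PreservesFiniteColimits G]
  [G'.Additive] [PreservesFiniteLimits G'] [PreservesFiniteColimits G']

/-- the inductive step, for an arbitrary short exact sequence -/
theorem naturality_step (τ : G ⟶ G') {S : ShortComplex C} (hS : S.ShortExact) {A : C} {n : ℕ}
    (e' : Ext.{w} A S.X₃ n)
    (h : (e'.mapExactFunctor G).comp (Ext.mk₀ (τ.app S.X₃)) (add_zero n) =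
      (Ext.mk₀ (τ.app A)).comp (e'.mapExactFunctor G') (zero_add n)) :
    ((e'.comp hS.extClass rfl).mapExactFunctor G).comp (Ext.mk₀ (τ.app S.X₁)) (add_zero (n + 1)) =
      (Ext.mk₀ (τ.app A)).comp ((e'.comp hS.extClass rfl).mapExactFunctor G') (zero_add (n + 1)) := by
  have hnat : (hS.map_of_exact G).extClass.comp (Ext.mk₀ (τ.app S.X₁)) (add_zero 1) =
      (Ext.mk₀ (τ.app S.X₃)).comp (hS.map_of_exact G').extClass (zero_add 1) :=
    ShortComplex.ShortExact.extClass_naturality (hS.map_of_exact G)
      (hS.map_of_exact G') (S.mapNatTrans τ)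
  have e1 : (e'.comp hS.extClass rfl).mapExactFunctor G =
      (e'.mapExactFunctor G).comp (hS.map_of_exact G).extClass rfl :=
    (Ext.mapExactFunctor_comp G e' hS.extClass rfl).trans
      (congrArg (fun z => (e'.mapExactFunctor G).comp z rfl) (Ext.mapExactFunctor_extClass G hS))
  have e2 : (e'.comp hS.extClass rfl).mapExactFunctor G' =
      (e'.mapExactFunctor G').comp (hS.map_of_exact G').extClass rfl :=
    (Ext.mapExactFunctor_comp G' e' hS.extClass rfl).trans
      (congrArg (fun z => (e'.mapExactFunctor G').comp z rfl) (Ext.mapExactFunctor_extClass G' hS))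
  rw [e1, e2]
  calc ((e'.mapExactFunctor G).comp (hS.map_of_exact G).extClass rfl).comp
        (Ext.mk₀ (τ.app S.X₁)) (add_zero (n + 1))
      = (e'.mapExactFunctor G).comp ((hS.map_of_exact G).extClass.comp
          (Ext.mk₀ (τ.app S.X₁)) (add_zero 1)) rfl :=
        Ext.comp_assoc _ _ _ rfl (add_zero 1) (by omega)
    _ = (e'.mapExactFunctor G).comp ((Ext.mk₀ (τ.app S.X₃)).comp
          (hS.map_of_exact G').extClass (zero_add 1)) rfl :=
        congrArg (fun z => (e'.mapExactFunctor G).comp z rfl) hnat
    _ = ((e'.mapExactFunctor G).comp (Ext.mk₀ (τ.app S.X₃)) (add_zero n)).comp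
          (hS.map_of_exact G').extClass rfl :=
        (Ext.comp_assoc _ _ _ (add_zero n) (zero_add 1) (by omega)).symm
    _ = ((Ext.mk₀ (τ.app A)).comp (e'.mapExactFunctor G') (zero_add n)).comp
          (hS.map_of_exact G').extClass rfl :=
        congrArg (fun z => z.comp (hS.map_of_exact G').extClass rfl) h
    _ = (Ext.mk₀ (τ.app A)).comp ((e'.mapExactFunctor G').comp
          (hS.map_of_exact G').extClass rfl) (zero_add (n + 1)) :=
        Ext.comp_assoc _ _ _ (zero_add n) rfl (by omega)

attribute [local instance] Ext.subsingleton_of_injective in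
theorem mapExactFunctor_naturality [EnoughInjectives C] (τ : G ⟶ G') {A B : C} {n : ℕ}
    (e : Ext.{w} A B n) :
    (e.mapExactFunctor G).comp (Ext.mk₀ (τ.app B)) (add_zero n) =
      (Ext.mk₀ (τ.app A)).comp (e.mapExactFunctor G') (zero_add n) := by
  induction n generalizing B with
  | zero =>
    rcases (Ext.mk₀_bijective A B).2 e with ⟨f, rfl⟩
    rw [Ext.mapExactFunctor_mk₀, Ext.mapExactFunctor_mk₀, Ext.mk₀_comp_mk₀, Ext.mk₀_comp_mk₀,
      τ.naturality]
  | succ n hn =>
    let I : InjectivePresentation B := Classical.arbitrary _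
    let S := ShortComplex.mk _ _ (cokernel.condition I.f)
    have : Injective S.X₂ := I.injective
    have hS : S.ShortExact := { exact := ShortComplex.exact_cokernel I.f }
    obtain ⟨e', rfl⟩ := Ext.covariant_sequence_exact₁ A hS e (by subsingleton) rfl
    exact naturality_step τ hS e' (hn e')

end Nat

section Comp

variable (G : C ⥤ D) [G.Additive] [PreservesFiniteLimits G] [PreservesFiniteColimits G]
  (G' : D ⥤ E) [G'.Additive] [PreservesFiniteLimits G'] [PreservesFiniteColimits G']

theorem comp_functor_step {S : ShortComplex C} (hS : S.ShortExact) {A : C} {n : ℕ}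
    (e' : Ext.{w} A S.X₃ n)
    (h : (e'.mapExactFunctor (G ⋙ G') : Ext.{w''} _ _ n) =
      ((e'.mapExactFunctor G : Ext.{w'} _ _ n).mapExactFunctor G' : Ext.{w''} _ _ n)) :
    ((e'.comp hS.extClass rfl).mapExactFunctor (G ⋙ G') : Ext.{w''} _ _ (n + 1)) =
      (((e'.comp hS.extClass rfl).mapExactFunctor G : Ext.{w'} _ _ (n + 1)).mapExactFunctor G' :
        Ext.{w''} _ _ (n + 1)) := by
  have e1 : ((e'.comp hS.extClass rfl).mapExactFunctor (G ⋙ G') : Ext.{w''} _ _ (n + 1)) =
      (e'.mapExactFunctor (G ⋙ G')).comp (hS.map_of_exact (G ⋙ G')).extClass rfl :=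
    (Ext.mapExactFunctor_comp (G ⋙ G') e' hS.extClass rfl).trans
      (congrArg (fun z => (e'.mapExactFunctor (G ⋙ G')).comp z rfl)
        (Ext.mapExactFunctor_extClass (G ⋙ G') hS))
  have e2 : ((e'.comp hS.extClass rfl).mapExactFunctor G : Ext.{w'} _ _ (n + 1)) =
      (e'.mapExactFunctor G).comp (hS.map_of_exact G).extClass rfl :=
    (Ext.mapExactFunctor_comp G e' hS.extClass rfl).trans
      (congrArg (fun z => (e'.mapExactFunctor G).comp z rfl) (Ext.mapExactFunctor_extClass G hS))
  have e3 : (((e'.mapExactFunctor G).comp (hS.map_of_exact G).extClass rfl :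
      Ext.{w'} _ _ (n + 1)).mapExactFunctor G' : Ext.{w''} _ _ (n + 1)) =
      ((e'.mapExactFunctor G).mapExactFunctor G').comp
        ((hS.map_of_exact G).map_of_exact G').extClass rfl :=
    (Ext.mapExactFunctor_comp G' (e'.mapExactFunctor G) (hS.map_of_exact G).extClass rfl).trans
      (congrArg (fun z => ((e'.mapExactFunctor G).mapExactFunctor G').comp z rfl)
        (Ext.mapExactFunctor_extClass G' (hS.map_of_exact G)))
  have e4 : (e'.mapExactFunctor (G ⋙ G')).comp (hS.map_of_exact (G ⋙ G')).extClass rfl =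
      ((e'.mapExactFunctor G).mapExactFunctor G').comp
        ((hS.map_of_exact G).map_of_exact G').extClass rfl :=
    congrArg (fun z => z.comp ((hS.map_of_exact G).map_of_exact G').extClass rfl) h
  exact e1.trans (e4.trans ((congrArg (fun z => Ext.mapExactFunctor G' z) e2).trans e3).symm)

attribute [local instance] Ext.subsingleton_of_injective in
theorem mapExactFunctor_comp_functor [EnoughInjectives C] {A B : C} {n : ℕ} (e : Ext.{w} A B n) :
    (e.mapExactFunctor (G ⋙ G') : Ext.{w''} _ _ n) =
      ((e.mapExactFunctor G : Ext.{w'} _ _ n).mapExactFunctor G' : Ext.{w''} _ _ n) := by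
  induction n generalizing B with
  | zero =>
    rcases (Ext.mk₀_bijective A B).2 e with ⟨f, rfl⟩
    rw [Ext.mapExactFunctor_mk₀, Ext.mapExactFunctor_mk₀, Ext.mapExactFunctor_mk₀]
    rfl
  | succ n hn =>
    let I : InjectivePresentation B := Classical.arbitrary _
    let S := ShortComplex.mk _ _ (cokernel.condition I.f)
    have : Injective S.X₂ := I.injective
    have hS : S.ShortExact := { exact := ShortComplex.exact_cokernel I.f }
    obtain ⟨e', rfl⟩ := Ext.covariant_sequence_exact₁ A hS e (by subsingleton) rfl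
    exact comp_functor_step G G' hS e' (hn e')

end Comp

end Groth.Agent.H4.MapExtNat
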