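import Groth.Prelude.Def_EtCore
import Groth.Agent.H4.EtRestr
import Groth.Agent.H4.MapExtNat
import Groth.Agent.H4.ExtAdj

/-!
# API for the pullback maps `EtCore.Hpull` / `EtCore.HpullVia` on étale cohomology (helper4)

* `pullConstIso_comp`, `pullConst_comp_inv`: coherence of `pullConst` with `pullComp`.
* `HpullVia_Hpull`: functoriality `HpullVia f t f₀ w ∘ Hpull t = Hpull f₀`.
* `Hpull_apply`, `HpullVia_apply`: unfolding lemmas.
* `pushGsecIso_comp`, `unit_pullComp`: the underlying coherences for direct images / units.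
(The étale case `Ext^n(j_! ℤ, F) ≃ H^n(U, j⁻¹F)` is in `H4/HpullEt.lean`.)
-/

set_option autoImplicit false
open CategoryTheory CategoryTheory.Limits AlgebraicGeometry Opposite Abelian

namespace Groth.Agent.H4.HpullAPI

universe u

open EtCoh EtCore

variable {X Y Z : Scheme.{u}}

/-- the adjunction `const_Y ⋙ f⁻¹ ⊣ Γ(X, -)` used in the definition of `pullConstIso` -/
noncomputable abbrev adjA (f : X ⟶ Y) :
    constantSheaf Y.smallEtaleTopology AddCommGrpCat.{u+1} ⋙ EtCoh.pull f ⊣ gsec X :=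
  ((constAdj Y).comp (EtCoh.pullPushAdj f)).ofNatIsoRight (pushGsecIso f)

lemma pullConstIso_eq (f : X ⟶ Y) :
    pullConstIso f = Adjunction.leftAdjointUniq (adjA f) (constAdj X) := rfl

lemma adjA_unit_app (f : X ⟶ Y) (M : AddCommGrpCat.{u+1}) :
    (adjA f).unit.app M = (constAdj Y).unit.app M ≫
      (gsec Y).map ((EtCoh.pullPushAdj f).unit.app
        ((constantSheaf Y.smallEtaleTopology AddCommGrpCat.{u+1}).obj M)) ≫
      (pushGsecIso f).hom.app ((EtCoh.pull f).obj
        ((constantSheaf Y.smallEtaleTopology AddCommGrpCat.{u+1}).obj M)) := by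
  simp [adjA, Adjunction.comp_unit_app]

/-- the adjunction used in the definition of `pullComp` -/
noncomputable abbrev adjC (f : X ⟶ Y) (t : Y ⟶ Z) : EtCoh.pull t ⋙ EtCoh.pull f ⊣ EtCoh.push (f ≫ t) :=
  ((EtCoh.pullPushAdj t).comp (EtCoh.pullPushAdj f)).ofNatIsoRight (EtCoh.pushComp t f)

lemma pullComp_eq (f : X ⟶ Y) (t : Y ⟶ Z) :
    pullComp f t = Adjunction.leftAdjointUniq (EtCoh.pullPushAdj (f ≫ t)) (adjC f t) := rfl

lemma adjC_unit_app (f : X ⟶ Y) (t : Y ⟶ Z) (G : Ab Z) :
    (adjC f t).unit.app G = (EtCoh.pullPushAdj t).unit.app G ≫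
      (EtCoh.push t).map ((EtCoh.pullPushAdj f).unit.app ((EtCoh.pull t).obj G)) ≫
      (EtCoh.pushComp t f).hom.app ((EtCoh.pull f).obj ((EtCoh.pull t).obj G)) := by
  simp [adjC, Adjunction.comp_unit_app]

/-- unit of `pullPushAdj (f ≫ t)` through `pullComp` -/
lemma unit_pullComp (f : X ⟶ Y) (t : Y ⟶ Z) (G : Ab Z) :
    (EtCoh.pullPushAdj (f ≫ t)).unit.app G ≫ (EtCoh.push (f ≫ t)).map ((pullComp f t).hom.app G) =
      (EtCoh.pullPushAdj t).unit.app G ≫
      (EtCoh.push t).map ((EtCoh.pullPushAdj f).unit.app ((EtCoh.pull t).obj G)) ≫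
      (EtCoh.pushComp t f).hom.app ((EtCoh.pull f).obj ((EtCoh.pull t).obj G)) := by
  rw [pullComp_eq, Adjunction.unit_leftAdjointUniq_hom_app, adjC_unit_app]


lemma pushGsecIso_hom_app (f : X ⟶ Y) (H : Ab X) :
    (pushGsecIso f).hom.app H = H.obj.map (bcTopIso f).inv.op := rfl

set_option backward.isDefEq.respectTransparency.types false in
lemma pushComp_hom_app_gsec (t : Y ⟶ Z) (f : X ⟶ Y) (H : Ab X) :
    (gsec Z).map ((pushComp t f).hom.app H) =
      H.obj.map ((MorphismProperty.Over.pullbackComp (P := etaleMP) (Q := ⊤) f t).hom.app (top Z)).op := rfl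

/-- the iterated base change of the terminal object is terminal -/
noncomputable def bcbcTopIsTerminal (t : Y ⟶ Z) (f : X ⟶ Y) :
    IsTerminal ((bc f).obj ((bc t).obj (top Z))) :=
  IsTerminal.isTerminalObj (bc f) _ (bcTopIsTerminal t)

set_option backward.isDefEq.respectTransparency.types false in
/-- coherence of `pushGsecIso` with composition -/
lemma pushGsecIso_comp (t : Y ⟶ Z) (f : X ⟶ Y) (H : Ab X) :
    (gsec Z).map ((pushComp t f).hom.app H) ≫ (pushGsecIso (f ≫ t)).hom.app H =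
      (pushGsecIso t).hom.app ((push f).obj H) ≫ (pushGsecIso f).hom.app H := by
  have h1 := pushComp_hom_app_gsec t f H
  have h2 : (pushGsecIso t).hom.app ((push f).obj H) =
      H.obj.map ((bc f).map (bcTopIso t).inv).op := rfl
  have h3 := pushGsecIso_hom_app f H
  have h4 := pushGsecIso_hom_app (f ≫ t) H
  rw [h1, h2, h3, h4]
  have hm : (bcTopIso (f ≫ t)).inv ≫
      (MorphismProperty.Over.pullbackComp (P := etaleMP) (Q := ⊤) f t).hom.app (top Z) =
      (bcTopIso f).inv ≫ (bc f).map (bcTopIso t).inv :=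
    (bcbcTopIsTerminal t f).hom_ext _ _
  exact ((H.obj.map_comp _ _).symm.trans
    (congrArg (fun q => H.obj.map (Quiver.Hom.op q)) hm)).trans (H.obj.map_comp _ _)

/-- coherence of `pullConstIso` with composition -/
theorem pullConstIso_comp (f : X ⟶ Y) (t : Y ⟶ Z) (M : AddCommGrpCat.{u+1}) :
    (pullConstIso (f ≫ t)).hom.app M =
      (pullComp f t).hom.app ((constantSheaf Z.smallEtaleTopology AddCommGrpCat.{u+1}).obj M) ≫
        (EtCoh.pull f).map ((pullConstIso t).hom.app M) ≫ (pullConstIso f).hom.app M := by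
  apply ((adjA (f ≫ t)).homEquiv _ _).injective
  rw [pullConstIso_eq (f ≫ t), Adjunction.homEquiv_leftAdjointUniq_hom_app,
    Adjunction.homEquiv_unit, adjA_unit_app]
  have s1 := (pushGsecIso (f ≫ t)).hom.naturality ((pullComp f t).hom.app
    ((constantSheaf Z.smallEtaleTopology AddCommGrpCat.{u+1}).obj M))
  have s2 := unit_pullComp f t ((constantSheaf Z.smallEtaleTopology AddCommGrpCat.{u+1}).obj M)
  have s3 := pushGsecIso_comp t f ((EtCoh.pull f).obj ((EtCoh.pull t).obj
    ((constantSheaf Z.smallEtaleTopology AddCommGrpCat.{u+1}).obj M)))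
  have s4 := (pushGsecIso t).hom.naturality ((EtCoh.pullPushAdj f).unit.app ((EtCoh.pull t).obj
    ((constantSheaf Z.smallEtaleTopology AddCommGrpCat.{u+1}).obj M)))
  have s5 := adjA_unit_app t M
  have s6 := (pushGsecIso f).hom.naturality ((EtCoh.pull f).map ((pullConstIso t).hom.app M))
  have s7 := (EtCoh.pullPushAdj f).unit.naturality ((pullConstIso t).hom.app M)
  have s8 := Adjunction.unit_leftAdjointUniq_hom_app (adjA t) (constAdj Y) M
  have s9 := adjA_unit_app f M
  have s10 := Adjunction.unit_leftAdjointUniq_hom_app (adjA f) (constAdj X) M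
  dsimp only [Functor.comp_map, Functor.id_map, Functor.comp_obj, Functor.id_obj] at s1 s4 s6 s7
  rw [← pullConstIso_eq] at s8 s10
  simp only [Functor.map_comp, Category.assoc]
  rw [← reassoc_of% s1, ← Functor.map_comp_assoc (gsec Z), s2]
  simp only [Functor.map_comp, Category.assoc]
  rw [reassoc_of% s3, reassoc_of% s4, ← reassoc_of% s5, ← reassoc_of% s6,
    ← Functor.map_comp_assoc (gsec Y), ← s7]
  simp only [Functor.map_comp, Category.assoc]
  rw [reassoc_of% s8, ← reassoc_of% s9, s10]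



lemma pullConst_comp_inv (f : X ⟶ Y) (t : Y ⟶ Z) (M : Type) [AddCommGroup M] :
    (pullConst (f ≫ t) M).inv =
      (pullConst f M).inv ≫ (EtCoh.pull f).map (pullConst t M).inv ≫
        (pullComp f t).inv.app (EtCoh.const Z M) := by
  rw [← cancel_epi (pullConst (f ≫ t) M).hom, Iso.hom_inv_id]
  have h := pullConstIso_comp f t (AddCommGrpCat.of (ULift.{u+1} M))
  change (pullConst (f ≫ t) M).hom = _ at h
  rw [h]
  simp only [Category.assoc]
  change _ = (pullComp f t).hom.app (EtCoh.const Z M) ≫ (EtCoh.pull f).map (pullConst t M).hom ≫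
    (pullConst f M).hom ≫ (pullConst f M).inv ≫ (EtCoh.pull f).map (pullConst t M).inv ≫
        (pullComp f t).inv.app (EtCoh.const Z M)
  rw [Iso.hom_inv_id_assoc, ← Functor.map_comp_assoc, Iso.hom_inv_id,
    CategoryTheory.Functor.map_id, Category.id_comp, Iso.hom_inv_id_app]

lemma Hpull_apply (f : X ⟶ Y) [PreservesFiniteLimits (EtCoh.pull f)] (G : Ab Y) (n : ℕ)
    (e : EtCoh.H Y G n) :
    Hpull f G n e = (Ext.mk₀ (pullConst f ℤ).inv).comp (e.mapExactFunctor (EtCoh.pull f)) (zero_add n) :=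
  rfl

lemma HpullVia_apply (f : X ⟶ Y) (t : Y ⟶ Z) (f₀ : X ⟶ Z) (w : f ≫ t = f₀)
    [PreservesFiniteLimits (EtCoh.pull f)] (G : Ab Z) (p : ℕ)
    (x : EtCoh.H Y ((EtCoh.pull t).obj G) p) :
    HpullVia f t f₀ w G p x =
      (Hpull f ((EtCoh.pull t).obj G) p x).comp
        (Ext.mk₀ (((pullComp f t).symm ≪≫ pullCongr w).app G).hom) (add_zero p) := rfl



section Functoriality

variable (f : X ⟶ Y) (t : Y ⟶ Z)

/-- Functoriality of the pullback maps on étale cohomology. -/
theorem HpullVia_Hpull (f₀ : X ⟶ Z) (w : f ≫ t = f₀)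
    [PreservesFiniteLimits (EtCoh.pull f)] [PreservesFiniteLimits (EtCoh.pull t)]
    [PreservesFiniteLimits (EtCoh.pull f₀)] (G : Ab Z) (p : ℕ) (e : EtCoh.H Z G p) :
    HpullVia f t f₀ w G p (Hpull t G p e) = Hpull f₀ G p e := by
  subst w
  rw [HpullVia_apply, Hpull_apply, Hpull_apply, Hpull_apply, Ext.mapExactFunctor_comp,
    Ext.mapExactFunctor_mk₀]
  have hC := MapExtNat.mapExactFunctor_comp_functor (EtCoh.pull t) (EtCoh.pull f) e
  have hN := MapExtNat.mapExactFunctor_naturality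
    ((pullComp f t).symm ≪≫ pullCongr (rfl : f ≫ t = f ≫ t)).hom e
  have hθ : (((pullComp f t).symm ≪≫ pullCongr (rfl : f ≫ t = f ≫ t)).app G).hom =
      ((pullComp f t).symm ≪≫ pullCongr (rfl : f ≫ t = f ≫ t)).hom.app G := rfl
  rw [← hC, hθ, Ext.comp_assoc _ _ _ (zero_add p) (add_zero p) (by omega),
    Ext.comp_assoc _ _ _ (zero_add p) (add_zero p) (by omega), hN, Ext.mk₀_comp_mk₀_assoc,
    Ext.mk₀_comp_mk₀_assoc, pullConst_comp_inv]
  congr 2

end Functoriality

end Groth.Agent.H4.HpullAPI
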