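import Mathlib
import Groth.Agent.H4.GlueSec
import Groth.Agent.H4.PropA
import Groth.Prelude.Def_BigSite
import Groth.Prelude.Def_SGA4b

/-!
# Condition (C) ⟹ direct image of sheaves of sets reflects monos and epis
-/

set_option autoImplicit false
open CategoryTheory CategoryTheory.Limits AlgebraicGeometry Opposite
universe u
open EtCoh Groth.Agent.H4.Stalks Groth.Agent.H4.GlueSec

namespace Groth.Agent.H4.PropCSh

variable {X Y : Scheme.{u}} (f : X ⟶ Y)

set_option backward.isDefEq.respectTransparency.types false in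
/-- site form of condition (C). -/
theorem propC_site (hC : BigSite.PropC f) (U : X.Etale) :
    ∃ (V : Y.Etale) (h : (bc f).obj V ⟶ U), Function.Surjective h.left := by
  have : Etale U.hom := U.prop
  obtain ⟨V₀, v, hv, h₀, hh₀, hs⟩ := hC U.left U.hom
  let V : Y.Etale := Scheme.Etale.mk v
  have hcomp : ((pullbackSymmetry v f).hom ≫ h₀) ≫ U.hom = pullback.snd v f := by
    rw [Category.assoc, hh₀]
    exact pullbackSymmetry_hom_comp_fst v f
  refine ⟨V, MorphismProperty.Over.homMk
    (show ((bc f).obj V).left ⟶ U.left from (pullbackSymmetry v f).hom ≫ h₀) hcomp trivial, ?_⟩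
  intro u
  obtain ⟨q, hq⟩ := hs.surj u
  refine ⟨(pullbackSymmetry v f).inv q, ?_⟩
  show ((pullbackSymmetry v f).hom ≫ h₀) ((pullbackSymmetry v f).inv q) = u
  rw [Scheme.Hom.comp_apply, ← Scheme.Hom.comp_apply (pullbackSymmetry v f).inv, Iso.inv_hom_id]
  exact hq

/-- sections of a sheaf of sets agreeing after restriction along a surjective map agree. -/
theorem eq_of_surjective (G : EtDesc.Sh X) {U W : X.Etale} (h : W ⟶ U)
    (hs : Function.Surjective h.left) (s₁ s₂ : G.obj.obj (op U))
    (e : G.obj.map h.op s₁ = G.obj.map h.op s₂) : s₁ = s₂ := by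
  have hcov : Sieve.ofArrows (fun _ : Unit => W) (fun _ => h) ∈ X.smallEtaleTopology U := by
    rw [Scheme.ofArrows_mem_smallEtaleTopology_iff]
    ext p
    simp only [Set.mem_iUnion, Set.mem_range, Set.mem_univ, iff_true]
    obtain ⟨w, hw⟩ := hs p
    exact ⟨(), w, hw⟩
  have hsep := ((isSheaf_iff_isSheaf_of_type _ _).1 G.2).isSeparated _ hcov
  apply hsep.ext
  rintro T k ⟨_, k', _, ⟨_⟩, rfl⟩
  rw [op_comp, Functor.map_comp]
  exact congrArg (G.obj.map k'.op) e

theorem reflectsMono (hC : BigSite.PropC f) : (EtDesc.pushSh f).ReflectsMonomorphisms := by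
  constructor
  intro G F a hmono
  have hinj : ∀ V : Y.Etale, Function.Injective (a.hom.app (op ((bc f).obj V))) := by
    intro V
    have h1 : Mono ((EtDesc.pushSh f).map a).hom :=
      (Sheaf.Hom.mono_iff_presheaf_mono _ _ _).1 hmono
    have h2 := (NatTrans.mono_iff_mono_app _).1 h1 (op V)
    exact (mono_iff_injective _).1 h2
  apply Sheaf.mono_of_injective
  rintro ⟨U⟩ s₁ s₂ hs
  obtain ⟨V, h, hsurj⟩ := propC_site f hC U
  apply eq_of_surjective G h hsurj
  apply hinj V
  have n1 := NatTrans.naturality_apply a.hom h.op s₁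
  have n2 := NatTrans.naturality_apply a.hom h.op s₂
  exact n1.trans ((congrArg (F.obj.map h.op) hs).trans n2.symm)

set_option backward.isDefEq.respectTransparency.types false in
theorem reflectsEpi (hC : BigSite.PropC f) : (EtDesc.pushSh f).ReflectsEpimorphisms := by
  constructor
  intro G F a hepi
  rw [← Sheaf.isLocallySurjective_iff_epi] at hepi ⊢
  constructor
  intro U s
  rw [mem_smallEtaleTopology_iff]
  intro u
  obtain ⟨V, h, hsurj⟩ := propC_site f hC U
  obtain ⟨p, hp⟩ := hsurj u
  have hmem := hepi.imageSieve_mem (U := V) (F.obj.map h.op s)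
  rw [mem_smallEtaleTopology_iff] at hmem
  obtain ⟨V', k, v', ⟨r, hr⟩, hv'⟩ :=
    hmem ((pullback.fst V.hom f : ((bc f).obj V).left ⟶ V.left) p)
  have sq := isPullback_bc_map f k
  obtain ⟨z, hz1, hz2⟩ := Groth.Agent.H4.PropA.exists_preimage_of_isPullback sq p v' hv'.symm
  refine ⟨(bc f).obj V', (bc f).map k ≫ h, z, ⟨r, ?_⟩, ?_⟩
  · have hr' : a.hom.app (op ((bc f).obj V')) r =
        F.obj.map ((bc f).map k).op (F.obj.map h.op s) := hr
    rw [hr', op_comp, Functor.map_comp]
    rfl
  · show h.left (((bc f).map k).left z) = u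
    rw [hz1, hp]

end Groth.Agent.H4.PropCSh
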