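import Groth.Agent.H4.ClosedSupp
import Groth.Agent.H4.PropCSh

/-!
# Stalks of direct images along "closed-embedding-like" morphisms (helper4)

Generalisation of `H4/ClosedStalk` from closed immersions to morphisms `f : X ⟶ Y` satisfying
condition (C) and such that every étale base change of `f` is a topological embedding
(e.g. integral universally injective morphisms).
-/

set_option autoImplicit false
open CategoryTheory CategoryTheory.Limits AlgebraicGeometry Opposite
universe u
open EtCoh Groth.Agent.H4.Stalks Groth.Agent.H4.StalkPull Groth.Agent.H4.ClosedStalk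

namespace Groth.Agent.H4.IntInj

variable {X Y : Scheme.{u}} (f : X ⟶ Y) {Ω : Type u} [Field Ω] [IsSepClosed Ω]
  (ζ : Spec (CommRingCat.of Ω) ⟶ X)

/-- Lifting étale neighbourhoods under condition (C). -/
theorem exists_lift (hC : BigSite.PropC f) (W : X.Etale) (w : Fib ζ W) :
    ∃ (V : Y.Etale) (v' : Fib ζ ((bc f).obj V)) (h : (bc f).obj V ⟶ W),
      (Scheme.pointSmallEtale ζ).fiber.map h v' = w := by
  obtain ⟨V, h, hs⟩ := Groth.Agent.H4.PropCSh.propC_site f hC W
  obtain ⟨q, hq⟩ := hs w.pt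
  obtain ⟨v', hv', -⟩ := Fib.exists_lift h w q hq
  exact ⟨V, v', h, hv'⟩

theorem kappa_surjective (hC : BigSite.PropC f) (G : Ab X) :
    Function.Surjective (kappa f ζ G) := by
  intro t
  obtain ⟨W, w, s, rfl⟩ := germ_surjective G t
  obtain ⟨V, v', h, hv⟩ := exists_lift f ζ hC W w
  refine ⟨germ ((push f).obj G) (fibPush f ζ v') (G.obj.map h.op s), ?_⟩
  have h1 := kappa_germ f ζ G (fibPush f ζ v') (G.obj.map h.op s)
  have h2 : germ G (fibPull f ζ (fibPush f ζ v')) (G.obj.map h.op s) =
      germ G v' (G.obj.map h.op s) := by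
    rw [fibPull_fibPush]
  have h3 := germ_res G h v' s
  have h4 : germ G ((Scheme.pointSmallEtale ζ).fiber.map h v') s = germ G w s := by
    rw [hv]
  exact h1.trans (h2.trans (h3.trans h4))

set_option backward.isDefEq.respectTransparency.types false in
theorem kappa_injective
    (hemb : ∀ V : Y.Etale, Topology.IsInducing (pullback.fst V.hom f)) (G : Ab X) :
    Function.Injective (kappa f ζ G) := by
  rw [injective_iff_map_eq_zero]
  intro t ht
  obtain ⟨V, v, σ, rfl⟩ := germ_surjective ((push f).obj G) t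
  have h0 : germ G (fibPull f ζ v) σ = 0 := (kappa_germ f ζ G v σ).symm.trans ht
  obtain ⟨W, g, w₀, hw₀, hσ⟩ := (germ_eq_zero_iff' G (fibPull f ζ v) σ).1 h0
  have hE : IsOpen (Set.range g.left) := (isOpenMap_left g).isOpen_range
  obtain ⟨V', hV', hpre⟩ := (hemb V).isOpen_iff.1 hE
  let V'o : V.left.Opens := ⟨V', hV'⟩
  have : Etale V.hom := V.prop
  let V'' : Y.Etale := Scheme.Etale.mk (V'o.ι ≫ V.hom)
  let b : V'' ⟶ V := MorphismProperty.Over.homMk (A := V'') (B := V) V'o.ι rfl trivial
  have hv : v.pt ∈ V' := by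
    have h1 : (fibPull f ζ v).pt ∈ pullback.fst V.hom f ⁻¹' V' := by
      rw [hpre]; exact ⟨w₀, hw₀⟩
    have h2 := fibPull_pt f ζ v
    rw [← h2]
    exact h1
  obtain ⟨v'', hv''1, -⟩ := Fib.exists_lift b v ⟨v.pt, hv⟩ rfl
  have hres := germ_res ((push f).obj G) b v'' σ
  suffices h : ((push f).obj G).obj.map b.op σ = 0 by
    have h5 : germ ((push f).obj G) ((Scheme.pointSmallEtale (ζ ≫ f)).fiber.map b v'') σ = 0 :=
      hres.symm.trans ((congrArg (fun t => germ ((push f).obj G) v'' t) h).trans (map_zero _))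
    rw [← hv''1]
    exact h5
  apply eq_zero_of_germs G (V := (bc f).obj V'')
  intro t
  let z : X := ((bc f).obj V'').hom t
  obtain ⟨x, hx⟩ := Fib.exists_of_point (ξ := Groth.Agent.H4.Stalks.geomPt z) ((bc f).obj V'') t
    (by rw [geomPt_default])
  refine ⟨_, inferInstance, inferInstance, _, x, hx, ?_⟩
  have hres2 := germ_res G ((bc f).map b) x σ
  refine hres2.trans ?_
  rw [germ_eq_zero_iff']
  have hmem : pullback.fst V.hom f (((bc f).map b).left t) ∈ V' := by
    have hw := (isPullback_bc_map f b).w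
    have hw' : pullback.fst V.hom f (((bc f).map b).left t) =
        b.left (pullback.fst V''.hom f t) := congrArg (fun k => k t) hw
    have h3 : V'o.ι (pullback.fst V''.hom f t) ∈ (V'o : Set V.left) := by
      rw [← Scheme.Opens.range_ι]; exact ⟨_, rfl⟩
    exact hw'.symm ▸ h3
  have hmem2 : ((bc f).map b).left t ∈ Set.range g.left :=
    (Set.ext_iff.1 hpre _).1 hmem
  have hpt' : Fib.pt ((Scheme.pointSmallEtale (Groth.Agent.H4.Stalks.geomPt z)).fiber.map
      ((bc f).map b) x) = ((bc f).map b).left t :=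
    (Fib.pt_map ((bc f).map b) x).trans (congrArg (fun k => ((bc f).map b).left k) hx)
  have hpt : Fib.pt ((Scheme.pointSmallEtale (Groth.Agent.H4.Stalks.geomPt z)).fiber.map
      ((bc f).map b) x) ∈ Set.range g.left := hpt'.symm ▸ hmem2
  obtain ⟨w₁, hw₁⟩ := hpt
  exact ⟨W, g, w₁, hw₁, hσ⟩

theorem isIso_kappa (hC : BigSite.PropC f)
    (hemb : ∀ V : Y.Etale, Topology.IsInducing (pullback.fst V.hom f)) (G : Ab X) :
    IsIso (kappa f ζ G) :=
  (ConcreteCategory.isIso_iff_bijective _).2
    ⟨kappa_injective f ζ hemb G, kappa_surjective f ζ hC G⟩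

theorem isIso_stalk_counit (hC : BigSite.PropC f)
    (hemb : ∀ V : Y.Etale, Topology.IsInducing (pullback.fst V.hom f)) (G : Ab X) :
    IsIso ((stalk ζ).map ((pullPushAdj f).counit.app G)) := by
  have := isIso_kappa f ζ hC hemb G
  have h : (stalk ζ).map ((pullPushAdj f).counit.app G) =
      (stalkPullIso f ζ).inv.app ((push f).obj G) ≫ kappa f ζ G := by
    unfold kappa
    rw [← Category.assoc, ← NatTrans.comp_app, Iso.inv_hom_id, NatTrans.id_app, Category.id_comp]
  rw [h]
  infer_instance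

/-- the counit `f⁻¹ f_* G ⟶ G` is an isomorphism. -/
theorem isIso_counit (hC : BigSite.PropC f)
    (hemb : ∀ V : Y.Etale, Topology.IsInducing (pullback.fst V.hom f)) (G : Ab X) :
    IsIso ((pullPushAdj f).counit.app G) := by
  rw [(jri X).isIso_iff]
  rintro ⟨_, ⟨s⟩⟩
  exact isIso_stalk_counit f (Groth.Agent.H4.Stalks.geomPt s) hC hemb G

theorem isIso_stalk_unit (hC : BigSite.PropC f)
    (hemb : ∀ V : Y.Etale, Topology.IsInducing (pullback.fst V.hom f)) (F : Ab Y) :
    IsIso ((stalk (ζ ≫ f)).map ((pullPushAdj f).unit.app F)) := by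
  have := isIso_kappa f ζ hC hemb ((pull f).obj F)
  have h : (stalk (ζ ≫ f)).map ((pullPushAdj f).unit.app F) =
      (stalkPullIso f ζ).hom.app F ≫ inv (kappa f ζ ((pull f).obj F)) := by
    rw [← stalk_unit_comp_kappa, Category.assoc, IsIso.hom_inv_id, Category.comp_id]
  rw [h]
  infer_instance

end Groth.Agent.H4.IntInj
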