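import Groth.Agent.H4.IntInj
import Groth.Prelude.Def_PBC

/-!
# Essential image of `f_*` for "closed-embedding-like" morphisms (helper4)
-/

set_option autoImplicit false
open CategoryTheory CategoryTheory.Limits AlgebraicGeometry Opposite
universe u
open EtCoh Groth.Agent.H4.Stalks Groth.Agent.H4.StalkPull Groth.Agent.H4.ClosedStalk

namespace Groth.Agent.H4.IntInj

variable {X Y : Scheme.{u}} (f : X ⟶ Y)

/-- The pushforward along a morphism with closed range has zero stalks at geometric points outside
the range. -/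
theorem isZero_stalk_push (hcl : IsClosed (Set.range f.base))
    (G : EtCoh.Ab X) {Ω : Type u} [Field Ω] [IsSepClosed Ω] (ξ : Spec (CommRingCat.of Ω) ⟶ Y)
    (hξ : ξ default ∉ Set.range f.base) :
    IsZero ((EtCoh.stalk ξ).obj ((EtCoh.push f).obj G)) := by
  suffices h : ∀ t : (EtCoh.stalk ξ).obj ((EtCoh.push f).obj G), t = 0 by
    have : Subsingleton ((EtCoh.stalk ξ).obj ((EtCoh.push f).obj G)) :=
      ⟨fun a b => (h a).trans (h b).symm⟩
    exact AddCommGrpCat.isZero_of_subsingleton _
  intro t
  obtain ⟨V, x, s, rfl⟩ := germ_surjective _ t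
  rw [germ_eq_zero_iff']
  let Uc : Y.Opens := ⟨(Set.range f.base)ᶜ, hcl.isOpen_compl⟩
  let W0 : V.left.Opens := V.hom ⁻¹ᵁ Uc
  have : Etale V.hom := V.prop
  let W : Y.Etale := Scheme.Etale.mk (W0.ι ≫ V.hom)
  let g : W ⟶ V := MorphismProperty.Over.homMk (A := W) (B := V) W0.ι rfl trivial
  have hx : x.pt ∈ W0 := by
    show V.hom x.pt ∈ (Set.range f.base)ᶜ
    rw [Fib.hom_pt]
    exact hξ
  refine ⟨W, g, ⟨x.pt, hx⟩, rfl, ?_⟩
  have : IsEmpty ((EtCoh.bc f).obj W).left := by
    constructor
    intro z
    have h1 : (pullback.fst W.hom f ≫ W.hom) z = (pullback.snd W.hom f ≫ f) z := by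
      rw [pullback.condition]
    have h2 : W0.ι (pullback.fst W.hom f z) ∈ (W0 : Set V.left) := by
      rw [← Scheme.Opens.range_ι]; exact ⟨_, rfl⟩
    have h3 : V.hom (W0.ι (pullback.fst W.hom f z)) ∈ (Set.range f.base)ᶜ := h2
    exact h3 ⟨pullback.snd W.hom f z, h1.symm⟩
  exact eq_zero_of_isEmpty G _

/-- The index type of the adapted conservative family on `Y`. -/
abbrev Idx := X ⊕ {s : Y // s ∉ Set.range f.base}

/-- The separably closed fields of the adapted family. -/
abbrev IdxField : Idx f → Type u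
  | Sum.inl x => SeparableClosure (X.residueField x)
  | Sum.inr s => SeparableClosure (Y.residueField s.1)

noncomputable instance (i : Idx f) : Field (IdxField f i) := by
  cases i <;> exact inferInstanceAs (Field (SeparableClosure _))

instance (i : Idx f) : IsSepClosed (IdxField f i) := by
  cases i <;> exact inferInstanceAs (IsSepClosed (SeparableClosure _))

/-- The geometric points of the adapted family. -/
noncomputable def idxPt : ∀ i : Idx f, Spec (CommRingCat.of (IdxField f i)) ⟶ Y
  | Sum.inl x => Groth.Agent.H4.Stalks.geomPt x ≫ f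
  | Sum.inr s => Groth.Agent.H4.Stalks.geomPt s.1

/-- The adapted conservative family of points of `Y_et`. -/
abbrev PY : ObjectProperty (GrothendieckTopology.Point.{u} Y.smallEtaleTopology) :=
  ObjectProperty.ofObj (fun i : Idx f ↦ Scheme.pointSmallEtale (idxPt f i))

lemma jriY : JointlyReflectIsomorphisms
    (fun (Φ : (PY f).FullSubcategory) ↦ Φ.obj.sheafFiber (A := AddCommGrpCat.{u+1})) := by
  refine jointlyReflectIsomorphisms (Scheme.isConservative_pointSmallEtale (idxPt f) ?_)
  ext s
  simp only [Set.mem_iUnion, Set.mem_range, Set.mem_univ, iff_true]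
  by_cases hs : s ∈ Set.range f.base
  · obtain ⟨x, rfl⟩ := hs
    refine ⟨Sum.inl x, default, ?_⟩
    show (Groth.Agent.H4.Stalks.geomPt x ≫ f) default = f x
    rw [Scheme.Hom.comp_apply, geomPt_default]
  · exact ⟨Sum.inr ⟨s, hs⟩, default, geomPt_default s⟩

/-- The essential image of `f_*`: sheaves supported in the (closed) range of `f`. -/
theorem essImage_iff (hC : BigSite.PropC f)
    (hemb : ∀ V : Y.Etale, Topology.IsInducing (pullback.fst V.hom f))
    (hcl : IsClosed (Set.range f.base)) (G : EtCoh.Ab Y) :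
    (EtCoh.push f).essImage G ↔ EtPBC.supp G ⊆ Set.range f.base := by
  constructor
  · rintro ⟨F, ⟨e⟩⟩ s ⟨Ω, _, _, ξ, hξ, hnz⟩
    by_contra hs
    apply hnz
    have hd : ξ default = s := by
      have : ξ default ∈ Set.range ξ := ⟨default, rfl⟩
      rw [hξ] at this
      exact this
    exact IsZero.of_iso (isZero_stalk_push f hcl F ξ (hd ▸ hs)) ((EtCoh.stalk ξ).mapIso e.symm)
  · intro hG
    suffices h : IsIso ((EtCoh.pullPushAdj f).unit.app G) from
      ⟨(EtCoh.pull f).obj G, ⟨(asIso ((EtCoh.pullPushAdj f).unit.app G)).symm⟩⟩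
    rw [(jriY f).isIso_iff]
    rintro ⟨_, ⟨i⟩⟩
    cases i with
    | inl x =>
      change IsIso ((EtCoh.stalk (Groth.Agent.H4.Stalks.geomPt x ≫ f)).map _)
      exact isIso_stalk_unit f (Groth.Agent.H4.Stalks.geomPt x) hC hemb G
    | inr s =>
      change IsIso ((EtCoh.stalk (Groth.Agent.H4.Stalks.geomPt s.1)).map _)
      have h1 : IsZero ((EtCoh.stalk (Groth.Agent.H4.Stalks.geomPt s.1)).obj G) := by
        by_contra hnz
        apply s.2
        apply hG
        refine ⟨_, inferInstance, inferInstance, Groth.Agent.H4.Stalks.geomPt s.1, ?_, hnz⟩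
        ext y
        simp only [Set.mem_range, Set.mem_singleton_iff]
        constructor
        · rintro ⟨a, rfl⟩
          rw [Subsingleton.elim a default, geomPt_default]
        · rintro rfl
          exact ⟨default, geomPt_default s.1⟩
      have h2 := isZero_stalk_push f hcl ((EtCoh.pull f).obj G) (Groth.Agent.H4.Stalks.geomPt s.1)
        (by rw [geomPt_default]; exact s.2)
      exact h1.isIso h2 _

/-- `f_*` is fully faithful. -/
theorem full_faithful (hC : BigSite.PropC f)
    (hemb : ∀ V : Y.Etale, Topology.IsInducing (pullback.fst V.hom f)) :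
    (EtCoh.push f).Full ∧ (EtCoh.push f).Faithful := by
  have : ∀ G, IsIso ((EtCoh.pullPushAdj f).counit.app G) := fun G => isIso_counit f hC hemb G
  have : IsIso (EtCoh.pullPushAdj f).counit := NatIso.isIso_of_isIso_app _
  let ff := (EtCoh.pullPushAdj f).fullyFaithfulROfIsIsoCounit
  exact ⟨ff.full, ff.faithful⟩

end Groth.Agent.H4.IntInj
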