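import Mathlib

/-!
# Right adjoints of exact functors preserve K-injective complexes (helper4)
-/

namespace Groth.Agent.H4.KInjAdj

open CategoryTheory Limits

universe v v' u u'

variable {C : Type u} [Category.{v} C] [Abelian C] {D : Type u'} [Category.{v'} D] [Abelian D]
variable {L : C ⥤ D} {R : D ⥤ C} (adj : L ⊣ R) [L.Additive] [R.Additive]

/-- the adjoint chain map `L K ⟶ I` of a chain map `K ⟶ R I` -/
noncomputable def adjMap {K : CochainComplex C ℤ} {I : CochainComplex D ℤ}
    (f : K ⟶ (R.mapHomologicalComplex (ComplexShape.up ℤ)).obj I) :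
    (L.mapHomologicalComplex (ComplexShape.up ℤ)).obj K ⟶ I where
  f n := (adj.homEquiv (K.X n) (I.X n)).symm (f.f n)
  comm' i j _ := by
    let gi : K.X i ⟶ R.obj (I.X i) := f.f i
    let gj : K.X j ⟶ R.obj (I.X j) := f.f j
    have h : gi ≫ R.map (I.d i j) = K.d i j ≫ gj := f.comm i j
    show (adj.homEquiv (K.X i) (I.X i)).symm gi ≫ I.d i j =
      L.map (K.d i j) ≫ (adj.homEquiv (K.X j) (I.X j)).symm gj
    rw [← adj.homEquiv_naturality_left_symm, ← adj.homEquiv_naturality_right_symm, h]

/-- the unit as a chain map `K ⟶ R (L K)` -/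
noncomputable def unitMap (K : CochainComplex C ℤ) :
    K ⟶ (R.mapHomologicalComplex (ComplexShape.up ℤ)).obj
      ((L.mapHomologicalComplex (ComplexShape.up ℤ)).obj K) where
  f n := adj.unit.app (K.X n)
  comm' i j _ := by
    show adj.unit.app (K.X i) ≫ R.map (L.map (K.d i j)) = K.d i j ≫ adj.unit.app (K.X j)
    exact (adj.unit.naturality (K.d i j)).symm

lemma unitMap_comp_map_adjMap {K : CochainComplex C ℤ} {I : CochainComplex D ℤ}
    (f : K ⟶ (R.mapHomologicalComplex (ComplexShape.up ℤ)).obj I) :
    unitMap adj K ≫ (R.mapHomologicalComplex (ComplexShape.up ℤ)).map (adjMap adj f) = f := by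
  ext n
  let g : K.X n ⟶ R.obj (I.X n) := f.f n
  show adj.unit.app (K.X n) ≫ R.map ((adj.homEquiv (K.X n) (I.X n)).symm g) = g
  exact (adj.homEquiv_unit _ _ _).symm.trans (Equiv.apply_symm_apply _ _)

include adj in
theorem isKInjective_map [L.PreservesHomology] (I : CochainComplex D ℤ) [I.IsKInjective] :
    CochainComplex.IsKInjective ((R.mapHomologicalComplex (ComplexShape.up ℤ)).obj I) where
  nonempty_homotopy_zero {K} f hK := by
    have hLK : ((L.mapHomologicalComplex (ComplexShape.up ℤ)).obj K).Acyclic :=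
      fun i => (hK i).map L
    have h := CochainComplex.IsKInjective.homotopyZero (adjMap adj f) hLK
    have h2 := (R.mapHomotopy h).compLeft (unitMap adj K)
    rw [unitMap_comp_map_adjMap] at h2
    refine ⟨h2.trans (Homotopy.ofEq ?_)⟩
    rw [Functor.map_zero, comp_zero]

end Groth.Agent.H4.KInjAdj
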