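import Groth.Agent.H4.ShriekEtIso

/-! # Local generation of sheaves; sections of coproducts are locally finite sums (helper4) -/

set_option autoImplicit false
open CategoryTheory CategoryTheory.Limits AlgebraicGeometry Opposite
universe u
open EtCoh Groth.Agent.H4.Stalks Groth.Agent.H4.GlueSec Groth.Agent.H4.SuppSec
open Groth.Agent.H4.ShriekEtIso

namespace Groth.Agent.H4.LocGen

section Generic

variable {Y : Scheme.{u}} (H : Ab Y) (gen : ∀ V : Y.Etale, Set (H.obj.obj (op V)))

/-- the subgroup generated by the generators. -/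
noncomputable def sums (V : Y.Etale) : AddSubgroup (H.obj.obj (op V)) :=
  AddSubgroup.closure (gen V)

variable (hgen : ∀ {V V' : Y.Etale} (k : V' ⟶ V) (x : H.obj.obj (op V)), x ∈ gen V →
  H.obj.map k.op x ∈ sums H gen V')

include hgen in
theorem map_mem_sums {V V' : Y.Etale} (k : V' ⟶ V) {x : H.obj.obj (op V)}
    (hx : x ∈ sums H gen V) : H.obj.map k.op x ∈ sums H gen V' := by
  refine AddSubgroup.closure_induction
    (p := fun x _ => H.obj.map k.op x ∈ sums H gen V') ?_ ?_ ?_ ?_ hx
  · intro x hx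
    exact hgen k x hx
  · rw [map_zero]; exact zero_mem _
  · intro x y _ _ hx hy
    rw [map_add]; exact add_mem hx hy
  · intro x _ hx
    rw [map_neg]; exact neg_mem hx

/-- `x` is étale locally a sum of generators. -/
def Loc (V : Y.Etale) (x : H.obj.obj (op V)) : Prop :=
  ∀ v : V.left, ∃ (V' : Y.Etale) (k : V' ⟶ V) (v' : V'.left), k.left v' = v ∧
    H.obj.map k.op x ∈ sums H gen V'

include hgen in
theorem Loc.map {V V₁ : Y.Etale} (φ : V₁ ⟶ V) {x : H.obj.obj (op V)}
    (hx : Loc H gen V x) : Loc H gen V₁ (H.obj.map φ.op x) := by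
  intro v₁
  obtain ⟨V', k, v', hv', hmem⟩ := hx (φ.left v₁)
  obtain ⟨T, a, b, t, hab, hat, hbt⟩ := exists_pullback_point φ k v₁ v' hv'.symm
  refine ⟨T, a, t, hat, ?_⟩
  rw [map_comp_apply, hab, ← map_comp_apply]
  exact map_mem_sums H gen hgen b hmem

/-- the subgroup of locally generated sections. -/
noncomputable def locSub (V : Y.Etale) : AddSubgroup (H.obj.obj (op V)) where
  carrier := {x | Loc H gen V x}
  zero_mem' := fun v => ⟨V, 𝟙 V, v, rfl, by rw [map_zero]; exact zero_mem _⟩
  add_mem' := by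
    intro x y hx hy v
    obtain ⟨V₁, k₁, v₁, hv₁, h₁⟩ := hx v
    obtain ⟨V₂, k₂, v₂, hv₂, h₂⟩ := hy v
    obtain ⟨T, a, b, t, hab, hat, hbt⟩ := exists_pullback_point k₁ k₂ v₁ v₂ (hv₁.trans hv₂.symm)
    refine ⟨T, a ≫ k₁, t, ?_, ?_⟩
    · show k₁.left (a.left t) = v
      rw [hat, hv₁]
    · rw [map_add]
      refine add_mem ?_ ?_
      · rw [← map_comp_apply]
        exact map_mem_sums H gen hgen a h₁
      · rw [hab, ← map_comp_apply]
        exact map_mem_sums H gen hgen b h₂
  neg_mem' := by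
    intro x hx v
    obtain ⟨V₁, k₁, v₁, hv₁, h₁⟩ := hx v
    exact ⟨V₁, k₁, v₁, hv₁, by rw [map_neg]; exact neg_mem h₁⟩

theorem locSub_map {V V' : Y.Etale} (φ : V' ⟶ V) :
    locSub H gen hgen V ≤ (locSub H gen hgen V').comap (H.obj.map φ.op).hom :=
  fun _ hx => Loc.map H gen hgen φ hx

theorem locSub_local (V : Y.Etale) (x : H.obj.obj (op V)) (R : Sieve V)
    (hR : R ∈ Y.smallEtaleTopology V)
    (h : ∀ (W : Y.Etale) (φ : W ⟶ V), R φ → H.obj.map φ.op x ∈ locSub H gen hgen W) :
    x ∈ locSub H gen hgen V := by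
  intro v
  obtain ⟨V₁, g, v₁, hg, hv₁⟩ := (mem_smallEtaleTopology_iff V R).1 hR v
  obtain ⟨V', k, v', hv', hmem⟩ := h V₁ g hg v₁
  refine ⟨V', k ≫ g, v', ?_, ?_⟩
  · show g.left (k.left v') = v
    rw [hv', hv₁]
  · rw [← map_comp_apply]
    exact hmem

/-- the subsheaf of locally generated sections. -/
noncomputable abbrev locSheaf : Ab Y :=
  subSheaf H (locSub H gen hgen) (locSub_map H gen hgen) (locSub_local H gen hgen)

/-- its inclusion. -/
noncomputable abbrev locι : locSheaf H gen hgen ⟶ H :=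
  subι H (locSub H gen hgen) (locSub_map H gen hgen) (locSub_local H gen hgen)

theorem locι_injective (V : Y.Etale) :
    Function.Injective ((locι H gen hgen).hom.app (op V)) :=
  subι_injective H (locSub H gen hgen) (locSub_map H gen hgen) (locSub_local H gen hgen) V

theorem gen_mem_locSub {V : Y.Etale} {x : H.obj.obj (op V)} (hx : x ∈ gen V) :
    x ∈ locSub H gen hgen V := by
  intro v
  refine ⟨V, 𝟙 V, v, rfl, ?_⟩
  rw [op_id, H.obj.map_id]
  exact AddSubgroup.subset_closure hx

/-- a morphism whose sections are locally generated factors through the subsheaf. -/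
theorem exists_lift_locι {A : Ab Y} (m : A ⟶ H)
    (hm : ∀ (V : Y.Etale) (a : A.obj.obj (op V)), Loc H gen V (m.hom.app (op V) a)) :
    ∃ m' : A ⟶ locSheaf H gen hgen, m' ≫ locι H gen hgen = m := by
  apply Groth.Agent.H4.ShriekComp.exists_lift
  · intro V
    exact locι_injective H gen hgen V.unop
  · intro V a
    exact exists_subι_eq H (locSub H gen hgen) (locSub_map H gen hgen)
      (locSub_local H gen hgen) V.unop _ (hm V.unop a)

/-- if the inclusion of the locally generated sections has a section, everything is locally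
generated. -/
theorem loc_all_of_retraction (ρ : H ⟶ locSheaf H gen hgen) (hρ : ρ ≫ locι H gen hgen = 𝟙 H)
    (V : Y.Etale) (x : H.obj.obj (op V)) : Loc H gen V x := by
  have hx : x = (locι H gen hgen).hom.app (op V) (ρ.hom.app (op V) x) := by
    have := congrArg (fun φ => φ.hom.app (op V)) hρ
    exact (congrArg (fun φ => φ.hom x) this).symm
  rw [hx]
  show _ ∈ locSub H gen hgen V
  exact subι_mem H (locSub H gen hgen) (locSub_map H gen hgen) (locSub_local H gen hgen) V _

end Generic

section Coprod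

variable {Y : Scheme.{u}} {ι : Type u} (G : ι → Ab Y)

open Classical in
/-- projection of a coproduct of abelian sheaves to a summand. -/
noncomputable def proj (k : ι) : ∐ G ⟶ G k :=
  Sigma.desc (Pi.single (M := fun i => (G i ⟶ G k)) k (𝟙 (G k)))

theorem ι_proj_same (k : ι) : Sigma.ι G k ≫ proj G k = 𝟙 (G k) := by
  classical
  unfold proj
  rw [Sigma.ι_desc, Pi.single_eq_same]

theorem ι_proj_ne {i k : ι} (h : i ≠ k) : Sigma.ι G i ≫ proj G k = 0 := by
  classical
  unfold proj
  rw [Sigma.ι_desc, Pi.single_eq_of_ne h]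

theorem proj_ι_same_apply (k : ι) (W : Y.Etale) (t : (G k).obj.obj (op W)) :
    (proj G k).hom.app (op W) ((Sigma.ι G k).hom.app (op W) t) = t := by
  have := congrArg (fun φ => φ.hom.app (op W)) (ι_proj_same G k)
  exact congrArg (fun φ => φ.hom t) this

theorem proj_ι_ne_apply {i k : ι} (h : i ≠ k) (W : Y.Etale) (t : (G i).obj.obj (op W)) :
    (proj G k).hom.app (op W) ((Sigma.ι G i).hom.app (op W) t) = 0 := by
  have := congrArg (fun φ => φ.hom.app (op W)) (ι_proj_ne G h)
  exact congrArg (fun φ => φ.hom t) this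

/-- the sections of the coproduct coming from one summand. -/
def genC (W : Y.Etale) : Set ((∐ G).obj.obj (op W)) :=
  {x | ∃ (i : ι) (t : (G i).obj.obj (op W)), (Sigma.ι G i).hom.app (op W) t = x}

theorem hgenC {V V' : Y.Etale} (k : V' ⟶ V) (x : (∐ G).obj.obj (op V)) (hx : x ∈ genC G V) :
    (∐ G).obj.map k.op x ∈ sums (∐ G) (genC G) V' := by
  obtain ⟨i, t, rfl⟩ := hx
  refine AddSubgroup.subset_closure ⟨i, (G i).obj.map k.op t, ?_⟩
  have := (Sigma.ι G i).hom.naturality k.op
  exact congrArg (fun φ => φ.hom t) this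

/-- **sections of a coproduct of abelian sheaves are locally finite sums**. -/
theorem locC_all (W : Y.Etale) (x : (∐ G).obj.obj (op W)) : Loc (∐ G) (genC G) W x := by
  have h : ∀ i, ∃ m' : G i ⟶ locSheaf (∐ G) (genC G) (hgenC G),
      m' ≫ locι (∐ G) (genC G) (hgenC G) = Sigma.ι G i := by
    intro i
    apply exists_lift_locι
    intro V a
    exact gen_mem_locSub (∐ G) (genC G) (hgenC G) ⟨i, a, rfl⟩
  choose m' hm' using h
  refine loc_all_of_retraction (∐ G) (genC G) (hgenC G) (Sigma.desc m') ?_ W x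
  apply Sigma.hom_ext
  intro i
  rw [Sigma.ι_desc_assoc, hm', Category.comp_id]

/-- a finite representation `x = ∑ ι_i (π_i x)`, valid for all large enough finite sets. -/
def FinRep (W : Y.Etale) (x : (∐ G).obj.obj (op W)) : Prop :=
  ∃ I : Finset ι, ∀ I' : Finset ι, I ⊆ I' →
    x = ∑ i ∈ I', (Sigma.ι G i).hom.app (op W) ((proj G i).hom.app (op W) x)

theorem finRep_of_mem_sums (W : Y.Etale) (x : (∐ G).obj.obj (op W))
    (hx : x ∈ sums (∐ G) (genC G) W) : FinRep G W x := by
  classical
  refine AddSubgroup.closure_induction (p := fun x _ => FinRep G W x) ?_ ?_ ?_ ?_ hx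
  · rintro _ ⟨i, t, rfl⟩
    refine ⟨{i}, fun I' hI' => ?_⟩
    rw [Finset.sum_eq_single i]
    · rw [proj_ι_same_apply]
    · intro k _ hk
      rw [proj_ι_ne_apply G (Ne.symm hk), map_zero]
    · intro hi
      exact (hi (hI' (Finset.mem_singleton_self i))).elim
  · exact ⟨∅, fun I' _ => by simp⟩
  · rintro a b _ _ ⟨Ia, ha⟩ ⟨Ib, hb⟩
    refine ⟨Ia ∪ Ib, fun I' hI' => ?_⟩
    have h1 := ha I' (Finset.union_subset_left hI')
    have h2 := hb I' (Finset.union_subset_right hI')
    simp only [map_add, Finset.sum_add_distrib]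
    rw [← h1, ← h2]
  · rintro a _ ⟨Ia, ha⟩
    refine ⟨Ia, fun I' hI' => ?_⟩
    have h1 := ha I' hI'
    simp only [map_neg, Finset.sum_neg_distrib]
    rw [← h1]

end Coprod

end Groth.Agent.H4.LocGen
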