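import Groth.Agent.H4.LocGen

/-! # Sections of coproducts of abelian étale sheaves, index type in any universe (helper4)

Universe-generalised copy of the `Coprod` section of `Groth.Agent.H4.LocGen`. -/

set_option autoImplicit false
open CategoryTheory CategoryTheory.Limits AlgebraicGeometry Opposite
universe w u
open EtCoh Groth.Agent.H4.Stalks Groth.Agent.H4.GlueSec Groth.Agent.H4.SuppSec
open Groth.Agent.H4.ShriekEtIso Groth.Agent.H4.LocGen

namespace Groth.Agent.H4.LocGenW

section Coprod

variable {Y : Scheme.{u}} {ι : Type w} (G : ι → Ab Y) [HasCoproduct G]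

open Classical in
/-- projection of a coproduct of abelian sheaves to a summand. -/
noncomputable def proj (k : ι) : ∐ G ⟶ G k :=
  Sigma.desc (Pi.single (M := fun i => (G i ⟶ G k)) k (𝟙 (G k)))

theorem ι_proj_same (k : ι) : Sigma.ι G k ≫ proj G k = 𝟙 (G k) := by
  classical
  unfold proj
  rw [Sigma.ι_desc, Pi.single_eq_same]

theorem ι_proj_ne {i k : ι} (h : i ≠ k) : Sigma.ι G i ≫ proj G k = 0 := by
  classical
  unfold proj
  rw [Sigma.ι_desc, Pi.single_eq_of_ne h]

theorem proj_ι_same_apply (k : ι) (W : Y.Etale) (t : (G k).obj.obj (op W)) :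
    (proj G k).hom.app (op W) ((Sigma.ι G k).hom.app (op W) t) = t := by
  have := congrArg (fun φ => φ.hom.app (op W)) (ι_proj_same G k)
  exact congrArg (fun φ => φ.hom t) this

theorem proj_ι_ne_apply {i k : ι} (h : i ≠ k) (W : Y.Etale) (t : (G i).obj.obj (op W)) :
    (proj G k).hom.app (op W) ((Sigma.ι G i).hom.app (op W) t) = 0 := by
  have := congrArg (fun φ => φ.hom.app (op W)) (ι_proj_ne G h)
  exact congrArg (fun φ => φ.hom t) this

/-- the sections of the coproduct coming from one summand. -/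
def genC (W : Y.Etale) : Set ((∐ G).obj.obj (op W)) :=
  {x | ∃ (i : ι) (t : (G i).obj.obj (op W)), (Sigma.ι G i).hom.app (op W) t = x}

theorem hgenC {V V' : Y.Etale} (k : V' ⟶ V) (x : (∐ G).obj.obj (op V)) (hx : x ∈ genC G V) :
    (∐ G).obj.map k.op x ∈ sums (∐ G) (genC G) V' := by
  obtain ⟨i, t, rfl⟩ := hx
  refine AddSubgroup.subset_closure ⟨i, (G i).obj.map k.op t, ?_⟩
  have := (Sigma.ι G i).hom.naturality k.op
  exact congrArg (fun φ => φ.hom t) this

/-- **sections of a coproduct of abelian sheaves are locally finite sums**. -/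
theorem locC_all (W : Y.Etale) (x : (∐ G).obj.obj (op W)) : Loc (∐ G) (genC G) W x := by
  have h : ∀ i, ∃ m' : G i ⟶ locSheaf (∐ G) (genC G) (hgenC G),
      m' ≫ locι (∐ G) (genC G) (hgenC G) = Sigma.ι G i := by
    intro i
    apply exists_lift_locι
    intro V a
    exact gen_mem_locSub (∐ G) (genC G) (hgenC G) ⟨i, a, rfl⟩
  choose m' hm' using h
  refine loc_all_of_retraction (∐ G) (genC G) (hgenC G) (Sigma.desc m') ?_ W x
  apply Sigma.hom_ext
  intro i
  rw [Sigma.ι_desc_assoc, hm', Category.comp_id]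

/-- a finite representation `x = ∑ ι_i (π_i x)`, valid for all large enough finite sets. -/
def FinRep (W : Y.Etale) (x : (∐ G).obj.obj (op W)) : Prop :=
  ∃ I : Finset ι, ∀ I' : Finset ι, I ⊆ I' →
    x = ∑ i ∈ I', (Sigma.ι G i).hom.app (op W) ((proj G i).hom.app (op W) x)

theorem finRep_of_mem_sums (W : Y.Etale) (x : (∐ G).obj.obj (op W))
    (hx : x ∈ sums (∐ G) (genC G) W) : FinRep G W x := by
  classical
  refine AddSubgroup.closure_induction (p := fun x _ => FinRep G W x) ?_ ?_ ?_ ?_ hx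
  · rintro _ ⟨i, t, rfl⟩
    refine ⟨{i}, fun I' hI' => ?_⟩
    rw [Finset.sum_eq_single i]
    · rw [proj_ι_same_apply]
    · intro k _ hk
      rw [proj_ι_ne_apply G (Ne.symm hk), map_zero]
    · intro hi
      exact (hi (hI' (Finset.mem_singleton_self i))).elim
  · exact ⟨∅, fun I' _ => by simp⟩
  · rintro a b _ _ ⟨Ia, ha⟩ ⟨Ib, hb⟩
    refine ⟨Ia ∪ Ib, fun I' hI' => ?_⟩
    have h1 := ha I' (Finset.union_subset_left hI')
    have h2 := hb I' (Finset.union_subset_right hI')
    simp only [map_add, Finset.sum_add_distrib]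
    rw [← h1, ← h2]
  · rintro a _ ⟨Ia, ha⟩
    refine ⟨Ia, fun I' hI' => ?_⟩
    have h1 := ha I' hI'
    simp only [map_neg, Finset.sum_neg_distrib]
    rw [← h1]

end Coprod

end Groth.Agent.H4.LocGenW
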