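import Mathlib

/-!
# Abstract Mayer–Vietoris from a short exact sequence `0 → Z_W → Z_U ⊞ Z_V → Z → 0` (helper4)

Given such a sequence in an abelian category and identifications `Φ` of `Ext^n(Z_?, F)` with
groups `H?^n`, compatible with given restriction maps, we get connecting maps and the four
exactness statements in the "ker = range" form.
-/

namespace Groth.Agent.H4.MVAbs

open CategoryTheory Limits Abelian

universe w v u t

variable {𝒜 : Type u} [Category.{v} 𝒜] [Abelian 𝒜] [HasExt.{w} 𝒜]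
variable {Z ZU ZV ZW : 𝒜} (aU : ZW ⟶ ZU) (aV : ZW ⟶ ZV) (εU : ZU ⟶ Z) (εV : ZV ⟶ Z)

/-- the Mayer–Vietoris short complex -/
noncomputable abbrev sc (hcomm : aU ≫ εU = aV ≫ εV) : ShortComplex 𝒜 :=
  ShortComplex.mk (biprod.lift aU (-aV)) (biprod.desc εU εV) (by simp [hcomm])

variable {aU aV εU εV}

section

variable {F : 𝒜} {n : ℕ}

lemma inl_g_comp (hcomm : aU ≫ εU = aV ≫ εV) (e : Ext.{w} Z F n) :
    (Ext.mk₀ biprod.inl).comp ((Ext.mk₀ (sc aU aV εU εV hcomm).g).comp e (zero_add n)) (zero_add n) =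
      (Ext.mk₀ εU).comp e (zero_add n) := by
  rw [Ext.mk₀_comp_mk₀_assoc]
  congr 2
  simp [sc]

lemma inr_g_comp (hcomm : aU ≫ εU = aV ≫ εV) (e : Ext.{w} Z F n) :
    (Ext.mk₀ biprod.inr).comp ((Ext.mk₀ (sc aU aV εU εV hcomm).g).comp e (zero_add n)) (zero_add n) =
      (Ext.mk₀ εV).comp e (zero_add n) := by
  rw [Ext.mk₀_comp_mk₀_assoc]
  congr 2
  simp [sc]

/-- the class on `Z_U ⊞ Z_V` with given components -/
noncomputable def pair (xU : Ext.{w} ZU F n) (xV : Ext.{w} ZV F n) : Ext.{w} (ZU ⊞ ZV) F n :=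
  (Ext.mk₀ biprod.fst).comp xU (zero_add n) + (Ext.mk₀ biprod.snd).comp xV (zero_add n)

lemma inl_pair (xU : Ext.{w} ZU F n) (xV : Ext.{w} ZV F n) :
    (Ext.mk₀ biprod.inl).comp (pair xU xV) (zero_add n) = xU := by
  simp [pair, Ext.comp_add, Ext.mk₀_comp_mk₀_assoc]

lemma inr_pair (xU : Ext.{w} ZU F n) (xV : Ext.{w} ZV F n) :
    (Ext.mk₀ biprod.inr).comp (pair xU xV) (zero_add n) = xV := by
  simp [pair, Ext.comp_add, Ext.mk₀_comp_mk₀_assoc]

lemma pair_eta (x : Ext.{w} (ZU ⊞ ZV) F n) :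
    pair ((Ext.mk₀ biprod.inl).comp x (zero_add n)) ((Ext.mk₀ biprod.inr).comp x (zero_add n)) = x :=
  Ext.biprodAddEquiv.left_inv x

lemma f_comp_pair (hcomm : aU ≫ εU = aV ≫ εV) (xU : Ext.{w} ZU F n) (xV : Ext.{w} ZV F n) :
    (Ext.mk₀ (sc aU aV εU εV hcomm).f).comp (pair xU xV) (zero_add n) =
      (Ext.mk₀ aU).comp xU (zero_add n) - (Ext.mk₀ aV).comp xV (zero_add n) := by
  simp only [pair, Ext.comp_add, Ext.mk₀_comp_mk₀_assoc, sc, biprod.lift_fst, biprod.lift_snd,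
    Ext.mk₀_neg, Ext.neg_comp, sub_eq_add_neg]

end

theorem mv (hcomm : aU ≫ εU = aV ≫ εV) (hS : (sc aU aV εU εV hcomm).ShortExact) (F : 𝒜)
    {HU HV HW : ℕ → Type t} [∀ n, AddCommGroup (HU n)] [∀ n, AddCommGroup (HV n)]
    [∀ n, AddCommGroup (HW n)]
    (ΦU : ∀ n, Ext.{w} ZU F n ≃+ HU n) (ΦV : ∀ n, Ext.{w} ZV F n ≃+ HV n)
    (ΦW : ∀ n, Ext.{w} ZW F n ≃+ HW n)
    (rU : ∀ n, Ext.{w} Z F n →+ HU n) (rV : ∀ n, Ext.{w} Z F n →+ HV n)
    (dU : ∀ n, HU n →+ HW n) (dV : ∀ n, HV n →+ HW n)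
    (hrU : ∀ n e, rU n e = ΦU n ((Ext.mk₀ εU).comp e (zero_add n)))
    (hrV : ∀ n e, rV n e = ΦV n ((Ext.mk₀ εV).comp e (zero_add n)))
    (hdU : ∀ n x, dU n (ΦU n x) = ΦW n ((Ext.mk₀ aU).comp x (zero_add n)))
    (hdV : ∀ n x, dV n (ΦV n x) = ΦW n ((Ext.mk₀ aV).comp x (zero_add n))) :
    ∃ δ : ∀ n, HW n →+ Ext.{w} Z F (n + 1),
      (AddMonoidHom.prod (rU 0) (rV 0)).ker = ⊥ ∧
      (∀ n, (AddMonoidHom.prod (rU (n + 1)) (rV (n + 1))).ker = (δ n).range) ∧
      (∀ n, ((dU n).comp (AddMonoidHom.fst _ _) - (dV n).comp (AddMonoidHom.snd _ _)).ker =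
        (AddMonoidHom.prod (rU n) (rV n)).range) ∧
      (∀ n, (δ n).ker =
        ((dU n).comp (AddMonoidHom.fst _ _) - (dV n).comp (AddMonoidHom.snd _ _)).range) := by
  -- auxiliary: vanishing of both restrictions iff vanishing of `g^* e`
  have hker : ∀ n (e : Ext.{w} Z F n), rU n e = 0 → rV n e = 0 →
      (Ext.mk₀ (sc aU aV εU εV hcomm).g).comp e (zero_add n) = 0 := by
    intro n e h1 h2
    rw [hrU, EmbeddingLike.map_eq_zero_iff] at h1
    rw [hrV, EmbeddingLike.map_eq_zero_iff] at h2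
    apply Ext.biprod_ext
    · rw [inl_g_comp, h1, Ext.comp_zero]
    · rw [inr_g_comp, h2, Ext.comp_zero]
  have hdiff : ∀ n (hu : HU n) (hv : HV n),
      ((dU n).comp (AddMonoidHom.fst (HU n) (HV n)) -
          (dV n).comp (AddMonoidHom.snd (HU n) (HV n))) (hu, hv) =
        ΦW n ((Ext.mk₀ (sc aU aV εU εV hcomm).f).comp
          (pair ((ΦU n).symm hu) ((ΦV n).symm hv)) (zero_add n)) := by
    intro n hu hv
    rw [f_comp_pair, map_sub, ← hdU, ← hdV]
    simp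
  refine ⟨fun n => (hS.extClass.precomp F (add_comm 1 n)).comp (ΦW n).symm.toAddMonoidHom,
    ?_, ?_, ?_, ?_⟩
  · -- injectivity in degree 0
    rw [AddSubgroup.eq_bot_iff_forall]
    intro e he
    rw [AddMonoidHom.mem_ker, AddMonoidHom.prod_apply, Prod.mk_eq_zero] at he
    have h0 := hker 0 e he.1 he.2
    haveI : Epi (sc aU aV εU εV hcomm).g := hS.epi_g
    apply Ext.precomp_mk₀_injective_of_epi F (sc aU aV εU εV hcomm).g
    rw [map_zero]
    exact h0
  · intro n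
    ext e
    rw [AddMonoidHom.mem_ker, AddMonoidHom.prod_apply, Prod.mk_eq_zero, AddMonoidHom.mem_range]
    constructor
    · rintro ⟨h1, h2⟩
      obtain ⟨x₁, hx₁⟩ := Ext.contravariant_sequence_exact₃ hS F e (hker _ e h1 h2) (add_comm 1 n)
      exact ⟨ΦW n x₁, by simpa using hx₁⟩
    · rintro ⟨y, rfl⟩
      have h0 : (Ext.mk₀ (sc aU aV εU εV hcomm).g).comp
          (hS.extClass.comp ((ΦW n).symm y) (add_comm 1 n)) (zero_add (n + 1)) = 0 :=
        hS.comp_extClass_assoc _ _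
      constructor
      · rw [hrU]
        simp only [AddMonoidHom.coe_comp, Function.comp_apply]
        rw [← inl_g_comp hcomm]
        erw [h0]
        rw [Ext.comp_zero, map_zero]
      · rw [hrV]
        simp only [AddMonoidHom.coe_comp, Function.comp_apply]
        rw [← inr_g_comp hcomm]
        erw [h0]
        rw [Ext.comp_zero, map_zero]
  · intro n
    ext ⟨hu, hv⟩
    rw [AddMonoidHom.mem_ker, hdiff, EmbeddingLike.map_eq_zero_iff, AddMonoidHom.mem_range]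
    constructor
    · intro h
      obtain ⟨e, he⟩ := Ext.contravariant_sequence_exact₂ hS F _ h
      refine ⟨e, ?_⟩
      rw [AddMonoidHom.prod_apply, hrU, hrV, ← inl_g_comp hcomm, ← inr_g_comp hcomm, he,
        inl_pair, inr_pair]
      simp
    · rintro ⟨e, he⟩
      rw [AddMonoidHom.prod_apply, Prod.mk.injEq] at he
      obtain ⟨h1, h2⟩ := he
      rw [← h1, ← h2, hrU, hrV, AddEquiv.symm_apply_apply, AddEquiv.symm_apply_apply,
        ← inl_g_comp hcomm, ← inr_g_comp hcomm, pair_eta, Ext.mk₀_comp_mk₀_assoc,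
        (sc aU aV εU εV hcomm).zero, Ext.mk₀_zero, Ext.zero_comp]
  · intro n
    ext y
    rw [AddMonoidHom.mem_ker, AddMonoidHom.mem_range]
    constructor
    · intro h
      have h' : hS.extClass.comp ((ΦW n).symm y) (add_comm 1 n) = 0 := h
      obtain ⟨x₂, hx₂⟩ := Ext.contravariant_sequence_exact₁ hS F _ (add_comm 1 n) h'
      refine ⟨(ΦU n ((Ext.mk₀ biprod.inl).comp x₂ (zero_add n)),
        ΦV n ((Ext.mk₀ biprod.inr).comp x₂ (zero_add n))), ?_⟩
      rw [hdiff, AddEquiv.symm_apply_apply, AddEquiv.symm_apply_apply, pair_eta, hx₂,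
        AddEquiv.apply_symm_apply]
    · rintro ⟨⟨hu, hv⟩, rfl⟩
      rw [hdiff]
      simp only [AddMonoidHom.coe_comp, Function.comp_apply, AddEquiv.coe_toAddMonoidHom,
        AddEquiv.symm_apply_apply]
      exact hS.extClass_comp_assoc (h := add_comm 1 n) _

end Groth.Agent.H4.MVAbs
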