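import Groth.Agent.H4.Glue
import Groth.Agent.H4.ClosedSupp
import Groth.Agent.H4.EtRestr
import Groth.Prelude.Def_W4c1etweilhu916Glue

set_option autoImplicit false
open CategoryTheory CategoryTheory.Limits AlgebraicGeometry Opposite
universe u
open EtCoh Groth.Agent.H4.Stalks Groth.Agent.H4.StalkPull

namespace Groth.Agent.H4.Recoll

variable {X Z U : Scheme.{u}} (i : Z ⟶ X) (j : U ⟶ X)

/-- if `f⁻¹ φ` is an isomorphism then `φ` is an isomorphism on stalks at points of the image of `f`. -/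
theorem isIso_stalk_of_isIso_pull {Y X : Scheme.{u}} (f : Y ⟶ X) {F F' : Ab X} (φ : F ⟶ F')
    [IsIso ((pull f).map φ)] {Ω : Type u} [Field Ω] [IsSepClosed Ω]
    (ζ : Spec (CommRingCat.of Ω) ⟶ Y) : IsIso ((stalk (ζ ≫ f)).map φ) := by
  rw [NatIso.isIso_map_iff (stalkPullIso f ζ) φ]
  dsimp
  infer_instance

theorem exists_lift_geomPoint_open [IsOpenImmersion j]
    {Ω : Type u} [Field Ω] (ξ : Spec (CommRingCat.of Ω) ⟶ X)
    (h : ξ default ∈ Set.range j) : ∃ ζ : Spec (CommRingCat.of Ω) ⟶ U, ζ ≫ j = ξ := by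
  refine ⟨IsOpenImmersion.lift j ξ ?_, IsOpenImmersion.lift_fac _ _ _⟩
  rintro _ ⟨a, rfl⟩
  rw [Subsingleton.elim a default]
  exact h

theorem isIso_of_isIso_pull [IsClosedImmersion i] [IsOpenImmersion j]
    (hZU : Set.range j.base = (Set.range i.base)ᶜ) {F F' : Ab X} (φ : F ⟶ F')
    (hi : IsIso ((pull i).map φ)) (hj : IsIso ((pull j).map φ)) : IsIso φ := by
  rw [(jri X).isIso_iff]
  rintro ⟨_, ⟨s⟩⟩
  show IsIso ((stalk (Groth.Agent.H4.Stalks.geomPt s)).map φ)
  by_cases hs : s ∈ Set.range i.base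
  · obtain ⟨ζ, hζ⟩ := Groth.Agent.H4.ClosedStalk.exists_lift_geomPoint i
      (Groth.Agent.H4.Stalks.geomPt s) (by rw [geomPt_default]; exact hs)
    rw [← hζ]
    exact isIso_stalk_of_isIso_pull i φ ζ
  · have hs' : s ∈ Set.range j.base := by rw [hZU]; exact hs
    obtain ⟨ζ, hζ⟩ := exists_lift_geomPoint_open j
      (Groth.Agent.H4.Stalks.geomPt s) (by rw [geomPt_default]; exact hs')
    rw [← hζ]
    exact isIso_stalk_of_isIso_pull j φ ζ

theorem recollTriple_eq : EtCore.recollTriple i j = Glue.glue (pullPushAdj j) (pull i) := rfl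

theorem isEquivalence_recollTriple [IsClosedImmersion i] [IsOpenImmersion j]
    (hZU : Set.range j.base = (Set.range i.base)ᶜ) :
    (EtCore.recollTriple i j).IsEquivalence := by
  rw [recollTriple_eq]
  refine Glue.isEquivalence_glue (pullPushAdj i) (pullPushAdj j)
    (fun G => Groth.Agent.H4.ClosedStalk.isIso_counit i G)
    (fun H => Groth.Agent.H4.EtRestr.isIso_pullPushAdj_counit_app j H)
    (fun G => Groth.Agent.H4.ClosedStalk.isZero_pull_push_of_disjoint i j ?_ G)
    (fun φ hi hj => isIso_of_isIso_pull i j hZU φ hi hj)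
  rw [hZU]
  exact disjoint_compl_left

end Groth.Agent.H4.Recoll
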