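import Groth.Agent.H4.ClosedSupp

/-!
# Exactness can be checked on stalks (helper4)
-/

set_option autoImplicit false
open CategoryTheory CategoryTheory.Limits AlgebraicGeometry Opposite

namespace Groth.Agent.H4.StalkExact

universe u

open EtCoh Groth.Agent.H4.Stalks

variable {X : Scheme.{u}}

/-- a short complex of abelian étale sheaves is exact if it is so on all stalks. -/
theorem exact_of_stalks (S : ShortComplex (Ab X))
    (h : ∀ s : X, (S.map (stalk (geomPt s))).Exact) : S.Exact := by
  rw [ShortComplex.exact_iff_isZero_homology]
  apply Groth.Agent.H4.ClosedStalk.isZero_of_stalks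
  intro s
  exact IsZero.of_iso ((ShortComplex.exact_iff_isZero_homology _).1 (h s))
    (S.mapHomologyIso (stalk (geomPt s))).symm

theorem mono_of_stalks {F G : Ab X} (f : F ⟶ G)
    (h : ∀ s : X, Mono ((stalk (geomPt s)).map f)) : Mono f := by
  let S : ShortComplex (Ab X) := ShortComplex.mk (0 : F ⟶ F) f zero_comp
  have hS : S.Exact := exact_of_stalks S (fun s => by
    have : (S.map (stalk (geomPt s))).f = 0 := (stalk (geomPt s)).map_zero _ _
    rw [ShortComplex.exact_iff_mono _ this]
    exact h s)
  exact (ShortComplex.exact_iff_mono S rfl).1 hS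

theorem epi_of_stalks {F G : Ab X} (f : F ⟶ G)
    (h : ∀ s : X, Epi ((stalk (geomPt s)).map f)) : Epi f := by
  let S : ShortComplex (Ab X) := ShortComplex.mk f (0 : G ⟶ G) comp_zero
  have hS : S.Exact := exact_of_stalks S (fun s => by
    have : (S.map (stalk (geomPt s))).g = 0 := (stalk (geomPt s)).map_zero _ _
    rw [ShortComplex.exact_iff_epi _ this]
    exact h s)
  exact (ShortComplex.exact_iff_epi S rfl).1 hS

/-- a short complex of abelian étale sheaves is short exact if it is so on all stalks. -/
theorem shortExact_of_stalks (S : ShortComplex (Ab X))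
    (h : ∀ s : X, (S.map (stalk (geomPt s))).ShortExact) : S.ShortExact :=
  have := mono_of_stalks S.f (fun s => (h s).mono_f)
  have := epi_of_stalks S.g (fun s => (h s).epi_g)
  { exact := exact_of_stalks S (fun s => (h s).exact) }

end Groth.Agent.H4.StalkExact
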