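import Groth.Agent.H4.MVAbs
import Groth.Agent.H4.HpullEt
import Groth.Agent.H4.StalkExact
import Groth.Agent.H4.ExtZeroStalk
import Groth.Agent.H4.Recoll

/-!
# The Mayer–Vietoris short exact sequence `0 → j_{W!}ℤ → j_{U!}ℤ ⊞ j_{V!}ℤ → ℤ → 0` (helper4)
-/

set_option autoImplicit false
open CategoryTheory CategoryTheory.Limits AlgebraicGeometry Opposite

namespace Groth.Agent.H4.MVSes

section Abstract

universe v v' u u'

variable {ℬ : Type u} [Category.{v} ℬ] [Abelian ℬ]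
variable {Z ZU ZV ZW : ℬ} {aU : ZW ⟶ ZU} {aV : ZW ⟶ ZV} {εU : ZU ⟶ Z} {εV : ZV ⟶ Z}

theorem shortExact_of_isIso_aU_εV (hcomm : aU ≫ εU = aV ≫ εV) [IsIso aU] [IsIso εV] :
    (MVAbs.sc aU aV εU εV hcomm).ShortExact := by
  have hp : IsPushout aU aV εU εV := IsPushout.of_horiz_isIso ⟨hcomm⟩
  have h1 : Mono (MVAbs.sc aU aV εU εV hcomm).f :=
    mono_of_mono_fac (biprod.lift_fst aU (-aV))
  have h2 : Epi (MVAbs.sc aU aV εU εV hcomm).g := hp.epi_shortComplex_g
  exact { exact := ShortComplex.exact_of_g_is_cokernel _ hp.isColimitCokernelCofork }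

theorem shortExact_of_isIso_aV_εU (hcomm : aU ≫ εU = aV ≫ εV) [IsIso aV] [IsIso εU] :
    (MVAbs.sc aU aV εU εV hcomm).ShortExact := by
  have hp : IsPushout aU aV εU εV := IsPushout.of_vert_isIso ⟨hcomm⟩
  have h1 : Mono (MVAbs.sc aU aV εU εV hcomm).f := by
    have : Mono (-aV) := by
      rw [show -aV = aV ≫ (-𝟙 _) by simp]
      haveI : IsIso (-𝟙 ZV) := ⟨⟨-𝟙 _, by simp, by simp⟩⟩
      infer_instance
    exact mono_of_mono_fac (biprod.lift_snd aU (-aV))
  have h2 : Epi (MVAbs.sc aU aV εU εV hcomm).g := hp.epi_shortComplex_g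
  exact { exact := ShortComplex.exact_of_g_is_cokernel _ hp.isColimitCokernelCofork }

variable {𝒜 : Type u'} [Category.{v'} 𝒜] [Abelian 𝒜] (T : 𝒜 ⥤ ℬ) [T.Additive]
variable {Z' ZU' ZV' ZW' : 𝒜} (aU' : ZW' ⟶ ZU') (aV' : ZW' ⟶ ZV') (εU' : ZU' ⟶ Z') (εV' : ZV' ⟶ Z')

attribute [local instance] preservesBinaryBiproducts_of_preservesBiproducts in
/-- the image of the Mayer–Vietoris short complex under an additive functor -/
noncomputable def mapScIso (hcomm : aU' ≫ εU' = aV' ≫ εV') :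
    (MVAbs.sc aU' aV' εU' εV' hcomm).map T ≅
      MVAbs.sc (T.map aU') (T.map aV') (T.map εU') (T.map εV')
        (by rw [← T.map_comp, ← T.map_comp, hcomm]) :=
  ShortComplex.isoMk (Iso.refl _) (T.mapBiprod ZU' ZV') (Iso.refl _)
    (by
      show 𝟙 (T.obj ZW') ≫ biprod.lift (T.map aU') (-T.map aV') =
        T.map (biprod.lift aU' (-aV')) ≫ (T.mapBiprod ZU' ZV').hom
      rw [Category.id_comp]
      ext
      · simp only [Functor.mapBiprod_hom, Category.assoc, biprod.lift_fst]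
        rw [← T.map_comp, biprod.lift_fst]
      · simp only [Functor.mapBiprod_hom, Category.assoc, biprod.lift_snd]
        rw [← T.map_comp, biprod.lift_snd, T.map_neg])
    (by
      show (T.mapBiprod ZU' ZV').hom ≫ biprod.desc (T.map εU') (T.map εV') =
        T.map (biprod.desc εU' εV') ≫ 𝟙 (T.obj Z')
      rw [Category.comp_id, ← cancel_epi (T.mapBiprod ZU' ZV').inv, Iso.inv_hom_id_assoc]
      ext
      · simp only [Functor.mapBiprod_inv, biprod.inl_desc_assoc, biprod.inl_desc]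
        rw [← T.map_comp, biprod.inl_desc]
      · simp only [Functor.mapBiprod_inv, biprod.inr_desc_assoc, biprod.inr_desc]
        rw [← T.map_comp, biprod.inr_desc])

end Abstract

section Etale

universe u

open EtCoh EtCore EtShriek Groth.Agent.H4.EtRestr Groth.Agent.H4.HpullEt Groth.Agent.H4.Stalks

variable {U X : Scheme.{u}} (j : U ⟶ X) [Etale j]

lemma εJ_eq : εJ j = (extZero j).map (pullConst j ℤ).inv ≫
    (extZero j).map ((pullRestrIso j).hom.app (EtCoh.const X ℤ)) ≫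
      (extZeroAdj j).counit.app (EtCoh.const X ℤ) := by
  rw [εJ, Adjunction.homEquiv_counit]
  rfl

variable [Mono j]

/-- at a geometric point lifting to `U`, `j_! ℤ ⟶ ℤ` is an isomorphism on stalks -/
theorem isIso_stalk_εJ {Ω : Type u} [Field Ω] [IsSepClosed Ω] (u : Spec (CommRingCat.of Ω) ⟶ U)
    (ξ : Spec (CommRingCat.of Ω) ⟶ X) (hu : u ≫ j = ξ) : IsIso ((stalk ξ).map (εJ j)) := by
  rw [εJ_eq, Functor.map_comp, Functor.map_comp]
  haveI := Groth.Agent.H4.ExtZeroStalk.isIso_stalk_counit j (EtCoh.const X ℤ) u ξ hu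
  infer_instance

/-- at a geometric point not lifting to `U`, the stalk of `j_! ℤ` vanishes -/
theorem isZero_stalk_ZJ {Ω : Type u} [Field Ω] [IsSepClosed Ω]
    (ξ : Spec (CommRingCat.of Ω) ⟶ X) (h : ∀ u : Spec (CommRingCat.of Ω) ⟶ U, u ≫ j ≠ ξ) :
    IsZero ((stalk ξ).obj (ZJ j)) :=
  Groth.Agent.H4.ExtZeroStalk.isZero_stalk_extZero j ξ _ h

end Etale

section Opens

universe u

open EtCoh EtCore EtShriek Groth.Agent.H4.EtRestr Groth.Agent.H4.HpullEt Groth.Agent.H4.Stalks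

variable (X : Scheme.{u}) (U V : X.Opens)

lemma exists_lift_of_mem (s : X) (hs : s ∈ U) :
    ∃ u : Spec (CommRingCat.of (SeparableClosure (X.residueField s))) ⟶ ↑U, u ≫ U.ι = geomPt s := by
  apply Groth.Agent.H4.Recoll.exists_lift_geomPoint_open U.ι (geomPt s)
  rw [geomPt_default, Scheme.Opens.range_ι]
  exact hs

lemma not_lift_of_not_mem (s : X) (hs : s ∉ U)
    (u : Spec (CommRingCat.of (SeparableClosure (X.residueField s))) ⟶ ↑U) : u ≫ U.ι ≠ geomPt s := by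
  intro h
  apply hs
  have h1 : (geomPt s) default = s := geomPt_default s
  rw [← h] at h1
  rw [← h1]
  exact (u default).2

lemma isIso_stalk_εJ_of_mem (s : X) (hs : s ∈ U) :
    IsIso ((stalk (geomPt s)).map (εJ U.ι)) := by
  obtain ⟨u, hu⟩ := exists_lift_of_mem X U s hs
  exact isIso_stalk_εJ U.ι u _ hu

lemma isZero_stalk_ZJ_of_not_mem (s : X) (hs : s ∉ U) :
    IsZero ((stalk (geomPt s)).obj (ZJ U.ι)) :=
  isZero_stalk_ZJ U.ι _ (not_lift_of_not_mem X U s hs)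

/-- `j_{U∩V !} ℤ ⟶ j_{U!} ℤ` -/
noncomputable abbrev aL : ZJ (U ⊓ V).ι ⟶ ZJ U.ι :=
  aJ (X.homOfLE (inf_le_left : U ⊓ V ≤ U)) U.ι (U ⊓ V).ι (X.homOfLE_ι _)

/-- `j_{U∩V !} ℤ ⟶ j_{V!} ℤ` -/
noncomputable abbrev aR : ZJ (U ⊓ V).ι ⟶ ZJ V.ι :=
  aJ (X.homOfLE (inf_le_right : U ⊓ V ≤ V)) V.ι (U ⊓ V).ι (X.homOfLE_ι _)

lemma aL_ε : aL X U V ≫ εJ U.ι = εJ (U ⊓ V).ι := aJ_εJ _ _ _ _

lemma aR_ε : aR X U V ≫ εJ V.ι = εJ (U ⊓ V).ι := aJ_εJ _ _ _ _

lemma hcomm : aL X U V ≫ εJ U.ι = aR X U V ≫ εJ V.ι := (aL_ε X U V).trans (aR_ε X U V).symm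

lemma isIso_of_isZero {ℬ : Type*} [Category ℬ] [HasZeroMorphisms ℬ] {A B : ℬ} (f : A ⟶ B)
    (hA : IsZero A) (hB : IsZero B) : IsIso f :=
  ⟨⟨0, hA.eq_of_src _ _, hB.eq_of_src _ _⟩⟩

/-- The Mayer–Vietoris short exact sequence of abelian étale sheaves on `X = U ∪ V`. -/
theorem shortExact (hUV : U ⊔ V = ⊤) :
    (MVAbs.sc (aL X U V) (aR X U V) (εJ U.ι) (εJ V.ι) (hcomm X U V)).ShortExact := by
  apply StalkExact.shortExact_of_stalks
  intro s
  refine ShortComplex.shortExact_of_iso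
    (mapScIso (stalk (geomPt s)) _ _ _ _ (hcomm X U V)).symm ?_
  by_cases hV : s ∈ V
  · haveI : IsIso ((stalk (geomPt s)).map (εJ V.ι)) := isIso_stalk_εJ_of_mem X V s hV
    haveI : IsIso ((stalk (geomPt s)).map (aL X U V)) := by
      by_cases hU : s ∈ U
      · have hW : s ∈ U ⊓ V := ⟨hU, hV⟩
        haveI := isIso_stalk_εJ_of_mem X U s hU
        haveI := isIso_stalk_εJ_of_mem X (U ⊓ V) s hW
        have h : (stalk (geomPt s)).map (aL X U V) ≫ (stalk (geomPt s)).map (εJ U.ι) =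
            (stalk (geomPt s)).map (εJ (U ⊓ V).ι) := by rw [← Functor.map_comp, aL_ε]
        exact IsIso.of_isIso_fac_right h
      · have hW : s ∉ U ⊓ V := fun h => hU h.1
        exact isIso_of_isZero _ (isZero_stalk_ZJ_of_not_mem X (U ⊓ V) s hW)
          (isZero_stalk_ZJ_of_not_mem X U s hU)
    exact shortExact_of_isIso_aU_εV _
  · have hU : s ∈ U := by
      have h : s ∈ U ⊔ V := by rw [hUV]; trivial
      rcases h with h | h
      · exact h
      · exact absurd h hV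
    haveI : IsIso ((stalk (geomPt s)).map (εJ U.ι)) := isIso_stalk_εJ_of_mem X U s hU
    haveI : IsIso ((stalk (geomPt s)).map (aR X U V)) := by
      have hW : s ∉ U ⊓ V := fun h => hV h.2
      exact isIso_of_isZero _ (isZero_stalk_ZJ_of_not_mem X (U ⊓ V) s hW)
        (isZero_stalk_ZJ_of_not_mem X V s hV)
    exact shortExact_of_isIso_aV_εU _

end Opens

end Groth.Agent.H4.MVSes
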