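import Groth.Agent.H4.SuppSec
import Groth.Agent.H4.StalkPull

/-!
# Vanishing of stalks of direct images along closed maps (helper4)

If every étale base change of `f : X ⟶ Y` is a closed map and the stalks of `H` vanish at all
points of the fibre of `f` over the image of a geometric point `ξ` of `Y`, then `(f_* H)_ξ = 0`.
-/

set_option autoImplicit false
open CategoryTheory CategoryTheory.Limits AlgebraicGeometry Opposite
universe u
open EtCoh Groth.Agent.H4.Stalks Groth.Agent.H4.GlueSec Groth.Agent.H4.SuppSec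

namespace Groth.Agent.H4.PushStalkZero

variable {X Y : Scheme.{u}}

/-- The support of a section is closed. -/
theorem isClosed_sectSupp (F : Ab X) (U : X.Etale) (s : F.obj.obj (op U)) :
    IsClosed (EtShriek.sectSupp F U s) := by
  rw [← isOpen_compl_iff, isOpen_iff_forall_mem_open]
  intro x hx
  obtain ⟨W, g, w, hw, h0⟩ := (not_mem_sectSupp_iff F U s x).1 hx
  refine ⟨Set.range g.left, ?_, (isOpenMap_left g).isOpen_range, ⟨w, hw⟩⟩
  rintro _ ⟨w', rfl⟩
  exact (not_mem_sectSupp_iff F U s _).2 ⟨W, g, w', rfl, h0⟩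

variable (f : X ⟶ Y)

set_option backward.isDefEq.respectTransparency.types false in
theorem isZero_stalk_push
    (hcl : ∀ V : Y.Etale, IsClosedMap (pullback.fst V.hom f))
    (H : Ab X) {Ω : Type u} [Field Ω] [IsSepClosed Ω] (ξ : Spec (CommRingCat.of Ω) ⟶ Y)
    (hH : ∀ x : X, f x = ξ default →
      IsZero ((stalk (Groth.Agent.H4.Stalks.geomPt x)).obj H)) :
    IsZero ((stalk ξ).obj ((push f).obj H)) := by
  suffices h : ∀ t : (stalk ξ).obj ((push f).obj H), t = 0 by
    have : Subsingleton ((stalk ξ).obj ((push f).obj H)) :=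
      ⟨fun a b => (h a).trans (h b).symm⟩
    exact AddCommGrpCat.isZero_of_subsingleton _
  intro t
  obtain ⟨V, v, s, rfl⟩ := germ_surjective _ t
  rw [germ_eq_zero_iff']
  -- the support of `s` on `X_V`
  let Z : Set ((bc f).obj V).left := EtShriek.sectSupp H ((bc f).obj V) s
  have hZ : IsClosed Z := isClosed_sectSupp H _ s
  have hfZ : IsClosed ((pullback.fst V.hom f) '' Z) := hcl V Z hZ
  have hv : v.pt ∉ (pullback.fst V.hom f) '' Z := by
    rintro ⟨p, hp, hpv⟩
    -- `p` lies over a point of the fibre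
    let x : X := ((bc f).obj V).hom p
    have hx : f x = ξ default := by
      have h1 : (pullback.fst V.hom f ≫ V.hom) p = (pullback.snd V.hom f ≫ f) p := by
        rw [pullback.condition]
      have h2 : V.hom (pullback.fst V.hom f p) = f x := h1
      rw [← h2, hpv, Fib.hom_pt]
    obtain ⟨p', hp'⟩ := Fib.exists_of_point (ξ := Groth.Agent.H4.Stalks.geomPt x) ((bc f).obj V) p
      (by rw [geomPt_default])
    have h0 : germ H p' s = 0 :=
      (AddCommGrpCat.subsingleton_of_isZero (hH x hx)).elim _ _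
    obtain ⟨W, g, w, hw, hg⟩ := (germ_eq_zero_iff' H p' s).1 h0
    exact hp W g ⟨w, hw.trans hp'⟩ hg
  let V'o : V.left.Opens := ⟨((pullback.fst V.hom f) '' Z)ᶜ, hfZ.isOpen_compl⟩
  refine ⟨opn V V'o, opnι V V'o, ?_⟩
  have hvmem : v.pt ∈ Set.range (opnι V V'o).left := by
    rw [range_opnι]; exact hv
  obtain ⟨v', hv'⟩ := hvmem
  refine ⟨v', hv', ?_⟩
  show H.obj.map ((bc f).map (opnι V V'o)).op s = 0
  apply map_eq_zero_of_range H ((bc f).obj V) Z hZ s (fun x hx => hx)
  rintro _ ⟨q, rfl⟩ hq
  have hw := (isPullback_bc_map f (opnι V V'o)).w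
  have hw' : pullback.fst V.hom f (((bc f).map (opnι V V'o)).left q) =
      (opnι V V'o).left (pullback.fst (opn V V'o).hom f q) := congrArg (fun k => k q) hw
  have h3 : (opnι V V'o).left (pullback.fst (opn V V'o).hom f q) ∈ (V'o : Set V.left) := by
    rw [← range_opnι]; exact ⟨_, rfl⟩
  exact h3 ⟨_, hq, hw'⟩

end Groth.Agent.H4.PushStalkZero
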