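import Groth.Agent.H4.ExtZeroStalk
import Groth.Agent.H4.GlueSec
import Groth.Agent.H4.SuppSec
import Groth.Agent.H4.PushStalkZero

/-!
# Sections of `j_! F` for an open immersion `j` (helper4)

For an open immersion `j : X ⟶ Xb` and an abelian étale sheaf `F` on `X`, the global sections of
`j_! F` are the global sections of `F` whose support is closed in `Xb`.
-/

set_option autoImplicit false
open CategoryTheory CategoryTheory.Limits AlgebraicGeometry Opposite
universe u
open EtCoh EtShriek Groth.Agent.H4.Stalks Groth.Agent.H4.GlueSec Groth.Agent.H4.SuppSec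

namespace Groth.Agent.H4.OpenShriekSec

variable {X Xb : Scheme.{u}} (j : X ⟶ Xb) [Etale j]

section Lift

/-- every morphism to `(V → X → Xb)` comes from a morphism of étale `X`-schemes. -/
theorem exists_lift {V : X.Etale} {T₀ : Xb.Etale} (b : T₀ ⟶ (compEtale j).obj V) :
    ∃ (V' : X.Etale) (k : V' ⟶ V) (e : (compEtale j).obj V' ≅ T₀),
      e.hom ≫ b = (compEtale j).map k ∧ V'.left = T₀.left ∧
      ∀ v : V'.left, k.left v = b.left (e.hom.left v) := by
  refine ⟨(compEtaleLift j b).1,
    MorphismProperty.Over.homMk b.left rfl trivial, (compEtaleLift j b).2, ?_, rfl, ?_⟩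
  · apply MorphismProperty.Over.Hom.ext
    exact Category.id_comp b.left
  · intro v
    rfl

end Lift

section Sections

variable [IsOpenImmersion j] [JCont j] (F : Ab X)

/-- the unit `F ⟶ j^{-1} j_! F` on sections over `V`. -/
noncomputable def ηV (V : X.Etale) :
    F.obj.obj (op V) ⟶ ((extZero j).obj F).obj.obj (op ((compEtale j).obj V)) :=
  ((extZeroAdj j).unit.app F).hom.app (op V)

instance isIso_ηV (V : X.Etale) : IsIso (ηV j F V) := by
  have h1 : IsIso ((extZeroAdj j).unit.app F) := inferInstance
  have h2 : IsIso ((sheafToPresheaf _ _).map ((extZeroAdj j).unit.app F)) := inferInstance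
  have h3 : IsIso ((extZeroAdj j).unit.app F).hom := h2
  exact (inferInstance : IsIso (((extZeroAdj j).unit.app F).hom.app (op V)))

theorem ηV_injective (V : X.Etale) : Function.Injective (ηV j F V) :=
  ((ConcreteCategory.isIso_iff_bijective (ηV j F V)).mp inferInstance).1

theorem ηV_surjective (V : X.Etale) : Function.Surjective (ηV j F V) :=
  ((ConcreteCategory.isIso_iff_bijective (ηV j F V)).mp inferInstance).2

theorem ηV_natural {V V' : X.Etale} (k : V' ⟶ V) (s : F.obj.obj (op V)) :
    ((extZero j).obj F).obj.map ((compEtale j).map k).op (ηV j F V s) =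
      ηV j F V' (F.obj.map k.op s) := by
  have := ((extZeroAdj j).unit.app F).hom.naturality k.op
  exact (congrArg (fun φ => φ.hom s) this).symm

/-- the morphism `(X → Xb) ⟶ Xb` of the small étale site of `Xb`. -/
noncomputable def jT : (compEtale j).obj (EtCoh.top X) ⟶ EtCoh.top Xb :=
  MorphismProperty.Over.homMk j
    ((Category.comp_id j).trans (Category.id_comp j).symm) trivial

omit [JCont j] in
@[simp] lemma jT_left : (jT j).left = j := rfl

/-- a section of `j_! F` vanishes étale-locally around every point outside the image of `j`. -/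
theorem exists_nhd_zero {V : Xb.Etale} (t : ((extZero j).obj F).obj.obj (op V)) (p : V.left)
    (hp : V.hom p ∉ Set.range j) :
    ∃ (W : Xb.Etale) (g : W ⟶ V) (w : W.left), g.left w = p ∧
      ((extZero j).obj F).obj.map g.op t = 0 := by
  let ξ := geomPt (V.hom p)
  have hξ : ξ default = V.hom p := geomPt_default _
  obtain ⟨x, hx⟩ := Fib.exists_of_point (ξ := ξ) V p hξ.symm
  have hz : IsZero ((stalk ξ).obj ((extZero j).obj F)) := by
    apply Groth.Agent.H4.ExtZeroStalk.isZero_stalk_extZero
    intro u hu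
    apply hp
    refine ⟨u default, ?_⟩
    have h1 : (u ≫ j) default = ξ default := congrArg (fun (k : _ ⟶ Xb) => k default) hu
    exact h1.trans hξ
  have h0 : germ ((extZero j).obj F) x t = 0 := by
    have : Subsingleton ((stalk ξ).obj ((extZero j).obj F)) :=
      AddCommGrpCat.isZero_iff_subsingleton.mp hz
    exact Subsingleton.elim _ _
  obtain ⟨W, g, w, hw, hg⟩ := (germ_eq_zero_iff' _ x t).1 h0
  exact ⟨W, g, w, hw.trans hx, hg⟩

/-- a global section of `j_! F` is determined by its restriction to `X`. -/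
theorem eq_zero_of_restrict (t : ((extZero j).obj F).obj.obj (op (EtCoh.top Xb)))
    (h : ((extZero j).obj F).obj.map (jT j).op t = 0) : t = 0 := by
  apply eq_zero_of_locally_zero
  intro p
  by_cases hp : p ∈ Set.range j
  · obtain ⟨x, hx⟩ := hp
    exact ⟨_, jT j, x, hx, h⟩
  · exact exists_nhd_zero j F t p hp

omit [IsOpenImmersion j] [JCont j] in
/-- `exists_lift` with equality of ranges. -/
theorem exists_lift_range [Etale j] {V : X.Etale} {T₀ : Xb.Etale} (b : T₀ ⟶ (compEtale j).obj V) :
    ∃ (V' : X.Etale) (k : V' ⟶ V) (e : (compEtale j).obj V' ≅ T₀),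
      e.hom ≫ b = (compEtale j).map k ∧ Set.range k.left = Set.range b.left := by
  obtain ⟨V', k, e, hek, -, hpt⟩ := exists_lift j b
  refine ⟨V', k, e, hek, ?_⟩
  ext y
  constructor
  · rintro ⟨v, rfl⟩
    exact ⟨e.hom.left v, (hpt v).symm⟩
  · rintro ⟨w, rfl⟩
    refine ⟨e.inv.left w, ?_⟩
    have : e.hom.left (e.inv.left w) = w := by
      have h1 : e.inv ≫ e.hom = 𝟙 _ := e.inv_hom_id
      have h2 : e.inv.left ≫ e.hom.left = 𝟙 _ := congrArg (fun k => k.left) h1
      exact congrArg (fun (k : T₀.left ⟶ T₀.left) => k w) h2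
    exact (hpt (e.inv.left w)).trans (congrArg (fun y => b.left y) this)

/-- vanishing of a section of `j_! F` pulled back along a morphism to `(V → X → Xb)`, in terms
of `F`. -/
theorem map_ηV_eq_zero_iff {V : X.Etale} {T₀ : Xb.Etale} (b : T₀ ⟶ (compEtale j).obj V)
    (s : F.obj.obj (op V)) :
    ((extZero j).obj F).obj.map b.op (ηV j F V s) = 0 ↔
      ∃ (V' : X.Etale) (k : V' ⟶ V), F.obj.map k.op s = 0 ∧
        Set.range k.left = Set.range b.left := by
  obtain ⟨V', k, e, hek, hrange⟩ := exists_lift_range j b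
  have key : ((extZero j).obj F).obj.map e.hom.op
      (((extZero j).obj F).obj.map b.op (ηV j F V s)) = ηV j F V' (F.obj.map k.op s) := by
    rw [map_comp_apply, hek]
    exact ηV_natural j F k s
  constructor
  · intro h
    refine ⟨V', k, ?_, hrange⟩
    apply ηV_injective j F V'
    rw [← key, h, map_zero, map_zero]
  · rintro ⟨V'', k', hk', hr'⟩
    -- `F.map k.op s = 0` since `k` factors locally through `k'`
    have hks : F.obj.map k.op s = 0 := by
      apply eq_zero_of_locally_zero
      intro p
      have hp : k.left p ∈ Set.range k'.left := by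
        rw [hr', ← hrange]; exact ⟨p, rfl⟩
      obtain ⟨q, hq⟩ := hp
      obtain ⟨T, a, c, t₀, hac, hat, -⟩ := exists_pullback_point k k' p q hq.symm
      refine ⟨T, a, t₀, hat, ?_⟩
      rw [map_comp_apply, hac, ← map_comp_apply, hk', map_zero]
    have h2 : ((extZero j).obj F).obj.map e.hom.op
        (((extZero j).obj F).obj.map b.op (ηV j F V s)) = 0 := by
      rw [key, hks, map_zero]
    have hinj : Function.Injective (((extZero j).obj F).obj.map e.hom.op) := by
      have : IsIso (((extZero j).obj F).obj.map e.hom.op) := inferInstance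
      exact ((ConcreteCategory.isIso_iff_bijective _).mp this).1
    apply hinj
    rw [h2, map_zero]

/-- a section of `F` with support in the closed set `Z` dies on every étale `Xb`-scheme over
`(V → X → Xb)` whose image avoids `Z`. -/
theorem map_ηV_eq_zero_of_range {V : X.Etale} {T₀ : Xb.Etale} (b : T₀ ⟶ (compEtale j).obj V)
    (s : F.obj.obj (op V)) (Z : Set V.left) (hZ : IsClosed Z) (hs : sectSupp F V s ⊆ Z)
    (hb : Set.range b.left ⊆ Zᶜ) : ((extZero j).obj F).obj.map b.op (ηV j F V s) = 0 := by
  obtain ⟨V', k, e, hek, hrange⟩ := exists_lift_range j b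
  refine (map_ηV_eq_zero_iff j F b s).2 ⟨V', k, ?_, hrange⟩
  exact map_eq_zero_of_range F V Z hZ s hs k (by rw [hrange]; exact hb)

/-- the support of a global section of `j_! F` is the image of the support of its restriction
to `X`. -/
theorem image_supp_eq (t : ((extZero j).obj F).obj.obj (op (EtCoh.top Xb)))
    (s : F.obj.obj (op (EtCoh.top X)))
    (h : ηV j F (EtCoh.top X) s = ((extZero j).obj F).obj.map (jT j).op t) :
    j '' (sectSupp F (EtCoh.top X) s) = sectSupp ((extZero j).obj F) (EtCoh.top Xb) t := by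
  ext p
  constructor
  · rintro ⟨x, hx, rfl⟩
    by_contra hcon
    obtain ⟨W', g', w', hw', h0⟩ := (not_mem_sectSupp_iff _ _ t (j x)).1 hcon
    obtain ⟨T₀, a, b, t₀, hab, -, hbt⟩ := exists_pullback_point g' (jT j) w' x hw'
    have h1 : ((extZero j).obj F).obj.map b.op (ηV j F (EtCoh.top X) s) = 0 := by
      rw [h, map_comp_apply, ← hab, ← map_comp_apply, h0, map_zero]
    obtain ⟨V', k, hk, hr⟩ := (map_ηV_eq_zero_iff j F b s).1 h1
    have hxr : x ∈ Set.range k.left := by rw [hr]; exact ⟨t₀, hbt⟩
    obtain ⟨v, hv⟩ := hxr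
    exact (not_mem_sectSupp_iff F _ s x).2 ⟨V', k, v, hv, hk⟩ hx
  · intro hp
    have hpr : p ∈ Set.range j := by
      by_contra hpr
      obtain ⟨W, g, w, hw, hg⟩ := exists_nhd_zero j F t p hpr
      exact hp W g ⟨w, hw⟩ hg
    obtain ⟨x, rfl⟩ := hpr
    refine ⟨x, ?_, rfl⟩
    by_contra hcon
    obtain ⟨W, g, w, hw, h0⟩ := (not_mem_sectSupp_iff F _ s x).1 hcon
    have h1 : ((extZero j).obj F).obj.map ((compEtale j).map g ≫ jT j).op t = 0 := by
      rw [← map_comp_apply, ← h, ηV_natural, h0, map_zero]
    refine hp _ ((compEtale j).map g ≫ jT j) ⟨w, ?_⟩ h1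
    change j (g.left w) = j x
    rw [hw]

/-- the support of a global section of `j_! F`, restricted to `X`, has closed image in `Xb`. -/
theorem isClosed_image_supp (t : ((extZero j).obj F).obj.obj (op (EtCoh.top Xb)))
    (s : F.obj.obj (op (EtCoh.top X)))
    (h : ηV j F (EtCoh.top X) s = ((extZero j).obj F).obj.map (jT j).op t) :
    IsClosed (j '' (sectSupp F (EtCoh.top X) s)) := by
  rw [image_supp_eq j F t s h]
  exact Groth.Agent.H4.PushStalkZero.isClosed_sectSupp _ _ t

instance mono_jT : Mono (jT j) := by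
  constructor
  intro T g h e
  apply MorphismProperty.Over.Hom.ext
  have e1 : g.left ≫ j = h.left ≫ j := congrArg (fun k => k.left) e
  exact (cancel_mono j).1 e1

set_option backward.isDefEq.respectTransparency.types false in
/-- a global section of `F` whose support is closed in `Xb` extends to a global section of
`j_! F`. -/
theorem exists_section_of_isClosed (s : F.obj.obj (op (EtCoh.top X)))
    (hcl : IsClosed (j '' (sectSupp F (EtCoh.top X) s))) :
    ∃ t : ((extZero j).obj F).obj.obj (op (EtCoh.top Xb)),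
      ((extZero j).obj F).obj.map (jT j).op t = ηV j F (EtCoh.top X) s := by
  classical
  let G := (extZero j).obj F
  let Z : Set X := sectSupp F (EtCoh.top X) s
  have hZ : IsClosed Z := Groth.Agent.H4.PushStalkZero.isClosed_sectSupp F _ s
  let W : (EtCoh.top Xb).left.Opens := ⟨(j '' Z)ᶜ, hcl.isOpen_compl⟩
  let Y : Bool → Xb.Etale := fun b => if b then (compEtale j).obj (EtCoh.top X)
    else opn (EtCoh.top Xb) W
  let f : ∀ b, Y b ⟶ EtCoh.top Xb := fun b => by
    cases b
    · exact opnι (EtCoh.top Xb) W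
    · exact jT j
  let x : ∀ b, G.obj.obj (op (Y b)) := fun b => by
    cases b
    · exact 0
    · exact ηV j F (EtCoh.top X) s
  have hcov : ⋃ b, Set.range (f b).left = Set.univ := by
    ext p
    simp only [Set.mem_iUnion, Set.mem_univ, iff_true]
    by_cases hp : p ∈ j '' Z
    · obtain ⟨z, -, rfl⟩ := hp
      exact ⟨true, ⟨z, rfl⟩⟩
    · refine ⟨false, ?_⟩
      show p ∈ Set.range (opnι (EtCoh.top Xb) W).left
      rw [range_opnι]; exact hp
  have hzero : ∀ (T : Xb.Etale) (g : T ⟶ (compEtale j).obj (EtCoh.top X))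
      (g' : T ⟶ opn (EtCoh.top Xb) W), g ≫ jT j = g' ≫ opnι (EtCoh.top Xb) W →
      G.obj.map g.op (ηV j F (EtCoh.top X) s) = 0 := by
    intro T g g' e
    refine map_ηV_eq_zero_of_range j F g s Z hZ le_rfl ?_
    rintro _ ⟨v, rfl⟩ hv
    have e1 : g.left ≫ j = g'.left ≫ W.ι := congrArg (fun k => k.left) e
    have e2 : j (g.left v) = W.ι (g'.left v) :=
      congrArg (fun (k : T.left ⟶ Xb) => k v) e1
    have h2 : W.ι (g'.left v) ∈ (j '' Z)ᶜ := (g'.left v).2
    rw [← e2] at h2
    exact h2 ⟨g.left v, hv, rfl⟩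
  obtain ⟨t, ht⟩ := exists_glue G Y f hcov x (by
    intro i i' T gi gj e
    cases i <;> cases i'
    · show G.obj.map gi.op 0 = G.obj.map gj.op 0
      rw [map_zero, map_zero]
    · show G.obj.map gi.op 0 = G.obj.map gj.op (ηV j F (EtCoh.top X) s)
      rw [map_zero, hzero T gj gi e.symm]
    · show G.obj.map gi.op (ηV j F (EtCoh.top X) s) = G.obj.map gj.op 0
      rw [map_zero, hzero T gi gj e]
    · have : gi = gj := (cancel_mono (jT j)).1 e
      rw [this])
  exact ⟨t, ht true⟩

end Sections

section Scheme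

variable {X Xb S : Scheme.{u}} (j : X ⟶ Xb) [IsOpenImmersion j]

/-- for an embedding, a closed subset of a set with closed image has closed image. -/
theorem isClosed_image_of_subset {A B : Set X} (hA : IsClosed A) (hAB : A ⊆ B)
    (hB : IsClosed (j '' B)) : IsClosed (j '' A) := by
  have hind : Topology.IsInducing j := j.isOpenEmbedding.isInducing
  have h1 : closure (j '' A) ⊆ j '' B := closure_minimal (Set.image_mono hAB) hB
  have h2 : A = j ⁻¹' closure (j '' A) := by
    rw [← hind.closure_eq_preimage_closure_image, hA.closure_eq]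
  have h3 : j '' A = closure (j '' A) := by
    conv_lhs => rw [h2]
    rw [Set.image_preimage_eq_inter_range]
    apply Set.inter_eq_left.mpr
    exact h1.trans (Set.image_subset_range _ _)
  rw [h3]
  exact isClosed_closure

omit [IsOpenImmersion j] in
theorem range_subschemeι_comp (Z : TopologicalSpace.Closeds X) :
    Set.range ((Scheme.IdealSheafData.vanishingIdeal Z).subschemeι ≫ j) = j '' (Z : Set X) := by
  rw [Scheme.Hom.comp_base, TopCat.coe_comp, Set.range_comp,
    Scheme.IdealSheafData.range_subschemeι, Scheme.IdealSheafData.coe_support_vanishingIdeal]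

/-- a closed subset `Z` of the open `X ⊆ Xb`, with `Xb` proper over `S`, is proper over `S` iff
it is closed in `Xb`. -/
theorem isProper_subschemeι_comp_iff (pb : Xb ⟶ S) [IsProper pb] (Z : TopologicalSpace.Closeds X) :
    IsProper ((Scheme.IdealSheafData.vanishingIdeal Z).subschemeι ≫ j ≫ pb) ↔
      IsClosed (j '' (Z : Set X)) := by
  constructor
  · intro hprop
    have h1 : IsProper (((Scheme.IdealSheafData.vanishingIdeal Z).subschemeι ≫ j) ≫ pb) := by
      rw [Category.assoc]; exact hprop
    have h2 : IsProper ((Scheme.IdealSheafData.vanishingIdeal Z).subschemeι ≫ j) :=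
      IsProper.of_comp _ pb
    have h3 := ((Scheme.IdealSheafData.vanishingIdeal Z).subschemeι ≫ j).isClosedMap.isClosed_range
    rwa [range_subschemeι_comp] at h3
  · intro hcl
    have h5 : IsClosedImmersion ((Scheme.IdealSheafData.vanishingIdeal Z).subschemeι ≫ j) := by
      apply IsClosedImmersion.of_isPreimmersion
      rw [range_subschemeι_comp]; exact hcl
    rw [← Category.assoc]
    infer_instance

end Scheme

section Proper

variable [IsOpenImmersion j] (F : Ab X)

theorem hasProperSupport_iff {S : Scheme.{u}} (pb : Xb ⟶ S) [IsProper pb] (p : X ⟶ S)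
    (hp : p = j ≫ pb) (s : F.obj.obj (op (EtCoh.top X))) :
    HasProperSupport F (EtCoh.top X) s p ↔ IsClosed (j '' (sectSupp F (EtCoh.top X) s)) := by
  have hZ : IsClosed (sectSupp F (EtCoh.top X) s) :=
    Groth.Agent.H4.PushStalkZero.isClosed_sectSupp F _ s
  subst hp
  constructor
  · rintro ⟨Z', hsub, hcl, hprop⟩
    have h3 : IsClosed (j '' Z') :=
      (isProper_subschemeι_comp_iff j pb ⟨Z', hcl⟩).1 hprop
    exact isClosed_image_of_subset j hZ hsub h3
  · intro hcl
    exact ⟨sectSupp F (EtCoh.top X) s, le_rfl, hZ,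
      (isProper_subschemeι_comp_iff j pb ⟨_, hZ⟩).2 hcl⟩

end Proper

section Main

variable [IsOpenImmersion j] [JCont j] (F : Ab X)

/-- restriction of global sections of `j_! F` to `X`, read in `F`. -/
noncomputable def Φ : ((extZero j).obj F).obj.obj (op (EtCoh.top Xb)) →+ F.obj.obj (op (EtCoh.top X)) :=
  (inv (ηV j F (EtCoh.top X))).hom.comp (((extZero j).obj F).obj.map (jT j).op).hom

theorem ηV_Φ (t : ((extZero j).obj F).obj.obj (op (EtCoh.top Xb))) :
    ηV j F (EtCoh.top X) (Φ j F t) = ((extZero j).obj F).obj.map (jT j).op t := by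
  change (inv (ηV j F (EtCoh.top X)) ≫ ηV j F (EtCoh.top X)).hom _ = _
  rw [IsIso.inv_hom_id]
  rfl

theorem Φ_injective : Function.Injective (Φ j F) := by
  rw [injective_iff_map_eq_zero]
  intro t ht
  apply eq_zero_of_restrict j F t
  rw [← ηV_Φ, ht, map_zero]

theorem h0c_equiv {S : Scheme.{u}} (pb : Xb ⟶ S) [IsProper pb] (p : X ⟶ S) (hp : p = j ≫ pb) :
    ∃ (A : AddSubgroup (F.obj.obj (op (EtCoh.top X)))),
      A = AddSubgroup.closure {s | HasProperSupport F (EtCoh.top X) s p} ∧
      Nonempty (A ≃+ ((extZero j).obj F).obj.obj (op (EtCoh.top Xb))) := by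
  refine ⟨_, rfl, ?_⟩
  have hmem : ∀ t, Φ j F t ∈ AddSubgroup.closure {s | HasProperSupport F (EtCoh.top X) s p} :=
    fun t => AddSubgroup.subset_closure
      ((hasProperSupport_iff j F pb p hp _).2 (isClosed_image_supp j F t _ (ηV_Φ j F t)))
  have hsurj : ∀ s ∈ AddSubgroup.closure {s | HasProperSupport F (EtCoh.top X) s p},
      ∃ t, Φ j F t = s := by
    intro s hs
    have hle : AddSubgroup.closure {s | HasProperSupport F (EtCoh.top X) s p} ≤
        (Φ j F).range := by
      rw [AddSubgroup.closure_le]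
      intro s hs
      obtain ⟨t, ht⟩ := exists_section_of_isClosed j F s
        ((hasProperSupport_iff j F pb p hp s).1 hs)
      refine ⟨t, ?_⟩
      apply ηV_injective j F
      rw [ηV_Φ, ht]
    exact hle hs
  let Ψ := (Φ j F).codRestrict
    (AddSubgroup.closure {s | HasProperSupport F (EtCoh.top X) s p}) hmem
  have hbij : Function.Bijective Ψ := by
    constructor
    · intro a b hab
      apply Φ_injective j F
      exact congrArg Subtype.val hab
    · rintro ⟨s, hs⟩
      obtain ⟨t, ht⟩ := hsurj s hs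
      exact ⟨t, Subtype.ext ht⟩
  exact ⟨(AddEquiv.ofBijective Ψ hbij).symm⟩

end Main

end Groth.Agent.H4.OpenShriekSec
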