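import Mathlib
import Groth.Agent.H33.DerAdjU

/-!
# Derived adjunction on bounded below derived categories (helper4)

For an adjunction `G ⊣ F` between abelian categories with enough injectives, with `G` exact,
`G.rightDerivedFunctorPlus ⊣ F.rightDerivedFunctorPlus`.
-/

set_option autoImplicit false

namespace Groth.Agent.H4.PlusAdj

open CategoryTheory Limits

variable {A B : Type*} [Category A] [Category B] [Abelian A] [Abelian B]
  {G : A ⥤ B} {F : B ⥤ A} (adj : G ⊣ F) [G.Additive] [F.Additive]

/-- The adjunction between the functors induced on bounded below homotopy categories. -/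
noncomputable def homotopyPlusAdj : G.mapHomotopyCategoryPlus ⊣ F.mapHomotopyCategoryPlus :=
  (Groth.Agent.H33.DerAdjU.homotopyAdj adj (ComplexShape.up ℤ)).restrictFullyFaithful
    (HomotopyCategory.Plus.fullyFaithfulι A) (HomotopyCategory.Plus.fullyFaithfulι B)
    (Iso.refl _) (Iso.refl _)

section

variable [HasDerivedCategory A] [HasDerivedCategory B]
variable (G) [PreservesFiniteLimits G] [PreservesFiniteColimits G]

/-- An exact functor induces a functor on bounded below homotopy categories that sends
quasi-isomorphisms to isomorphisms in the derived category. -/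
lemma inverts :
    (HomotopyCategory.Plus.quasiIso A).IsInvertedBy
      (G.mapHomotopyCategoryPlus ⋙ DerivedCategory.Plus.Qh) := by
  intro K L f hf
  have h1 : IsIso (DerivedCategory.Qh.map f.hom) :=
    Localization.inverts DerivedCategory.Qh (HomotopyCategory.quasiIso A _) f.hom hf
  have h2 : IsIso (G.mapDerivedCategory.map (DerivedCategory.Qh.map f.hom)) := inferInstance
  have h3 : IsIso (DerivedCategory.Qh.map ((G.mapHomotopyCategory (ComplexShape.up ℤ)).map f.hom)) := by
    have hn := G.mapDerivedCategoryFactorsh.hom.naturality f.hom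
    have : DerivedCategory.Qh.map ((G.mapHomotopyCategory (ComplexShape.up ℤ)).map f.hom) =
        G.mapDerivedCategoryFactorsh.inv.app _ ≫
          G.mapDerivedCategory.map (DerivedCategory.Qh.map f.hom) ≫
          G.mapDerivedCategoryFactorsh.hom.app _ := by
      rw [← cancel_epi (G.mapDerivedCategoryFactorsh.hom.app _), Iso.hom_inv_id_app_assoc]
      exact hn.symm
    rw [this]
    infer_instance
  have h4 : IsIso (DerivedCategory.Plus.ι.map
      ((G.mapHomotopyCategoryPlus ⋙ DerivedCategory.Plus.Qh).map f)) := h3
  exact isIso_of_fully_faithful DerivedCategory.Plus.ι _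

end

section

variable [HasDerivedCategory A] [HasDerivedCategory B] [EnoughInjectives A] [EnoughInjectives B]
variable [PreservesFiniteLimits G] [PreservesFiniteColimits G]

include adj in
/-- **Derived adjunction on `D⁺`**: if `G ⊣ F` with `G` exact, then `R⁺G ⊣ R⁺F`. -/
theorem nonempty_adj : Nonempty (G.rightDerivedFunctorPlus ⊣ F.rightDerivedFunctorPlus) := by
  have hinv := inverts (A := A) (B := B) G
  have hiso : IsIso G.rightDerivedFunctorPlusUnit :=
    Functor.isIso_of_isRightDerivedFunctor_of_inverts G.rightDerivedFunctorPlus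
      G.rightDerivedFunctorPlusUnit hinv
  let α : DerivedCategory.Plus.Qh ⋙ G.rightDerivedFunctorPlus ≅
      G.mapHomotopyCategoryPlus ⋙ DerivedCategory.Plus.Qh :=
    (asIso G.rightDerivedFunctorPlusUnit).symm
  have h1 : G.rightDerivedFunctorPlus.IsLeftDerivedFunctor α.hom
      (HomotopyCategory.Plus.quasiIso A) :=
    Functor.isLeftDerivedFunctor_of_inverts _ _ α
  have h2 : (G.rightDerivedFunctorPlus ⋙ F.rightDerivedFunctorPlus).IsLeftDerivedFunctor
      ((Functor.associator _ _ _).inv ≫ Functor.whiskerRight α.hom F.rightDerivedFunctorPlus)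
      (HomotopyCategory.Plus.quasiIso A) :=
    Functor.isLeftDerivedFunctor_of_inverts _ _
      ((Functor.associator _ _ _).symm ≪≫ Functor.isoWhiskerRight α F.rightDerivedFunctorPlus)
  have h3 : (F.rightDerivedFunctorPlus ⋙ G.rightDerivedFunctorPlus).IsRightDerivedFunctor
      (Functor.whiskerRight F.rightDerivedFunctorPlusUnit G.rightDerivedFunctorPlus ≫
        (Functor.associator _ _ _).hom)
      (HomotopyCategory.Plus.quasiIso B) := by
    refine (HomotopyCategory.Plus.localizerMorphism_derives
      ((F.mapHomotopyCategoryPlus ⋙ DerivedCategory.Plus.Qh) ⋙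
        G.rightDerivedFunctorPlus)).isRightDerivedFunctor_of_isIso _ (fun I => ?_)
    dsimp
    rw [Category.comp_id]
    infer_instance
  exact ⟨(homotopyPlusAdj adj).derived (HomotopyCategory.Plus.quasiIso A)
    (HomotopyCategory.Plus.quasiIso B) α.hom F.rightDerivedFunctorPlusUnit⟩

end

end Groth.Agent.H4.PlusAdj
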