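import Mathlib
import Groth.Prelude.Def_SixF1

/-!
# Composition of bounded below right derived functors (helper4)

`EtSix.rPlusDesc₂ θ : R⁺H ⟶ R⁺F ⋙ R⁺G` is an isomorphism when `θ : H ⟶ F ⋙ G` is an isomorphism and `F`
preserves injective objects.
-/

set_option autoImplicit false

namespace Groth.Agent.H4.PlusComp

open CategoryTheory Limits

universe v₁ v₂ v₃ u₁ u₂ u₃

attribute [local instance] HasDerivedCategory.standard

variable {A : Type u₁} [Category.{v₁} A] [Abelian A] {B : Type u₂} [Category.{v₂} B] [Abelian B]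
  {C : Type u₃} [Category.{v₃} C] [Abelian C]

lemma isIso_mapHomotopyCategory {F G : A ⥤ B} [F.Additive] [G.Additive] (α : F ⟶ G) [IsIso α] :
    IsIso (NatTrans.mapHomotopyCategory α (ComplexShape.up ℤ)) := by
  refine ⟨NatTrans.mapHomotopyCategory (inv α) (ComplexShape.up ℤ), ?_, ?_⟩
  · rw [← NatTrans.mapHomotopyCategory_comp, IsIso.hom_inv_id, NatTrans.mapHomotopyCategory_id]
  · rw [← NatTrans.mapHomotopyCategory_comp, IsIso.inv_hom_id, NatTrans.mapHomotopyCategory_id]

lemma isIso_plusNatTrans {F G : A ⥤ B} [F.Additive] [G.Additive] (α : F ⟶ G) [IsIso α] :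
    IsIso (EtSix.plusNatTrans α) := by
  have := isIso_mapHomotopyCategory α
  let ff := (HomotopyCategory.plus B).fullyFaithfulι.whiskeringRight (HomotopyCategory.Plus A)
  have h : ((Functor.whiskeringRight (HomotopyCategory.Plus A) (HomotopyCategory.plus B).FullSubcategory
      (HomotopyCategory B (ComplexShape.up ℤ))).obj (HomotopyCategory.plus B).ι).map
        (EtSix.plusNatTrans α) =
      Functor.whiskerLeft (HomotopyCategory.Plus.ι A)
        (NatTrans.mapHomotopyCategory α (ComplexShape.up ℤ)) := ff.map_preimage _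
  have h' : IsIso (((Functor.whiskeringRight (HomotopyCategory.Plus A)
      (HomotopyCategory.plus B).FullSubcategory
      (HomotopyCategory B (ComplexShape.up ℤ))).obj (HomotopyCategory.plus B).ι).map
        (EtSix.plusNatTrans α)) := by
    rw [h]
    exact (Functor.isoWhiskerLeft (HomotopyCategory.Plus.ι A)
      (asIso (NatTrans.mapHomotopyCategory α (ComplexShape.up ℤ)))).isIso_hom
  exact ff.isIso_of_isIso_map (EtSix.plusNatTrans α)

variable [HasDerivedCategory A] [HasDerivedCategory B] [HasDerivedCategory C]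

/-- `R⁺H ⟶ R⁺F ⋙ R⁺G` is an isomorphism when `H ≅ F ⋙ G` and `F` preserves injectives. -/
theorem isIso_rPlusDesc₂ {F : A ⥤ B} {G : B ⥤ C} {H : A ⥤ C} [F.Additive] [G.Additive] [H.Additive]
    [EnoughInjectives A] [EnoughInjectives B] [F.PreservesInjectiveObjects]
    (θ : H ⟶ F ⋙ G) [IsIso θ] : IsIso (EtSix.rPlusDesc₂ θ) := by
  unfold EtSix.rPlusDesc₂
  refine (Functor.isRightDerivedFunctor_iff_isIso_rightDerivedDesc _ _ _ _ _).mp ?_
  refine (HomotopyCategory.Plus.localizerMorphism_derives
    (H.mapHomotopyCategoryPlus ⋙ DerivedCategory.Plus.Qh)).isRightDerivedFunctor_of_isIso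
    _ (fun I => ?_)
  have := isIso_plusNatTrans θ
  dsimp [EtSix.rPlusUnit₂]
  simp only [Category.comp_id, Category.id_comp]
  have hinj : ∀ n : ℤ, Injective ((F.mapHomotopyCategoryPlus.obj
      ((InjectiveObject.ι A).mapHomotopyCategoryPlus.obj I)).obj.as.X n) := fun n => by
    have h0 : Injective (((InjectiveObject.ι A).mapHomotopyCategoryPlus.obj I).obj.as.X n) :=
      inferInstance
    exact Functor.PreservesInjectiveObjects.injective_obj (F := F) h0
  have h2 : IsIso (G.rightDerivedFunctorPlusUnit.app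
      (F.mapHomotopyCategoryPlus.obj ((InjectiveObject.ι A).mapHomotopyCategoryPlus.obj I))) :=
    inferInstance
  have h3 : IsIso (F.rightDerivedFunctorPlusUnit.app
      ((InjectiveObject.ι A).mapHomotopyCategoryPlus.obj I)) := inferInstance
  infer_instance

end Groth.Agent.H4.PlusComp
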