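import Mathlib
import Groth.Agent.H4.ExtZero
import Groth.Agent.H4.BigShriek

/-!
# Restriction from the big pro-étale site of `S` to the small pro-étale site of `T` preserves injectives
-/

set_option autoImplicit false
open CategoryTheory CategoryTheory.Limits AlgebraicGeometry Opposite

namespace Groth.Agent.H4.ProEtBigRes

universe u

variable {T S : Scheme.{u}} (f : T ⟶ S)

/-- left Kan extension along the inclusion of the small pro-étale site is exact. -/
instance lan_forget_preservesFiniteLimits :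
    PreservesFiniteLimits ((Scheme.ProEt.forget T).op.lan :
      ((T.ProEt)ᵒᵖ ⥤ AddCommGrpCat.{u + 1}) ⥤ (Over T)ᵒᵖ ⥤ AddCommGrpCat.{u + 1}) := by
  have hfilt : ∀ V : (Over T)ᵒᵖ, IsFiltered (CostructuredArrow (Scheme.ProEt.forget T).op V) :=
    fun V => IsFiltered.of_equivalence (structuredArrowOpEquivalence (Scheme.ProEt.forget T) (unop V))
  have hAB5 : AB5OfSize.{u, u + 1} AddCommGrpCat.{u + 1} :=
    AB5OfSize_of_univLE.{u, u + 1, u + 1, u + 1} AddCommGrpCat.{u + 1}
  have hex : ∀ V : (Over T)ᵒᵖ,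
      HasExactColimitsOfShape (CostructuredArrow (Scheme.ProEt.forget T).op V)
        AddCommGrpCat.{u + 1} :=
    fun V => inferInstance
  exact Groth.Agent.H4.ExtZero.lan_preservesFiniteLimits_of_exact AddCommGrpCat.{u + 1}
    (Scheme.ProEt.forget T).op

/-- left Kan extension along a composite is the composite of left Kan extensions. -/
noncomputable def lanCompIso :
    ((Scheme.ProEt.forget T).op.lan :
      ((T.ProEt)ᵒᵖ ⥤ AddCommGrpCat.{u + 1}) ⥤ (Over T)ᵒᵖ ⥤ AddCommGrpCat.{u + 1}) ⋙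
      ((Over.map f).op.lan : ((Over T)ᵒᵖ ⥤ AddCommGrpCat.{u + 1}) ⥤ (Over S)ᵒᵖ ⥤ AddCommGrpCat.{u + 1}) ≅
    ((Scheme.ProEt.forget T ⋙ Over.map f).op.lan :
      ((T.ProEt)ᵒᵖ ⥤ AddCommGrpCat.{u + 1}) ⥤ (Over S)ᵒᵖ ⥤ AddCommGrpCat.{u + 1}) :=
  Adjunction.leftAdjointUniq
    (((Scheme.ProEt.forget T).op.lanAdjunction AddCommGrpCat.{u + 1}).comp
      ((Over.map f).op.lanAdjunction AddCommGrpCat.{u + 1}))
    ((Scheme.ProEt.forget T ⋙ Over.map f).op.lanAdjunction AddCommGrpCat.{u + 1})

instance lan_comp_preservesFiniteLimits :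
    PreservesFiniteLimits ((Scheme.ProEt.forget T ⋙ Over.map f).op.lan :
      ((T.ProEt)ᵒᵖ ⥤ AddCommGrpCat.{u + 1}) ⥤ (Over S)ᵒᵖ ⥤ AddCommGrpCat.{u + 1}) :=
  preservesFiniteLimits_of_natIso (lanCompIso f)

theorem injective_restrict
    [(Scheme.ProEt.forget T ⋙ Over.map f).IsContinuous (Scheme.ProEt.topology T)
      (Scheme.proetaleTopology.over S)]
    (I : Sheaf (Scheme.proetaleTopology.over S) AddCommGrpCat.{u + 1}) [Injective I] :
    Injective (((Scheme.ProEt.forget T ⋙ Over.map f).sheafPushforwardContinuous AddCommGrpCat.{u + 1}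
      (Scheme.ProEt.topology T) (Scheme.proetaleTopology.over S)).obj I) := by
  have : PreservesFiniteLimits ((Scheme.ProEt.forget T ⋙ Over.map f).sheafPullback
      AddCommGrpCat.{u + 1} (Scheme.ProEt.topology T) (Scheme.proetaleTopology.over S)) :=
    Functor.sheafPullbackConstruction.preservesFiniteLimits (Scheme.ProEt.forget T ⋙ Over.map f)
      AddCommGrpCat.{u + 1} (Scheme.ProEt.topology T) (Scheme.proetaleTopology.over S)
  exact ((Scheme.ProEt.forget T ⋙ Over.map f).sheafAdjunctionContinuous AddCommGrpCat.{u + 1}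
    (Scheme.ProEt.topology T) (Scheme.proetaleTopology.over S)).map_injective I inferInstance

end Groth.Agent.H4.ProEtBigRes
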