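import Groth.Prelude.Def_ProEtS
import Groth.Prelude.Def_EtShriek2
import Mathlib.CategoryTheory.Adjunction.Unique

/-!
# `ε⁻¹` commutes with extension by zero
-/

set_option autoImplicit false
universe u

open CategoryTheory CategoryTheory.Limits AlgebraicGeometry Opposite ProEtS EtShriek

namespace Groth.Agent.H4.ProEtEps

variable {U X : Scheme.{u}} (j : U ⟶ X) [hj : Etale j]

set_option backward.isDefEq.respectTransparency.types false in
/-- The two composite site functors `U.Etale ⥤ X.ProEt` agree. -/
noncomputable def siteIso : eps U ⋙ compP j ≅ compEtale j ⋙ eps X :=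
  NatIso.ofComponents (fun V => MorphismProperty.Over.isoMk (Iso.refl _) (by
    change 𝟙 _ ≫ V.hom ≫ j = V.hom ≫ j
    exact Category.id_comp _)) (by
    intro V W g
    apply MorphismProperty.Over.Hom.ext
    change g.left ≫ 𝟙 _ = 𝟙 _ ≫ g.left
    rw [Category.comp_id, Category.id_comp])

variable [JCont j] [JPCont j] [EpsCont U] [EpsCont X]

/-- `j^{-1} ε_* ≅ ε_* j^{-1}`. -/
noncomputable def pushIso : restrP j ⋙ epsPush U ≅ epsPush X ⋙ restrAlong j :=
  haveI : (compEtale j ⋙ eps X).IsContinuous U.smallEtaleTopology (Scheme.ProEt.topology X) :=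
    Functor.isContinuous_comp _ _ _ X.smallEtaleTopology _
  Functor.sheafPushforwardContinuousComp' (siteIso j) AddCommGrpCat.{u + 1}
      U.smallEtaleTopology (Scheme.ProEt.topology U) (Scheme.ProEt.topology X) ≪≫
    (Functor.sheafPushforwardContinuousComp (compEtale j) (eps X) AddCommGrpCat.{u + 1}
      U.smallEtaleTopology X.smallEtaleTopology (Scheme.ProEt.topology X)).symm

/-- `ε⁻¹ j_! ≅ j_! ε⁻¹`. -/
noncomputable def pullIso : extZero j ⋙ epsPull X ≅ epsPull U ⋙ extZeroP j :=
  ((extZeroAdj j).comp (epsAdj X)).leftAdjointUniq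
    (((epsAdj U).comp (extZeroPAdj j)).ofNatIsoRight (pushIso j))

end Groth.Agent.H4.ProEtEps
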