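import Mathlib
import Groth.Agent.H4.GlueSec
import Groth.Agent.H4.PropA
import Groth.Prelude.Def_BigSite

/-!
# Condition (C) + closed ⟹ base change is almost cocontinuous
-/

set_option autoImplicit false
open CategoryTheory CategoryTheory.Limits AlgebraicGeometry Opposite
universe u
open EtCoh Groth.Agent.H4.Stalks Groth.Agent.H4.GlueSec

namespace Groth.Agent.H4.PropC

variable {X Y : Scheme.{u}} (f : X ⟶ Y)

/-- the empty sieve covers an étale scheme with empty underlying space. -/
theorem bot_mem_of_isEmpty (U : X.Etale) [IsEmpty U.left] :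
    (⊥ : Sieve U) ∈ X.smallEtaleTopology U := by
  rw [mem_smallEtaleTopology_iff]
  intro x
  exact (IsEmpty.false x).elim

section Plain

variable {VV V₁ UL B : Scheme.{u}} (vV : VV ⟶ Y) (v₁ : V₁ ⟶ VV) (aL : UL ⟶ pullback vV f)
  (h : pullback (pullback.snd f vV) v₁ ⟶ UL)
  (hh : h ≫ aL ≫ (pullbackSymmetry vV f).hom = pullback.fst (pullback.snd f vV) v₁)

include hh in
theorem exists_factor (bk : B ⟶ pullback vV f) (b₁ : B ⟶ V₁)
    (hb : bk ≫ pullback.fst vV f = b₁ ≫ v₁) : ∃ m : B ⟶ UL, m ≫ aL = bk := by
  have hc : (bk ≫ (pullbackSymmetry vV f).hom) ≫ pullback.snd f vV = b₁ ≫ v₁ := by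
    rw [Category.assoc, pullbackSymmetry_hom_comp_snd, hb]
  refine ⟨pullback.lift _ _ hc ≫ h, ?_⟩
  rw [← cancel_mono (pullbackSymmetry vV f).hom, Category.assoc, Category.assoc, hh,
    pullback.lift_fst]

include hh in
theorem point_eq (q : ↥(pullback (pullback.snd f vV) v₁)) :
    v₁ (pullback.snd (pullback.snd f vV) v₁ q) = pullback.fst vV f (aL (h q)) := by
  rw [← Scheme.Hom.comp_apply, ← pullback.condition, ← hh]
  simp only [Scheme.Hom.comp_apply]
  rw [← Scheme.Hom.comp_apply (pullbackSymmetry vV f).hom, pullbackSymmetry_hom_comp_snd]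

theorem range_fst_eq : Set.range (pullback.fst vV f) = Set.range (pullback.snd f vV) := by
  rw [← pullbackSymmetry_hom_comp_snd vV f]
  ext t
  constructor
  · rintro ⟨s, rfl⟩
    exact ⟨(pullbackSymmetry vV f).hom s, rfl⟩
  · rintro ⟨s, rfl⟩
    refine ⟨(pullbackSymmetry vV f).inv s, ?_⟩
    rw [Scheme.Hom.comp_apply, ← Scheme.Hom.comp_apply (pullbackSymmetry vV f).inv,
      Iso.inv_hom_id]
    rfl

end Plain

set_option backward.isDefEq.respectTransparency.types false in
theorem almostCocontinuous
    (hC : ∀ (V : Scheme.{u}) (v : V ⟶ Y) [Etale v], BigSite.PropC (pullback.snd f v))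
    (hcl : ∀ (V : Scheme.{u}) (v : V ⟶ Y) [Etale v], IsClosedMap (pullback.snd f v).base) :
    BigSite.IsAlmostCocontinuous (EtCoh.bc f) Y.smallEtaleTopology X.smallEtaleTopology := by
  intro V R hR
  have hVet : Etale V.hom := V.prop
  let R' : Sieve V :=
    { arrows := fun V' g => (⊥ : Sieve ((bc f).obj V')) ∈ X.smallEtaleTopology ((bc f).obj V') ∨
        R ((bc f).map g)
      downward_closed := by
        rintro V' V'' g hg g'
        rcases hg with hg | hg
        · left
          have h1 := X.smallEtaleTopology.pullback_stable ((bc f).map g') hg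
          have h2 : Sieve.pullback ((bc f).map g') (⊥ : Sieve ((bc f).obj V')) = ⊥ := by
            ext W k
            simp
          rwa [h2] at h1
        · right
          rw [Functor.map_comp]
          exact R.downward_closed hg _ }
  refine ⟨R', ?_, fun V' g hg => hg⟩
  rw [mem_smallEtaleTopology_iff]
  intro y
  by_cases hy : y ∈ Set.range (pullback.fst V.hom f)
  · obtain ⟨x, hx⟩ := hy
    rw [mem_smallEtaleTopology_iff] at hR
    obtain ⟨𝒰, a, u, haR, hau⟩ := hR x
    have : Etale a.left := inferInstance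
    have : Etale (a.left ≫ (pullbackSymmetry V.hom f).hom) := inferInstance
    obtain ⟨V₁, v₁, hv₁, h, hh, hsurj⟩ := hC V.left V.hom 𝒰.left
      (a.left ≫ (pullbackSymmetry V.hom f).hom)
    let V' : Y.Etale := Scheme.Etale.mk (v₁ ≫ V.hom)
    let k : V' ⟶ V := MorphismProperty.Over.homMk v₁ rfl trivial
    obtain ⟨q, hq⟩ := hsurj.surj u
    refine ⟨V', k, pullback.snd (pullback.snd f V.hom) v₁ q, Or.inr ?_, ?_⟩
    · -- `bc k` factors through `a`
      have sq := isPullback_bc_map f k
      obtain ⟨m, hm⟩ := exists_factor f V.hom v₁ a.left h hh ((bc f).map k).left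
        (pullback.fst V'.hom f) sq.w
      have hm2 : m ≫ 𝒰.hom = ((bc f).obj V').hom := by
        have h1 : a.left ≫ ((bc f).obj V).hom = 𝒰.hom := Over.w a.hom
        have h2 : ((bc f).map k).left ≫ ((bc f).obj V).hom = ((bc f).obj V').hom :=
          Over.w ((bc f).map k).hom
        exact ((congrArg (fun t => m ≫ t) h1).symm.trans
          ((Category.assoc _ _ _).symm.trans ((congrArg (fun t => t ≫ ((bc f).obj V).hom) hm).trans h2)))
      let m' : (bc f).obj V' ⟶ 𝒰 := MorphismProperty.Over.homMk m hm2 trivial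
      have : (bc f).map k = m' ≫ a := by
        apply MorphismProperty.Over.Hom.ext
        exact hm.symm
      show R ((bc f).map k)
      rw [this]
      exact R.downward_closed haR m'
    · show v₁ (pullback.snd (pullback.snd f V.hom) v₁ q) = y
      refine (point_eq f V.hom v₁ a.left h hh q).trans ?_
      rw [hq]
      exact (congrArg (fun t => (pullback.fst V.hom f) t) hau).trans hx
  · -- `y` outside the (closed) image of `X ×_Y V ⟶ V`
    have hclosed : IsClosed (Set.range (pullback.fst V.hom f)) := by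
      rw [range_fst_eq]
      exact (hcl V.left V.hom).isClosed_range
    let V₀ : V.left.Opens := ⟨(Set.range (pullback.fst V.hom f))ᶜ, hclosed.isOpen_compl⟩
    have hyV₀ : y ∈ Set.range (opnι V V₀).left := by rw [range_opnι]; exact hy
    obtain ⟨y₀, hy₀⟩ := hyV₀
    refine ⟨opn V V₀, opnι V V₀, y₀, Or.inl ?_, hy₀⟩
    have : IsEmpty ((bc f).obj (opn V V₀)).left := by
      constructor
      intro t
      have sq := isPullback_bc_map f (opnι V V₀)
      have h1 : (pullback.fst V.hom f) (((bc f).map (opnι V V₀)).left t) =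
          (opnι V V₀).left ((pullback.fst (opn V V₀).hom f : ((bc f).obj (opn V V₀)).left ⟶ (opn V V₀).left) t) :=
        congrArg (fun (q : ((bc f).obj (opn V V₀)).left ⟶ V.left) => q t) sq.w
      have h2 : (opnι V V₀).left ((pullback.fst (opn V V₀).hom f : ((bc f).obj (opn V V₀)).left ⟶ (opn V V₀).left) t) ∈ (V₀ : Set V.left) := by
        rw [← range_opnι]; exact ⟨_, rfl⟩
      rw [← h1] at h2
      exact h2 ⟨_, rfl⟩
    exact bot_mem_of_isEmpty _

end Groth.Agent.H4.PropC
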