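import Mathlib
import Groth.Agent.H4.GlueSec
import Groth.Agent.H4.PropC
import Groth.Agent.H4.PropCSh
import Groth.Prelude.Def_BigSite
import Groth.Prelude.Def_SGA4b

/-!
# Condition (B) ⟹ direct image of sheaves of sets preserves epimorphisms
-/

set_option autoImplicit false
open CategoryTheory CategoryTheory.Limits AlgebraicGeometry Opposite
universe u
open EtCoh Groth.Agent.H4.Stalks Groth.Agent.H4.GlueSec

namespace Groth.Agent.H4.PropBSh

variable {X Y : Scheme.{u}}

/-- gluing sections of a sheaf of sets along a jointly surjective family. -/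
theorem exists_glue_sh (G : EtDesc.Sh X) {U : X.Etale} {ι : Type*} (Z : ι → X.Etale)
    (f : ∀ i, Z i ⟶ U) (hcov : ⋃ i, Set.range (f i).left = Set.univ)
    (x : ∀ i, G.obj.obj (op (Z i)))
    (compat : ∀ (i j : ι) (T : X.Etale) (gi : T ⟶ Z i) (gj : T ⟶ Z j), gi ≫ f i = gj ≫ f j →
      G.obj.map gi.op (x i) = G.obj.map gj.op (x j)) :
    ∃ s : G.obj.obj (op U), ∀ i, G.obj.map (f i).op s = x i := by
  have hG : Presieve.IsSheaf X.smallEtaleTopology G.obj := (isSheaf_iff_isSheaf_of_type _ _).mp G.2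
  have hmem : Sieve.ofArrows Z f ∈ X.smallEtaleTopology U :=
    (Scheme.ofArrows_mem_smallEtaleTopology_iff f).2 hcov
  have hsf : Presieve.IsSheafFor G.obj (Presieve.ofArrows Z f) := by
    rw [Presieve.isSheafFor_iff_generate]
    exact hG _ hmem
  rw [Presieve.isSheafFor_arrows_iff] at hsf
  obtain ⟨s, hs, -⟩ := hsf x (fun i j T gi gj h => compat i j T gi gj h)
  exact ⟨s, hs⟩

/-- sections of a sheaf of sets agreeing on a jointly surjective family agree. -/
theorem eq_of_cover_sh (G : EtDesc.Sh X) {U : X.Etale} {ι : Type*} (Z : ι → X.Etale)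
    (f : ∀ i, Z i ⟶ U) (hcov : ⋃ i, Set.range (f i).left = Set.univ)
    (s₁ s₂ : G.obj.obj (op U)) (h : ∀ i, G.obj.map (f i).op s₁ = G.obj.map (f i).op s₂) :
    s₁ = s₂ := by
  have hmem : Sieve.ofArrows Z f ∈ X.smallEtaleTopology U :=
    (Scheme.ofArrows_mem_smallEtaleTopology_iff f).2 hcov
  have hsep := ((isSheaf_iff_isSheaf_of_type _ _).1 G.2).isSeparated _ hmem
  apply hsep.ext
  rintro T k ⟨_, k', _, ⟨i⟩, rfl⟩
  rw [op_comp, Functor.map_comp]
  exact congrArg (G.obj.map k'.op) (h i)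

/-- a sheaf of sets has at most one section over an empty étale scheme. -/
theorem subsingleton_of_isEmpty_sh (G : EtDesc.Sh X) (T : X.Etale) [IsEmpty T.left] :
    Subsingleton (G.obj.obj (op T)) := by
  constructor
  intro s₁ s₂
  have hmem := Groth.Agent.H4.PropC.bot_mem_of_isEmpty T
  have hsep := ((isSheaf_iff_isSheaf_of_type _ _).1 G.2).isSeparated _ hmem
  apply hsep.ext
  intro T' k hk
  exact hk.elim

section Plain

variable (f : X ⟶ Y) {VV V₁ UL : Scheme.{u}} (vV : VV ⟶ Y) (v₁ : V₁ ⟶ VV)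
  (bk : pullback (v₁ ≫ vV) f ⟶ pullback vV f)
  (hb1 : bk ≫ pullback.fst vV f = pullback.fst (v₁ ≫ vV) f ≫ v₁)
  (hb2 : bk ≫ pullback.snd vV f = pullback.snd (v₁ ≫ vV) f)

include hb1 hb2 in
theorem map_eq' (m : pullback f (v₁ ≫ vV) ⟶ pullback f vV)
    (hm1 : m ≫ pullback.fst f vV = pullback.fst f (v₁ ≫ vV))
    (hm2 : m ≫ pullback.snd f vV = pullback.snd f (v₁ ≫ vV) ≫ v₁) :
    (pullbackSymmetry (v₁ ≫ vV) f).hom ≫ m = bk ≫ (pullbackSymmetry vV f).hom := by
  apply pullback.hom_ext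
  · rw [Category.assoc, Category.assoc, pullbackSymmetry_hom_comp_fst, hb2, hm1,
      pullbackSymmetry_hom_comp_fst]
  · rw [Category.assoc, Category.assoc, pullbackSymmetry_hom_comp_snd, hb1, hm2,
      ← Category.assoc, pullbackSymmetry_hom_comp_snd]

include hb1 hb2 in
theorem map_eq :
    (pullbackSymmetry (v₁ ≫ vV) f).hom ≫
        pullback.map f (v₁ ≫ vV) f vV (𝟙 X) v₁ (𝟙 Y) (by simp) (by simp) =
      bk ≫ (pullbackSymmetry vV f).hom :=
  map_eq' f vV v₁ bk hb1 hb2 _ ((pullback.lift_fst _ _ _).trans (Category.comp_id _))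
    (pullback.lift_snd _ _ _)

include hb1 hb2 in
theorem key (W : (pullback f (v₁ ≫ vV)).Opens) (gL : UL ⟶ pullback vV f)
    (h : (W : Scheme.{u}) ⟶ UL)
    (hh : h ≫ gL ≫ (pullbackSymmetry vV f).hom =
      W.ι ≫ pullback.map f (v₁ ≫ vV) f vV (𝟙 X) v₁ (𝟙 Y) (by simp) (by simp)) :
    (((pullbackSymmetry (v₁ ≫ vV) f).hom ∣_ W) ≫ h) ≫ gL =
      ((pullbackSymmetry (v₁ ≫ vV) f).hom ⁻¹ᵁ W).ι ≫ bk := by
  have e := map_eq f vV v₁ bk hb1 hb2
  rw [← cancel_mono (pullbackSymmetry vV f).hom]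
  refine (Category.assoc _ _ _).trans ((Category.assoc _ _ _).trans ?_)
  rw [hh]
  refine (Category.assoc _ _ _).symm.trans ?_
  rw [morphismRestrict_ι]
  refine (Category.assoc _ _ _).trans ?_
  rw [e]
  exact (Category.assoc _ _ _).symm

theorem iso_hom_inv_apply {A B : Scheme.{u}} (e : A ≅ B) (b : B) : e.hom (e.inv b) = b := by
  rw [← Scheme.Hom.comp_apply, e.inv_hom_id]
  rfl

end Plain

variable (f : X ⟶ Y)

set_option backward.isDefEq.respectTransparency.types false in
theorem preservesEpi (hB : BigSite.PropB f) : (EtDesc.pushSh f).PreservesEpimorphisms := by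
  constructor
  intro G F a hepi
  rw [← Sheaf.isLocallySurjective_iff_epi] at hepi ⊢
  constructor
  intro V t
  rw [mem_smallEtaleTopology_iff]
  intro y
  have hVet : Etale V.hom := V.prop
  have hloc := hepi.imageSieve_mem (U := (bc f).obj V) t
  rw [mem_smallEtaleTopology_iff] at hloc
  choose 𝒰 g u hg hu using hloc
  choose r hr using hg
  obtain ⟨κ, V', v', hv', hcov', hdec⟩ := hB V.left V.hom (↥(pullback f V.hom))
    (fun x' => (𝒰 ((pullbackSymmetry V.hom f).inv x')).left)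
    (fun x' => (g ((pullbackSymmetry V.hom f).inv x')).left ≫ (pullbackSymmetry V.hom f).hom)
    (fun x' => inferInstance)
    (fun x' => ⟨x', ⟨u ((pullbackSymmetry V.hom f).inv x'),
      (congrArg (fun q => (pullbackSymmetry V.hom f).hom q)
        (hu ((pullbackSymmetry V.hom f).inv x'))).trans (iso_hom_inv_apply _ x')⟩⟩)
  obtain ⟨j, y', hy'⟩ := hcov' y
  have := hv' j
  obtain ⟨μ, W, hdisj, hsup, hfac⟩ := hdec j
  choose i h hh using hfac
  let V'' : Y.Etale := Scheme.Etale.mk (v' j ≫ V.hom)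
  let k : V'' ⟶ V := MorphismProperty.Over.homMk (v' j) rfl trivial
  refine ⟨V'', k, y', ?_, hy'⟩
  have sq := isPullback_bc_map f k
  have hb2 : ((bc f).map k).left ≫ pullback.snd V.hom f = pullback.snd (v' j ≫ V.hom) f :=
    Over.w ((bc f).map k).hom
  let W' : μ → ((bc f).obj V'').left.Opens :=
    fun a => (pullbackSymmetry (v' j ≫ V.hom) f).hom ⁻¹ᵁ W a
  let N : μ → X.Etale := fun a => opn ((bc f).obj V'') (W' a)
  let x : μ → ((bc f).obj V).left := fun a => (pullbackSymmetry V.hom f).inv (i a)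
  have hkey : ∀ a, (((pullbackSymmetry (v' j ≫ V.hom) f).hom ∣_ W a) ≫ h a) ≫ (g (x a)).left =
      (W' a).ι ≫ ((bc f).map k).left := fun a =>
    key f V.hom (v' j) ((bc f).map k).left sq.w hb2 (W a) (g (x a)).left (h a)
      ((Category.assoc _ _ _).symm.trans (hh a))
  have hm2 : ∀ a, (((pullbackSymmetry (v' j ≫ V.hom) f).hom ∣_ W a) ≫ h a) ≫ (𝒰 (x a)).hom =
      (N a).hom := by
    intro a
    have h1 : (g (x a)).left ≫ ((bc f).obj V).hom = (𝒰 (x a)).hom := Over.w (g (x a)).hom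
    have h2 : ((bc f).map k).left ≫ ((bc f).obj V).hom = ((bc f).obj V'').hom :=
      Over.w ((bc f).map k).hom
    exact (congrArg (fun q => _ ≫ q) h1).symm.trans ((Category.assoc _ _ _).symm.trans
      ((congrArg (fun q => q ≫ ((bc f).obj V).hom) (hkey a)).trans
        ((Category.assoc _ _ _).trans (congrArg (fun q => (W' a).ι ≫ q) h2))))
  let m : ∀ a, N a ⟶ 𝒰 (x a) := fun a => MorphismProperty.Over.homMk
    (show (N a).left ⟶ (𝒰 (x a)).left from
      ((pullbackSymmetry (v' j ≫ V.hom) f).hom ∣_ W a) ≫ h a) (hm2 a) trivial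
  have hm : ∀ a, m a ≫ g (x a) = opnι _ (W' a) ≫ (bc f).map k := by
    intro a
    apply MorphismProperty.Over.Hom.ext
    exact hkey a
  let ρ : ∀ a, G.obj.obj (op (N a)) := fun a => G.obj.map (m a).op (r (x a))
  have hcovN : ⋃ a, Set.range (opnι ((bc f).obj V'') (W' a)).left = Set.univ := by
    ext p
    simp only [Set.mem_iUnion, Set.mem_univ, iff_true]
    have hp : (pullbackSymmetry (v' j ≫ V.hom) f).hom p ∈ (⨆ a, W a) := by rw [hsup]; trivial
    obtain ⟨a, ha⟩ := TopologicalSpace.Opens.mem_iSup.1 hp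
    refine ⟨a, ?_⟩
    rw [range_opnι]
    exact ha
  obtain ⟨ρ₀, hρ₀⟩ := exists_glue_sh G N (fun a => opnι _ (W' a)) hcovN ρ (by
    intro a b T gi gj e
    by_cases hab : a = b
    · subst hab
      have : gi = gj := (cancel_mono (opnι _ (W' a))).1 e
      rw [this]
    · have : IsEmpty T.left := by
        constructor
        intro t
        have e1 : gi.left ≫ (W' a).ι = gj.left ≫ (W' b).ι := congrArg (fun q => q.left) e
        have e2 : (W' a).ι (gi.left t) = (W' b).ι (gj.left t) :=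
          congrArg (fun (q : T.left ⟶ ((bc f).obj V'').left) => q t) e1
        have h1 : (W' a).ι (gi.left t) ∈ (W' a : Set ((bc f).obj V'').left) := (gi.left t).2
        have h2 : (W' b).ι (gj.left t) ∈ (W' b : Set ((bc f).obj V'').left) := (gj.left t).2
        rw [← e2] at h2
        have h3 : (pullbackSymmetry (v' j ≫ V.hom) f).hom ((W' a).ι (gi.left t)) ∈ W a ⊓ W b :=
          ⟨h1, h2⟩
        rw [(hdisj a b hab).eq_bot] at h3
        exact h3
      have := subsingleton_of_isEmpty_sh G T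
      exact Subsingleton.elim _ _)
  refine ⟨ρ₀, ?_⟩
  show a.hom.app (op ((bc f).obj V'')) ρ₀ = F.obj.map ((bc f).map k).op t
  apply eq_of_cover_sh F N (fun a => opnι _ (W' a)) hcovN
  intro b
  have n1 := NatTrans.naturality_apply a.hom (opnι ((bc f).obj V'') (W' b)).op ρ₀
  have n2 := NatTrans.naturality_apply a.hom (m b).op (r (x b))
  have hr' : a.hom.app (op (𝒰 (x b))) (r (x b)) = F.obj.map (g (x b)).op t := hr (x b)
  rw [← n1, hρ₀ b]
  show a.hom.app (op (N b)) (G.obj.map (m b).op (r (x b))) = _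
  rw [n2, hr']
  have e1 : F.obj.map (m b).op (F.obj.map (g (x b)).op t) = F.obj.map (m b ≫ g (x b)).op t := by
    rw [op_comp, Functor.map_comp]; rfl
  have e2 : F.obj.map (opnι ((bc f).obj V'') (W' b)).op (F.obj.map ((bc f).map k).op t) =
      F.obj.map (opnι ((bc f).obj V'') (W' b) ≫ (bc f).map k).op t := by
    rw [op_comp, Functor.map_comp]; rfl
  rw [e1, e2, hm b]

end Groth.Agent.H4.PropBSh
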