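import Groth.Prelude.Def_ClSub2
import Mathlib.AlgebraicGeometry.Morphisms.Proper
import Mathlib.AlgebraicGeometry.Morphisms.UniversallyClosed
import Mathlib.AlgebraicGeometry.IdealSheaf.Functorial
import Mathlib.AlgebraicGeometry.PullbackCarrier

set_option autoImplicit false
universe u

namespace Groth.Agent.H4

open AlgebraicGeometry CategoryTheory Limits

variable {X Y S : Scheme.{u}}

/-- A finite, jointly surjective family `r i : T i ⟶ Y` with all `r i ≫ g` universally closed
forces `g` to be universally closed. -/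
theorem universallyClosed_of_finite_jointly_surjective {ι : Type*} [Finite ι]
    {T : ι → Scheme.{u}} (r : ∀ i, T i ⟶ Y) (g : Y ⟶ S)
    (hr : ∀ y : Y, ∃ i, y ∈ Set.range (r i)) (h : ∀ i, UniversallyClosed (r i ≫ g)) :
    UniversallyClosed g := by
  constructor
  intro X' Y' i₁ i₂ f' H C hC
  have key : ∀ i, IsClosedMap (pullback.fst i₁ (r i) ≫ f') := fun i =>
    (h i).universally_isClosedMap _ _ _ ((IsPullback.of_hasPullback i₁ (r i)).paste_horiz H)
  have hC' : (f' : X' → Y') '' C =
      ⋃ i, (pullback.fst i₁ (r i) ≫ f') '' ((pullback.fst i₁ (r i)) ⁻¹' C) := by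
    ext y
    simp only [Set.mem_image, Set.mem_iUnion, Set.mem_preimage]
    constructor
    · rintro ⟨x, hx, rfl⟩
      obtain ⟨i, t, ht⟩ := hr (i₁ x)
      obtain ⟨z, hz1, -⟩ := Scheme.Pullback.exists_preimage_pullback (f := i₁) (g := r i) x t ht.symm
      exact ⟨i, z, by rwa [hz1], by rw [Scheme.Hom.comp_apply, hz1]⟩
    · rintro ⟨i, z, hz, rfl⟩
      exact ⟨_, hz, by rw [Scheme.Hom.comp_apply]⟩
  rw [hC']
  exact isClosed_iUnion_of_finite fun i =>
    key i _ (hC.preimage (pullback.fst i₁ (r i)).continuous)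


/-- A finite, jointly surjective family of universally closed `r i : T i ⟶ Y` with all
`r i ≫ g` separated forces `g` to be separated. -/
theorem isSeparated_of_finite_jointly_surjective {ι : Type*} [Finite ι]
    {T : ι → Scheme.{u}} (r : ∀ i, T i ⟶ Y) (g : Y ⟶ S)
    (hr : ∀ y : Y, ∃ i, y ∈ Set.range (r i)) (hrc : ∀ i, UniversallyClosed (r i))
    (h : ∀ i, IsSeparated (r i ≫ g)) : IsSeparated g := by
  constructor
  rw [IsClosedImmersion.iff_isPreimmersion]
  refine ⟨inferInstance, ?_⟩
  let rr : ∀ i, pullback (r i ≫ g) (r i ≫ g) ⟶ pullback g g := fun i =>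
    pullback.map (r i ≫ g) (r i ≫ g) g g (r i) (r i) (𝟙 S) (by simp) (by simp)
  have h1 : ∀ i, pullback.diagonal (r i ≫ g) ≫ rr i = r i ≫ pullback.diagonal g := by
    intro i
    apply pullback.hom_ext <;>
      simp only [rr, Category.assoc, pullback.lift_fst, pullback.lift_snd, pullback.diagonal_fst,
        pullback.diagonal_snd, pullback.diagonal_fst_assoc, pullback.diagonal_snd_assoc,
        Category.comp_id]
  have hrr : ∀ i, UniversallyClosed (rr i) := fun i =>
    MorphismProperty.pullbackMap (P := @UniversallyClosed) (hrc i) (hrc i) rfl rfl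
  have hrange : Set.range (pullback.diagonal g) =
      ⋃ i, (rr i) '' (Set.range (pullback.diagonal (r i ≫ g))) := by
    ext z
    simp only [Set.mem_range, Set.mem_iUnion, Set.mem_image]
    constructor
    · rintro ⟨y, rfl⟩
      obtain ⟨i, t, rfl⟩ := hr y
      refine ⟨i, _, ⟨t, rfl⟩, ?_⟩
      rw [← Scheme.Hom.comp_apply, h1, Scheme.Hom.comp_apply]
    · rintro ⟨i, _, ⟨t, rfl⟩, rfl⟩
      refine ⟨r i t, ?_⟩
      rw [← Scheme.Hom.comp_apply, ← h1, Scheme.Hom.comp_apply]
  rw [hrange]
  exact isClosed_iUnion_of_finite fun i =>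
    (rr i).isClosedMap _ (pullback.diagonal (r i ≫ g)).isClosedEmbedding.isClosed_range

/-- A finite, jointly surjective family of universally closed `r i : T i ⟶ Y` with all
`r i ≫ g` proper, and `g` locally of finite type, forces `g` to be proper. -/
theorem isProper_of_finite_jointly_surjective {ι : Type*} [Finite ι]
    {T : ι → Scheme.{u}} (r : ∀ i, T i ⟶ Y) (g : Y ⟶ S) [LocallyOfFiniteType g]
    (hr : ∀ y : Y, ∃ i, y ∈ Set.range (r i)) (hrc : ∀ i, UniversallyClosed (r i))
    (h : ∀ i, IsProper (r i ≫ g)) : IsProper g where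
  toIsSeparated := isSeparated_of_finite_jointly_surjective r g hr hrc fun _ => inferInstance
  toUniversallyClosed := universallyClosed_of_finite_jointly_surjective r g hr fun _ =>
    inferInstance

/-- If `r` is surjective and universally closed, `g` is locally of finite type and `r ≫ g` is
proper, then `g` is proper. -/
theorem isProper_of_comp_surjective {T : Scheme.{u}} (r : T ⟶ Y) (g : Y ⟶ S)
    [LocallyOfFiniteType g] [Surjective r] [UniversallyClosed r] [IsProper (r ≫ g)] :
    IsProper g :=
  isProper_of_finite_jointly_surjective (ι := PUnit.{1}) (fun _ => r) g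
    (fun y => ⟨PUnit.unit, r.surjective y⟩) (fun _ => inferInstance) (fun _ => inferInstance)

end Groth.Agent.H4
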