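import Groth.Agent.H4.ProperOver2
import Groth.Agent.H1.Descent
import Groth.Agent.S12496

/-!
# Closed subsets proper over a base: monotonicity, unions, étale descent (helper4)
-/

set_option autoImplicit false
universe u

namespace Groth.Agent.H4.ProperSupp

open AlgebraicGeometry CategoryTheory Limits Scheme.IdealSheafData Groth.Agent.H4

variable {U S : Scheme.{u}}

theorem subschemeι_mem (Z : Set U) (h : IsClosed Z) (y : (vanishingIdeal ⟨Z, h⟩).subscheme) :
    (vanishingIdeal ⟨Z, h⟩).subschemeι y ∈ Z := by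
  have : (vanishingIdeal ⟨Z, h⟩).subschemeι y ∈ Set.range (vanishingIdeal ⟨Z, h⟩).subschemeι :=
    ⟨y, rfl⟩
  rwa [range_vanishingIdeal_subschemeι] at this

theorem exists_subschemeι_eq (Z : Set U) (h : IsClosed Z) (x : U) (hx : x ∈ Z) :
    ∃ t, (vanishingIdeal ⟨Z, h⟩).subschemeι t = x := by
  have : x ∈ Set.range (vanishingIdeal ⟨Z, h⟩).subschemeι := by
    rwa [range_vanishingIdeal_subschemeι]
  exact this

/-- a closed subset of a closed subset proper over `S` is proper over `S`. -/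
theorem isProperOver_mono (g : U ⟶ S) {Z Z' : Set U} (h : ClSub.IsProperOver g Z)
    (hcl : IsClosed Z') (hsub : Z' ⊆ Z) : ClSub.IsProperOver g Z' := by
  obtain ⟨hZ, hp⟩ := h
  refine ⟨hcl, ?_⟩
  have hle : vanishingIdeal ⟨Z, hZ⟩ ≤ vanishingIdeal ⟨Z', hcl⟩ := by
    apply vanishingIdeal_antimono
    exact hsub
  have e : inclusion hle ≫ (vanishingIdeal ⟨Z, hZ⟩).subschemeι =
      (vanishingIdeal ⟨Z', hcl⟩).subschemeι := inclusion_subschemeι hle
  rw [← e, Category.assoc]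
  infer_instance

/-- the union of two closed subsets proper over `S` is proper over `S`. -/
theorem isProperOver_union (g : U ⟶ S) [LocallyOfFiniteType g] {Z₁ Z₂ : Set U}
    (h₁ : ClSub.IsProperOver g Z₁) (h₂ : ClSub.IsProperOver g Z₂) :
    ClSub.IsProperOver g (Z₁ ∪ Z₂) := by
  obtain ⟨hZ₁, hp₁⟩ := h₁
  obtain ⟨hZ₂, hp₂⟩ := h₂
  have hcl : IsClosed (Z₁ ∪ Z₂) := hZ₁.union hZ₂
  refine ⟨hcl, ?_⟩
  have hle₁ : vanishingIdeal ⟨Z₁ ∪ Z₂, hcl⟩ ≤ vanishingIdeal ⟨Z₁, hZ₁⟩ :=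
    vanishingIdeal_antimono (Set.subset_union_left)
  have hle₂ : vanishingIdeal ⟨Z₁ ∪ Z₂, hcl⟩ ≤ vanishingIdeal ⟨Z₂, hZ₂⟩ :=
    vanishingIdeal_antimono (Set.subset_union_right)
  let T : Bool → Scheme.{u} := fun b =>
    if b then (vanishingIdeal ⟨Z₁, hZ₁⟩).subscheme else (vanishingIdeal ⟨Z₂, hZ₂⟩).subscheme
  let r : ∀ b, T b ⟶ (vanishingIdeal ⟨Z₁ ∪ Z₂, hcl⟩).subscheme := fun b => by
    cases b
    · exact inclusion hle₂
    · exact inclusion hle₁
  refine isProper_of_finite_jointly_surjective r _ ?_ ?_ ?_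
  · intro y
    have hy : (vanishingIdeal ⟨Z₁ ∪ Z₂, hcl⟩).subschemeι y ∈ Z₁ ∪ Z₂ :=
      subschemeι_mem _ hcl y
    rcases hy with hy | hy
    · refine ⟨true, ?_⟩
      obtain ⟨t, ht⟩ := exists_subschemeι_eq Z₁ hZ₁ _ hy
      refine ⟨t, ?_⟩
      apply (vanishingIdeal ⟨Z₁ ∪ Z₂, hcl⟩).subschemeι.isEmbedding.injective
      rw [← ht, ← Scheme.Hom.comp_apply]
      show (inclusion hle₁ ≫ _) t = _
      rw [inclusion_subschemeι]
    · refine ⟨false, ?_⟩
      obtain ⟨t, ht⟩ := exists_subschemeι_eq Z₂ hZ₂ _ hy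
      refine ⟨t, ?_⟩
      apply (vanishingIdeal ⟨Z₁ ∪ Z₂, hcl⟩).subschemeι.isEmbedding.injective
      rw [← ht, ← Scheme.Hom.comp_apply]
      show (inclusion hle₂ ≫ _) t = _
      rw [inclusion_subschemeι]
  · intro b
    cases b
    · show UniversallyClosed (inclusion hle₂); infer_instance
    · show UniversallyClosed (inclusion hle₁); infer_instance
  · intro b
    cases b
    · show IsProper (inclusion hle₂ ≫ _ ≫ g)
      rw [← Category.assoc, inclusion_subschemeι]; exact hp₂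
    · show IsProper (inclusion hle₁ ≫ _ ≫ g)
      rw [← Category.assoc, inclusion_subschemeι]; exact hp₁

/-- the empty set is proper over `S`. -/
theorem isProperOver_empty (g : U ⟶ S) [LocallyOfFiniteType g] :
    ClSub.IsProperOver g (∅ : Set U) := by
  refine ⟨isClosed_empty, ?_⟩
  refine isProper_of_finite_jointly_surjective (ι := PEmpty.{1}) (T := fun i => i.elim)
    (fun i => i.elim) _ ?_ (fun i => i.elim) (fun i => i.elim)
  intro y
  exact (subschemeι_mem (∅ : Set U) isClosed_empty y).elim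

/-- properness over `S` of a closed subset can be checked on an étale covering of `S`. -/
theorem isProperOver_of_cover (g : U ⟶ S) [LocallyOfFiniteType g] (Z : Set U) (hZ : IsClosed Z)
    {κ : Type u} (Sk Uk : κ → Scheme.{u}) (χ : ∀ k, Sk k ⟶ S) [∀ k, Etale (χ k)]
    (hcov : ∀ x : S, ∃ k y, χ k y = x)
    (b : ∀ k, Uk k ⟶ U) (gk : ∀ k, Uk k ⟶ Sk k)
    (sq : ∀ k, IsPullback (b k) (gk k) g (χ k))
    (h : ∀ k, ClSub.IsProperOver (gk k) ((b k) ⁻¹' Z)) :
    ClSub.IsProperOver g Z := by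
  refine ⟨hZ, ?_⟩
  let 𝒰₀ : S.Cover Scheme.fppfPrecoverage :=
    Scheme.Cover.mkOfCovers κ Sk χ hcov (fun k => ⟨inferInstance, inferInstance⟩)
  let 𝒰 : S.Cover Scheme.fpqcPrecoverage := 𝒰₀.weaken Scheme.fppfPrecoverage_le_fpqcPrecoverage
  refine Groth.Agent.S12496.result @IsProper Groth.Agent.H1.isProper_descendsAlong_fpqc
    ((vanishingIdeal ⟨Z, hZ⟩).subschemeι ≫ g) 𝒰 ?_
  intro k
  show IsProper (pullback.snd ((vanishingIdeal ⟨Z, hZ⟩).subschemeι ≫ g) (χ k))
  have hpb : IsPullback (pullback.fst (vanishingIdeal ⟨Z, hZ⟩).subschemeι (b k))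
      (pullback.snd (vanishingIdeal ⟨Z, hZ⟩).subschemeι (b k))
      (vanishingIdeal ⟨Z, hZ⟩).subschemeι (b k) := IsPullback.of_hasPullback _ _
  have hbig := hpb.paste_vert (sq k)
  have hlft : LocallyOfFiniteType (gk k) :=
    MorphismProperty.of_isPullback (P := @LocallyOfFiniteType) (sq k) inferInstance
  have hrange : Set.range (pullback.snd (vanishingIdeal ⟨Z, hZ⟩).subschemeι (b k)) =
      (b k) ⁻¹' Z := by
    rw [Scheme.Pullback.range_snd, range_vanishingIdeal_subschemeι]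
  have hprop : IsProper (pullback.snd (vanishingIdeal ⟨Z, hZ⟩).subschemeι (b k) ≫ gk k) :=
    isProper_of_isProperOver (gk k) _ (hrange ▸ h k)
  rw [← hbig.isoPullback_inv_snd]
  infer_instance

end Groth.Agent.H4.ProperSupp
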