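import Groth.Agent.H4.ProperSupp
import Groth.Agent.H22.RedImm

/-!
# Closed subsets proper over a base: base change, images, composition (helper4)
-/

set_option autoImplicit false
universe u

namespace Groth.Agent.H4.ProperSupp

open AlgebraicGeometry CategoryTheory Limits Scheme.IdealSheafData Groth.Agent.H4

/-- base change of a closed subset proper over `S`. -/
theorem isProperOver_baseChange {U S U' S' : Scheme.{u}} (g : U ⟶ S) {b : U' ⟶ U}
    {g' : U' ⟶ S'} {χ : S' ⟶ S} (sq : IsPullback b g' g χ) {Z : Set U}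
    (h : ClSub.IsProperOver g Z) : ClSub.IsProperOver g' (b ⁻¹' Z) := by
  obtain ⟨hZ, hp⟩ := h
  have hpb : IsPullback (pullback.fst (vanishingIdeal ⟨Z, hZ⟩).subschemeι b)
      (pullback.snd (vanishingIdeal ⟨Z, hZ⟩).subschemeι b)
      (vanishingIdeal ⟨Z, hZ⟩).subschemeι b := IsPullback.of_hasPullback _ _
  have hbig := hpb.paste_vert sq
  have hprop : IsProper (pullback.snd (vanishingIdeal ⟨Z, hZ⟩).subschemeι b ≫ g') :=
    MorphismProperty.of_isPullback (P := @IsProper) hbig hp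
  have hrange : Set.range (pullback.snd (vanishingIdeal ⟨Z, hZ⟩).subschemeι b) = b ⁻¹' Z := by
    rw [Scheme.Pullback.range_snd, range_vanishingIdeal_subschemeι]
  exact isProperOver_of_closedImmersion' g' _ _ hrange

/-- a closed subset proper over `S` is proper over any separated `S`-scheme it maps to. -/
theorem isProperOver_of_comp {U S₁ S : Scheme.{u}} (p : U ⟶ S₁) (q : S₁ ⟶ S) [IsSeparated q]
    {Z : Set U} (h : ClSub.IsProperOver (p ≫ q) Z) : ClSub.IsProperOver p Z := by
  obtain ⟨hZ, hp⟩ := h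
  refine ⟨hZ, ?_⟩
  have : IsProper (((vanishingIdeal ⟨Z, hZ⟩).subschemeι ≫ p) ≫ q) := by rwa [Category.assoc]
  exact IsProper.of_comp ((vanishingIdeal ⟨Z, hZ⟩).subschemeι ≫ p) q

/-- the image of a closed subset proper over `S` in a separated `S`-scheme locally of finite
type is proper over `S`. -/
theorem isProperOver_image' {U S₁ S : Scheme.{u}} (p : U ⟶ S₁) (q : S₁ ⟶ S) [IsSeparated q]
    [LocallyOfFiniteType q] {Z : Set U} (h : ClSub.IsProperOver (p ≫ q) Z) :
    ClSub.IsProperOver q (p '' Z) := by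
  have h' := isProperOver_of_comp p q h
  refine isProperOver_image (p ≫ q) q p rfl Z h ?_
  obtain ⟨hZ, hp⟩ := h'
  have : IsProper ((vanishingIdeal ⟨Z, hZ⟩).subschemeι ≫ p) := hp
  infer_instance

/-- a closed subset proper over `S₁` whose image lies in a closed subset proper over `S` is
proper over `S`. -/
theorem isProperOver_comp {U S₁ S : Scheme.{u}} (p : U ⟶ S₁) (q : S₁ ⟶ S) {A : Set U}
    {B : Set S₁} (hA : ClSub.IsProperOver p A) (hB : ClSub.IsProperOver q B)
    (hAB : p '' A ⊆ B) : ClSub.IsProperOver (p ≫ q) A := by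
  obtain ⟨hAc, hAp⟩ := hA
  obtain ⟨hBc, hBp⟩ := hB
  refine ⟨hAc, ?_⟩
  have hAp' : IsProper ((vanishingIdeal ⟨A, hAc⟩).subschemeι ≫ p) := hAp
  have hBp' : IsProper ((vanishingIdeal ⟨B, hBc⟩).subschemeι ≫ q) := hBp
  have hsurj : Surjective (pullback.fst ((vanishingIdeal ⟨A, hAc⟩).subschemeι ≫ p)
      (vanishingIdeal ⟨B, hBc⟩).subschemeι) := by
    constructor
    intro x
    have hx : ((vanishingIdeal ⟨A, hAc⟩).subschemeι ≫ p) x ∈ B :=
      hAB ⟨(vanishingIdeal ⟨A, hAc⟩).subschemeι x, subschemeι_mem A hAc x, rfl⟩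
    obtain ⟨y, hy⟩ := exists_subschemeι_eq B hBc _ hx
    obtain ⟨z, hz, -⟩ := Scheme.Pullback.exists_preimage_pullback
      (f := (vanishingIdeal ⟨A, hAc⟩).subschemeι ≫ p)
      (g := (vanishingIdeal ⟨B, hBc⟩).subschemeι) x y hy.symm
    exact ⟨z, hz⟩
  have hred : IsReduced (vanishingIdeal ⟨A, hAc⟩).subscheme :=
    Groth.Agent.H22.isReduced_subscheme_vanishingIdeal _
  have hiso : IsIso (pullback.fst ((vanishingIdeal ⟨A, hAc⟩).subschemeι ≫ p)
      (vanishingIdeal ⟨B, hBc⟩).subschemeι) := isIso_of_isClosedImmersion_of_surjective _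
  have e : (vanishingIdeal ⟨A, hAc⟩).subschemeι ≫ p ≫ q =
      inv (pullback.fst ((vanishingIdeal ⟨A, hAc⟩).subschemeι ≫ p)
        (vanishingIdeal ⟨B, hBc⟩).subschemeι) ≫
      pullback.snd ((vanishingIdeal ⟨A, hAc⟩).subschemeι ≫ p)
        (vanishingIdeal ⟨B, hBc⟩).subschemeι ≫ (vanishingIdeal ⟨B, hBc⟩).subschemeι ≫ q := by
    rw [IsIso.eq_inv_comp, ← Category.assoc (pullback.snd _ _), ← pullback.condition]
    simp only [Category.assoc]
  rw [e]
  infer_instance

end Groth.Agent.H4.ProperSupp
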