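import Groth.Agent.H4.ExtZeroStalk

/-!
# Composition of inverse images, and base change of `j_!` along open immersions (helper4)
-/

set_option autoImplicit false
open CategoryTheory CategoryTheory.Limits AlgebraicGeometry Opposite

namespace Groth.Agent.H4.PullComp

universe u
open EtCoh EtShriek

/-- `f^{-1} ⋙ g^{-1} ≅ (g ≫ f)^{-1}`. -/
noncomputable def pullComp {X Y Z : Scheme.{u}} (f : X ⟶ Y) (g : Z ⟶ X) :
    pull f ⋙ pull g ≅ pull (g ≫ f) :=
  (((pullPushAdj f).comp (pullPushAdj g)).ofNatIsoRight (pushComp f g)).leftAdjointUniq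
    (pullPushAdj (g ≫ f))

/-- transport of inverse image along an equality of morphisms. -/
noncomputable def pullCongr {X Y : Scheme.{u}} {f f' : X ⟶ Y} (h : f = f') : pull f ≅ pull f' := by
  subst h
  exact Iso.refl _

/-- For a commutative square `g' ≫ f = f' ≫ g`: `f^{-1} ⋙ g'^{-1} ≅ g^{-1} ⋙ f'^{-1}`. -/
noncomputable def pullSquare {X Y X' Y' : Scheme.{u}} (f : X ⟶ Y) (g : Y' ⟶ Y) (f' : X' ⟶ Y')
    (g' : X' ⟶ X) (w : g' ≫ f = f' ≫ g) : pull f ⋙ pull g' ≅ pull g ⋙ pull f' :=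
  pullComp f g' ≪≫ pullCongr w ≪≫ (pullComp g f').symm

end Groth.Agent.H4.PullComp
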