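import Groth.Agent.H4.ShriekCoprod

/-! # Sectionwise exactness of abelian étale sheaves; `f_!` is left exact (helper4) -/

set_option autoImplicit false
open CategoryTheory CategoryTheory.Limits AlgebraicGeometry Opposite
universe u
open EtCoh EtShriek Groth.Agent.H4.Stalks Groth.Agent.H4.GlueSec Groth.Agent.H4.SuppSec
open Groth.Agent.H4.ProperSupp Groth.Agent.H4.ShriekSheaf Groth.Agent.H4.ShriekSections
open Groth.Agent.H4.ShriekEtIso

namespace Groth.Agent.H4.ShriekLeftExact

section Sections

variable {Y : Scheme.{u}}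

/-- a monomorphism of abelian étale sheaves is injective on sections. -/
theorem injective_of_mono {A B : Ab Y} (m : A ⟶ B) [Mono m] (V : Y.Etale) :
    Function.Injective (m.hom.app (op V)) := by
  have h1 : Mono m.hom := (Sheaf.Hom.mono_iff_presheaf_mono _ _ m).1 inferInstance
  have h2 : Mono (m.hom.app (op V)) := inferInstance
  exact (AddCommGrpCat.mono_iff_injective _).1 h2

/-- the kernel subgroups of a morphism of sheaves. -/
noncomputable def kerSub {B C : Ab Y} (g : B ⟶ C) (V : Y.Etale) : AddSubgroup (B.obj.obj (op V)) :=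
  (g.hom.app (op V)).hom.ker

theorem kerSub_map {B C : Ab Y} (g : B ⟶ C) {V V' : Y.Etale} (φ : V' ⟶ V) :
    kerSub g V ≤ (kerSub g V').comap (B.obj.map φ.op).hom := by
  intro y hy
  show g.hom.app (op V') (B.obj.map φ.op y) = 0
  have n := congrArg (fun ψ => ψ.hom y) (g.hom.naturality φ.op)
  refine n.trans ?_
  show C.obj.map φ.op (g.hom.app (op V) y) = 0
  have hy' : g.hom.app (op V) y = 0 := hy
  rw [hy', map_zero]

theorem kerSub_local {B C : Ab Y} (g : B ⟶ C) (V : Y.Etale) (y : B.obj.obj (op V)) (R : Sieve V)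
    (hR : R ∈ Y.smallEtaleTopology V)
    (h : ∀ (W : Y.Etale) (φ : W ⟶ V), R φ → B.obj.map φ.op y ∈ kerSub g W) :
    y ∈ kerSub g V := by
  show g.hom.app (op V) y = 0
  apply eq_zero_of_locally_zero C
  intro v
  obtain ⟨V₁, k, v₁, hk, hv₁⟩ := (mem_smallEtaleTopology_iff V R).1 hR v
  refine ⟨V₁, k, v₁, hv₁, ?_⟩
  have n := congrArg (fun ψ => ψ.hom y) (g.hom.naturality k.op)
  refine n.symm.trans ?_
  exact h V₁ k hk

/-- **sectionwise left exactness** of an exact sequence `0 → X₁ → X₂ → X₃` of sheaves. -/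
theorem exists_of_exact (T : ShortComplex (Ab Y)) (hT : T.Exact) [Mono T.f] (V : Y.Etale)
    (y : T.X₂.obj.obj (op V)) (hy : T.g.hom.app (op V) y = 0) :
    ∃ x : T.X₁.obj.obj (op V), T.f.hom.app (op V) x = y := by
  let K : Ab Y := subSheaf T.X₂ (kerSub T.g) (kerSub_map T.g) (kerSub_local T.g)
  let ιK : K ⟶ T.X₂ := subι T.X₂ (kerSub T.g) (kerSub_map T.g) (kerSub_local T.g)
  have h0 : ιK ≫ T.g = 0 := by
    apply Sheaf.hom_ext
    ext W z
    exact subι_mem T.X₂ (kerSub T.g) (kerSub_map T.g) (kerSub_local T.g) W.unop z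
  obtain ⟨l, hl⟩ := hT.lift' ιK h0
  obtain ⟨z, hz⟩ := exists_subι_eq T.X₂ (kerSub T.g) (kerSub_map T.g) (kerSub_local T.g) V y hy
  refine ⟨l.hom.app (op V) z, ?_⟩
  have := congrArg (fun φ => φ.hom.app (op V)) hl
  exact (congrArg (fun φ => φ.hom z) this).trans hz

/-- a complex `X₁ → X₂ → X₃` of sheaves with `X₁ → X₂` mono which is sectionwise exact is
exact. -/
theorem exact_of_sections (T : ShortComplex (Ab Y)) [Mono T.f]
    (h : ∀ (V : Y.Etale) (y : T.X₂.obj.obj (op V)), T.g.hom.app (op V) y = 0 →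
      ∃ x : T.X₁.obj.obj (op V), T.f.hom.app (op V) x = y) : T.Exact := by
  apply ShortComplex.exact_of_f_is_kernel
  refine KernelFork.IsLimit.ofι' T.f T.zero (fun {A} k hk => ?_)
  have hex : ∃ φ : A ⟶ T.X₁, φ ≫ T.f = k := by
    apply Groth.Agent.H4.ShriekComp.exists_lift
    · intro V
      exact injective_of_mono T.f V.unop
    · intro V a
      apply h V.unop
      have := congrArg (fun φ => φ.hom.app V) hk
      exact congrArg (fun φ => φ.hom a) this
  exact ⟨hex.choose, hex.choose_spec⟩

end Sections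

section Shriek

variable {X Y : Scheme.{u}} (f : X ⟶ Y) [LocallyOfFiniteType f]

instance additive_lowerShriek : (lowerShriek f).Additive where
  map_add {F G} {α β} := by
    apply (cancel_mono (lowerShriekToPush f G)).1
    rw [toPush_naturality, Functor.map_add, Preadditive.comp_add, Preadditive.add_comp,
      toPush_naturality, toPush_naturality]

theorem mono_map_of_mono {F G : Ab X} (a : F ⟶ G) [Mono a] : Mono ((lowerShriek f).map a) := by
  have h1 : ∀ V : Y.Etaleᵒᵖ, Mono (((push f).map a).hom.app V) := fun V =>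
    (AddCommGrpCat.mono_iff_injective _).2 (injective_of_mono a ((bc f).obj V.unop))
  have h2 : Mono ((push f).map a).hom := NatTrans.mono_of_mono_app _
  have h3 : Mono ((push f).map a) := Sheaf.Hom.mono_of_presheaf_mono _ _ _
  have h4 : Mono ((lowerShriek f).map a ≫ lowerShriekToPush f G) := by
    rw [toPush_naturality]
    exact mono_comp _ _
  exact mono_of_mono _ (lowerShriekToPush f G)

/-- **`f_!` is left exact**. -/
theorem preservesFiniteLimits : PreservesFiniteLimits (lowerShriek f) := by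
  rw [Functor.preservesFiniteLimits_iff_forall_exact_map_and_mono]
  intro S hS
  have hmf : Mono S.f := hS.mono_f
  have hm : Mono ((lowerShriek f).map S.f) := mono_map_of_mono f S.f
  refine ⟨?_, hm⟩
  have : Mono (S.map (lowerShriek f)).f := hm
  apply exact_of_sections
  intro V y hy
  let t : S.X₂.obj.obj (op ((bc f).obj V)) := (lowerShriekToPush f S.X₂).hom.app (op V) y
  have ht : S.g.hom.app (op ((bc f).obj V)) t = 0 := by
    rw [← toPush_naturality_apply]
    have hy' : ((lowerShriek f).map S.g).hom.app (op V) y = 0 := hy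
    rw [hy', map_zero]
    rfl
  obtain ⟨x₁, hx₁⟩ := exists_of_exact S hS.exact ((bc f).obj V) t ht
  have hP : ShriekPred f S.X₁ V x₁ := by
    intro V' φ
    obtain ⟨Z, hZ, hp⟩ := shriekPred_toPush f S.X₂ V y V' φ
    refine ⟨Z, ?_, hp⟩
    rw [sectSupp_eq_of_injective S.f (fun W => injective_of_mono S.f W)]
    have n := congrArg (fun ψ => ψ.hom x₁) (S.f.hom.naturality ((bc f).map φ).op)
    have e : S.f.hom.app (op ((bc f).obj V')) (S.X₁.obj.map ((bc f).map φ).op x₁) =
        S.X₂.obj.map ((bc f).map φ).op t := by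
      refine n.trans ?_
      show S.X₂.obj.map ((bc f).map φ).op (S.f.hom.app _ x₁) = _
      rw [hx₁]
    rw [e]
    exact hZ
  obtain ⟨x, hx⟩ := exists_toPush_eq f S.X₁ V x₁ hP
  refine ⟨x, ?_⟩
  apply toPush_injective f S.X₂ V
  show (lowerShriekToPush f S.X₂).hom.app (op V) (((lowerShriek f).map S.f).hom.app (op V) x) = t
  rw [toPush_naturality_apply, hx, hx₁]

end Shriek

end Groth.Agent.H4.ShriekLeftExact
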