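import Groth.Agent.S9778
import Groth.Agent.H4.ShriekLeftExact

/-! # Étale-local finite clopen pieces around a closed subset proper over the base (helper4) -/

set_option autoImplicit false
open CategoryTheory CategoryTheory.Limits AlgebraicGeometry Opposite
universe u
open Scheme.IdealSheafData Groth.Agent.H4 Groth.Agent.H4.ProperSupp

namespace Groth.Agent.H4.QfSplit

/-- finite unions of closed subsets proper over the base. -/
theorem isProperOver_iUnion_finite {B S : Scheme.{u}} (g : B ⟶ S) [LocallyOfFiniteType g]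
    {κ : Type*} [Finite κ] (Zk : κ → Set B) (h : ∀ k, ClSub.IsProperOver g (Zk k)) :
    ClSub.IsProperOver g (⋃ k, Zk k) := by
  classical
  have := Fintype.ofFinite κ
  have key : ∀ t : Finset κ, ClSub.IsProperOver g (⋃ k ∈ t, Zk k) := by
    intro t
    induction t using Finset.induction_on with
    | empty =>
      simp only [Finset.notMem_empty, Set.iUnion_of_empty, Set.iUnion_empty]
      exact isProperOver_empty g
    | insert a t _ ih =>
      rw [Finset.set_biUnion_insert]
      exact isProperOver_union g (h a) ih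
  have e : (⋃ k, Zk k) = ⋃ k ∈ (Finset.univ : Finset κ), Zk k := by simp
  rw [e]
  exact key _

/-- an open and closed subscheme whose underlying set is proper over the base, for a locally
quasi-finite morphism, is finite over the base. -/
theorem isFinite_of_isProperOver {P S : Scheme.{u}} (q : P ⟶ S) [LocallyOfFiniteType q]
    [LocallyQuasiFinite q] (A : P.Opens) (hcl : IsClosed (A : Set P))
    (h : ClSub.IsProperOver q (A : Set P)) : IsFinite (A.ι ≫ q) := by
  have h1 : IsClosedImmersion A.ι :=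
    IsClosedImmersion.of_isPreimmersion _ (by rw [Scheme.Opens.range_ι]; exact hcl)
  have h2 : IsProper (A.ι ≫ q) :=
    isProper_of_isProperOver q A.ι (by rw [Scheme.Opens.range_ι]; exact h)
  exact IsFinite.of_isProper_of_locallyQuasiFinite _

/-- an open and closed subscheme finite over the base has underlying set proper over the
base. -/
theorem isProperOver_of_isFinite {P S : Scheme.{u}} (q : P ⟶ S) (A : P.Opens)
    (hcl : IsClosed (A : Set P)) [IsFinite (A.ι ≫ q)] : ClSub.IsProperOver q (A : Set P) := by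
  have h1 : IsClosedImmersion A.ι :=
    IsClosedImmersion.of_isPreimmersion _ (by rw [Scheme.Opens.range_ι]; exact hcl)
  exact isProperOver_of_closedImmersion' q A.ι _ (Scheme.Opens.range_ι A)

/-- the fibres of a closed subset proper over the base, for a locally quasi-finite morphism,
are finite. -/
theorem finite_fibre_of_isProperOver {P S : Scheme.{u}} (p : P ⟶ S) [LocallyQuasiFinite p]
    {Z : Set P} (hZ : ClSub.IsProperOver p Z) (s : S) : (Z ∩ p ⁻¹' {s}).Finite := by
  obtain ⟨hZc, hZp⟩ := hZ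
  have h1 : (((vanishingIdeal ⟨Z, hZc⟩).subschemeι ≫ p) ⁻¹' {s}).Finite :=
    Scheme.Hom.finite_preimage_singleton _ s
  have h2 : Z ∩ p ⁻¹' {s} ⊆ (vanishingIdeal ⟨Z, hZc⟩).subschemeι ''
      (((vanishingIdeal ⟨Z, hZc⟩).subschemeι ≫ p) ⁻¹' {s}) := by
    rintro z ⟨hz, hzs⟩
    rw [← range_vanishingIdeal_subschemeι Z hZc] at hz
    obtain ⟨w, rfl⟩ := hz
    exact ⟨w, hzs, rfl⟩
  exact (h1.image _).subset h2

/-- **étale-local finite clopen pieces**: a closed subset `Z` proper over the base of a
separated locally quasi-finite morphism lies, étale locally on the base, in an open and closed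
subset proper (hence finite) over the base. -/
theorem exists_clopen_proper {P S : Scheme.{u}} (p : P ⟶ S) [LocallyOfFiniteType p]
    [IsSeparated p] [LocallyQuasiFinite p] (Z : Set P) (hZ : ClSub.IsProperOver p Z) (s : S) :
    ∃ (U : Scheme.{u}) (g : U ⟶ S) (u : U), Etale g ∧ g u = s ∧
      ∀ (P' : Scheme.{u}) (a : P' ⟶ P) (q : P' ⟶ U), IsPullback a q p g →
        ∃ A : P'.Opens, IsClosed (A : Set P') ∧ a ⁻¹' Z ⊆ A ∧
          ClSub.IsProperOver q (A : Set P') := by
  classical
  have hfin := finite_fibre_of_isProperOver p hZ s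
  let n := hfin.toFinset.card
  let e : hfin.toFinset ≃ Fin n := hfin.toFinset.equivFin
  let x : Fin n → P := fun i => (e.symm i).1
  have hxmem : ∀ i, x i ∈ Z ∩ p ⁻¹' {s} := fun i => hfin.mem_toFinset.1 (e.symm i).2
  have hinj : Function.Injective x := fun i j h => e.symm.injective (Subtype.ext h)
  have hs : ∀ i, p (x i) = s := fun i => (hxmem i).2
  have hx : ∀ i, p.QuasiFiniteAt (x i) := fun i => p.quasiFiniteAt _
  have hsurj : ∀ z ∈ Z ∩ p ⁻¹' {s}, ∃ i, x i = z := by
    intro z hz
    refine ⟨e ⟨z, hfin.mem_toFinset.2 hz⟩, ?_⟩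
    show (e.symm (e ⟨z, _⟩)).1 = z
    rw [Equiv.symm_apply_apply]
  obtain ⟨U, g, u, hg, hgu, J, hJ, Vo, vo, hclopen, -, hprop, hcover⟩ :=
    Groth.Agent.S9778.result p s x hinj hs hx
  have : ∀ i, Finite (J i) := hJ
  -- the union of the finite pieces
  let A₀s : Set ↥(pullback p g) := ⋃ i, ⋃ j, (Vo i j : Set ↥(pullback p g))
  have hA₀o : IsOpen A₀s := isOpen_iUnion fun i => isOpen_iUnion fun j => (Vo i j).2
  have hA₀c : IsClosed A₀s :=
    isClosed_iUnion_of_finite fun i => isClosed_iUnion_of_finite fun j => (hclopen i j).1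
  have hA₀p : ClSub.IsProperOver (pullback.snd p g) A₀s := by
    apply isProperOver_iUnion_finite
    intro i
    apply isProperOver_iUnion_finite
    intro j
    have : IsFinite ((Vo i j).ι ≫ pullback.snd p g) := (hprop i j).2.1
    exact isProperOver_of_isFinite _ (Vo i j) (hclopen i j).1
  -- the part of `Z` outside the pieces misses the fibre over `u`
  let Z' : Set ↥(pullback p g) := pullback.fst p g ⁻¹' Z
  have hZ'p : ClSub.IsProperOver (pullback.snd p g) Z' :=
    isProperOver_baseChange p (IsPullback.of_hasPullback p g) hZ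
  have hZ'c : IsClosed Z' := IsProperOver.isClosed hZ'p
  have hR : ClSub.IsProperOver (pullback.snd p g) (Z' \ A₀s) :=
    isProperOver_mono _ hZ'p (hZ'c.sdiff hA₀o) Set.sdiff_subset
  have hRcl : IsClosed (pullback.snd p g '' (Z' \ A₀s)) :=
    Groth.Agent.H4.ShriekEtLocal.isClosed_image_of_isProperOver _ hR
  have hu : u ∉ pullback.snd p g '' (Z' \ A₀s) := by
    rintro ⟨w, ⟨hwZ, hwA⟩, hwu⟩
    have h1 : p (pullback.fst p g w) = s := by
      have := congrArg (fun φ => φ w) (congrArg (fun φ : _ ⟶ _ => (φ : _ → _)) (pullback.condition (f := p) (g := g)))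
      simp only [Scheme.Hom.comp_apply] at this
      rw [this, hwu, hgu]
    obtain ⟨i, hi⟩ := hsurj _ ⟨hwZ, h1⟩
    obtain ⟨j, hj⟩ := hcover w i hwu hi.symm
    exact hwA (Set.mem_iUnion.2 ⟨i, Set.mem_iUnion.2 ⟨j, hj⟩⟩)
  let U₀ : U.Opens := ⟨(pullback.snd p g '' (Z' \ A₀s))ᶜ, hRcl.isOpen_compl⟩
  refine ⟨U₀, U₀.ι ≫ g, ⟨u, hu⟩, inferInstance, by rw [Scheme.Hom.comp_apply]; exact hgu, ?_⟩
  intro P' a q sq
  -- the comparison with the pullback along `g`
  let m : P' ⟶ pullback p g := pullback.lift a (q ≫ U₀.ι) (by rw [Category.assoc]; exact sq.w)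
  have hm1 : m ≫ pullback.fst p g = a := pullback.lift_fst _ _ _
  have hm2 : m ≫ pullback.snd p g = q ≫ U₀.ι := pullback.lift_snd _ _ _
  have sqm : IsPullback m q (pullback.snd p g) U₀.ι := by
    refine IsPullback.of_right ?_ hm2 (IsPullback.of_hasPullback p g)
    rw [hm1]
    exact sq
  refine ⟨⟨m ⁻¹' A₀s, hA₀o.preimage m.continuous⟩, hA₀c.preimage m.continuous, ?_,
    isProperOver_baseChange _ sqm hA₀p⟩
  intro w hw
  show m w ∈ A₀s
  by_contra hcon
  have h1 : m w ∈ Z' := by
    show pullback.fst p g (m w) ∈ Z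
    rw [← Scheme.Hom.comp_apply, hm1]
    exact hw
  have h2 : pullback.snd p g (m w) ∈ pullback.snd p g '' (Z' \ A₀s) := ⟨m w, ⟨h1, hcon⟩, rfl⟩
  have h3 : pullback.snd p g (m w) = U₀.ι (q w) := by
    rw [← Scheme.Hom.comp_apply, hm2, Scheme.Hom.comp_apply]
  rw [h3] at h2
  exact (q w).2 h2

end Groth.Agent.H4.QfSplit
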