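import Groth.Agent.H4.LocGen

/-! # `f_!` commutes with direct sums (helper4) -/

set_option autoImplicit false
open CategoryTheory CategoryTheory.Limits AlgebraicGeometry Opposite
universe u
open EtCoh EtShriek Groth.Agent.H4.Stalks Groth.Agent.H4.GlueSec Groth.Agent.H4.SuppSec
open Groth.Agent.H4.ProperSupp Groth.Agent.H4.ShriekSheaf Groth.Agent.H4.ShriekSections
open Groth.Agent.H4.LocGen

namespace Groth.Agent.H4.ShriekCoprod

section Supp

variable {X : Scheme.{u}}

/-- a morphism of sheaves shrinks supports. -/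
theorem sectSupp_hom_subset {G G' : Ab X} (α : G ⟶ G') (U : X.Etale) (s : G.obj.obj (op U)) :
    sectSupp G' U (α.hom.app (op U) s) ⊆ sectSupp G U s := by
  intro x hx
  by_contra hx'
  obtain ⟨W, g, w, hw, h0⟩ := (not_mem_sectSupp_iff G U s x).1 hx'
  apply hx W g ⟨w, hw⟩
  have n := congrArg (fun ψ => ψ.hom s) (α.hom.naturality g.op)
  refine n.symm.trans ?_
  show α.hom.app (op W) (G.obj.map g.op s) = 0
  rw [h0, map_zero]

end Supp

variable {X Y : Scheme.{u}} (f : X ⟶ Y) [LocallyOfFiniteType f]

omit [LocallyOfFiniteType f] in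
/-- `ShriekPred` passes to images under morphisms of sheaves. -/
theorem shriekPred_hom {G G' : Ab X} (α : G ⟶ G') (V : Y.Etale)
    (s : G.obj.obj (op ((bc f).obj V))) (hs : ShriekPred f G V s) :
    ShriekPred f G' V (α.hom.app (op ((bc f).obj V)) s) := by
  intro V' φ
  obtain ⟨Z, hZ, hp⟩ := hs V' φ
  refine ⟨Z, ?_, hp⟩
  have n := congrArg (fun ψ => ψ.hom s) (α.hom.naturality ((bc f).map φ).op)
  have e : G'.obj.map ((bc f).map φ).op (α.hom.app (op ((bc f).obj V)) s) =
      α.hom.app (op ((bc f).obj V')) (G.obj.map ((bc f).map φ).op s) := n.symm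
  rw [e]
  exact (sectSupp_hom_subset α _ _).trans hZ

variable {ι : Type u} (F : ι → Ab X)

/-- the comparison map `⨁ f_! F_i ⟶ f_! (⨁ F_i)`. -/
noncomputable abbrev cmp : (∐ fun i => (lowerShriek f).obj (F i)) ⟶ (lowerShriek f).obj (∐ F) :=
  sigmaComparison (lowerShriek f) F

omit [LocallyOfFiniteType f] in
theorem toPush_cmp_ι (i : ι) (V : Y.Etale) (t : ((lowerShriek f).obj (F i)).obj.obj (op V)) :
    (lowerShriekToPush f (∐ F)).hom.app (op V) ((cmp f F).hom.app (op V)
      ((Sigma.ι (fun i => (lowerShriek f).obj (F i)) i).hom.app (op V) t)) =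
      (Sigma.ι F i).hom.app (op ((bc f).obj V)) ((lowerShriekToPush f (F i)).hom.app (op V) t) := by
  have h : Sigma.ι (fun i => (lowerShriek f).obj (F i)) i ≫ cmp f F =
      (lowerShriek f).map (Sigma.ι F i) := ι_comp_sigmaComparison _ _ _
  have h' := congrArg (fun φ => φ.hom.app (op V)) h
  have h'' : (cmp f F).hom.app (op V)
      ((Sigma.ι (fun i => (lowerShriek f).obj (F i)) i).hom.app (op V) t) =
      ((lowerShriek f).map (Sigma.ι F i)).hom.app (op V) t := congrArg (fun φ => φ.hom t) h'
  rw [h'', toPush_naturality_apply]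

/-- `cmp ≫ f_!(π_k) = π_k`. -/
theorem cmp_proj (k : ι) :
    cmp f F ≫ (lowerShriek f).map (proj F k) = proj (fun i => (lowerShriek f).obj (F i)) k := by
  classical
  apply Sigma.hom_ext
  intro i
  have h : Sigma.ι (fun i => (lowerShriek f).obj (F i)) i ≫ cmp f F =
      (lowerShriek f).map (Sigma.ι F i) := ι_comp_sigmaComparison _ _ _
  rw [← Category.assoc, h, ← Functor.map_comp]
  by_cases hik : i = k
  · subst hik
    rw [ι_proj_same, ι_proj_same, CategoryTheory.Functor.map_id]
  · rw [ι_proj_ne F hik, ι_proj_ne _ hik]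
    -- `f_!` of the zero map is zero
    apply Sheaf.hom_ext
    ext V x
    apply toPush_injective f (F k) V.unop
    rw [toPush_naturality_apply]
    show _ = (lowerShriekToPush f (F k)).hom.app (op V.unop) 0
    rw [map_zero]
    rfl

theorem cmp_injective (V : Y.Etale) : Function.Injective ((cmp f F).hom.app (op V)) := by
  rw [injective_iff_map_eq_zero]
  intro x hx
  apply eq_zero_of_locally_zero (∐ fun i => (lowerShriek f).obj (F i))
  intro v
  obtain ⟨V', k, v', hv', hmem⟩ := locC_all (fun i => (lowerShriek f).obj (F i)) V x v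
  refine ⟨V', k, v', hv', ?_⟩
  obtain ⟨I, hI⟩ := finRep_of_mem_sums _ V' _ hmem
  rw [hI I (Finset.Subset.refl I)]
  apply Finset.sum_eq_zero
  intro i _
  have h0 : (proj (fun i => (lowerShriek f).obj (F i)) i).hom.app (op V')
      ((∐ fun i => (lowerShriek f).obj (F i)).obj.map k.op x) = 0 := by
    rw [← cmp_proj f F i]
    show ((lowerShriek f).map (proj F i)).hom.app (op V')
      ((cmp f F).hom.app (op V') ((∐ fun i => (lowerShriek f).obj (F i)).obj.map k.op x)) = 0
    have n := congrArg (fun ψ => ψ.hom x) ((cmp f F).hom.naturality k.op)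
    have e : (cmp f F).hom.app (op V') ((∐ fun i => (lowerShriek f).obj (F i)).obj.map k.op x) =
        ((lowerShriek f).obj (∐ F)).obj.map k.op ((cmp f F).hom.app (op V) x) := n
    rw [e, hx, map_zero, map_zero]
  rw [h0, map_zero]

/-- local surjectivity of the comparison map. -/
theorem cmp_locally_surjective (V : Y.Etale) (y : ((lowerShriek f).obj (∐ F)).obj.obj (op V))
    (v : V.left) : ∃ (V' : Y.Etale) (k : V' ⟶ V) (v' : V'.left), k.left v' = v ∧
      ∃ x : (∐ fun i => (lowerShriek f).obj (F i)).obj.obj (op V'),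
        (cmp f F).hom.app (op V') x = ((lowerShriek f).obj (∐ F)).obj.map k.op y := by
  classical
  -- an affine open neighbourhood of `v`
  obtain ⟨_, ⟨V₀, hV₀, rfl⟩, hvV₀, -⟩ := V.left.isBasis_affineOpens.exists_subset_of_mem_open
    (Set.mem_univ v) isOpen_univ
  let V' : Y.Etale := opn V V₀
  let k : V' ⟶ V := opnι V V₀
  have hvr : v ∈ Set.range k.left := by rw [range_opnι]; exact hvV₀
  obtain ⟨v', hv'⟩ := hvr
  refine ⟨V', k, v', hv', ?_⟩
  let y' : ((lowerShriek f).obj (∐ F)).obj.obj (op V') :=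
    ((lowerShriek f).obj (∐ F)).obj.map k.op y
  let s : (∐ F).obj.obj (op ((bc f).obj V')) := (lowerShriekToPush f (∐ F)).hom.app (op V') y'
  have hsP : ShriekPred f (∐ F) V' s := shriekPred_toPush f (∐ F) V' y'
  -- the support of `s` is compact
  have hps := hsP V' (𝟙 V')
  have e0 : (∐ F).obj.map ((bc f).map (𝟙 V')).op s = s := by
    rw [CategoryTheory.Functor.map_id, op_id, (∐ F).obj.map_id]; rfl
  rw [e0] at hps
  obtain ⟨Z, hZ, hp⟩ := hps
  have : IsAffine V'.left := hV₀
  have hZc : IsCompact Z := Groth.Agent.H4.ShriekEtLocal.isCompact_of_isProperOver _ hp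
  -- local finite representations
  have hloc := locC_all F ((bc f).obj V') s
  choose W g w hgw hmem using hloc
  have hfin := fun z => finRep_of_mem_sums F (W z) _ (hmem z)
  choose I hI using hfin
  obtain ⟨t, -, ht⟩ := hZc.elim_nhds_subcover (fun z => Set.range (g z).left)
    (fun z _ => (isOpenMap_left (g z)).isOpen_range.mem_nhds ⟨w z, hgw z⟩)
  let I₀ : Finset ι := t.biUnion I
  -- the global finite representation
  have hrep : s = ∑ i ∈ I₀, (Sigma.ι F i).hom.app (op ((bc f).obj V'))
      ((proj F i).hom.app (op ((bc f).obj V')) s) := by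
    rw [← sub_eq_zero]
    apply eq_zero_of_locally_zero (∐ F)
    intro p
    have hres : ∀ (T : X.Etale) (a : T ⟶ (bc f).obj V'),
        (∐ F).obj.map a.op (s - ∑ i ∈ I₀, (Sigma.ι F i).hom.app (op ((bc f).obj V'))
          ((proj F i).hom.app (op ((bc f).obj V')) s)) =
        (∐ F).obj.map a.op s - ∑ i ∈ I₀, (Sigma.ι F i).hom.app (op T)
          ((proj F i).hom.app (op T) ((∐ F).obj.map a.op s)) := by
      intro T a
      rw [map_sub, map_sum]
      congr 1
      apply Finset.sum_congr rfl
      intro i _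
      have n1 := congrArg (fun ψ => ψ.hom ((proj F i).hom.app (op ((bc f).obj V')) s))
        ((Sigma.ι F i).hom.naturality a.op)
      have n2 := congrArg (fun ψ => ψ.hom s) ((proj F i).hom.naturality a.op)
      exact n1.symm.trans (congrArg ((Sigma.ι F i).hom.app (op T)) n2.symm)
    by_cases hpZ : p ∈ Z
    · obtain ⟨z, hz, hpz⟩ := Set.mem_iUnion₂.1 (ht hpZ)
      obtain ⟨q, hq⟩ := hpz
      refine ⟨W z, g z, q, hq, ?_⟩
      rw [hres, sub_eq_zero]
      exact hI z I₀ (Finset.subset_biUnion_of_mem I hz)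
    · have hps' : p ∉ sectSupp (∐ F) ((bc f).obj V') s := fun h => hpZ (hZ h)
      obtain ⟨T, a, q, hq, h0⟩ := (not_mem_sectSupp_iff (∐ F) _ s p).1 hps'
      refine ⟨T, a, q, hq, ?_⟩
      rw [hres, h0, sub_eq_zero]
      symm
      apply Finset.sum_eq_zero
      intro i _
      rw [map_zero, map_zero]
  -- the components have proper support
  have hcomp : ∀ i, ∃ x : ((lowerShriek f).obj (F i)).obj.obj (op V'),
      (lowerShriekToPush f (F i)).hom.app (op V') x =
        (proj F i).hom.app (op ((bc f).obj V')) s :=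
    fun i => exists_toPush_eq f (F i) V' _ (shriekPred_hom f (proj F i) V' s hsP)
  choose x hx using hcomp
  refine ⟨∑ i ∈ I₀, (Sigma.ι (fun i => (lowerShriek f).obj (F i)) i).hom.app (op V') (x i), ?_⟩
  apply toPush_injective f (∐ F) V'
  rw [map_sum, map_sum]
  show _ = s
  rw [hrep]
  apply Finset.sum_congr rfl
  intro i _
  rw [toPush_cmp_ι, hx]

instance mono_cmp : Mono (cmp f F) := by
  have h1 : ∀ V : Y.Etaleᵒᵖ, Mono ((cmp f F).hom.app V) := fun V =>
    (AddCommGrpCat.mono_iff_injective _).2 (cmp_injective f F V.unop)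
  have h2 : Mono (cmp f F).hom := NatTrans.mono_of_mono_app _
  exact Sheaf.Hom.mono_of_presheaf_mono _ _ _

theorem epi_cmp : Epi (cmp f F) := by
  apply Preadditive.epi_of_cancel_zero
  intro H d hd
  apply Sheaf.hom_ext
  ext V y
  show d.hom.app V y = 0
  apply eq_zero_of_locally_zero H
  intro v
  obtain ⟨V', k, v', hv', x, hx⟩ := cmp_locally_surjective f F V.unop y v
  refine ⟨V', k, v', hv', ?_⟩
  have n := congrArg (fun ψ => ψ.hom y) (d.hom.naturality k.op)
  refine n.symm.trans ?_
  show d.hom.app (op V') (((lowerShriek f).obj (∐ F)).obj.map k.op y) = 0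
  rw [← hx]
  have h := congrArg (fun φ => φ.hom.app (op V')) hd
  exact congrArg (fun φ => φ.hom x) h

theorem isIso_cmp : IsIso (cmp f F) := by
  have := epi_cmp f F
  exact isIso_of_mono_of_epi _

/-- **`f_!` commutes with direct sums** (for `f` locally of finite type). -/
theorem preservesCoproducts (ι : Type u) :
    PreservesColimitsOfShape (Discrete ι) (lowerShriek f) := by
  have : ∀ F : ι → Ab X, PreservesColimit (Discrete.functor F) (lowerShriek f) := fun F => by
    have : IsIso (sigmaComparison (lowerShriek f) F) := isIso_cmp f F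
    exact PreservesCoproduct.of_iso_comparison (lowerShriek f) F
  exact preservesColimitsOfShape_of_discrete (lowerShriek f)

end Groth.Agent.H4.ShriekCoprod
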