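import Groth.Agent.H4.ShriekRightExact
import Groth.Agent.H4.ShriekCoprodW

/-! # `f_!` is a left adjoint for `f` separated and locally quasi-finite (helper4) -/

set_option autoImplicit false
open CategoryTheory CategoryTheory.Limits AlgebraicGeometry Opposite
universe u
open EtCoh EtShriek

namespace Groth.Agent.H4.ShriekAdj

variable {X Y : Scheme.{u}} (f : X ⟶ Y) [IsSeparated f] [LocallyOfFiniteType f]
  [LocallyQuasiFinite f]

theorem preservesColimits : PreservesColimitsOfSize.{u + 1, u + 1} (lowerShriek f) := by
  have h1 : PreservesFiniteColimits (lowerShriek f) :=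
    Groth.Agent.H4.ShriekRightExact.preservesFiniteColimits f
  have h2 : PreservesColimitsOfShape WalkingParallelPair (lowerShriek f) := inferInstance
  have h3 : ∀ J : Type (u + 1), PreservesColimitsOfShape (Discrete J) (lowerShriek f) :=
    fun J => Groth.Agent.H4.ShriekCoprodW.preservesCoproducts f J
  exact preservesColimits_of_preservesCoequalizers_and_coproducts (lowerShriek f)

/-- **`f_!` has a right adjoint** for `f` separated and locally quasi-finite. -/
theorem isLeftAdjoint : (lowerShriek f).IsLeftAdjoint := by
  have := preservesColimits f
  exact isLeftAdjoint_of_preservesColimits_of_isSeparating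
    (isSeparator_separator (Ab X)) (lowerShriek f)

end Groth.Agent.H4.ShriekAdj
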