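import Groth.Agent.H4.ShriekSections

/-! # `(h ≫ g)_! ≅ h_! ⋙ g_!` (helper4)

The composite of lower-shriek functors, characterised inside the direct image. -/

set_option autoImplicit false
open CategoryTheory CategoryTheory.Limits AlgebraicGeometry Opposite
universe u w v₁ u₁
open EtCoh EtShriek Groth.Agent.H4.Stalks Groth.Agent.H4.GlueSec Groth.Agent.H4.SuppSec
open Groth.Agent.H4.ProperSupp Groth.Agent.H4.ShriekSheaf Groth.Agent.H4.ShriekSections

namespace Groth.Agent.H4.ShriekComp

section Lift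

variable {C : Type u₁} [Category.{v₁} C] {J : GrothendieckTopology C}

/-- a morphism of abelian sheaves factors through a sectionwise injective morphism as soon as
it does so on sections. -/
theorem exists_lift {A B P : Sheaf J AddCommGrpCat.{w}} (m₁ : A ⟶ P) (m₂ : B ⟶ P)
    (hinj : ∀ V : Cᵒᵖ, Function.Injective (m₂.hom.app V))
    (hrange : ∀ (V : Cᵒᵖ) (x : A.obj.obj V), ∃ y : B.obj.obj V,
      m₂.hom.app V y = m₁.hom.app V x) :
    ∃ φ : A ⟶ B, φ ≫ m₂ = m₁ := by
  choose y hy using hrange
  have hadd : ∀ V (a b : A.obj.obj V), y V (a + b) = y V a + y V b := by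
    intro V a b
    apply hinj V
    rw [map_add, hy, hy, hy, map_add]
  let φ : A.obj ⟶ B.obj :=
    { app := fun V => AddCommGrpCat.ofHom (AddMonoidHom.mk' (y V) (hadd V))
      naturality := by
        intro V V' k
        ext x
        apply hinj V'
        show m₂.hom.app V' (y V' (A.obj.map k x)) = m₂.hom.app V' (B.obj.map k (y V x))
        rw [hy]
        have n₁ := congrArg (fun ψ => ψ.hom x) (m₁.hom.naturality k)
        have n₂ := congrArg (fun ψ => ψ.hom (y V x)) (m₂.hom.naturality k)
        exact n₁.trans ((congrArg (P.obj.map k) (hy V x)).symm.trans n₂.symm) }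
  refine ⟨⟨φ⟩, ?_⟩
  apply Sheaf.hom_ext
  ext V x
  exact hy V x

end Lift

section Iso

variable {X : Scheme.{u}} (F : Ab X)

/-- proper support is invariant under base change of the étale scheme along a cartesian square
over the base. -/
theorem hasProperSupport_map {T T' : X.Etale} (k : T ⟶ T') {S S' : Scheme.{u}}
    (p : T.left ⟶ S) (p' : T'.left ⟶ S') (χ : S ⟶ S') (sq : IsPullback k.left p p' χ)
    (s' : F.obj.obj (op T')) (h : HasProperSupport F T' s' p') :
    HasProperSupport F T (F.obj.map k.op s') p := by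
  obtain ⟨Z', hZ', hp⟩ := h
  refine ⟨k.left ⁻¹' Z', ?_, isProperOver_baseChange p' sq hp⟩
  rw [sectSupp_map]
  exact Set.preimage_mono hZ'

theorem hasProperSupport_map_iff {T T' : X.Etale} (k : T ⟶ T') [IsIso k] {S : Scheme.{u}}
    (p : T.left ⟶ S) (p' : T'.left ⟶ S) (hp : k.left ≫ p' = p) (s' : F.obj.obj (op T')) :
    HasProperSupport F T (F.obj.map k.op s') p ↔ HasProperSupport F T' s' p' := by
  have hk : IsIso k.left := ⟨⟨(inv k).left, congrArg (fun q => q.left) (IsIso.hom_inv_id k),
    congrArg (fun q => q.left) (IsIso.inv_hom_id k)⟩⟩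
  have hik : IsIso (inv k).left := ⟨⟨k.left, congrArg (fun q => q.left) (IsIso.inv_hom_id k),
    congrArg (fun q => q.left) (IsIso.hom_inv_id k)⟩⟩
  constructor
  · intro h
    have e1 : (inv k).left ≫ p = p' := by
      rw [← hp, ← Category.assoc]
      have : (inv k).left ≫ k.left = 𝟙 _ := by
        have := congrArg (fun q => q.left) (IsIso.inv_hom_id k)
        exact this
      rw [this, Category.id_comp]
    have sq : IsPullback (inv k).left p' p (𝟙 S) :=
      IsPullback.of_horiz_isIso ⟨by rw [e1, Category.comp_id]⟩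
    have h2 := hasProperSupport_map F (inv k) p' p (𝟙 S) sq _ h
    have e2 : F.obj.map (inv k).op (F.obj.map k.op s') = s' := by
      rw [map_comp_apply, IsIso.inv_hom_id, op_id, F.obj.map_id]; rfl
    rwa [e2] at h2
  · intro h
    have sq : IsPullback k.left p p' (𝟙 S) :=
      IsPullback.of_horiz_isIso ⟨by rw [hp, Category.comp_id]⟩
    exact hasProperSupport_map F k p p' (𝟙 S) sq _ h

end Iso

section Comp

variable {X Y Z : Scheme.{u}} (h : X ⟶ Y) (g : Y ⟶ Z) (F : Ab X)

/-- sections over `X ×_Y (Y ×_Z W)` with hereditarily proper support over `W`. -/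
def Q (W : Z.Etale) (s : F.obj.obj (op ((bc h).obj ((bc g).obj W)))) : Prop :=
  ∀ (W' : Z.Etale) (φ : W' ⟶ W),
    HasProperSupport F ((bc h).obj ((bc g).obj W'))
      (F.obj.map ((bc h).map ((bc g).map φ)).op s)
      (prV h ((bc g).obj W') ≫ prV g W')

variable [IsSeparated g] [LocallyOfFiniteType g] [LocallyOfFiniteType h]

instance sep_prV (W : Z.Etale) : IsSeparated (prV g W) :=
  MorphismProperty.of_isPullback (P := @IsSeparated)
    (IsPullback.of_hasPullback W.hom g).flip (inferInstance : IsSeparated g)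

omit [LocallyOfFiniteType g] [LocallyOfFiniteType h] in
theorem shriekPred_of_Q (W : Z.Etale) (s : F.obj.obj (op ((bc h).obj ((bc g).obj W))))
    (hQ : Q h g F W s) : ShriekPred h F ((bc g).obj W) s := by
  intro U' ψ
  have h1 := hQ W (𝟙 W)
  have e : F.obj.map ((bc h).map ((bc g).map (𝟙 W))).op s = s := by
    rw [CategoryTheory.Functor.map_id, CategoryTheory.Functor.map_id, op_id, F.obj.map_id]; rfl
  rw [e] at h1
  obtain ⟨A₁, hA₁, hp⟩ := h1
  have hcl : IsClosed (sectSupp F ((bc h).obj ((bc g).obj W)) s) :=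
    Groth.Agent.H4.PushStalkZero.isClosed_sectSupp F _ s
  have hA := isProperOver_mono _ hp hcl hA₁
  have hA' := isProperOver_of_comp (prV h ((bc g).obj W)) (prV g W) hA
  refine ⟨_, le_rfl, ?_⟩
  rw [sectSupp_map]
  exact isProperOver_baseChange (prV h ((bc g).obj W)) (isPullback_bc_map h ψ) hA'

omit [IsSeparated g] in
theorem Q_of_shriekPred (W : Z.Etale)
    (t : ((lowerShriek h).obj F).obj.obj (op ((bc g).obj W)))
    (ht : ShriekPred g ((lowerShriek h).obj F) W t) :
    Q h g F W ((lowerShriekToPush h F).hom.app (op ((bc g).obj W)) t) := by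
  intro W' φ
  rw [← toPush_map]
  obtain ⟨B₁, hB₁, hpB⟩ := ht W' φ
  have hsp := shriekPred_toPush h F ((bc g).obj W')
    (((lowerShriek h).obj F).obj.map ((bc g).map φ).op t)
  have h1 := hsp ((bc g).obj W') (𝟙 _)
  have e : F.obj.map ((bc h).map (𝟙 ((bc g).obj W'))).op
      ((lowerShriekToPush h F).hom.app (op ((bc g).obj W'))
        (((lowerShriek h).obj F).obj.map ((bc g).map φ).op t)) =
      (lowerShriekToPush h F).hom.app (op ((bc g).obj W'))
        (((lowerShriek h).obj F).obj.map ((bc g).map φ).op t) := by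
    rw [CategoryTheory.Functor.map_id, op_id, F.obj.map_id]; rfl
  rw [e] at h1
  obtain ⟨A₁, hA₁, hpA⟩ := h1
  have hcl := Groth.Agent.H4.PushStalkZero.isClosed_sectSupp F _
    ((lowerShriekToPush h F).hom.app (op ((bc g).obj W'))
      (((lowerShriek h).obj F).obj.map ((bc g).map φ).op t))
  refine ⟨_, le_rfl, ?_⟩
  refine isProperOver_comp (prV h ((bc g).obj W')) (prV g W')
    (isProperOver_mono _ hpA hcl hA₁) hpB ?_
  refine (image_sectSupp_subset h F ((bc g).obj W') _).trans ?_
  rw [← sectSupp_eq_of_injective (lowerShriekToPush h F) (toPush_injective h F)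
    ((bc g).obj W')]
  exact hB₁

theorem shriekPred_of_Q' (W : Z.Etale)
    (t : ((lowerShriek h).obj F).obj.obj (op ((bc g).obj W)))
    (hQ : Q h g F W ((lowerShriekToPush h F).hom.app (op ((bc g).obj W)) t)) :
    ShriekPred g ((lowerShriek h).obj F) W t := by
  intro W' φ
  have h1 := hQ W' φ
  rw [← toPush_map] at h1
  obtain ⟨A₁, hA₁, hpA⟩ := h1
  have hcl := Groth.Agent.H4.PushStalkZero.isClosed_sectSupp F _
    ((lowerShriekToPush h F).hom.app (op ((bc g).obj W'))
      (((lowerShriek h).obj F).obj.map ((bc g).map φ).op t))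
  have hA := isProperOver_mono _ hpA hcl hA₁
  have himg := isProperOver_image' (prV h ((bc g).obj W')) (prV g W') hA
  refine ⟨_, ?_, himg⟩
  rw [sectSupp_eq_of_injective (lowerShriekToPush h F) (toPush_injective h F)
    ((bc g).obj W'), sectSupp_push_eq h F ((bc g).obj W') _ himg.1]

end Comp

section Main

variable {X Y Z : Scheme.{u}} (h : X ⟶ Y) (g : Y ⟶ Z)

/-- the canonical isomorphism `X ×_Y (Y ×_Z W) ≅ X ×_Z W` of étale `X`-schemes. -/
noncomputable def εIso : bc g ⋙ bc h ≅ bc (h ≫ g) :=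
  (MorphismProperty.Over.pullbackComp (P := etaleMP) (Q := ⊤) h g).symm

set_option backward.isDefEq.respectTransparency.types false in
theorem ε_fst (W : Z.Etale) :
    ((εIso h g).hom.app W).left ≫ pullback.fst W.hom (h ≫ g) =
      prV h ((bc g).obj W) ≫ prV g W := by
  simp [εIso, prV]
  exact pullbackLeftPullbackSndIso_hom_fst _ _ _

theorem pushComp_inv_app (F : Ab X) (W : Z.Etale)
    (s : F.obj.obj (op ((bc (h ≫ g)).obj W))) :
    ((pushComp g h).inv.app F).hom.app (op W) s = F.obj.map ((εIso h g).hom.app W).op s := by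
  rfl

theorem ε_natural {W W' : Z.Etale} (φ : W' ⟶ W) :
    (bc h).map ((bc g).map φ) ≫ (εIso h g).hom.app W =
      (εIso h g).hom.app W' ≫ (bc (h ≫ g)).map φ :=
  (εIso h g).hom.naturality φ

variable (F : Ab X)

theorem shriekPred_comp_iff (W : Z.Etale) (s₀ : F.obj.obj (op ((bc (h ≫ g)).obj W))) :
    ShriekPred (h ≫ g) F W s₀ ↔ Q h g F W (F.obj.map ((εIso h g).hom.app W).op s₀) := by
  have key : ∀ (W' : Z.Etale) (φ : W' ⟶ W),
      F.obj.map ((bc h).map ((bc g).map φ)).op (F.obj.map ((εIso h g).hom.app W).op s₀) =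
      F.obj.map ((εIso h g).hom.app W').op (F.obj.map ((bc (h ≫ g)).map φ).op s₀) := by
    intro W' φ
    rw [map_comp_apply, map_comp_apply, ε_natural]
  constructor
  · intro H W' φ
    rw [key]
    exact (hasProperSupport_map_iff F ((εIso h g).hom.app W') _ _ (ε_fst h g W') _).2 (H W' φ)
  · intro H W' φ
    have := H W' φ
    rw [key] at this
    exact (hasProperSupport_map_iff F ((εIso h g).hom.app W') _ _ (ε_fst h g W') _).1 this

variable [IsSeparated g] [LocallyOfFiniteType g] [LocallyOfFiniteType h]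

/-- the inclusion `(h ≫ g)_! F ⟶ g_* h_* F`. -/
noncomputable def m₁ : (lowerShriek (h ≫ g)).obj F ⟶ (push g).obj ((push h).obj F) :=
  lowerShriekToPush (h ≫ g) F ≫ (pushComp g h).inv.app F

/-- the inclusion `g_! h_! F ⟶ g_* h_* F`. -/
noncomputable def m₂ :
    (lowerShriek g).obj ((lowerShriek h).obj F) ⟶ (push g).obj ((push h).obj F) :=
  (lowerShriek g).map (lowerShriekToPush h F) ≫ lowerShriekToPush g ((push h).obj F)

omit [IsSeparated g] [LocallyOfFiniteType g] [LocallyOfFiniteType h] in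
theorem m₁_apply (W : Z.Etale) (x : ((lowerShriek (h ≫ g)).obj F).obj.obj (op W)) :
    (m₁ h g F).hom.app (op W) x =
      F.obj.map ((εIso h g).hom.app W).op ((lowerShriekToPush (h ≫ g) F).hom.app (op W) x) :=
  rfl

omit [IsSeparated g] [LocallyOfFiniteType g] [LocallyOfFiniteType h] in
theorem m₂_apply (W : Z.Etale)
    (y : ((lowerShriek g).obj ((lowerShriek h).obj F)).obj.obj (op W)) :
    (m₂ h g F).hom.app (op W) y =
      (lowerShriekToPush h F).hom.app (op ((bc g).obj W))
        ((lowerShriekToPush g ((lowerShriek h).obj F)).hom.app (op W) y) :=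
  toPush_naturality_apply g (lowerShriekToPush h F) W y

theorem m₁_injective (W : Z.Etale) : Function.Injective ((m₁ h g F).hom.app (op W)) := by
  intro a b hab
  rw [m₁_apply, m₁_apply] at hab
  apply toPush_injective (h ≫ g) F W
  have hinj : Function.Injective (F.obj.map ((εIso h g).hom.app W).op) := by
    have : IsIso (F.obj.map ((εIso h g).hom.app W).op) := inferInstance
    exact ((ConcreteCategory.isIso_iff_bijective _).mp this).1
  exact hinj hab

theorem m₂_injective (W : Z.Etale) : Function.Injective ((m₂ h g F).hom.app (op W)) := by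
  intro a b hab
  rw [m₂_apply, m₂_apply] at hab
  exact toPush_injective g _ W (toPush_injective h F _ hab)

theorem m₂_mem (W : Z.Etale)
    (y : ((lowerShriek g).obj ((lowerShriek h).obj F)).obj.obj (op W)) :
    Q h g F W ((m₂ h g F).hom.app (op W) y) := by
  rw [m₂_apply]
  exact Q_of_shriekPred h g F W _ (shriekPred_toPush g _ W y)

theorem exists_m₂_eq (W : Z.Etale) (s : F.obj.obj (op ((bc h).obj ((bc g).obj W))))
    (hs : Q h g F W s) : ∃ y, (m₂ h g F).hom.app (op W) y = s := by
  obtain ⟨t, rfl⟩ := exists_toPush_eq h F _ s (shriekPred_of_Q h g F W s hs)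
  obtain ⟨y, rfl⟩ := exists_toPush_eq g _ W t (shriekPred_of_Q' h g F W t hs)
  exact ⟨y, m₂_apply h g F W y⟩

theorem m₁_mem (W : Z.Etale) (x : ((lowerShriek (h ≫ g)).obj F).obj.obj (op W)) :
    Q h g F W ((m₁ h g F).hom.app (op W) x) := by
  rw [m₁_apply]
  exact (shriekPred_comp_iff h g F W _).1 (shriekPred_toPush (h ≫ g) F W x)

theorem exists_m₁_eq (W : Z.Etale) (s : F.obj.obj (op ((bc h).obj ((bc g).obj W))))
    (hs : Q h g F W s) : ∃ x, (m₁ h g F).hom.app (op W) x = s := by
  have e : F.obj.map ((εIso h g).hom.app W).op (F.obj.map ((εIso h g).inv.app W).op s) = s := by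
    rw [map_comp_apply, Iso.hom_inv_id_app, op_id, F.obj.map_id]; rfl
  have hs₀ : ShriekPred (h ≫ g) F W (F.obj.map ((εIso h g).inv.app W).op s) := by
    rw [shriekPred_comp_iff, e]; exact hs
  obtain ⟨x, hx⟩ := exists_toPush_eq (h ≫ g) F W _ hs₀
  refine ⟨x, ?_⟩
  rw [m₁_apply, hx, e]

/-- the comparison `(h ≫ g)_! F ≅ g_! h_! F`, compatible with the inclusions into `g_* h_* F`. -/
theorem exists_iso :
    ∃ φ : (lowerShriek (h ≫ g)).obj F ≅ (lowerShriek g).obj ((lowerShriek h).obj F),
      φ.hom ≫ m₂ h g F = m₁ h g F := by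
  obtain ⟨a, ha⟩ := exists_lift (m₁ h g F) (m₂ h g F)
    (fun V => m₂_injective h g F V.unop)
    (fun V x => exists_m₂_eq h g F V.unop _ (m₁_mem h g F V.unop x))
  obtain ⟨b, hb⟩ := exists_lift (m₂ h g F) (m₁ h g F)
    (fun V => m₁_injective h g F V.unop)
    (fun V y => exists_m₁_eq h g F V.unop _ (m₂_mem h g F V.unop y))
  have hm₁ : Mono (m₁ h g F) := by
    have h1 : ∀ V : Z.Etaleᵒᵖ, Mono ((m₁ h g F).hom.app V) := fun V =>
      (AddCommGrpCat.mono_iff_injective _).2 (m₁_injective h g F V.unop)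
    have h2 : Mono (m₁ h g F).hom := NatTrans.mono_of_mono_app _
    exact Sheaf.Hom.mono_of_presheaf_mono _ _ _
  have hm₂ : Mono (m₂ h g F) := by
    have h1 : ∀ V : Z.Etaleᵒᵖ, Mono ((m₂ h g F).hom.app V) := fun V =>
      (AddCommGrpCat.mono_iff_injective _).2 (m₂_injective h g F V.unop)
    have h2 : Mono (m₂ h g F).hom := NatTrans.mono_of_mono_app _
    exact Sheaf.Hom.mono_of_presheaf_mono _ _ _
  refine ⟨⟨a, b, ?_, ?_⟩, ha⟩
  · rw [← cancel_mono (m₁ h g F), Category.assoc, hb, ha, Category.id_comp]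
  · rw [← cancel_mono (m₂ h g F), Category.assoc, ha, hb, Category.id_comp]

end Main

section Functor

variable {X Y Z : Scheme.{u}} (h : X ⟶ Y) (g : Y ⟶ Z)
variable [IsSeparated g] [LocallyOfFiniteType g] [LocallyOfFiniteType h]

instance mono_m₂ (F : Ab X) : Mono (m₂ h g F) := by
  have h1 : ∀ V : Z.Etaleᵒᵖ, Mono ((m₂ h g F).hom.app V) := fun V =>
    (AddCommGrpCat.mono_iff_injective _).2 (m₂_injective h g F V.unop)
  have h2 : Mono (m₂ h g F).hom := NatTrans.mono_of_mono_app _
  exact Sheaf.Hom.mono_of_presheaf_mono _ _ _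

omit [IsSeparated g] [LocallyOfFiniteType g] [LocallyOfFiniteType h] in
theorem m₁_natural {F F' : Ab X} (α : F ⟶ F') :
    (lowerShriek (h ≫ g)).map α ≫ m₁ h g F' =
      m₁ h g F ≫ (push g).map ((push h).map α) := by
  unfold m₁
  rw [← Category.assoc, toPush_naturality, Category.assoc, Category.assoc]
  congr 1
  exact (pushComp g h).inv.naturality α

omit [IsSeparated g] [LocallyOfFiniteType g] [LocallyOfFiniteType h] in
theorem m₂_natural {F F' : Ab X} (α : F ⟶ F') :
    (lowerShriek g).map ((lowerShriek h).map α) ≫ m₂ h g F' =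
      m₂ h g F ≫ (push g).map ((push h).map α) := by
  unfold m₂
  calc (lowerShriek g).map ((lowerShriek h).map α) ≫
        (lowerShriek g).map (lowerShriekToPush h F') ≫ lowerShriekToPush g ((push h).obj F')
      = (lowerShriek g).map ((lowerShriek h).map α ≫ lowerShriekToPush h F') ≫
          lowerShriekToPush g ((push h).obj F') := by
        rw [Functor.map_comp, Category.assoc]
    _ = (lowerShriek g).map (lowerShriekToPush h F ≫ (push h).map α) ≫
          lowerShriekToPush g ((push h).obj F') := by rw [toPush_naturality h α]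
    _ = (lowerShriek g).map (lowerShriekToPush h F) ≫
          ((lowerShriek g).map ((push h).map α) ≫ lowerShriekToPush g ((push h).obj F')) := by
        rw [Functor.map_comp, Category.assoc]
    _ = (lowerShriek g).map (lowerShriekToPush h F) ≫
          (lowerShriekToPush g ((push h).obj F) ≫ (push g).map ((push h).map α)) := by
        rw [toPush_naturality g ((push h).map α)]
    _ = _ := by rw [Category.assoc]

/-- `(h ≫ g)_! ≅ h_! ⋙ g_!`, compatibly with the inclusions into direct images. -/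
theorem exists_natIso :
    ∃ φ : lowerShriek (h ≫ g) ≅ lowerShriek h ⋙ lowerShriek g,
      ∀ F : Ab X, φ.hom.app F ≫ m₂ h g F = m₁ h g F := by
  choose φ hφ using fun F : Ab X => exists_iso h g F
  refine ⟨NatIso.ofComponents φ ?_, fun F => hφ F⟩
  intro F F' α
  rw [← cancel_mono (m₂ h g F')]
  change ((lowerShriek (h ≫ g)).map α ≫ (φ F').hom) ≫ m₂ h g F' =
    ((φ F).hom ≫ (lowerShriek g).map ((lowerShriek h).map α)) ≫ m₂ h g F'
  rw [Category.assoc, hφ, m₁_natural, Category.assoc, m₂_natural, ← Category.assoc, hφ]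

theorem existsUnique_natIso :
    ∃! φ : lowerShriek (h ≫ g) ≅ lowerShriek h ⋙ lowerShriek g,
      ∀ F : Ab X, φ.hom.app F ≫ m₂ h g F = m₁ h g F := by
  obtain ⟨φ, hφ⟩ := exists_natIso h g
  refine ⟨φ, hφ, ?_⟩
  intro ψ hψ
  apply Iso.ext
  ext F : 2
  rw [← cancel_mono (m₂ h g F), hψ, hφ]

end Functor

end Groth.Agent.H4.ShriekComp
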