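import Groth.Agent.H4.Excision

/-!
# The comparison map `j_! ⟶ j_*` for a separated étale morphism

* `extFun`, `extHom`: extension by zero of a section along a clopen immersion `k : T ⟶ P` of the
  small étale site, with its characterization `eq_extFun`.
* `gr j W : W ⟶ W ×_X U`, the graph (unit of `compEtale j ⊣ bc j`); for `j` separated étale it is
  an open and closed immersion; `preimage_range_gr`: functoriality of its range.
* `σ j F : F ⟶ j⁻¹ j_* F` (extension by zero along the graphs), natural in `F`.
* `τ j : extZero j ⟶ push j`, its adjoint, with `unit_τ`.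
-/

set_option autoImplicit false
universe u
open CategoryTheory CategoryTheory.Limits AlgebraicGeometry Opposite EtShriek EtCoh
open Groth.Agent.H4.EtRestr Groth.Agent.H4.GlueSec Groth.Agent.H4.Stalks

namespace Groth.Agent.H4.ShriekStar

section Ext

variable {Y : Scheme.{u}}

/-- the open complement of the range of a clopen immersion. -/
noncomputable abbrev cpl {T P : Y.Etale} (k : T ⟶ P) (hcl : IsClosed (Set.range k.left)) :
    P.left.Opens := ⟨(Set.range k.left)ᶜ, hcl.isOpen_compl⟩

/-- existence of the extension by zero along a clopen immersion. -/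
theorem exists_ext (F : Ab Y) {T P : Y.Etale} (k : T ⟶ P) [IsOpenImmersion k.left]
    (hcl : IsClosed (Set.range k.left)) (s : F.obj.obj (op T)) :
    ∃ t : F.obj.obj (op P), F.obj.map k.op t = s ∧ F.obj.map (opnι P (cpl k hcl)).op t = 0 := by
  classical
  have hmono : Mono k := by
    constructor
    intro T' g h e
    apply MorphismProperty.Over.Hom.ext
    have e1 : g.left ≫ k.left = h.left ≫ k.left := congrArg (fun k => k.left) e
    exact (cancel_mono k.left).1 e1
  let Z : Bool → Y.Etale := fun b => if b then T else opn P (cpl k hcl)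
  let f : ∀ b, Z b ⟶ P := fun b => by
    cases b
    · exact opnι P (cpl k hcl)
    · exact k
  let x : ∀ b, F.obj.obj (op (Z b)) := fun b => by
    cases b
    · exact 0
    · exact s
  have hcov : ⋃ b, Set.range (f b).left = Set.univ := by
    ext p
    simp only [Set.mem_iUnion, Set.mem_univ, iff_true]
    by_cases hp : p ∈ Set.range k.left
    · exact ⟨true, hp⟩
    · refine ⟨false, ?_⟩
      show p ∈ Set.range (opnι P (cpl k hcl)).left
      rw [range_opnι]; exact hp
  have hempty : ∀ (T' : Y.Etale) (g : T' ⟶ T) (g' : T' ⟶ opn P (cpl k hcl)),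
      g ≫ k = g' ≫ opnι P (cpl k hcl) → IsEmpty T'.left := by
    intro T' g g' e
    constructor
    intro t
    have e1 : g.left ≫ k.left = g'.left ≫ (cpl k hcl).ι := congrArg (fun k => k.left) e
    have e' : k.left (g.left t) = (cpl k hcl).ι (g'.left t) :=
      congrArg (fun (k : T'.left ⟶ P.left) => k t) e1
    have h2 : (cpl k hcl).ι (g'.left t) ∈ ((cpl k hcl) : Set P.left) := (g'.left t).2
    rw [← e'] at h2
    exact h2 ⟨_, rfl⟩
  obtain ⟨t, ht⟩ := exists_glue F Z f hcov x (by
    intro i j T' gi gj e
    cases i <;> cases j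
    · show F.obj.map gi.op 0 = F.obj.map gj.op 0
      rw [map_zero, map_zero]
    · have := hempty T' gj gi e.symm
      exact (eq_zero_of_isEmpty F _).trans (eq_zero_of_isEmpty F _).symm
    · have := hempty T' gi gj e
      exact (eq_zero_of_isEmpty F _).trans (eq_zero_of_isEmpty F _).symm
    · have : gi = gj := (cancel_mono k).1 e
      rw [this])
  exact ⟨t, ht true, ht false⟩

/-- uniqueness. -/
theorem eq_zero_of_ext (F : Ab Y) {T P : Y.Etale} (k : T ⟶ P)
    (hcl : IsClosed (Set.range k.left)) (t : F.obj.obj (op P))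
    (h1 : F.obj.map k.op t = 0) (h2 : F.obj.map (opnι P (cpl k hcl)).op t = 0) : t = 0 := by
  apply eq_zero_of_locally_zero F
  intro p
  by_cases hp : p ∈ Set.range k.left
  · obtain ⟨w, hw⟩ := hp
    exact ⟨_, k, w, hw, h1⟩
  · have : p ∈ Set.range (opnι P (cpl k hcl)).left := by rw [range_opnι]; exact hp
    obtain ⟨w, hw⟩ := this
    exact ⟨_, opnι P (cpl k hcl), w, hw, h2⟩

/-- the extension by zero of a section along a clopen immersion. -/
noncomputable def extFun (F : Ab Y) {T P : Y.Etale} (k : T ⟶ P) [IsOpenImmersion k.left]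
    (hcl : IsClosed (Set.range k.left)) (s : F.obj.obj (op T)) : F.obj.obj (op P) :=
  (exists_ext F k hcl s).choose

lemma map_extFun (F : Ab Y) {T P : Y.Etale} (k : T ⟶ P) [IsOpenImmersion k.left]
    (hcl : IsClosed (Set.range k.left)) (s : F.obj.obj (op T)) :
    F.obj.map k.op (extFun F k hcl s) = s :=
  (exists_ext F k hcl s).choose_spec.1

lemma map_cpl_extFun (F : Ab Y) {T P : Y.Etale} (k : T ⟶ P) [IsOpenImmersion k.left]
    (hcl : IsClosed (Set.range k.left)) (s : F.obj.obj (op T)) :
    F.obj.map (opnι P (cpl k hcl)).op (extFun F k hcl s) = 0 :=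
  (exists_ext F k hcl s).choose_spec.2

/-- characterization of the extension by zero. -/
lemma eq_extFun (F : Ab Y) {T P : Y.Etale} (k : T ⟶ P) [IsOpenImmersion k.left]
    (hcl : IsClosed (Set.range k.left)) (s : F.obj.obj (op T)) (t : F.obj.obj (op P))
    (h1 : F.obj.map k.op t = s) (h2 : F.obj.map (opnι P (cpl k hcl)).op t = 0) :
    t = extFun F k hcl s := by
  rw [← sub_eq_zero]
  apply eq_zero_of_ext F k hcl
  · rw [map_sub, h1, map_extFun, sub_self]
  · rw [map_sub, h2, map_cpl_extFun, sub_self]

/-- the extension by zero vanishes on anything mapping into the complement. -/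
lemma map_extFun_of_range (F : Ab Y) {T P : Y.Etale} (k : T ⟶ P) [IsOpenImmersion k.left]
    (hcl : IsClosed (Set.range k.left)) (s : F.obj.obj (op T)) {T' : Y.Etale} (g : T' ⟶ P)
    (hg : Set.range g.left ⊆ (Set.range k.left)ᶜ) :
    F.obj.map g.op (extFun F k hcl s) = 0 := by
  obtain ⟨l, hl⟩ := exists_lift_opn P (cpl k hcl) g hg
  rw [← hl, op_comp, Functor.map_comp, ConcreteCategory.comp_apply, map_cpl_extFun, map_zero]

/-- the extension by zero as a group homomorphism. -/
noncomputable def extHom (F : Ab Y) {T P : Y.Etale} (k : T ⟶ P) [IsOpenImmersion k.left]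
    (hcl : IsClosed (Set.range k.left)) : F.obj.obj (op T) ⟶ F.obj.obj (op P) :=
  AddCommGrpCat.ofHom
    { toFun := extFun F k hcl
      map_zero' := by
        symm
        apply eq_extFun <;> rw [map_zero]
      map_add' := fun a b => by
        symm
        apply eq_extFun
        · rw [map_add, map_extFun, map_extFun]
        · rw [map_add, map_cpl_extFun, map_cpl_extFun, add_zero] }

lemma extHom_apply (F : Ab Y) {T P : Y.Etale} (k : T ⟶ P) [IsOpenImmersion k.left]
    (hcl : IsClosed (Set.range k.left)) (s : F.obj.obj (op T)) :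
    extHom F k hcl s = extFun F k hcl s := rfl

end Ext

section Graph

variable {U X : Scheme.{u}} (j : U ⟶ X) [Etale j] [IsSeparated j]

/-- the graph morphism `W ⟶ W ×_X U`, i.e. the unit of `compEtale j ⊣ bc j`. -/
noncomputable abbrev gr (W : U.Etale) : W ⟶ (bc j).obj ((compEtale j).obj W) :=
  (compBcAdj j).unit.app W

lemma gr_left (W : U.Etale) :
    (gr j W).left = pullback.lift (𝟙 W.left) W.hom (Category.id_comp (W.hom ≫ j)) := rfl

instance isClosedImmersion_gr (W : U.Etale) : IsClosedImmersion (gr j W).left := by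
  let h : W.left ⟶ U := W.hom
  have : IsClosedImmersion (pullback.lift (𝟙 W.left) h (Category.id_comp (h ≫ j))) :=
    inferInstance
  exact this

instance isOpenImmersion_gr (W : U.Etale) : IsOpenImmersion (gr j W).left := by
  rw [gr_left]
  exact MorphismProperty.of_isPullback (P := @IsOpenImmersion)
    (pullback_lift_diagonal_isPullback W.hom j) inferInstance

lemma isClosed_range_gr (W : U.Etale) : IsClosed (Set.range (gr j W).left) :=
  (gr j W).left.isClosedEmbedding.isClosed_range

/-- the map `W ×_X U ⟶ U ×_X U`. -/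
noncomputable abbrev mapΔ (W : U.Etale) : pullback (W.hom ≫ j) j ⟶ pullback j j :=
  pullback.map (W.hom ≫ j) j j j W.hom (𝟙 U) (𝟙 X) (by simp) (by simp)

lemma range_gr (W : U.Etale) :
    Set.range (gr j W).left = (mapΔ j W).base ⁻¹' Set.range (pullback.diagonal j).base := by
  have h := Scheme.image_preimage_eq_of_isPullback (pullback_lift_diagonal_isPullback W.hom j)
    Set.univ
  rw [Set.preimage_univ, Set.image_univ, Set.image_univ] at h
  exact h

omit [Etale j] [IsSeparated j] in
lemma bc_map_left_fst {A B : X.Etale} (h : A ⟶ B) :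
    ((bc j).map h).left ≫ pullback.fst B.hom j = pullback.fst A.hom j ≫ h.left := by
  dsimp [bc]
  exact pullback.lift_fst _ _ _

omit [Etale j] [IsSeparated j] in
lemma bc_map_left_snd {A B : X.Etale} (h : A ⟶ B) :
    ((bc j).map h).left ≫ pullback.snd B.hom j = pullback.snd A.hom j := by
  dsimp [bc]
  exact pullback.lift_snd _ _ _

omit [IsSeparated j] in
lemma mapΔ_comp {W' W : U.Etale} (g : W' ⟶ W) :
    ((bc j).map ((compEtale j).map g)).left ≫ mapΔ j W = mapΔ j W' := by
  have hg : g.left ≫ W.hom = W'.hom := MorphismProperty.Over.w g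
  apply pullback.hom_ext
  · have h1 : ((bc j).map ((compEtale j).map g)).left ≫ pullback.fst (W.hom ≫ j) j =
        pullback.fst (W'.hom ≫ j) j ≫ g.left := bc_map_left_fst j ((compEtale j).map g)
    have e1 : mapΔ j W ≫ pullback.fst j j = pullback.fst (W.hom ≫ j) j ≫ W.hom :=
      pullback.lift_fst _ _ _
    have e2 : mapΔ j W' ≫ pullback.fst j j = pullback.fst (W'.hom ≫ j) j ≫ W'.hom :=
      pullback.lift_fst _ _ _
    refine (Category.assoc _ _ _).trans ?_
    refine (congrArg (fun t => ((bc j).map ((compEtale j).map g)).left ≫ t) e1).trans ?_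
    refine (Category.assoc _ _ _).symm.trans ?_
    refine (congrArg (fun t => t ≫ W.hom) h1).trans ?_
    refine (Category.assoc _ _ _).trans ?_
    refine (congrArg (fun t => pullback.fst (W'.hom ≫ j) j ≫ t) hg).trans ?_
    exact e2.symm
  · have h1 : ((bc j).map ((compEtale j).map g)).left ≫ pullback.snd (W.hom ≫ j) j =
        pullback.snd (W'.hom ≫ j) j := bc_map_left_snd j ((compEtale j).map g)
    have e1 : mapΔ j W ≫ pullback.snd j j = pullback.snd (W.hom ≫ j) j ≫ 𝟙 U :=
      pullback.lift_snd _ _ _
    have e2 : mapΔ j W' ≫ pullback.snd j j = pullback.snd (W'.hom ≫ j) j ≫ 𝟙 U :=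
      pullback.lift_snd _ _ _
    refine (Category.assoc _ _ _).trans ?_
    refine (congrArg (fun t => ((bc j).map ((compEtale j).map g)).left ≫ t) e1).trans ?_
    refine (Category.assoc _ _ _).symm.trans ?_
    refine (congrArg (fun t => t ≫ 𝟙 U) h1).trans ?_
    exact e2.symm

lemma preimage_range_gr {W' W : U.Etale} (g : W' ⟶ W) :
    ((bc j).map ((compEtale j).map g)).left.base ⁻¹' Set.range (gr j W).left =
      Set.range (gr j W').left := by
  rw [range_gr, range_gr, ← mapΔ_comp j g]
  rfl

/-- naturality of the extension by zero along the graph. -/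
lemma extFun_gr_natural (F : Ab U) {W' W : U.Etale} (g : W' ⟶ W) (s : F.obj.obj (op W)) :
    F.obj.map ((bc j).map ((compEtale j).map g)).op
        (extFun F (gr j W) (isClosed_range_gr j W) s) =
      extFun F (gr j W') (isClosed_range_gr j W') (F.obj.map g.op s) := by
  apply eq_extFun
  · have nat : gr j W' ≫ (bc j).map ((compEtale j).map g) = g ≫ gr j W :=
      ((compBcAdj j).unit.naturality g).symm
    rw [Groth.Agent.H4.SuppSec.map_comp_apply, nat, ← Groth.Agent.H4.SuppSec.map_comp_apply,
      map_extFun]
  · rw [Groth.Agent.H4.SuppSec.map_comp_apply]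
    apply map_extFun_of_range
    rintro _ ⟨q, rfl⟩
    intro hq
    have h1 : (opnι _ (cpl (gr j W') (isClosed_range_gr j W'))).left q ∈
        ((bc j).map ((compEtale j).map g)).left.base ⁻¹' Set.range (gr j W).left := hq
    rw [preimage_range_gr] at h1
    have h2 : (opnι _ (cpl (gr j W') (isClosed_range_gr j W'))).left q ∈
        Set.range (opnι _ (cpl (gr j W') (isClosed_range_gr j W'))).left := ⟨q, rfl⟩
    rw [range_opnι] at h2
    exact h2 h1

/-- the natural map `F ⟶ j⁻¹ j_* F` (extension by zero along the graphs). -/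
noncomputable def σ (F : Ab U) : F ⟶ (restrAlong j).obj ((push j).obj F) :=
  ⟨{ app := fun W => extHom F (gr j W.unop) (isClosed_range_gr j W.unop)
     naturality := fun W W' g => by
       ext s
       exact (extFun_gr_natural j F g.unop s).symm }⟩

lemma σ_app_apply (F : Ab U) (W : U.Etale) (s : F.obj.obj (op W)) :
    (σ j F).hom.app (op W) s = extFun F (gr j W) (isClosed_range_gr j W) s := rfl

lemma σ_natural {F G : Ab U} (a : F ⟶ G) :
    a ≫ σ j G = σ j F ≫ (restrAlong j).map ((push j).map a) := by
  ext W s
  show extFun G (gr j W.unop) (isClosed_range_gr j W.unop) (a.hom.app W s) =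
    a.hom.app (op ((bc j).obj ((compEtale j).obj W.unop)))
      (extFun F (gr j W.unop) (isClosed_range_gr j W.unop) s)
  symm
  apply eq_extFun
  · have := ConcreteCategory.congr_hom (a.hom.naturality (gr j W.unop).op)
      (extFun F (gr j W.unop) (isClosed_range_gr j W.unop) s)
    refine this.symm.trans ?_
    show a.hom.app _ (F.obj.map (gr j W.unop).op _) = _
    rw [map_extFun]
  · have := ConcreteCategory.congr_hom (a.hom.naturality
      (opnι _ (cpl (gr j W.unop) (isClosed_range_gr j W.unop))).op)
      (extFun F (gr j W.unop) (isClosed_range_gr j W.unop) s)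
    refine this.symm.trans ?_
    show a.hom.app _ (F.obj.map (opnι _ (cpl (gr j W.unop) (isClosed_range_gr j W.unop))).op _) = _
    rw [map_cpl_extFun, map_zero]

/-- the comparison map `j_! ⟶ j_*`. -/
noncomputable def τ : extZero j ⟶ push j where
  app F := (extZero j).map (σ j F) ≫ (extZeroAdj j).counit.app ((push j).obj F)
  naturality F G a := by
    have h1 := (extZeroAdj j).counit.naturality ((push j).map a)
    dsimp only [Functor.comp_obj, Functor.comp_map, Functor.id_obj, Functor.id_map] at h1
    rw [← Category.assoc, ← Functor.map_comp, σ_natural, Functor.map_comp, Category.assoc, h1,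
      Category.assoc]

lemma unit_τ (F : Ab U) :
    (extZeroAdj j).unit.app F ≫ (restrAlong j).map ((τ j).app F) = σ j F := by
  have h1 := (extZeroAdj j).unit.naturality (σ j F)
  have h2 := (extZeroAdj j).right_triangle_components ((push j).obj F)
  dsimp only [Functor.comp_obj, Functor.comp_map, Functor.id_obj, Functor.id_map] at h1 h2
  dsimp only [τ]
  rw [Functor.map_comp, ← Category.assoc, ← h1, Category.assoc, h2, Category.comp_id]

end Graph

end Groth.Agent.H4.ShriekStar
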