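import Groth.Agent.H4.OpenShriekSec
import Groth.Agent.H4.ShriekStar

/-!
# `f_! ≅ f̄_* ∘ j_!` for a compactification `f = f̄ ∘ j` (helper4)

For an open immersion `j : X ⟶ Xb`, a proper `fb : Xb ⟶ Y` and an abelian étale sheaf `F` on `X`,
the sections of `j_! F` over `Xb ×_Y V` are the sections of `F` over `X ×_Y V` with support proper
over `V`.
-/

set_option autoImplicit false
open CategoryTheory CategoryTheory.Limits AlgebraicGeometry Opposite
universe u
open EtCoh EtShriek Groth.Agent.H4.Stalks Groth.Agent.H4.GlueSec Groth.Agent.H4.SuppSec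
open Groth.Agent.H4.OpenShriekSec

namespace Groth.Agent.H4.ShriekCompact

section General

variable {X Xb : Scheme.{u}} (j : X ⟶ Xb) [IsOpenImmersion j] [JCont j] (F : Ab X)
variable {V₀ : X.Etale} {P : Xb.Etale} (c : (compEtale j).obj V₀ ⟶ P)

/-- a section of `j_! F` over `P` is determined by its restriction along `c : (V₀ → X → Xb) ⟶ P`
as soon as `c` covers the preimage of `X` in `P`. -/
theorem eq_zero_of_restrict
    (hr : ∀ p : P.left, P.hom p ∈ Set.range j → p ∈ Set.range c.left)
    (t : ((extZero j).obj F).obj.obj (op P))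
    (h : ((extZero j).obj F).obj.map c.op t = 0) : t = 0 := by
  apply eq_zero_of_locally_zero
  intro p
  by_cases hp : P.hom p ∈ Set.range j
  · obtain ⟨x, hx⟩ := hr p hp
    exact ⟨_, c, x, hx, h⟩
  · exact exists_nhd_zero j F t p hp

/-- the support of a section of `j_! F` over `P` is the image of the support of its restriction
along `c`. -/
theorem image_supp_eq
    (hr : ∀ p : P.left, P.hom p ∈ Set.range j → p ∈ Set.range c.left)
    (t : ((extZero j).obj F).obj.obj (op P)) (s : F.obj.obj (op V₀))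
    (h : ηV j F V₀ s = ((extZero j).obj F).obj.map c.op t) :
    c.left '' (sectSupp F V₀ s) = sectSupp ((extZero j).obj F) P t := by
  ext p
  constructor
  · rintro ⟨x, hx, rfl⟩
    by_contra hcon
    obtain ⟨W', g', w', hw', h0⟩ := (not_mem_sectSupp_iff _ _ t (c.left x)).1 hcon
    obtain ⟨T₀, a, b, t₀, hab, -, hbt⟩ := exists_pullback_point g' c w' x hw'
    have h1 : ((extZero j).obj F).obj.map b.op (ηV j F V₀ s) = 0 := by
      rw [h, map_comp_apply, ← hab, ← map_comp_apply, h0, map_zero]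
    obtain ⟨V', k, hk, hr'⟩ := (map_ηV_eq_zero_iff j F b s).1 h1
    have hxr : x ∈ Set.range k.left := by rw [hr']; exact ⟨t₀, hbt⟩
    obtain ⟨v, hv⟩ := hxr
    exact (not_mem_sectSupp_iff F _ s x).2 ⟨V', k, v, hv, hk⟩ hx
  · intro hp
    have hpr : p ∈ Set.range c.left := by
      by_contra hpr
      have hpj : P.hom p ∉ Set.range j := fun hh => hpr (hr p hh)
      obtain ⟨W, g, w, hw, hg⟩ := exists_nhd_zero j F t p hpj
      exact hp W g ⟨w, hw⟩ hg
    obtain ⟨x, rfl⟩ := hpr
    refine ⟨x, ?_, rfl⟩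
    by_contra hcon
    obtain ⟨W, g, w, hw, h0⟩ := (not_mem_sectSupp_iff F _ s x).1 hcon
    have h1 : ((extZero j).obj F).obj.map ((compEtale j).map g ≫ c).op t = 0 := by
      rw [← map_comp_apply, ← h, ηV_natural, h0, map_zero]
    refine hp _ ((compEtale j).map g ≫ c) ⟨w, ?_⟩ h1
    change c.left (g.left w) = c.left x
    rw [hw]

/-- the support of a section of `j_! F` over `P`, restricted along `c`, has closed image. -/
theorem isClosed_image_supp
    (hr : ∀ p : P.left, P.hom p ∈ Set.range j → p ∈ Set.range c.left)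
    (t : ((extZero j).obj F).obj.obj (op P)) (s : F.obj.obj (op V₀))
    (h : ηV j F V₀ s = ((extZero j).obj F).obj.map c.op t) :
    IsClosed (c.left '' (sectSupp F V₀ s)) := by
  rw [image_supp_eq j F c hr t s h]
  exact Groth.Agent.H4.PushStalkZero.isClosed_sectSupp _ _ t

set_option backward.isDefEq.respectTransparency.types false in
/-- a section of `F` over `V₀` whose support has closed image in `P` extends to a section of
`j_! F` over `P`. -/
theorem exists_section_of_isClosed [Mono c] (s : F.obj.obj (op V₀))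
    (hcl : IsClosed (c.left '' (sectSupp F V₀ s))) :
    ∃ t : ((extZero j).obj F).obj.obj (op P),
      ((extZero j).obj F).obj.map c.op t = ηV j F V₀ s := by
  classical
  let G := (extZero j).obj F
  let Z : Set V₀.left := sectSupp F V₀ s
  have hZ : IsClosed Z := Groth.Agent.H4.PushStalkZero.isClosed_sectSupp F _ s
  let W : P.left.Opens := ⟨(c.left '' Z)ᶜ, hcl.isOpen_compl⟩
  let Y : Bool → Xb.Etale := fun b => if b then (compEtale j).obj V₀ else opn P W
  let f : ∀ b, Y b ⟶ P := fun b => by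
    cases b
    · exact opnι P W
    · exact c
  let x : ∀ b, G.obj.obj (op (Y b)) := fun b => by
    cases b
    · exact 0
    · exact ηV j F V₀ s
  have hcov : ⋃ b, Set.range (f b).left = Set.univ := by
    ext p
    simp only [Set.mem_iUnion, Set.mem_univ, iff_true]
    by_cases hp : p ∈ c.left '' Z
    · obtain ⟨z, -, rfl⟩ := hp
      exact ⟨true, ⟨z, rfl⟩⟩
    · refine ⟨false, ?_⟩
      show p ∈ Set.range (opnι P W).left
      rw [range_opnι]; exact hp
  have hzero : ∀ (T : Xb.Etale) (g : T ⟶ (compEtale j).obj V₀)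
      (g' : T ⟶ opn P W), g ≫ c = g' ≫ opnι P W →
      G.obj.map g.op (ηV j F V₀ s) = 0 := by
    intro T g g' e
    refine map_ηV_eq_zero_of_range j F g s Z hZ le_rfl ?_
    rintro _ ⟨v, rfl⟩ hv
    have e1 : g.left ≫ c.left = g'.left ≫ W.ι := congrArg (fun k => k.left) e
    have e2 : c.left (g.left v) = W.ι (g'.left v) :=
      congrArg (fun (k : T.left ⟶ P.left) => k v) e1
    have h2 : W.ι (g'.left v) ∈ (c.left '' Z)ᶜ := (g'.left v).2
    rw [← e2] at h2
    exact h2 ⟨g.left v, hv, rfl⟩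
  obtain ⟨t, ht⟩ := exists_glue G Y f hcov x (by
    intro i i' T gi gj e
    cases i <;> cases i'
    · show G.obj.map gi.op 0 = G.obj.map gj.op 0
      rw [map_zero, map_zero]
    · show G.obj.map gi.op 0 = G.obj.map gj.op (ηV j F V₀ s)
      rw [map_zero, hzero T gj gi e.symm]
    · show G.obj.map gi.op (ηV j F V₀ s) = G.obj.map gj.op 0
      rw [map_zero, hzero T gi gj e]
    · have : gi = gj := (cancel_mono c).1 e
      rw [this])
  exact ⟨t, ht true⟩

end General

section Proper

variable {X : Scheme.{u}} (F : Ab X)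

/-- a section over `U`, where `U` is open in a scheme `Pb` proper over `S`, has proper support
over `S` iff its support is closed in `Pb`. -/
theorem hasProperSupport_iff {U : X.Etale} {Pb S : Scheme.{u}} (i : U.left ⟶ Pb)
    [IsOpenImmersion i] (pb : Pb ⟶ S) [IsProper pb] (g : U.left ⟶ S)
    (hg : g = i ≫ pb) (s : F.obj.obj (op U)) :
    HasProperSupport F U s g ↔ IsClosed (i '' (sectSupp F U s)) := by
  have hZ : IsClosed (sectSupp F U s) :=
    Groth.Agent.H4.PushStalkZero.isClosed_sectSupp F _ s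
  subst hg
  constructor
  · rintro ⟨Z', hsub, hcl, hprop⟩
    have h3 : IsClosed (i '' Z') :=
      (isProper_subschemeι_comp_iff i pb ⟨Z', hcl⟩).1 hprop
    exact isClosed_image_of_subset i hZ hsub h3
  · intro hcl
    exact ⟨sectSupp F U s, le_rfl, hZ,
      (isProper_subschemeι_comp_iff i pb ⟨_, hZ⟩).2 hcl⟩

end Proper

section CV

variable {X Xb Y : Scheme.{u}} (j : X ⟶ Xb) [IsOpenImmersion j] (fb : Xb ⟶ Y)

/-- the open immersion `X ×_Y V ⟶ Xb ×_Y V` of schemes. -/
noncomputable def cL (V : Y.Etale) : pullback V.hom (j ≫ fb) ⟶ pullback V.hom fb :=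
  pullback.lift (pullback.fst V.hom (j ≫ fb)) (pullback.snd V.hom (j ≫ fb) ≫ j)
    (by rw [pullback.condition, Category.assoc])

omit [IsOpenImmersion j] in
@[reassoc (attr := simp)]
lemma cL_fst (V : Y.Etale) : cL j fb V ≫ pullback.fst V.hom fb = pullback.fst V.hom (j ≫ fb) :=
  pullback.lift_fst _ _ _

omit [IsOpenImmersion j] in
@[reassoc (attr := simp)]
lemma cL_snd (V : Y.Etale) :
    cL j fb V ≫ pullback.snd V.hom fb = pullback.snd V.hom (j ≫ fb) ≫ j :=
  pullback.lift_snd _ _ _

omit [IsOpenImmersion j] in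
lemma isPullback_cL (V : Y.Etale) :
    IsPullback (cL j fb V) (pullback.snd V.hom (j ≫ fb)) (pullback.snd V.hom fb) j := by
  refine IsPullback.of_right (h₁₂ := pullback.fst V.hom fb) (v₁₃ := V.hom) (h₂₂ := fb) ?_
    (cL_snd j fb V) (IsPullback.of_hasPullback V.hom fb)
  rw [cL_fst]
  exact IsPullback.of_hasPullback V.hom (j ≫ fb)

instance isOpenImmersion_cL (V : Y.Etale) : IsOpenImmersion (cL j fb V) :=
  MorphismProperty.of_isPullback (P := @IsOpenImmersion) (isPullback_cL j fb V).flip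
    (inferInstance : IsOpenImmersion j)

omit [IsOpenImmersion j] in
lemma mem_range_cL (V : Y.Etale) (p : ↥(pullback V.hom fb))
    (hp : pullback.snd V.hom fb p ∈ Set.range j) : p ∈ Set.range (cL j fb V) := by
  obtain ⟨x, hx⟩ := hp
  obtain ⟨z, hz1, -⟩ := Scheme.Pullback.exists_preimage_pullback
    (f := pullback.snd V.hom fb) (g := j) p x hx.symm
  refine ⟨(isPullback_cL j fb V).isoPullback.inv z, ?_⟩
  rw [← hz1, ← Scheme.Hom.comp_apply, IsPullback.isoPullback_inv_fst]

/-- the morphism `(X ×_Y V → X → Xb) ⟶ Xb ×_Y V` of the small étale site of `Xb`. -/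
noncomputable def cV (V : Y.Etale) :
    (compEtale j).obj ((bc (j ≫ fb)).obj V) ⟶ (bc fb).obj V :=
  MorphismProperty.Over.homMk (cL j fb V) (cL_snd j fb V) trivial

@[simp] lemma cV_left (V : Y.Etale) : (cV j fb V).left = cL j fb V := rfl

instance mono_cV (V : Y.Etale) : Mono (cV j fb V) := by
  constructor
  intro T g h e
  apply MorphismProperty.Over.Hom.ext
  have e1 : g.left ≫ cL j fb V = h.left ≫ cL j fb V := congrArg (fun k => k.left) e
  exact (cancel_mono (cL j fb V)).1 e1

omit [IsOpenImmersion j] in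
lemma cL_natural {V V' : Y.Etale} (g : V'.left ⟶ V.left)
    (a : pullback V'.hom (j ≫ fb) ⟶ pullback V.hom (j ≫ fb))
    (b : pullback V'.hom fb ⟶ pullback V.hom fb)
    (ha1 : a ≫ pullback.fst V.hom (j ≫ fb) = pullback.fst V'.hom (j ≫ fb) ≫ g)
    (ha2 : a ≫ pullback.snd V.hom (j ≫ fb) = pullback.snd V'.hom (j ≫ fb))
    (hb1 : b ≫ pullback.fst V.hom fb = pullback.fst V'.hom fb ≫ g)
    (hb2 : b ≫ pullback.snd V.hom fb = pullback.snd V'.hom fb) :
    a ≫ cL j fb V = cL j fb V' ≫ b := by
  apply pullback.hom_ext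
  · rw [Category.assoc, cL_fst, Category.assoc, hb1, cL_fst_assoc, ha1]
  · rw [Category.assoc, cL_snd, Category.assoc, hb2, cL_snd, ← Category.assoc, ha2]

lemma cV_natural {V V' : Y.Etale} (φ : V' ⟶ V) :
    (compEtale j).map ((bc (j ≫ fb)).map φ) ≫ cV j fb V = cV j fb V' ≫ (bc fb).map φ := by
  apply MorphismProperty.Over.Hom.ext
  exact cL_natural j fb φ.left ((bc (j ≫ fb)).map φ).left ((bc fb).map φ).left
    (Groth.Agent.H4.ShriekStar.bc_map_left_fst _ φ)
    (Groth.Agent.H4.ShriekStar.bc_map_left_snd _ φ)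
    (Groth.Agent.H4.ShriekStar.bc_map_left_fst _ φ)
    (Groth.Agent.H4.ShriekStar.bc_map_left_snd _ φ)

end CV


section Main

variable {X Xb Y : Scheme.{u}} (j : X ⟶ Xb) [IsOpenImmersion j] [JCont j] (fb : Xb ⟶ Y)
variable (F : Ab X)

/-- restriction of sections of `j_! F` over `Xb ×_Y V` to `X ×_Y V`, read in `F`. -/
noncomputable def Ψ (V : Y.Etale) :
    ((extZero j).obj F).obj.obj (op ((bc fb).obj V)) →+
      F.obj.obj (op ((bc (j ≫ fb)).obj V)) :=
  (inv (ηV j F ((bc (j ≫ fb)).obj V))).hom.comp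
    (((extZero j).obj F).obj.map (cV j fb V).op).hom

theorem ηV_Ψ (V : Y.Etale) (t : ((extZero j).obj F).obj.obj (op ((bc fb).obj V))) :
    ηV j F ((bc (j ≫ fb)).obj V) (Ψ j fb F V t) =
      ((extZero j).obj F).obj.map (cV j fb V).op t := by
  change (inv (ηV j F ((bc (j ≫ fb)).obj V)) ≫ ηV j F ((bc (j ≫ fb)).obj V)).hom _ = _
  rw [IsIso.inv_hom_id]
  rfl

theorem Ψ_injective (V : Y.Etale) : Function.Injective (Ψ j fb F V) := by
  rw [injective_iff_map_eq_zero]
  intro t ht
  apply eq_zero_of_restrict j F (cV j fb V) (fun p hp => mem_range_cL j fb V p hp) t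
  rw [← ηV_Ψ, ht, map_zero]

theorem Ψ_natural {V V' : Y.Etale} (φ : V' ⟶ V)
    (t : ((extZero j).obj F).obj.obj (op ((bc fb).obj V))) :
    F.obj.map ((bc (j ≫ fb)).map φ).op (Ψ j fb F V t) =
      Ψ j fb F V' (((extZero j).obj F).obj.map ((bc fb).map φ).op t) := by
  apply ηV_injective j F
  rw [← ηV_natural, ηV_Ψ, ηV_Ψ, map_comp_apply, map_comp_apply, cV_natural]

variable {F} in
theorem ηV_natural_F {G : Ab X} (α : F ⟶ G) (V : X.Etale) (s : F.obj.obj (op V)) :
    ((extZero j).map α).hom.app (op ((compEtale j).obj V)) (ηV j F V s) =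
      ηV j G V (α.hom.app (op V) s) := by
  have := congrArg (fun φ => φ.hom.app (op V)) ((extZeroAdj j).unit.naturality α)
  exact (congrArg (fun φ => φ.hom s) this).symm

variable {F} in
theorem Ψ_natural_F {G : Ab X} (α : F ⟶ G) (V : Y.Etale)
    (t : ((extZero j).obj F).obj.obj (op ((bc fb).obj V))) :
    α.hom.app (op ((bc (j ≫ fb)).obj V)) (Ψ j fb F V t) =
      Ψ j fb G V (((extZero j).map α).hom.app (op ((bc fb).obj V)) t) := by
  apply ηV_injective j G
  rw [← ηV_natural_F, ηV_Ψ, ηV_Ψ]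
  exact congrArg (fun φ => φ.hom t) (((extZero j).map α).hom.naturality (cV j fb V).op)

theorem shriekPred_Ψ [IsProper fb] (V : Y.Etale)
    (t : ((extZero j).obj F).obj.obj (op ((bc fb).obj V))) :
    ShriekPred (j ≫ fb) F V (Ψ j fb F V t) := by
  intro V' φ
  rw [Ψ_natural]
  have hprop : IsProper (pullback.fst V'.hom fb) := inferInstance
  have hopen : IsOpenImmersion (cL j fb V') := isOpenImmersion_cL j fb V'
  refine (@hasProperSupport_iff X F ((bc (j ≫ fb)).obj V') _ _ (cL j fb V') hopen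
    (pullback.fst V'.hom fb) hprop (prV (j ≫ fb) V') (cL_fst j fb V').symm _).2 ?_
  exact isClosed_image_supp j F (cV j fb V') (fun p hp => mem_range_cL j fb V' p hp) _ _
    (ηV_Ψ j fb F V' _)

theorem exists_of_shriekPred [IsProper fb] (V : Y.Etale)
    (s : F.obj.obj (op ((bc (j ≫ fb)).obj V))) (hs : ShriekPred (j ≫ fb) F V s) :
    ∃ t, Ψ j fb F V t = s := by
  have h1 := hs V (𝟙 V)
  have e : F.obj.map ((bc (j ≫ fb)).map (𝟙 V)).op s = s := by
    rw [CategoryTheory.Functor.map_id, op_id, F.obj.map_id]; rfl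
  rw [e] at h1
  have hprop : IsProper (pullback.fst V.hom fb) := inferInstance
  have hopen : IsOpenImmersion (cL j fb V) := isOpenImmersion_cL j fb V
  have hcl := (@hasProperSupport_iff X F ((bc (j ≫ fb)).obj V) _ _ (cL j fb V) hopen
    (pullback.fst V.hom fb) hprop (prV (j ≫ fb) V) (cL_fst j fb V).symm s).1 h1
  obtain ⟨t, ht⟩ := exists_section_of_isClosed j F (cV j fb V) s hcl
  refine ⟨t, ?_⟩
  apply ηV_injective j F
  rw [ηV_Ψ, ht]

theorem range_Ψ [IsProper fb] (V : Y.Etale) :
    (Ψ j fb F V).range = shriekSubgroup (j ≫ fb) F V := by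
  apply le_antisymm
  · rintro _ ⟨t, rfl⟩
    exact AddSubgroup.subset_closure (shriekPred_Ψ j fb F V t)
  · rw [shriekSubgroup, AddSubgroup.closure_le]
    intro s hs
    exact exists_of_shriekPred j fb F V s hs

variable [IsProper fb]

/-- sections of `j_! F` over `Xb ×_Y V` are the sections of `F` over `X ×_Y V` with proper
support over `V`. -/
noncomputable def Ψe (V : Y.Etale) :
    ((extZero j).obj F).obj.obj (op ((bc fb).obj V)) ≃+ shriekSubgroup (j ≫ fb) F V :=
  AddEquiv.ofBijective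
    ((Ψ j fb F V).codRestrict (shriekSubgroup (j ≫ fb) F V)
      (fun t => by rw [← range_Ψ]; exact ⟨t, rfl⟩))
    ⟨fun a b hab => Ψ_injective j fb F V (congrArg Subtype.val hab), fun s => by
      obtain ⟨t, ht⟩ : (s : F.obj.obj (op ((bc (j ≫ fb)).obj V))) ∈ (Ψ j fb F V).range := by
        rw [range_Ψ]; exact s.2
      exact ⟨t, Subtype.ext ht⟩⟩

lemma Ψe_coe (V : Y.Etale) (t : ((extZero j).obj F).obj.obj (op ((bc fb).obj V))) :
    ((Ψe j fb F V t : shriekSubgroup (j ≫ fb) F V) : F.obj.obj (op ((bc (j ≫ fb)).obj V))) =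
      Ψ j fb F V t := rfl

/-- the isomorphism of presheaves `f̄_* j_! F ≅ (sections with proper support)`. -/
noncomputable def isoPre :
    ((push fb).obj ((extZero j).obj F)).obj ≅ lowerShriekPre (j ≫ fb) F :=
  NatIso.ofComponents (fun V => (Ψe j fb F V.unop).toAddCommGrpIso) (by
    intro V V' φ
    ext t
    apply Subtype.ext
    exact (Ψ_natural j fb F φ.unop t).symm)

/-- the isomorphism of functors to presheaves. -/
noncomputable def isoFun :
    (extZero j ⋙ push fb) ⋙ sheafToPresheaf Y.smallEtaleTopology AddCommGrpCat.{u + 1} ≅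
      lowerShriekPreFunctor (j ≫ fb) :=
  NatIso.ofComponents (fun F => isoPre j fb F) (by
    intro F G α
    ext V t
    apply Subtype.ext
    show Ψ j fb G V.unop (((extZero j).map α).hom.app (op ((bc fb).obj V.unop)) t) =
      α.hom.app (op ((bc (j ≫ fb)).obj V.unop)) (Ψ j fb F V.unop t)
    exact (Ψ_natural_F j fb α V.unop t).symm)

theorem lowerShriek_iso :
    Nonempty (lowerShriek (j ≫ fb) ≅ extZero j ⋙ push fb) :=
  ⟨Functor.isoWhiskerRight (isoFun j fb).symm (presheafToSheaf _ _) ≪≫ Functor.associator _ _ _ ≪≫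
    Functor.isoWhiskerLeft _ (asIso (sheafificationAdjunction _ _).counit) ≪≫ Functor.rightUnitor _⟩

end Main

end Groth.Agent.H4.ShriekCompact
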