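import Groth.Agent.H4.ShriekEtLocal

/-! # `j_! ≅ lowerShriek j` for a separated étale morphism `j` (helper4) -/

set_option autoImplicit false
open CategoryTheory CategoryTheory.Limits AlgebraicGeometry Opposite
universe u
open EtCoh EtShriek Groth.Agent.H4.Stalks Groth.Agent.H4.GlueSec Groth.Agent.H4.SuppSec
open Groth.Agent.H4.ShriekSheaf Groth.Agent.H4.ShriekSections Groth.Agent.H4.ExtZero
open Groth.Agent.H4.ExtClopen Groth.Agent.H4.ProperSupp Groth.Agent.H4.ShriekGraph
open Groth.Agent.H4.ShriekEtLocal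

namespace Groth.Agent.H4.ShriekEtIso

variable {U X : Scheme.{u}} (j : U ⟶ X) [hj : Etale j]

set_option backward.isDefEq.respectTransparency.types false in
theorem toV_str {V : X.Etale} (φ : V ⟶ Xj j) : toV j φ ≫ str j (Vφ j φ) = φ := by
  apply MorphismProperty.Over.Hom.ext
  change 𝟙 _ ≫ φ.left = φ.left
  exact Category.id_comp _

set_option backward.isDefEq.respectTransparency.types false in
theorem graph_toV {V : X.Etale} (φ : V ⟶ Xj j) :
    graph j φ ≫ (bc j).map (toV j φ) = 𝟙 (Vφ j φ) ≫ graph j (str j (Vφ j φ)) := by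
  apply MorphismProperty.Over.Hom.ext
  exact graphL_comp (h := MorphismProperty.Over.w (str j (Vφ j φ)))
    (h' := MorphismProperty.Over.w φ)
    ((bc j).map (toV j φ)).left (isPullback_bc_map j (toV j φ)).w
    (bc_map_snd j (toV j φ)) (Category.id_comp _)

section Epi

variable [IsSeparated j] [JCont j] (F : Ab U)

omit [JCont j] in
theorem e_toV {V : X.Etale} (φ : V ⟶ Xj j) (t : F.obj.obj (op (Vφ j φ))) :
    F.obj.map ((bc j).map (toV j φ)).op (e j F (str j (Vφ j φ)) t) = e j F φ t := by
  have := e_map' j F (toV j φ) (str j (Vφ j φ)) φ (toV_str j φ) (𝟙 (Vφ j φ)) (graph_toV j φ) t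
  have h1 : F.obj.map (𝟙 (Vφ j φ)).op t = t := by
    rw [op_id, F.obj.map_id]; rfl
  exact this.trans (congrArg (e j F φ) h1)

variable {F} in
theorem exists_of_mem_sumsE {H : Ab X} (d : (lowerShriek j).obj F ⟶ H)
    (hd : ∀ (W : U.Etale) (t : F.obj.obj (op W)),
      d.hom.app (op ((compEtale j).obj W)) ((η j F).hom.app (op W) t) = 0)
    {V : X.Etale} (s : F.obj.obj (op ((bc j).obj V))) (hs : s ∈ sumsE j F V) :
    ∃ y : ((lowerShriek j).obj F).obj.obj (op V),
      (lowerShriekToPush j F).hom.app (op V) y = s ∧ d.hom.app (op V) y = 0 := by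
  refine AddSubgroup.closure_induction
    (p := fun s _ => ∃ y : ((lowerShriek j).obj F).obj.obj (op V),
      (lowerShriekToPush j F).hom.app (op V) y = s ∧ d.hom.app (op V) y = 0) ?_ ?_ ?_ ?_ hs
  · rintro _ ⟨φ, t, rfl⟩
    let y₀ : ((lowerShriek j).obj F).obj.obj (op ((compEtale j).obj (Vφ j φ))) :=
      (η j F).hom.app (op (Vφ j φ)) t
    refine ⟨((lowerShriek j).obj F).obj.map (toV j φ).op y₀, ?_, ?_⟩
    · have h1 := η_toPush_apply j F (Vφ j φ) t
      exact (toPush_map j F (toV j φ) y₀).trans ((congrArg _ h1).trans (e_toV j F φ t))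
    · have n := congrArg (fun ψ => ψ.hom y₀) (d.hom.naturality (toV j φ).op)
      refine n.trans ?_
      show H.obj.map (toV j φ).op (d.hom.app _ y₀) = 0
      rw [hd, map_zero]
  · exact ⟨0, map_zero _, map_zero _⟩
  · rintro a b _ _ ⟨ya, ha1, ha2⟩ ⟨yb, hb1, hb2⟩
    exact ⟨ya + yb, by rw [map_add, ha1, hb1], by rw [map_add, ha2, hb2, add_zero]⟩
  · rintro a _ ⟨ya, ha1, ha2⟩
    exact ⟨-ya, by rw [map_neg, ha1], by rw [map_neg, ha2, neg_zero]⟩

theorem epi_τ : Epi ((τ j).app F) := by
  apply Preadditive.epi_of_cancel_zero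
  intro H d hd
  have hη : η j F ≫ (restrAlong j).map d = 0 := by
    rw [← unit_τ, Category.assoc, ← Functor.map_comp, hd, Functor.map_zero, comp_zero]
  have hd' : ∀ (W : U.Etale) (t : F.obj.obj (op W)),
      d.hom.app (op ((compEtale j).obj W)) ((η j F).hom.app (op W) t) = 0 := by
    intro W t
    have := congrArg (fun φ => φ.hom.app (op W)) hη
    exact congrArg (fun φ => φ.hom t) this
  apply Sheaf.hom_ext
  ext V x
  show d.hom.app V x = 0
  apply eq_zero_of_locally_zero H
  intro v
  have hs := shriekPred_toPush j F V.unop x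
  have hps := hs V.unop (𝟙 V.unop)
  have e0 : F.obj.map ((bc j).map (𝟙 V.unop)).op ((lowerShriekToPush j F).hom.app V x) =
      (lowerShriekToPush j F).hom.app V x := by
    rw [CategoryTheory.Functor.map_id, op_id, F.obj.map_id]; rfl
  rw [e0] at hps
  obtain ⟨V', k, v', hv', hmem⟩ := locSum_of_hasProperSupport j F V.unop _ hps v
  obtain ⟨y, hy1, hy2⟩ := exists_of_mem_sumsE j d hd' _ hmem
  have hy : y = ((lowerShriek j).obj F).obj.map k.op x := by
    apply toPush_injective j F V'
    rw [hy1, toPush_map]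
  refine ⟨V', k, v', hv', ?_⟩
  have n := congrArg (fun ψ => ψ.hom x) (d.hom.naturality k.op)
  refine n.symm.trans ?_
  show d.hom.app (op V') (((lowerShriek j).obj F).obj.map k.op x) = 0
  rw [← hy, hy2]

end Epi

section SubSheaf

variable {Y : Scheme.{u}} (G : Ab Y) (S : ∀ V : Y.Etale, AddSubgroup (G.obj.obj (op V)))
  (hmap : ∀ {V V' : Y.Etale} (φ : V' ⟶ V), S V ≤ (S V').comap (G.obj.map φ.op).hom)

set_option linter.unusedTactic false in
set_option linter.unreachableTactic false in
/-- the sub-presheaf of abelian groups given by a family of subgroups stable under restriction. -/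
noncomputable def subPre : Y.Etaleᵒᵖ ⥤ AddCommGrpCat.{u + 1} where
  obj V := AddCommGrpCat.of (S V.unop)
  map {V V'} φ := AddCommGrpCat.ofHom
    (((G.obj.map φ).hom.comp (S V.unop).subtype).codRestrict (S V'.unop)
      (fun s => hmap φ.unop s.2))
  map_id V := by
    ext ⟨s, hs⟩
    simp
  map_comp φ ψ := by
    ext ⟨s, hs⟩
    simp
    try rfl

/-- the corresponding subfunctor of the underlying presheaf of sets. -/
def subF : Subfunctor (G.obj ⋙ forget AddCommGrpCat) where
  obj V := {s | s ∈ S V.unop}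
  map {_ _} φ _ hs := hmap φ.unop hs

variable (hloc : ∀ (V : Y.Etale) (x : G.obj.obj (op V)) (R : Sieve V),
  R ∈ Y.smallEtaleTopology V →
    (∀ (W : Y.Etale) (φ : W ⟶ V), R φ → G.obj.map φ.op x ∈ S W) → x ∈ S V)

include hloc in
theorem isSheaf_subF : Presieve.IsSheaf Y.smallEtaleTopology (subF G S hmap).toFunctor := by
  have hG : Presieve.IsSheaf Y.smallEtaleTopology (G.obj ⋙ forget AddCommGrpCat) :=
    (isSheaf_iff_isSheaf_of_type _ _).mp
      ((Presheaf.isSheaf_iff_isSheaf_forget _ _ _).1 G.property)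
  rw [Subfunctor.isSheaf_iff _ hG]
  intro V s hs
  exact hloc V.unop s _ hs (fun W φ hφ => hφ)

include hloc in
theorem isSheaf_subPre : Presheaf.IsSheaf Y.smallEtaleTopology (subPre G S hmap) := by
  rw [Presheaf.isSheaf_iff_isSheaf_forget _ _ (forget AddCommGrpCat),
    isSheaf_iff_isSheaf_of_type]
  refine Presieve.isSheaf_iso _ ?_ (isSheaf_subF G S hmap hloc)
  refine NatIso.ofComponents (fun V => Equiv.toIso
    ⟨fun x => ⟨x.1, x.2⟩, fun x => ⟨x.1, x.2⟩, fun _ => rfl, fun _ => rfl⟩) ?_
  intro V V' φ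
  ext x
  rfl

/-- the subsheaf. -/
noncomputable def subSheaf : Ab Y := ⟨subPre G S hmap, isSheaf_subPre G S hmap hloc⟩

/-- its inclusion. -/
noncomputable def subι : subSheaf G S hmap hloc ⟶ G :=
  ⟨{ app := fun V => AddCommGrpCat.ofHom (S V.unop).subtype
     naturality := by
       intro V V' φ
       ext x
       rfl }⟩

theorem subι_injective (V : Y.Etale) :
    Function.Injective ((subι G S hmap hloc).hom.app (op V)) :=
  fun _ _ h => Subtype.ext h

theorem subι_mem (V : Y.Etale) (y : (subSheaf G S hmap hloc).obj.obj (op V)) :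
    (subι G S hmap hloc).hom.app (op V) y ∈ S V := y.2

theorem exists_subι_eq (V : Y.Etale) (x : G.obj.obj (op V)) (hx : x ∈ S V) :
    ∃ y : (subSheaf G S hmap hloc).obj.obj (op V), (subι G S hmap hloc).hom.app (op V) y = x :=
  ⟨⟨x, hx⟩, rfl⟩

end SubSheaf

section LocGen

variable [JCont j] (F : Ab U)

/-- sections of `j_! F` over `V` of the form `c^*(unit t)`. -/
def genU (V : X.Etale) : Set (((extZero j).obj F).obj.obj (op V)) :=
  {x | ∃ (W : U.Etale) (c : V ⟶ (compEtale j).obj W) (t : F.obj.obj (op W)),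
    ((extZero j).obj F).obj.map c.op (uW j F W t) = x}

/-- the subgroup they generate. -/
noncomputable def sumsU (V : X.Etale) : AddSubgroup (((extZero j).obj F).obj.obj (op V)) :=
  AddSubgroup.closure (genU j F V)

theorem map_mem_sumsU {V V' : X.Etale} (k : V' ⟶ V) {x : ((extZero j).obj F).obj.obj (op V)}
    (hx : x ∈ sumsU j F V) : ((extZero j).obj F).obj.map k.op x ∈ sumsU j F V' := by
  refine AddSubgroup.closure_induction
    (p := fun x _ => ((extZero j).obj F).obj.map k.op x ∈ sumsU j F V') ?_ ?_ ?_ ?_ hx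
  · rintro _ ⟨W, c, t, rfl⟩
    rw [map_comp_apply]
    exact AddSubgroup.subset_closure ⟨W, k ≫ c, t, rfl⟩
  · rw [map_zero]; exact zero_mem _
  · intro x y _ _ hx hy
    rw [map_add]; exact add_mem hx hy
  · intro x _ hx
    rw [map_neg]; exact neg_mem hx

/-- `x` is étale locally a sum of generators. -/
def LocU (V : X.Etale) (x : ((extZero j).obj F).obj.obj (op V)) : Prop :=
  ∀ v : V.left, ∃ (V' : X.Etale) (k : V' ⟶ V) (v' : V'.left), k.left v' = v ∧
    ((extZero j).obj F).obj.map k.op x ∈ sumsU j F V'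

theorem LocU.map {V V₁ : X.Etale} (φ : V₁ ⟶ V) {x : ((extZero j).obj F).obj.obj (op V)}
    (hx : LocU j F V x) : LocU j F V₁ (((extZero j).obj F).obj.map φ.op x) := by
  intro v₁
  obtain ⟨V', k, v', hv', hmem⟩ := hx (φ.left v₁)
  obtain ⟨T, a, b, t, hab, hat, hbt⟩ := exists_pullback_point φ k v₁ v' hv'.symm
  refine ⟨T, a, t, hat, ?_⟩
  rw [map_comp_apply, hab, ← map_comp_apply]
  exact map_mem_sumsU j F b hmem

/-- the subgroup of locally generated sections. -/
noncomputable def locUSub (V : X.Etale) : AddSubgroup (((extZero j).obj F).obj.obj (op V)) where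
  carrier := {x | LocU j F V x}
  zero_mem' := fun v => ⟨V, 𝟙 V, v, rfl, by rw [map_zero]; exact zero_mem _⟩
  add_mem' := by
    intro x y hx hy v
    obtain ⟨V₁, k₁, v₁, hv₁, h₁⟩ := hx v
    obtain ⟨V₂, k₂, v₂, hv₂, h₂⟩ := hy v
    obtain ⟨T, a, b, t, hab, hat, hbt⟩ := exists_pullback_point k₁ k₂ v₁ v₂ (hv₁.trans hv₂.symm)
    refine ⟨T, a ≫ k₁, t, ?_, ?_⟩
    · show k₁.left (a.left t) = v
      rw [hat, hv₁]
    · rw [map_add]
      refine add_mem ?_ ?_
      · rw [← map_comp_apply]
        exact map_mem_sumsU j F a h₁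
      · rw [hab, ← map_comp_apply]
        exact map_mem_sumsU j F b h₂
  neg_mem' := by
    intro x hx v
    obtain ⟨V₁, k₁, v₁, hv₁, h₁⟩ := hx v
    exact ⟨V₁, k₁, v₁, hv₁, by rw [map_neg]; exact neg_mem h₁⟩

theorem locUSub_map {V V' : X.Etale} (φ : V' ⟶ V) :
    locUSub j F V ≤ (locUSub j F V').comap (((extZero j).obj F).obj.map φ.op).hom :=
  fun _ hx => LocU.map j F φ hx

theorem locUSub_local (V : X.Etale) (x : ((extZero j).obj F).obj.obj (op V)) (R : Sieve V)
    (hR : R ∈ X.smallEtaleTopology V)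
    (h : ∀ (W : X.Etale) (φ : W ⟶ V), R φ →
      ((extZero j).obj F).obj.map φ.op x ∈ locUSub j F W) : x ∈ locUSub j F V := by
  intro v
  obtain ⟨V₁, g, v₁, hg, hv₁⟩ := (mem_smallEtaleTopology_iff V R).1 hR v
  obtain ⟨V', k, v', hv', hmem⟩ := h V₁ g hg v₁
  refine ⟨V', k ≫ g, v', ?_, ?_⟩
  · show g.left (k.left v') = v
    rw [hv', hv₁]
  · rw [← map_comp_apply]
    exact hmem

/-- **local generation of `j_! F`** by the images of the unit. -/
theorem locU_all (V : X.Etale) (x : ((extZero j).obj F).obj.obj (op V)) : LocU j F V x := by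
  let G' : Ab X := subSheaf ((extZero j).obj F) (locUSub j F) (locUSub_map j F)
    (locUSub_local j F)
  let ι : G' ⟶ (extZero j).obj F := subι _ _ _ _
  have hu : ∃ u' : F ⟶ (restrAlong j).obj G', u' ≫ (restrAlong j).map ι =
      (extZeroAdj j).unit.app F := by
    apply Groth.Agent.H4.ShriekComp.exists_lift
    · intro W
      exact subι_injective ((extZero j).obj F) (locUSub j F) (locUSub_map j F)
        (locUSub_local j F) ((compEtale j).obj W.unop)
    · intro W t
      refine exists_subι_eq ((extZero j).obj F) (locUSub j F) (locUSub_map j F)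
        (locUSub_local j F) ((compEtale j).obj W.unop) _ ?_
      intro v
      refine ⟨_, 𝟙 _, v, rfl, ?_⟩
      rw [op_id, ((extZero j).obj F).obj.map_id]
      exact AddSubgroup.subset_closure ⟨W.unop, 𝟙 _, t, by
        rw [op_id, ((extZero j).obj F).obj.map_id]; rfl⟩
  obtain ⟨u', hu'⟩ := hu
  let ρ : (extZero j).obj F ⟶ G' := ((extZeroAdj j).homEquiv F G').symm u'
  have hρ : ρ ≫ ι = 𝟙 _ := by
    apply ((extZeroAdj j).homEquiv F _).injective
    rw [Adjunction.homEquiv_naturality_right, Equiv.apply_symm_apply, hu',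
      Adjunction.homEquiv_unit, CategoryTheory.Functor.map_id]
    exact (Category.comp_id _).symm
  have hx : x = ι.hom.app (op V) (ρ.hom.app (op V) x) := by
    have := congrArg (fun φ => φ.hom.app (op V)) hρ
    exact (congrArg (fun φ => φ.hom x) this).symm
  rw [hx]
  show _ ∈ locUSub j F V
  exact subι_mem ((extZero j).obj F) (locUSub j F) (locUSub_map j F) (locUSub_local j F) V _

end LocGen

section EqLocus

/-- pure-scheme form of: two sections agree where their graphs meet. -/
theorem comp_eq_of_graphL {U X V V' : Scheme.{u}} (j : U ⟶ X) (a : V ⟶ X) (σ σ' : V ⟶ U)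
    (h : σ ≫ j = a) (h' : σ' ≫ j = a) [IsOpenImmersion (graphL j a σ' h')] (k : V' ⟶ V)
    (hk : ∀ x' : V', graphL j a σ h (k x') ∈ Set.range (graphL j a σ' h')) :
    k ≫ σ = k ≫ σ' := by
  have hr : Set.range (k ≫ graphL j a σ h) ⊆ Set.range (graphL j a σ' h') := by
    rintro _ ⟨x', rfl⟩
    rw [Scheme.Hom.comp_apply]
    exact hk x'
  let l := IsOpenImmersion.lift (graphL j a σ' h') (k ≫ graphL j a σ h) hr
  have hl : l ≫ graphL j a σ' h' = k ≫ graphL j a σ h := IsOpenImmersion.lift_fac _ _ _
  have hlk : l = k := by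
    have := congrArg (fun q => q ≫ pullback.fst a j) hl
    simpa using this
  rw [hlk] at hl
  have := congrArg (fun q => q ≫ pullback.snd a j) hl
  simpa using this.symm

variable {V : X.Etale} (φ ψ : V ⟶ Xj j)

/-- the locus where two sections agree. -/
def Eq : Set V.left := (graph j φ).left ⁻¹' Set.range (graph j ψ).left

variable [IsSeparated j]

theorem isClosed_Eq : IsClosed (Eq j φ ψ) :=
  (isClosed_range_graph j ψ).preimage (graph j φ).left.continuous

omit [IsSeparated j] in
theorem isOpen_Eq : IsOpen (Eq j φ ψ) :=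
  (graph j ψ).left.isOpenEmbedding.isOpen_range.preimage (graph j φ).left.continuous

omit [IsSeparated j] in
set_option backward.isDefEq.respectTransparency.types false in
theorem comp_eq_of_range_subset_Eq {V' : X.Etale} (k : V' ⟶ V)
    (h : Set.range k.left ⊆ Eq j φ ψ) : k ≫ φ = k ≫ ψ := by
  apply MorphismProperty.Over.Hom.ext
  have : IsOpenImmersion (graphL j V.hom ψ.left (MorphismProperty.Over.w ψ)) :=
    isOpenImmersion_graph j ψ
  exact comp_eq_of_graphL j V.hom φ.left ψ.left (MorphismProperty.Over.w φ)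
    (MorphismProperty.Over.w ψ) k.left (fun x' => h ⟨x', rfl⟩)

omit [IsSeparated j] in
set_option backward.isDefEq.respectTransparency.types false in
theorem disjoint_graph_of_disjoint_Eq {V' : X.Etale} (k : V' ⟶ V)
    (h : Disjoint (Set.range k.left) (Eq j φ ψ)) :
    Disjoint (Set.range (graph j (k ≫ φ)).left) (Set.range (graph j (k ≫ ψ)).left) := by
  rw [Set.disjoint_left]
  rintro _ ⟨x, rfl⟩ ⟨x', hx'⟩
  have e1 : x' = x := by
    have h1 := congrArg (fun p => prV j V' p) hx'
    have h2 : prV j V' ((graph j (k ≫ ψ)).left x') = x' :=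
      congrArg (fun (f : V'.left ⟶ V'.left) => f x')
        (graphL_fst j V'.hom (k ≫ ψ).left (MorphismProperty.Over.w (k ≫ ψ)))
    have h3 : prV j V' ((graph j (k ≫ φ)).left x) = x :=
      congrArg (fun (f : V'.left ⟶ V'.left) => f x)
        (graphL_fst j V'.hom (k ≫ φ).left (MorphismProperty.Over.w (k ≫ φ)))
    exact h2.symm.trans (h1.trans h3)
  subst e1
  have m1 := congrArg (fun q => q.left) (graph_map j k φ (k ≫ φ) rfl)
  have m2 := congrArg (fun q => q.left) (graph_map j k ψ (k ≫ ψ) rfl)
  have p1 : ((bc j).map k).left ((graph j (k ≫ φ)).left x') = (graph j φ).left (k.left x') :=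
    congrArg (fun (f : V'.left ⟶ ((bc j).obj V).left) => f x') m1
  have p2 : ((bc j).map k).left ((graph j (k ≫ ψ)).left x') = (graph j ψ).left (k.left x') :=
    congrArg (fun (f : V'.left ⟶ ((bc j).obj V).left) => f x') m2
  have : k.left x' ∈ Eq j φ ψ := by
    show (graph j φ).left (k.left x') ∈ Set.range (graph j ψ).left
    rw [← p1, ← hx', p2]
    exact ⟨_, rfl⟩
  exact Set.disjoint_left.1 h ⟨x', rfl⟩ this

end EqLocus

section GTerms

variable [JCont j] (F : Ab U)

/-- the section `(toV φ)^*(unit t)` of `j_! F` over `V`. -/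
noncomputable def g {V : X.Etale} (φ : V ⟶ Xj j) (t : F.obj.obj (op (Vφ j φ))) :
    ((extZero j).obj F).obj.obj (op V) :=
  ((extZero j).obj F).obj.map (toV j φ).op (uW j F (Vφ j φ) t)

theorem g_zero {V : X.Etale} (φ : V ⟶ Xj j) : g j F φ 0 = 0 := by
  unfold g; rw [map_zero, map_zero]

theorem g_add {V : X.Etale} (φ : V ⟶ Xj j) (t t' : F.obj.obj (op (Vφ j φ))) :
    g j F φ (t + t') = g j F φ t + g j F φ t' := by
  unfold g; rw [map_add, map_add]

theorem uW_natural {W W' : U.Etale} (a : W' ⟶ W) (t : F.obj.obj (op W)) :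
    ((extZero j).obj F).obj.map ((compEtale j).map a).op (uW j F W t) =
      uW j F W' (F.obj.map a.op t) := by
  have := ((extZeroAdj j).unit.app F).hom.naturality a.op
  exact (congrArg (fun φ => φ.hom t) this).symm

omit [JCont j] in
set_option backward.isDefEq.respectTransparency.types false in
theorem comp_toV {V V' : X.Etale} (k : V' ⟶ V) (φ : V ⟶ Xj j) (ψ : V' ⟶ Xj j)
    (h : k ≫ φ = ψ) :
    k ≫ toV j φ = toV j ψ ≫ (compEtale j).map (Vφmap j k φ ψ h) := by
  apply MorphismProperty.Over.Hom.ext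
  change k.left ≫ 𝟙 _ = 𝟙 _ ≫ k.left
  rw [Category.comp_id, Category.id_comp]

theorem g_map {V V' : X.Etale} (k : V' ⟶ V) (φ : V ⟶ Xj j) (ψ : V' ⟶ Xj j) (h : k ≫ φ = ψ)
    (t : F.obj.obj (op (Vφ j φ))) :
    ((extZero j).obj F).obj.map k.op (g j F φ t) =
      g j F ψ (F.obj.map (Vφmap j k φ ψ h).op t) := by
  unfold g
  rw [map_comp_apply, comp_toV j k φ ψ h, ← map_comp_apply, uW_natural]

set_option backward.isDefEq.respectTransparency.types false in
/-- the map `(V, c ≫ str W) ⟶ W` of étale `U`-schemes induced by `c`. -/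
noncomputable def cHat {V : X.Etale} {W : U.Etale} (c : V ⟶ (compEtale j).obj W) :
    Vφ j (c ≫ str j W) ⟶ W :=
  MorphismProperty.Over.homMk c.left rfl trivial

omit [JCont j] in
set_option backward.isDefEq.respectTransparency.types false in
theorem toV_cHat {V : X.Etale} {W : U.Etale} (c : V ⟶ (compEtale j).obj W) :
    toV j (c ≫ str j W) ≫ (compEtale j).map (cHat j c) = c := by
  apply MorphismProperty.Over.Hom.ext
  change 𝟙 _ ≫ c.left = c.left
  exact Category.id_comp _

theorem gen_eq_g {V : X.Etale} {W : U.Etale} (c : V ⟶ (compEtale j).obj W)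
    (t : F.obj.obj (op W)) :
    ((extZero j).obj F).obj.map c.op (uW j F W t) =
      g j F (c ≫ str j W) (F.obj.map (cHat j c).op t) := by
  unfold g
  rw [← uW_natural, map_comp_apply, toV_cHat]

variable [IsSeparated j]

/-- `τ` is compatible with restriction maps. -/
theorem τ_map {V V' : X.Etale} (k : V' ⟶ V) (x : ((extZero j).obj F).obj.obj (op V)) :
    ((τ j).app F).hom.app (op V') (((extZero j).obj F).obj.map k.op x) =
      ((lowerShriek j).obj F).obj.map k.op (((τ j).app F).hom.app (op V) x) := by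
  have := ((τ j).app F).hom.naturality k.op
  exact congrArg (fun φ => φ.hom x) this

theorem toPush_τ_g {V : X.Etale} (φ : V ⟶ Xj j) (t : F.obj.obj (op (Vφ j φ))) :
    (lowerShriekToPush j F).hom.app (op V) (((τ j).app F).hom.app (op V) (g j F φ t)) =
      e j F φ t := by
  unfold g
  rw [τ_map, toPush_map, toPush_τ_uW, e_toV]

end GTerms

section LocInj

variable [IsSeparated j] [JCont j] (F : Ab U)

/-- a term: a section `φ` of `U → X` over `V` and a section of `F` over `(V, φ)`. -/
abbrev Term (V : X.Etale) : Type (u + 1) := Σ φ : V ⟶ Xj j, F.obj.obj (op (Vφ j φ))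

variable {j F} in
/-- restriction of a term. -/
noncomputable def Term.res {V V' : X.Etale} (k : V' ⟶ V) (p : Term j F V) : Term j F V' :=
  ⟨k ≫ p.1, F.obj.map (Vφmap j k p.1 (k ≫ p.1) rfl).op p.2⟩

/-- the sum of the extensions by zero of a list of terms. -/
noncomputable def sumE {V : X.Etale} (l : List (Term j F V)) : F.obj.obj (op ((bc j).obj V)) :=
  (l.map (fun p => e j F p.1 p.2)).sum

/-- the corresponding section of `j_! F`. -/
noncomputable def sumG {V : X.Etale} (l : List (Term j F V)) :
    ((extZero j).obj F).obj.obj (op V) :=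
  (l.map (fun p => g j F p.1 p.2)).sum

omit [JCont j] in
theorem sumE_cons {V : X.Etale} (p : Term j F V) (l : List (Term j F V)) :
    sumE j F (p :: l) = e j F p.1 p.2 + sumE j F l := by
  unfold sumE; rw [List.map_cons, List.sum_cons]

omit [IsSeparated j] in
theorem sumG_cons {V : X.Etale} (p : Term j F V) (l : List (Term j F V)) :
    sumG j F (p :: l) = g j F p.1 p.2 + sumG j F l := by
  unfold sumG; rw [List.map_cons, List.sum_cons]

omit [JCont j] in
theorem sumE_append {V : X.Etale} (l l' : List (Term j F V)) :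
    sumE j F (l ++ l') = sumE j F l + sumE j F l' := by
  unfold sumE; rw [List.map_append, List.sum_append]

omit [IsSeparated j] in
theorem sumG_append {V : X.Etale} (l l' : List (Term j F V)) :
    sumG j F (l ++ l') = sumG j F l + sumG j F l' := by
  unfold sumG; rw [List.map_append, List.sum_append]

omit [JCont j] in
theorem sumE_res {V V' : X.Etale} (k : V' ⟶ V) (l : List (Term j F V)) :
    sumE j F (l.map (Term.res k)) = F.obj.map ((bc j).map k).op (sumE j F l) := by
  induction l with
  | nil => simp [sumE]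
  | cons p l ih =>
    rw [List.map_cons, sumE_cons, sumE_cons, map_add, ih]
    congr 1
    exact (e_map j F k p.1 (k ≫ p.1) rfl p.2).symm

omit [IsSeparated j] in
theorem sumG_res {V V' : X.Etale} (k : V' ⟶ V) (l : List (Term j F V)) :
    sumG j F (l.map (Term.res k)) = ((extZero j).obj F).obj.map k.op (sumG j F l) := by
  induction l with
  | nil => simp [sumG]
  | cons p l ih =>
    rw [List.map_cons, sumG_cons, sumG_cons, map_add, ih]
    congr 1
    exact (g_map j F k p.1 (k ≫ p.1) rfl p.2).symm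

theorem toPush_τ_sumG {V : X.Etale} (l : List (Term j F V)) :
    (lowerShriekToPush j F).hom.app (op V) (((τ j).app F).hom.app (op V) (sumG j F l)) =
      sumE j F l := by
  induction l with
  | nil =>
    show (lowerShriekToPush j F).hom.app (op V) (((τ j).app F).hom.app (op V) 0) = 0
    rw [map_zero, map_zero]
  | cons p l ih =>
    rw [sumG_cons, sumE_cons, map_add, map_add, ih, toPush_τ_g]
    rfl

omit [JCont j] in
/-- restricting to a graph disjoint from all the graphs of a list of terms gives zero. -/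
theorem map_graph_sumE_eq_zero {V : X.Etale} (ψ : V ⟶ Xj j) (l : List (Term j F V))
    (h : ∀ q ∈ l, Disjoint (Set.range (graph j ψ).left) (Set.range (graph j q.1).left)) :
    F.obj.map (graph j ψ).op (sumE j F l) = 0 := by
  induction l with
  | nil => simp [sumE]
  | cons p l ih =>
    rw [sumE_cons, map_add, ih (fun q hq => h q (List.mem_cons_of_mem _ hq)), add_zero]
    exact (isExt_e j F p.1 p.2).2 _ (graph j ψ) (h p List.mem_cons_self)

set_option backward.isDefEq.respectTransparency.types false in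
/-- **local injectivity**: a relation among the extensions by zero holds locally in `j_! F`. -/
theorem locInj (m : ℕ) : ∀ (V : X.Etale) (l : List (Term j F V)), l.length = m →
    sumE j F l = 0 → ∀ v : V.left, ∃ (V' : X.Etale) (k : V' ⟶ V) (v' : V'.left),
      k.left v' = v ∧ ((extZero j).obj F).obj.map k.op (sumG j F l) = 0 := by
  induction m with
  | zero =>
    intro V l hl _ v
    have : l = [] := List.length_eq_zero_iff.1 hl
    subst this
    refine ⟨V, 𝟙 V, v, rfl, ?_⟩
    show ((extZero j).obj F).obj.map (𝟙 V).op 0 = 0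
    rw [map_zero]
  | succ m ih =>
    intro V l hl hE v
    obtain ⟨p, l₀, rfl⟩ := List.exists_of_length_succ l hl
    have hl₀ : l₀.length = m := by simpa using hl
    by_cases hA : ∃ q ∈ l₀, v ∈ Eq j p.1 q.1
    · obtain ⟨q, hq, hv⟩ := hA
      obtain ⟨l₁, l₂, rfl⟩ := List.append_of_mem hq
      let E : V.left.Opens := ⟨Eq j p.1 q.1, isOpen_Eq j p.1 q.1⟩
      have hvr : v ∈ Set.range (opnι V E).left := by rw [range_opnι]; exact hv
      obtain ⟨v₁, hv₁⟩ := hvr
      have hk : opnι V E ≫ p.1 = opnι V E ≫ q.1 :=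
        comp_eq_of_range_subset_Eq j p.1 q.1 (opnι V E) (le_of_eq (range_opnι V E))
      let ψ : opn V E ⟶ Xj j := opnι V E ≫ p.1
      let tp : F.obj.obj (op (Vφ j ψ)) := F.obj.map (Vφmap j (opnι V E) p.1 ψ rfl).op p.2
      let tq : F.obj.obj (op (Vφ j ψ)) := F.obj.map (Vφmap j (opnι V E) q.1 ψ hk.symm).op q.2
      let l' : List (Term j F (opn V E)) :=
        ⟨ψ, tp + tq⟩ :: (l₁.map (Term.res (opnι V E)) ++ l₂.map (Term.res (opnι V E)))
      have hE' : sumE j F l' =
          F.obj.map ((bc j).map (opnι V E)).op (sumE j F (p :: (l₁ ++ q :: l₂))) := by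
        rw [sumE_cons, sumE_append, sumE_res, sumE_res, sumE_cons, sumE_append, sumE_cons]
        simp only [map_add]
        rw [e_add, e_map j F (opnι V E) p.1 ψ rfl p.2, e_map j F (opnι V E) q.1 ψ hk.symm q.2]
        abel
      have hG' : sumG j F l' =
          ((extZero j).obj F).obj.map (opnι V E).op (sumG j F (p :: (l₁ ++ q :: l₂))) := by
        rw [sumG_cons, sumG_append, sumG_res, sumG_res, sumG_cons, sumG_append, sumG_cons]
        simp only [map_add]
        rw [g_add, g_map j F (opnι V E) p.1 ψ rfl p.2, g_map j F (opnι V E) q.1 ψ hk.symm q.2]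
        abel
      have hlen : l'.length = m := by
        simp only [l', List.length_cons, List.length_append, List.length_map]
        simp only [List.length_append, List.length_cons] at hl₀
        omega
      rw [hE, map_zero] at hE'
      obtain ⟨V', k, v', hv', h0⟩ := ih (opn V E) l' hlen hE' v₁
      refine ⟨V', k ≫ opnι V E, v', ?_, ?_⟩
      · show (opnι V E).left (k.left v') = v
        rw [hv', hv₁]
      · rw [← map_comp_apply, ← hG', h0]
    · push Not at hA
      let N : V.left.Opens := ⟨⋂ q ∈ {q | q ∈ l₀}, (Eq j p.1 q.1)ᶜ,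
        (List.finite_toSet l₀).isOpen_biInter (fun q _ => (isClosed_Eq j p.1 q.1).isOpen_compl)⟩
      have hvN : v ∈ (N : Set V.left) := by
        simp only [N, TopologicalSpace.Opens.coe_mk, Set.mem_iInter, Set.mem_ofPred_eq]
        exact fun q hq => hA q hq
      have hvr : v ∈ Set.range (opnι V N).left := by rw [range_opnι]; exact hvN
      obtain ⟨v₁, hv₁⟩ := hvr
      let ψ : opn V N ⟶ Xj j := opnι V N ≫ p.1
      let tp : F.obj.obj (op (Vφ j ψ)) := F.obj.map (Vφmap j (opnι V N) p.1 ψ rfl).op p.2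
      have hdisj : ∀ q' ∈ l₀.map (Term.res (opnι V N)),
          Disjoint (Set.range (graph j ψ).left) (Set.range (graph j q'.1).left) := by
        intro q' hq'
        obtain ⟨q, hq, rfl⟩ := List.mem_map.1 hq'
        apply disjoint_graph_of_disjoint_Eq j p.1 q.1 (opnι V N)
        rw [range_opnι, Set.disjoint_left]
        intro x hx hx'
        simp only [N, TopologicalSpace.Opens.coe_mk, Set.mem_iInter, Set.mem_ofPred_eq] at hx
        exact hx q hq hx'
      have hrel : e j F ψ tp + sumE j F (l₀.map (Term.res (opnι V N))) = 0 := by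
        have := congrArg (fun s => F.obj.map ((bc j).map (opnι V N)).op s) hE
        simp only [map_zero] at this
        rw [sumE_cons, map_add, e_map j F (opnι V N) p.1 ψ rfl p.2, ← sumE_res] at this
        exact this
      have htp : tp = 0 := by
        have := congrArg (fun s => F.obj.map (graph j ψ).op s) hrel
        simp only [map_add, map_zero] at this
        rw [map_graph_e, map_graph_sumE_eq_zero j F ψ _ hdisj, add_zero] at this
        exact this
      have hE' : sumE j F (l₀.map (Term.res (opnι V N))) = 0 := by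
        rw [htp, e_zero, zero_add] at hrel
        exact hrel
      obtain ⟨V', k, v', hv', h0⟩ := ih (opn V N) _ (by rw [List.length_map]; exact hl₀) hE' v₁
      refine ⟨V', k ≫ opnι V N, v', ?_, ?_⟩
      · show (opnι V N).left (k.left v') = v
        rw [hv', hv₁]
      · rw [← map_comp_apply, sumG_cons, map_add, g_map j F (opnι V N) p.1 ψ rfl p.2, ← sumG_res,
          map_add, h0, add_zero]
        show ((extZero j).obj F).obj.map k.op (g j F ψ tp) = 0
        rw [htp, g_zero, map_zero]

omit [IsSeparated j] in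
theorem g_neg {V : X.Etale} (φ : V ⟶ Xj j) (t : F.obj.obj (op (Vφ j φ))) :
    g j F φ (-t) = -g j F φ t := by
  unfold g; rw [map_neg, map_neg]

omit [IsSeparated j] in
theorem sumG_neg {V : X.Etale} (l : List (Term j F V)) :
    sumG j F (l.map (fun p => (⟨p.1, -p.2⟩ : Term j F V))) = -sumG j F l := by
  induction l with
  | nil => simp [sumG]
  | cons p l ih =>
    rw [List.map_cons, sumG_cons, sumG_cons, ih, g_neg, neg_add]

omit [IsSeparated j] in
/-- every sum of generators is the sum of a list of terms. -/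
theorem exists_sumG_of_mem_sumsU {V : X.Etale} (x : ((extZero j).obj F).obj.obj (op V))
    (hx : x ∈ sumsU j F V) : ∃ l : List (Term j F V), sumG j F l = x := by
  refine AddSubgroup.closure_induction
    (p := fun x _ => ∃ l : List (Term j F V), sumG j F l = x) ?_ ?_ ?_ ?_ hx
  · rintro _ ⟨W, c, t, rfl⟩
    refine ⟨[⟨c ≫ str j W, F.obj.map (cHat j c).op t⟩], ?_⟩
    rw [sumG_cons, gen_eq_g]
    show _ + 0 = _
    rw [add_zero]
  · exact ⟨[], rfl⟩
  · rintro a b _ _ ⟨la, rfl⟩ ⟨lb, rfl⟩
    exact ⟨la ++ lb, sumG_append j F la lb⟩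
  · rintro a _ ⟨la, rfl⟩
    exact ⟨_, sumG_neg j F la⟩

theorem τ_injective (V : X.Etale) : Function.Injective (((τ j).app F).hom.app (op V)) := by
  rw [injective_iff_map_eq_zero]
  intro x hx
  apply eq_zero_of_locally_zero ((extZero j).obj F)
  intro v
  obtain ⟨V₁, k₁, v₁, hv₁, hmem⟩ := locU_all j F V x v
  obtain ⟨l, hl⟩ := exists_sumG_of_mem_sumsU j F _ hmem
  have hE : sumE j F l = 0 := by
    rw [← toPush_τ_sumG, hl, τ_map, hx, map_zero, map_zero]
    rfl
  obtain ⟨V₂, k₂, v₂, hv₂, h0⟩ := locInj j F l.length V₁ l rfl hE v₁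
  refine ⟨V₂, k₂ ≫ k₁, v₂, ?_, ?_⟩
  · show k₁.left (k₂.left v₂) = v
    rw [hv₂, hv₁]
  · rw [← map_comp_apply, ← hl, h0]

instance mono_τ : Mono ((τ j).app F) := by
  have h1 : ∀ V : X.Etaleᵒᵖ, Mono (((τ j).app F).hom.app V) := fun V =>
    (AddCommGrpCat.mono_iff_injective _).2 (τ_injective j F V.unop)
  have h2 : Mono ((τ j).app F).hom := NatTrans.mono_of_mono_app _
  exact Sheaf.Hom.mono_of_presheaf_mono _ _ _

theorem isIso_τ_app : IsIso ((τ j).app F) := by
  have := epi_τ j F
  exact isIso_of_mono_of_epi _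

end LocInj

section Main

variable [IsSeparated j] [JCont j]

theorem isIso_τ : IsIso (τ j) := by
  have : ∀ F : Ab U, IsIso ((τ j).app F) := fun F => isIso_τ_app j F
  exact NatIso.isIso_of_isIso_app _

/-- **extension by zero along a separated étale morphism is the lower shriek functor**. -/
noncomputable def extZeroIso : extZero j ≅ lowerShriek j :=
  haveI := isIso_τ j
  asIso (τ j)

theorem nonempty_iso : Nonempty (extZero j ≅ lowerShriek j) := ⟨extZeroIso j⟩

end Main

end Groth.Agent.H4.ShriekEtIso
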