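import Groth.Agent.H4.ShriekGraph
import Groth.Agent.H53.ZMT.DegSch

/-! # Sections with proper support along a separated étale morphism are locally sums of
extensions by zero along graphs (helper4) -/

set_option autoImplicit false
open CategoryTheory CategoryTheory.Limits AlgebraicGeometry Opposite
universe u
open EtCoh EtShriek Groth.Agent.H4.Stalks Groth.Agent.H4.GlueSec Groth.Agent.H4.SuppSec
open Groth.Agent.H4.ShriekSheaf Groth.Agent.H4.ShriekSections Groth.Agent.H4.ExtZero
open Groth.Agent.H4.ExtClopen Groth.Agent.H4.ProperSupp Groth.Agent.H4.ShriekGraph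

namespace Groth.Agent.H4.ShriekEtLocal

section Plain

open Scheme.IdealSheafData in
theorem isClosed_image_of_isProperOver {B S : Scheme.{u}} (g : B ⟶ S) {Z : Set B}
    (h : ClSub.IsProperOver g Z) : IsClosed (g '' Z) := by
  obtain ⟨hZ, hp⟩ := h
  have : Set.range ((vanishingIdeal ⟨Z, hZ⟩).subschemeι ≫ g) = g '' Z := by
    rw [Scheme.Hom.comp_base, TopCat.coe_comp, Set.range_comp,
      Groth.Agent.H4.range_vanishingIdeal_subschemeι]
  rw [← this]
  exact ((vanishingIdeal ⟨Z, hZ⟩).subschemeι ≫ g).isClosedMap.isClosed_range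

open Scheme.IdealSheafData in
theorem isCompact_of_isProperOver {B S : Scheme.{u}} (g : B ⟶ S) [CompactSpace S] {Z : Set B}
    (h : ClSub.IsProperOver g Z) : IsCompact Z := by
  obtain ⟨hZ, hp⟩ := h
  have : CompactSpace ↥(vanishingIdeal ⟨Z, hZ⟩).subscheme :=
    QuasiCompact.compactSpace_of_compactSpace ((vanishingIdeal ⟨Z, hZ⟩).subschemeι ≫ g)
  rw [← Groth.Agent.H4.range_vanishingIdeal_subschemeι Z hZ]
  exact isCompact_range (vanishingIdeal ⟨Z, hZ⟩).subschemeι.continuous

/-- at most `n` points of `B` over any field-valued point of `V`, landing in `O`. -/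
def DegB {B V : Scheme.{u}} (p : B ⟶ V) (O : Set B) (n : ℕ) : Prop :=
  ∀ (K : Type u) [Field K] (y : Spec (CommRingCat.of K) ⟶ V)
    (S : Finset (Spec (CommRingCat.of K) ⟶ B)),
    (∀ x ∈ S, x ≫ p = y ∧ Set.range x ⊆ O) → S.card ≤ n

variable {B V : Scheme.{u}} (p : B ⟶ V)

theorem DegB.mono {O O' : Set B} {n : ℕ} (h : DegB p O' n) (hO : O ⊆ O') : DegB p O n :=
  fun K _ y S hS => h K y S (fun x hx => ⟨(hS x hx).1, (hS x hx).2.trans hO⟩)

theorem degB_empty : DegB p (∅ : Set B) 0 := by
  intro K _ y S hS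
  rw [Nat.le_zero, Finset.card_eq_zero, Finset.eq_empty_iff_forall_notMem]
  intro x hx
  exact (hS x hx).2 ⟨default, rfl⟩

theorem range_subset_of_mem {K : Type u} [Field K] (x : Spec (CommRingCat.of K) ⟶ B) {O : Set B}
    (h : x default ∈ O) : Set.range x ⊆ O := by
  rintro _ ⟨a, rfl⟩
  rwa [Subsingleton.elim a default]

theorem DegB.union {O₁ O₂ : Set B} {n₁ n₂ : ℕ} (h₁ : DegB p O₁ n₁) (h₂ : DegB p O₂ n₂) :
    DegB p (O₁ ∪ O₂) (n₁ + n₂) := by
  classical
  intro K _ y S hS
  have hsub : S ⊆ S.filter (fun x => Set.range x ⊆ O₁) ∪ S.filter (fun x => Set.range x ⊆ O₂) := by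
    intro x hx
    rw [Finset.mem_union, Finset.mem_filter, Finset.mem_filter]
    rcases (hS x hx).2 ⟨default, rfl⟩ with h | h
    · exact Or.inl ⟨hx, range_subset_of_mem x h⟩
    · exact Or.inr ⟨hx, range_subset_of_mem x h⟩
  refine (Finset.card_le_card hsub).trans ((Finset.card_union_le _ _).trans (add_le_add ?_ ?_))
  · exact h₁ K y _ (fun x hx => ⟨(hS x (Finset.mem_filter.1 hx).1).1, (Finset.mem_filter.1 hx).2⟩)
  · exact h₂ K y _ (fun x hx => ⟨(hS x (Finset.mem_filter.1 hx).1).1, (Finset.mem_filter.1 hx).2⟩)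

theorem degB_biUnion {ι : Type*} (s : Finset ι) (O : ι → Set B) (n : ι → ℕ)
    (h : ∀ i ∈ s, DegB p (O i) (n i)) : DegB p (⋃ i ∈ s, O i) (∑ i ∈ s, n i) := by
  classical
  induction s using Finset.induction_on with
  | empty => simpa using degB_empty p
  | insert a s ha ih =>
    rw [Finset.set_biUnion_insert, Finset.sum_insert ha]
    exact (h a (Finset.mem_insert_self a s)).union p
      (ih (fun i hi => h i (Finset.mem_insert_of_mem hi)))

theorem degB_of_degLE (O : B.Opens) {n : ℕ} (h : Groth.Agent.H53.ZMT.DegLE (O.ι ≫ p) n) :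
    DegB p (O : Set B) n := by
  classical
  intro K _ y S hS
  have hr : ∀ x ∈ S, Set.range x ⊆ Set.range O.ι := by
    intro x hx
    rw [O.range_ι]
    exact (hS x hx).2
  let f : {x // x ∈ S} → (Spec (CommRingCat.of K) ⟶ (O : Scheme.{u})) := fun x =>
    IsOpenImmersion.lift O.ι x.1 (hr x.1 x.2)
  have hf : ∀ x, f x ≫ O.ι = x.1 := fun x => IsOpenImmersion.lift_fac _ _ _
  have hinj : Function.Injective f := by
    intro x x' hxx'
    apply Subtype.ext
    rw [← hf x, ← hf x', hxx']
  have := h K y (S.attach.image f) (by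
    intro z hz
    obtain ⟨x, -, rfl⟩ := Finset.mem_image.1 hz
    rw [← Category.assoc, hf]
    exact (hS x.1 x.2).1)
  rwa [Finset.card_image_of_injective _ hinj, Finset.card_attach] at this

theorem isEmpty_of_degB_zero {O : Set B} (h : DegB p O 0) : O = ∅ := by
  rw [Set.eq_empty_iff_forall_notMem]
  intro b hb
  have := h (B.residueField b) (B.fromSpecResidueField b ≫ p) {B.fromSpecResidueField b} (by
    intro x hx
    rw [Finset.mem_singleton] at hx
    subst hx
    refine ⟨rfl, range_subset_of_mem _ ?_⟩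
    have e1 : (B.fromSpecResidueField b) default = b := Scheme.fromSpecResidueField_apply b default
    exact e1.symm ▸ hb)
  simp at this

/-- the inductive step: removing a section lowers the degree. -/
theorem DegB.step {B' V' : Scheme.{u}} {p' : B' ⟶ V'} {k : V' ⟶ V} {b : B' ⟶ B}
    (sq : IsPullback b p' p k) (ι : V' ⟶ B) (hι : ι ≫ p = k) (γ : V' ⟶ B')
    (hγ1 : γ ≫ p' = 𝟙 V') (hγ2 : γ ≫ b = ι) {O : Set B} {O' : Set B'} (hιO : Set.range ι ⊆ O)
    (hO' : O' ⊆ b ⁻¹' O) (hdisj : Disjoint O' (Set.range γ)) {n : ℕ} (h : DegB p O (n + 1)) :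
    DegB p' O' n := by
  classical
  intro K _ y' S' hS'
  let f : (Spec (CommRingCat.of K) ⟶ B') → (Spec (CommRingCat.of K) ⟶ B) := fun x' => x' ≫ b
  have hinj : Set.InjOn f (S' : Set (Spec (CommRingCat.of K) ⟶ B')) := by
    intro x' hx' x'' hx'' e
    apply sq.hom_ext e
    rw [(hS' x' hx').1, (hS' x'' hx'').1]
  have hne : y' ≫ ι ∉ S'.image f := by
    intro hmem
    obtain ⟨x', hx', e⟩ := Finset.mem_image.1 hmem
    have e' : x' = y' ≫ γ := by
      apply sq.hom_ext
      · rw [Category.assoc, hγ2]; exact e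
      · rw [Category.assoc, hγ1, Category.comp_id]; exact (hS' x' hx').1
    have h1 : x' default ∈ O' := (hS' x' hx').2 ⟨default, rfl⟩
    have h2 : x' default ∈ Set.range γ := by
      rw [e', Scheme.Hom.comp_apply]; exact ⟨_, rfl⟩
    exact Set.disjoint_left.1 hdisj h1 h2
  have hcard := h K (y' ≫ k) (insert (y' ≫ ι) (S'.image f)) (by
    intro x hx
    rcases Finset.mem_insert.1 hx with rfl | hx
    · refine ⟨by rw [Category.assoc, hι], ?_⟩
      rintro _ ⟨a, rfl⟩
      rw [Scheme.Hom.comp_apply]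
      exact hιO ⟨_, rfl⟩
    · obtain ⟨x', hx', rfl⟩ := Finset.mem_image.1 hx
      refine ⟨?_, ?_⟩
      · show (x' ≫ b) ≫ p = y' ≫ k
        rw [Category.assoc, sq.w, ← Category.assoc, (hS' x' hx').1]
      · rintro _ ⟨a, rfl⟩
        show (x' ≫ b) a ∈ O
        rw [Scheme.Hom.comp_apply]
        exact hO' ((hS' x' hx').2 ⟨a, rfl⟩))
  rw [Finset.card_insert_of_notMem hne, Finset.card_image_of_injOn hinj] at hcard
  exact Nat.le_of_succ_le_succ hcard

theorem kO_w {V U X O : Scheme.{u}} (a : V ⟶ X) (j : U ⟶ X) (ι : O ⟶ pullback a j) :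
    (ι ≫ pullback.fst a j) ≫ a = (ι ≫ pullback.snd a j) ≫ j := by
  rw [Category.assoc, Category.assoc, pullback.condition]

theorem graphL_comp_eq {V U X O : Scheme.{u}} {a : V ⟶ X} {j : U ⟶ X} (a' : O ⟶ X)
    (ι : O ⟶ pullback a j) (h' : (ι ≫ pullback.snd a j) ≫ j = a')
    (b : pullback a' j ⟶ pullback a j)
    (hb1 : b ≫ pullback.fst a j = pullback.fst a' j ≫ ι ≫ pullback.fst a j)
    (hb2 : b ≫ pullback.snd a j = pullback.snd a' j) :
    graphL j a' (ι ≫ pullback.snd a j) h' ≫ b = ι := by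
  apply pullback.hom_ext
  · rw [Category.assoc, hb1, graphL_fst_assoc]
  · rw [Category.assoc, hb2, graphL_snd]

end Plain

section Sheaf

variable {U X : Scheme.{u}} (j : U ⟶ X) [hj : Etale j] [IsSeparated j] (F : Ab U)

/-- the subgroup of sections over `U ×_X V` generated by extensions by zero along graphs. -/
noncomputable def sumsE (V : X.Etale) : AddSubgroup (F.obj.obj (op ((bc j).obj V))) :=
  AddSubgroup.closure {s | ∃ (φ : V ⟶ Xj j) (t : F.obj.obj (op (Vφ j φ))), e j F φ t = s}

theorem e_mem_sumsE {V : X.Etale} (φ : V ⟶ Xj j) (t : F.obj.obj (op (Vφ j φ))) :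
    e j F φ t ∈ sumsE j F V :=
  AddSubgroup.subset_closure ⟨φ, t, rfl⟩

theorem map_mem_sumsE {V V' : X.Etale} (k : V' ⟶ V) {s : F.obj.obj (op ((bc j).obj V))}
    (hs : s ∈ sumsE j F V) : F.obj.map ((bc j).map k).op s ∈ sumsE j F V' := by
  refine AddSubgroup.closure_induction
    (p := fun x _ => F.obj.map ((bc j).map k).op x ∈ sumsE j F V') ?_ ?_ ?_ ?_ hs
  · rintro _ ⟨φ, t, rfl⟩
    rw [e_map j F k φ (k ≫ φ) rfl]
    exact e_mem_sumsE j F _ _
  · rw [map_zero]; exact zero_mem _
  · intro x y _ _ hx hy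
    rw [map_add]; exact add_mem hx hy
  · intro x _ hx
    rw [map_neg]; exact neg_mem hx

/-- `s` is, étale locally around `v`, a finite sum of extensions by zero along graphs. -/
def LocSum (V : X.Etale) (s : F.obj.obj (op ((bc j).obj V))) (v : V.left) : Prop :=
  ∃ (V' : X.Etale) (k : V' ⟶ V) (v' : V'.left), k.left v' = v ∧
    F.obj.map ((bc j).map k).op s ∈ sumsE j F V'

omit hj [IsSeparated j] in
theorem map_bc_comp {V V' V'' : X.Etale} (k : V' ⟶ V) (k' : V'' ⟶ V')
    (s : F.obj.obj (op ((bc j).obj V))) :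
    F.obj.map ((bc j).map (k' ≫ k)).op s =
      F.obj.map ((bc j).map k').op (F.obj.map ((bc j).map k).op s) := by
  rw [map_comp_apply, ← Functor.map_comp]

theorem LocSum.of_map {V V₁ : X.Etale} (k₁ : V₁ ⟶ V) (s : F.obj.obj (op ((bc j).obj V)))
    (v₁ : V₁.left) (h : LocSum j F V₁ (F.obj.map ((bc j).map k₁).op s) v₁) :
    LocSum j F V s (k₁.left v₁) := by
  obtain ⟨V', k, v', hv', hmem⟩ := h
  refine ⟨V', k ≫ k₁, v', ?_, ?_⟩
  · show k₁.left (k.left v') = _
    rw [hv']
  · rw [map_bc_comp]; exact hmem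

theorem locSum_of_eq_zero {V : X.Etale} (s : F.obj.obj (op ((bc j).obj V))) (hs : s = 0)
    (v : V.left) : LocSum j F V s v := by
  refine ⟨V, 𝟙 V, v, rfl, ?_⟩
  rw [hs, map_zero]
  exact zero_mem _

set_option backward.isDefEq.respectTransparency.types false in
theorem locSum_of_notMem_image {V : X.Etale} (s : F.obj.obj (op ((bc j).obj V)))
    (hp : ClSub.IsProperOver (prV j V) (sectSupp F ((bc j).obj V) s)) (v : V.left)
    (hv : v ∉ prV j V '' sectSupp F ((bc j).obj V) s) : LocSum j F V s v := by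
  let Wc : V.left.Opens := ⟨(prV j V '' sectSupp F ((bc j).obj V) s)ᶜ,
    (isClosed_image_of_isProperOver _ hp).isOpen_compl⟩
  have hvr : v ∈ Set.range (opnι V Wc).left := by rw [range_opnι]; exact hv
  obtain ⟨v₁, hv₁⟩ := hvr
  rw [← hv₁]
  apply LocSum.of_map
  apply locSum_of_eq_zero
  apply eq_zero_of_sectSupp_eq_empty
  rw [sectSupp_map]
  ext p
  simp only [Set.mem_preimage, Set.mem_empty_iff_false, iff_false]
  intro hp'
  have hw := (isPullback_bc_map j (opnι V Wc)).w
  have h1 : prV j V (((bc j).map (opnι V Wc)).left p) = (opnι V Wc).left (prV j (opn V Wc) p) :=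
    congrArg (fun (f : ((bc j).obj (opn V Wc)).left ⟶ V.left) => f p) hw
  have h2 : (opnι V Wc).left (prV j (opn V Wc) p) ∈ Set.range (opnι V Wc).left := ⟨_, rfl⟩
  rw [range_opnι, ← h1] at h2
  exact h2 ⟨_, hp', rfl⟩

end Sheaf

section Step

variable {U X : Scheme.{u}} (j : U ⟶ X) [hj : Etale j] [IsSeparated j] (F : Ab U)
variable (V : X.Etale) (O : ((bc j).obj V).left.Opens)

/-- the open `O ⊆ U ×_X V` as an étale `X`-scheme. -/
noncomputable abbrev VO : X.Etale := (compEtale j).obj (opn ((bc j).obj V) O)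

set_option backward.isDefEq.respectTransparency.types false in
/-- the projection `O ⟶ V`. -/
noncomputable def kO : VO j V O ⟶ V :=
  MorphismProperty.Over.homMk (O.ι ≫ prV j V) (kO_w V.hom j O.ι) trivial

omit [IsSeparated j] in
set_option backward.isDefEq.respectTransparency.types false in
theorem kO_left : (kO j V O).left = O.ι ≫ prV j V := rfl

omit [IsSeparated j] in
set_option backward.isDefEq.respectTransparency.types false in
theorem graph_kO :
    graph j (str j (opn ((bc j).obj V) O)) ≫ (bc j).map (kO j V O) = opnι ((bc j).obj V) O := by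
  apply MorphismProperty.Over.Hom.ext
  exact graphL_comp_eq (VO j V O).hom O.ι rfl ((bc j).map (kO j V O)).left
    (isPullback_bc_map j (kO j V O)).w (bc_map_snd j (kO j V O))

set_option backward.isDefEq.respectTransparency.types false in
/-- the inductive step. -/
theorem locSum_step (n : ℕ)
    (ih : ∀ (V : X.Etale) (O : ((bc j).obj V).left.Opens), DegB (prV j V) (O : Set _) n →
      ∀ (s : F.obj.obj (op ((bc j).obj V))), sectSupp F ((bc j).obj V) s ⊆ (O : Set _) →
        ClSub.IsProperOver (prV j V) (sectSupp F ((bc j).obj V) s) → ∀ v : V.left,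
          LocSum j F V s v)
    (hO : DegB (prV j V) (O : Set _) (n + 1)) (s : F.obj.obj (op ((bc j).obj V)))
    (hsO : sectSupp F ((bc j).obj V) s ⊆ (O : Set _))
    (hp : ClSub.IsProperOver (prV j V) (sectSupp F ((bc j).obj V) s))
    (z : ((bc j).obj V).left) (hz : z ∈ sectSupp F ((bc j).obj V) s) :
    LocSum j F V s (prV j V z) := by
  let W₀ : U.Etale := opn ((bc j).obj V) O
  let φ₁ : VO j V O ⟶ Xj j := str j W₀
  let γ : W₀ ⟶ (bc j).obj (VO j V O) := graph j φ₁
  let b : (bc j).obj (VO j V O) ⟶ (bc j).obj V := (bc j).map (kO j V O)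
  have key : γ ≫ b = opnι ((bc j).obj V) O := graph_kO j V O
  let s' : F.obj.obj (op ((bc j).obj (VO j V O))) := F.obj.map b.op s
  let t₁ : F.obj.obj (op W₀) := F.obj.map (opnι ((bc j).obj V) O).op s
  have hs't : F.obj.map γ.op s' = t₁ := by
    show F.obj.map γ.op (F.obj.map b.op s) = _
    rw [map_comp_apply, key]
  let r : F.obj.obj (op ((bc j).obj (VO j V O))) := s' - e j F φ₁ t₁
  have hcl : IsClosed (Set.range γ.left) := isClosed_range_graph j φ₁
  have : IsOpenImmersion γ.left := isOpenImmersion_graph j φ₁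
  have hr : sectSupp F _ r ⊆ sectSupp F _ s' \ Set.range γ.left := by
    have := supp_sub_ext_subset γ hcl s'
    rw [hs't] at this
    exact this
  have hs' : sectSupp F _ s' = b.left ⁻¹' sectSupp F _ s := sectSupp_map F b s
  let O' : ((bc j).obj (VO j V O)).left.Opens :=
    ⟨b.left ⁻¹' (O : Set _) ∩ (Set.range γ.left)ᶜ,
      (O.isOpen.preimage b.left.continuous).inter hcl.isOpen_compl⟩
  have hdeg : DegB (prV j (VO j V O)) (O' : Set _) n := by
    refine DegB.step (prV j V) (isPullback_bc_map j (kO j V O)) O.ι rfl γ.left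
      (graphL_fst j (VO j V O).hom φ₁.left (MorphismProperty.Over.w φ₁))
      (congrArg (fun q => q.left) key) ?_ Set.inter_subset_left ?_ hO
    · exact le_of_eq O.range_ι
    · exact Set.disjoint_left.2 (fun x hx hx' => hx.2 hx')
  have hrO' : sectSupp F _ r ⊆ (O' : Set _) := by
    intro x hx
    have h1 := hr hx
    rw [hs'] at h1
    exact ⟨hsO h1.1, h1.2⟩
  have hrp : ClSub.IsProperOver (prV j (VO j V O)) (sectSupp F _ r) := by
    have h1 := isProperOver_baseChange (prV j V) (isPullback_bc_map j (kO j V O)) hp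
    refine isProperOver_mono _ h1 (Groth.Agent.H4.PushStalkZero.isClosed_sectSupp F _ r) ?_
    intro x hx
    have h2 := (hr hx).1
    rw [hs'] at h2
    exact h2
  let v' : (VO j V O).left := ⟨z, hsO hz⟩
  have hv' : (kO j V O).left v' = prV j V z := rfl
  obtain ⟨V'', k', v'', hv'', hmem⟩ := ih (VO j V O) O' hdeg r hrO' hrp v'
  refine ⟨V'', k' ≫ kO j V O, v'', ?_, ?_⟩
  · show (kO j V O).left (k'.left v'') = _
    rw [hv'', hv']
  · rw [map_bc_comp]
    have e1 : F.obj.map b.op s = r + e j F φ₁ t₁ := by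
      show s' = s' - e j F φ₁ t₁ + e j F φ₁ t₁
      rw [sub_add_cancel]
    show F.obj.map ((bc j).map k').op (F.obj.map b.op s) ∈ _
    rw [e1, map_add]
    exact add_mem hmem (map_mem_sumsE j F k' (e_mem_sumsE j F φ₁ t₁))

end Step

section Main

variable {U X : Scheme.{u}} (j : U ⟶ X) [hj : Etale j] [IsSeparated j] (F : Ab U)

theorem locSum_aux (n : ℕ) : ∀ (V : X.Etale) (O : ((bc j).obj V).left.Opens),
    DegB (prV j V) (O : Set _) n →
      ∀ (s : F.obj.obj (op ((bc j).obj V))), sectSupp F ((bc j).obj V) s ⊆ (O : Set _) →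
        ClSub.IsProperOver (prV j V) (sectSupp F ((bc j).obj V) s) → ∀ v : V.left,
          LocSum j F V s v := by
  induction n with
  | zero =>
    intro V O hO s hsO hp v
    apply locSum_of_eq_zero
    apply eq_zero_of_sectSupp_eq_empty
    have := isEmpty_of_degB_zero _ hO
    rw [this] at hsO
    exact Set.subset_empty_iff.1 hsO
  | succ n ih =>
    intro V O hO s hsO hp v
    by_cases hv : v ∈ prV j V '' sectSupp F ((bc j).obj V) s
    · obtain ⟨z, hz, rfl⟩ := hv
      exact locSum_step j F V O n ih hO s hsO hp z hz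
    · exact locSum_of_notMem_image j F s hp v hv

instance etale_prV (V : X.Etale) : Etale (prV j V) :=
  MorphismProperty.of_isPullback (P := @Etale)
    (IsPullback.of_hasPullback V.hom j).flip (inferInstance : Etale j)

omit [IsSeparated j] in
set_option backward.isDefEq.respectTransparency.types false in
/-- on an affine `V`, a closed subset of `U ×_X V` proper over `V` has an open neighbourhood of
bounded degree over `V`. -/
theorem exists_degB (V : X.Etale) [IsAffine V.left] (Z : Set ((bc j).obj V).left)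
    (hZ : ClSub.IsProperOver (prV j V) Z) :
    ∃ (O : ((bc j).obj V).left.Opens) (n : ℕ), Z ⊆ (O : Set _) ∧ DegB (prV j V) (O : Set _) n := by
  classical
  have hc : IsCompact Z := isCompact_of_isProperOver (prV j V) hZ
  have hb := ((bc j).obj V).left.isBasis_affineOpens
  have hex : ∀ z : ((bc j).obj V).left, ∃ Oz : ((bc j).obj V).left.Opens,
      IsAffineOpen Oz ∧ z ∈ Oz := by
    intro z
    obtain ⟨Oz, h1, h2, -⟩ := (TopologicalSpace.Opens.isBasis_iff_nbhd.1 hb)
      (show z ∈ (⊤ : ((bc j).obj V).left.Opens) from trivial)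
    exact ⟨Oz, h1, h2⟩
  choose Oz hOz hz using hex
  obtain ⟨t, -, ht⟩ := hc.elim_nhds_subcover (fun z => (Oz z : Set _))
    (fun z _ => (Oz z).isOpen.mem_nhds (hz z))
  have hdeg : ∀ z, ∃ n, DegB (prV j V) (Oz z : Set _) n := by
    intro z
    have : IsAffine ((Oz z : ((bc j).obj V).left.Opens) : Scheme.{u}) := hOz z
    obtain ⟨n, hn⟩ := Groth.Agent.H53.ZMT.exists_degLE_of_etale ((Oz z).ι ≫ prV j V)
    exact ⟨n, degB_of_degLE _ _ hn⟩
  choose n hn using hdeg
  refine ⟨⟨⋃ z ∈ t, (Oz z : Set _), isOpen_biUnion (fun z _ => (Oz z).isOpen)⟩,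
    ∑ z ∈ t, n z, ht, ?_⟩
  exact degB_biUnion (prV j V) t (fun z => (Oz z : Set _)) n (fun z _ => hn z)

set_option backward.isDefEq.respectTransparency.types false in
/-- **Local structure of sections with proper support** along a separated étale morphism. -/
theorem locSum_of_hasProperSupport (V : X.Etale) (s : F.obj.obj (op ((bc j).obj V)))
    (hs : HasProperSupport F ((bc j).obj V) s (prV j V)) (v : V.left) : LocSum j F V s v := by
  obtain ⟨Z, hZ, hpZ⟩ := hs
  have hp : ClSub.IsProperOver (prV j V) (sectSupp F ((bc j).obj V) s) :=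
    isProperOver_mono _ hpZ (Groth.Agent.H4.PushStalkZero.isClosed_sectSupp F _ s) hZ
  obtain ⟨V₀, hV₀, hv, -⟩ := (TopologicalSpace.Opens.isBasis_iff_nbhd.1 V.left.isBasis_affineOpens)
    (show v ∈ (⊤ : V.left.Opens) from trivial)
  have hvr : v ∈ Set.range (opnι V V₀).left := by rw [range_opnι]; exact hv
  obtain ⟨v₁, hv₁⟩ := hvr
  rw [← hv₁]
  apply LocSum.of_map
  have haff : IsAffine (opn V V₀).left := hV₀
  have hp₁ : ClSub.IsProperOver (prV j (opn V V₀))
      (sectSupp F _ (F.obj.map ((bc j).map (opnι V V₀)).op s)) := by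
    rw [sectSupp_map]
    exact isProperOver_baseChange (prV j V) (isPullback_bc_map j (opnι V V₀)) hp
  obtain ⟨O, n, hO, hn⟩ := exists_degB j (opn V V₀) _ hp₁
  exact locSum_aux j F n (opn V V₀) O hn _ hO hp₁ v₁

end Main

end Groth.Agent.H4.ShriekEtLocal
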