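import Groth.Agent.H4.ShriekComp
import Groth.Agent.H4.ExtZero
import Groth.Agent.H4.ExtClopen

/-! # Graphs of sections of a separated étale morphism and extension by zero along them (helper4) -/

set_option autoImplicit false
open CategoryTheory CategoryTheory.Limits AlgebraicGeometry Opposite
universe u
open EtCoh EtShriek Groth.Agent.H4.Stalks Groth.Agent.H4.GlueSec Groth.Agent.H4.SuppSec
open Groth.Agent.H4.ShriekSheaf Groth.Agent.H4.ShriekSections Groth.Agent.H4.ExtZero
open Groth.Agent.H4.ExtClopen Groth.Agent.H4.ProperSupp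

namespace Groth.Agent.H4.ShriekGraph

section Plain

theorem exists_of_isPullback {P A B C : Scheme.{u}} {fst : P ⟶ A} {snd : P ⟶ B} {f : A ⟶ C}
    {g : B ⟶ C} (sq : IsPullback fst snd f g) (a : A) (b : B) (h : f a = g b) :
    ∃ p : P, fst p = a ∧ snd p = b := by
  obtain ⟨z, hz1, hz2⟩ := Scheme.Pullback.exists_preimage_pullback (f := f) (g := g) a b h
  refine ⟨sq.isoPullback.inv z, ?_, ?_⟩
  · rw [← hz1, ← Scheme.Hom.comp_apply, IsPullback.isoPullback_inv_fst]
  · rw [← hz2, ← Scheme.Hom.comp_apply, IsPullback.isoPullback_inv_snd]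


-- GraphL

variable {U X V V' : Scheme.{u}} (j : U ⟶ X) (a : V ⟶ X) (a' : V' ⟶ X)

/-- the graph `V ⟶ V ×_X U` of an `X`-morphism `σ : V ⟶ U`. -/
noncomputable def graphL (σ : V ⟶ U) (h : σ ≫ j = a) : V ⟶ pullback a j :=
  pullback.lift (𝟙 V) σ (by rw [Category.id_comp, h])

@[reassoc (attr := simp)]
lemma graphL_fst (σ : V ⟶ U) (h : σ ≫ j = a) : graphL j a σ h ≫ pullback.fst a j = 𝟙 V :=
  pullback.lift_fst _ _ _

@[reassoc (attr := simp)]
lemma graphL_snd (σ : V ⟶ U) (h : σ ≫ j = a) : graphL j a σ h ≫ pullback.snd a j = σ :=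
  pullback.lift_snd _ _ _

instance mono_graphL (σ : V ⟶ U) (h : σ ≫ j = a) : Mono (graphL j a σ h) :=
  (SplitMono.mk (pullback.fst a j) (graphL_fst j a σ h)).mono

lemma isClosed_range_graphL [IsSeparated j] (σ : V ⟶ U) (h : σ ≫ j = a) :
    IsClosed (Set.range (graphL j a σ h)) := by
  have hs : IsSeparated (pullback.fst a j) :=
    MorphismProperty.of_isPullback (P := @IsSeparated)
      (IsPullback.of_hasPullback a j).flip (inferInstance : IsSeparated j)
  have h1 : IsClosedImmersion (graphL j a σ h ≫ pullback.fst a j) := by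
    rw [graphL_fst]; infer_instance
  have : IsClosedImmersion (graphL j a σ h) := IsClosedImmersion.of_comp _ (pullback.fst a j)
  exact (graphL j a σ h).isClosedEmbedding.isClosed_range

lemma isProperOver_range_graphL [IsSeparated j] [LocallyOfFiniteType j] (σ : V ⟶ U)
    (h : σ ≫ j = a) :
    ClSub.IsProperOver (pullback.fst a j) (Set.range (graphL j a σ h)) := by
  have h0 : ClSub.IsProperOver (graphL j a σ h ≫ pullback.fst a j) (Set.univ : Set V) := by
    refine ⟨isClosed_univ, ?_⟩
    rw [graphL_fst, Category.comp_id]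
    infer_instance
  have hs : IsSeparated (pullback.fst a j) :=
    MorphismProperty.of_isPullback (P := @IsSeparated)
      (IsPullback.of_hasPullback a j).flip (inferInstance : IsSeparated j)
  have hl : LocallyOfFiniteType (pullback.fst a j) :=
    MorphismProperty.of_isPullback (P := @LocallyOfFiniteType)
      (IsPullback.of_hasPullback a j).flip (inferInstance : LocallyOfFiniteType j)
  have := Groth.Agent.H4.ProperSupp.isProperOver_image' (graphL j a σ h) (pullback.fst a j) h0
  rwa [Set.image_univ] at this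

variable {j a a'}

lemma graphL_comp {σ : V ⟶ U} {h : σ ≫ j = a} {σ' : V' ⟶ U} {h' : σ' ≫ j = a'} {k : V' ⟶ V}
    (b : pullback a' j ⟶ pullback a j)
    (hb1 : b ≫ pullback.fst a j = pullback.fst a' j ≫ k)
    (hb2 : b ≫ pullback.snd a j = pullback.snd a' j) (hσ : k ≫ σ = σ') :
    graphL j a' σ' h' ≫ b = k ≫ graphL j a σ h := by
  apply pullback.hom_ext
  · rw [Category.assoc, hb1, graphL_fst_assoc, Category.assoc, graphL_fst, Category.comp_id]
  · rw [Category.assoc, hb2, graphL_snd, Category.assoc, graphL_snd, hσ]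

lemma isPullback_graphL {σ : V ⟶ U} {h : σ ≫ j = a} {σ' : V' ⟶ U} {h' : σ' ≫ j = a'} {k : V' ⟶ V}
    (b : pullback a' j ⟶ pullback a j)
    (sq : IsPullback b (pullback.fst a' j) (pullback.fst a j) k)
    (hb2 : b ≫ pullback.snd a j = pullback.snd a' j) (hσ : k ≫ σ = σ') :
    IsPullback (graphL j a' σ' h') k b (graphL j a σ h) := by
  refine IsPullback.of_right (h₁₂ := pullback.fst a' j) (v₁₃ := k) (h₂₂ := pullback.fst a j) ?_
    (graphL_comp b sq.w hb2 hσ) sq.flip
  rw [graphL_fst, graphL_fst]
  exact IsPullback.of_horiz_isIso ⟨by rw [Category.id_comp, Category.comp_id]⟩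

lemma preimage_range_graphL {σ : V ⟶ U} {h : σ ≫ j = a} {σ' : V' ⟶ U} {h' : σ' ≫ j = a'}
    {k : V' ⟶ V} (b : pullback a' j ⟶ pullback a j)
    (sq : IsPullback b (pullback.fst a' j) (pullback.fst a j) k)
    (hb2 : b ≫ pullback.snd a j = pullback.snd a' j) (hσ : k ≫ σ = σ') :
    b ⁻¹' Set.range (graphL j a σ h) ⊆ Set.range (graphL j a' σ' h') := by
  rintro p ⟨v, hv⟩
  obtain ⟨z, -, hz⟩ := exists_of_isPullback (isPullback_graphL b sq hb2 hσ (h := h) (h' := h')).flip
    v p hv
  exact ⟨z, hz⟩


end Plain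

variable {U X : Scheme.{u}} (j : U ⟶ X) [hj : Etale j]

set_option backward.isDefEq.respectTransparency.types false in
/-- graph of a section `φ : V ⟶ (U → X)`, as a morphism of étale `U`-schemes `V ⟶ U ×_X V`. -/
noncomputable def graph {V : X.Etale} (φ : V ⟶ Xj j) : Vφ j φ ⟶ (bc j).obj V :=
  MorphismProperty.Over.homMk
    (graphL j V.hom φ.left (MorphismProperty.Over.w φ) : V.left ⟶ pullback V.hom j)
    (graphL_snd _ _ _ _) trivial

set_option backward.isDefEq.respectTransparency.types false in
theorem graph_left {V : X.Etale} (φ : V ⟶ Xj j) :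
    (graph j φ).left = graphL j V.hom φ.left (MorphismProperty.Over.w φ) := rfl

set_option backward.isDefEq.respectTransparency.types false in
instance isOpenImmersion_graph {V : X.Etale} (φ : V ⟶ Xj j) :
    IsOpenImmersion (graph j φ).left := by
  have h1 : Etale (graph j φ).left := inferInstance
  have h2 : Mono (graph j φ).left := mono_graphL j V.hom φ.left (MorphismProperty.Over.w φ)
  exact IsOpenImmersion.of_flat_of_mono _

set_option backward.isDefEq.respectTransparency.types false in
theorem isClosed_range_graph [IsSeparated j] {V : X.Etale} (φ : V ⟶ Xj j) :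
    IsClosed (Set.range (graph j φ).left) :=
  isClosed_range_graphL j V.hom φ.left (MorphismProperty.Over.w φ)

set_option backward.isDefEq.respectTransparency.types false in
/-- the map of étale `U`-schemes `(V', k ≫ φ) ⟶ (V, φ)` induced by `k`. -/
noncomputable def Vφmap {V V' : X.Etale} (k : V' ⟶ V) (φ : V ⟶ Xj j) (ψ : V' ⟶ Xj j)
    (h : k ≫ φ = ψ) : Vφ j ψ ⟶ Vφ j φ :=
  MorphismProperty.Over.homMk k.left (by
    have := congrArg (fun q => q.left) h
    exact this) trivial

set_option backward.isDefEq.respectTransparency.types false in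
@[simp] theorem Vφmap_left {V V' : X.Etale} (k : V' ⟶ V) (φ : V ⟶ Xj j) (ψ : V' ⟶ Xj j)
    (h : k ≫ φ = ψ) : (Vφmap j k φ ψ h).left = k.left := rfl

omit hj in
set_option backward.isDefEq.respectTransparency.types false in
theorem bc_map_snd {V V' : X.Etale} (k : V' ⟶ V) :
    ((bc j).map k).left ≫ pullback.snd V.hom j = pullback.snd V'.hom j := by
  dsimp [bc]
  exact pullback.lift_snd _ _ _

set_option backward.isDefEq.respectTransparency.types false in
theorem graph_map {V V' : X.Etale} (k : V' ⟶ V) (φ : V ⟶ Xj j) (ψ : V' ⟶ Xj j)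
    (h : k ≫ φ = ψ) : graph j ψ ≫ (bc j).map k = Vφmap j k φ ψ h ≫ graph j φ := by
  apply MorphismProperty.Over.Hom.ext
  exact graphL_comp (h := MorphismProperty.Over.w φ) (h' := MorphismProperty.Over.w ψ)
    ((bc j).map k).left (isPullback_bc_map j k).w (bc_map_snd j k)
    (congrArg (fun q => q.left) h)

set_option backward.isDefEq.respectTransparency.types false in
theorem preimage_range_graph {V V' : X.Etale} (k : V' ⟶ V) (φ : V ⟶ Xj j) (ψ : V' ⟶ Xj j)
    (h : k ≫ φ = ψ) :
    ((bc j).map k).left ⁻¹' Set.range (graph j φ).left ⊆ Set.range (graph j ψ).left :=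
  preimage_range_graphL (h := MorphismProperty.Over.w φ) (h' := MorphismProperty.Over.w ψ)
    ((bc j).map k).left (isPullback_bc_map j k) (bc_map_snd j k)
    (congrArg (fun q => q.left) h)


section Sheaf

variable [IsSeparated j] (F : Ab U)

/-- extension by zero of a section of `F` over `(V, φ)` along the graph of `φ`. -/
noncomputable def e {V : X.Etale} (φ : V ⟶ Xj j) (t : F.obj.obj (op (Vφ j φ))) :
    F.obj.obj (op ((bc j).obj V)) :=
  ext F (graph j φ) (isClosed_range_graph j φ) t

theorem isExt_e {V : X.Etale} (φ : V ⟶ Xj j) (t : F.obj.obj (op (Vφ j φ))) :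
    IsExt F (graph j φ) t (e j F φ t) :=
  isExt_ext _ _ _

theorem e_eq_of_isExt {V : X.Etale} (φ : V ⟶ Xj j) {t : F.obj.obj (op (Vφ j φ))}
    {s : F.obj.obj (op ((bc j).obj V))} (h : IsExt F (graph j φ) t s) : e j F φ t = s :=
  ext_eq_of_isExt _ _ h

theorem e_zero {V : X.Etale} (φ : V ⟶ Xj j) : e j F φ 0 = 0 := ext_zero _ _

theorem e_add {V : X.Etale} (φ : V ⟶ Xj j) (t t' : F.obj.obj (op (Vφ j φ))) :
    e j F φ (t + t') = e j F φ t + e j F φ t' := ext_add _ _ _ _

theorem e_neg {V : X.Etale} (φ : V ⟶ Xj j) (t : F.obj.obj (op (Vφ j φ))) :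
    e j F φ (-t) = -e j F φ t := ext_neg _ _ _

theorem map_graph_e {V : X.Etale} (φ : V ⟶ Xj j) (t : F.obj.obj (op (Vφ j φ))) :
    F.obj.map (graph j φ).op (e j F φ t) = t := map_ext _ _ _

theorem supp_e_subset {V : X.Etale} (φ : V ⟶ Xj j) (t : F.obj.obj (op (Vφ j φ))) :
    sectSupp F ((bc j).obj V) (e j F φ t) ⊆ Set.range (graph j φ).left :=
  supp_ext_subset _ _ _

/-- base change of `e` along `k : V' ⟶ V`. -/
theorem e_map' {V V' : X.Etale} (k : V' ⟶ V) (φ : V ⟶ Xj j) (ψ : V' ⟶ Xj j) (h : k ≫ φ = ψ)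
    (a : Vφ j ψ ⟶ Vφ j φ) (w : graph j ψ ≫ (bc j).map k = a ≫ graph j φ)
    (t : F.obj.obj (op (Vφ j φ))) :
    F.obj.map ((bc j).map k).op (e j F φ t) = e j F ψ (F.obj.map a.op t) :=
  (e_eq_of_isExt j F ψ ((isExt_e j F φ t).map a ((bc j).map k) w
    (preimage_range_graph j k φ ψ h))).symm

theorem e_map {V V' : X.Etale} (k : V' ⟶ V) (φ : V ⟶ Xj j) (ψ : V' ⟶ Xj j) (h : k ≫ φ = ψ)
    (t : F.obj.obj (op (Vφ j φ))) :
    F.obj.map ((bc j).map k).op (e j F φ t) = e j F ψ (F.obj.map (Vφmap j k φ ψ h).op t) :=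
  e_map' j F k φ ψ h _ (graph_map j k φ ψ h) t

variable {F} in
theorem e_app {F' : Ab U} (α : F ⟶ F') {V : X.Etale} (φ : V ⟶ Xj j)
    (t : F.obj.obj (op (Vφ j φ))) :
    α.hom.app (op ((bc j).obj V)) (e j F φ t) = e j F' φ (α.hom.app (op (Vφ j φ)) t) :=
  (e_eq_of_isExt j F' φ ((isExt_e j F φ t).app α)).symm

set_option backward.isDefEq.respectTransparency.types false in
theorem isProperOver_range_graph {V : X.Etale} (φ : V ⟶ Xj j) :
    ClSub.IsProperOver (prV j V) (Set.range (graph j φ).left) :=
  isProperOver_range_graphL j V.hom φ.left (MorphismProperty.Over.w φ)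

theorem hasProperSupport_e {V : X.Etale} (φ : V ⟶ Xj j) (t : F.obj.obj (op (Vφ j φ))) :
    HasProperSupport F ((bc j).obj V) (e j F φ t) (prV j V) :=
  ⟨_, supp_e_subset j F φ t, isProperOver_range_graph j φ⟩

theorem shriekPred_e {V : X.Etale} (φ : V ⟶ Xj j) (t : F.obj.obj (op (Vφ j φ))) :
    ShriekPred j F V (e j F φ t) := by
  intro V' k
  rw [e_map j F k φ (k ≫ φ) rfl]
  exact hasProperSupport_e j F _ _

end Sheaf

section Eta

variable [IsSeparated j] [JCont j] (F : Ab U)

/-- the map `F(W) → F(U ×_X W)`: extension by zero along the graph of `W → U`. -/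
noncomputable def η'app (W : U.Etale) :
    F.obj.obj (op W) →+ F.obj.obj (op ((bc j).obj ((compEtale j).obj W))) :=
  AddMonoidHom.mk' (fun t => e j F (str j W) t) (fun t t' => e_add j F (str j W) t t')

omit [IsSeparated j] [JCont j] in
set_option backward.isDefEq.respectTransparency.types false in
theorem graph_str_map {W W' : U.Etale} (h : W' ⟶ W) :
    graph j (str j W') ≫ (bc j).map ((compEtale j).map h) = h ≫ graph j (str j W) := by
  apply MorphismProperty.Over.Hom.ext
  exact graphL_comp (h := MorphismProperty.Over.w (str j W))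
    (h' := MorphismProperty.Over.w (str j W'))
    ((bc j).map ((compEtale j).map h)).left (isPullback_bc_map j ((compEtale j).map h)).w
    (bc_map_snd j ((compEtale j).map h)) (MorphismProperty.Over.w h)

omit [JCont j] in
theorem η'app_natural {W W' : U.Etale} (h : W' ⟶ W) (t : F.obj.obj (op W)) :
    F.obj.map ((bc j).map ((compEtale j).map h)).op (η'app j F W t) =
      η'app j F W' (F.obj.map h.op t) :=
  e_map' j F ((compEtale j).map h) (str j W) (str j W') (map_str j h) h (graph_str_map j h) t

/-- `η' : F ⟶ j^{-1} j_* F`, extension by zero along graphs. -/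
noncomputable def η' : F ⟶ (restrAlong j).obj ((push j).obj F) :=
  ⟨{ app := fun W => AddCommGrpCat.ofHom (η'app j F W.unop)
     naturality := by
       intro W W' h
       ext t
       exact (η'app_natural j F h.unop t).symm }⟩

theorem η'_app (W : U.Etale) (t : F.obj.obj (op W)) :
    (η' j F).hom.app (op W) t = e j F (str j W) t := rfl

theorem exists_η : ∃ η : F ⟶ (restrAlong j).obj ((lowerShriek j).obj F),
    η ≫ (restrAlong j).map (lowerShriekToPush j F) = η' j F := by
  apply Groth.Agent.H4.ShriekComp.exists_lift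
  · intro W
    exact toPush_injective j F ((compEtale j).obj W.unop)
  · intro W t
    exact exists_toPush_eq j F _ _ (shriekPred_e j F (str j W.unop) t)

/-- `η : F ⟶ j^{-1} j_! F`. -/
noncomputable def η : F ⟶ (restrAlong j).obj ((lowerShriek j).obj F) := (exists_η j F).choose

theorem η_toPush : η j F ≫ (restrAlong j).map (lowerShriekToPush j F) = η' j F :=
  (exists_η j F).choose_spec

theorem η_toPush_apply (W : U.Etale) (t : F.obj.obj (op W)) :
    (lowerShriekToPush j F).hom.app (op ((compEtale j).obj W)) ((η j F).hom.app (op W) t) =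
      e j F (str j W) t := by
  have := congrArg (fun φ => φ.hom.app (op W)) (η_toPush j F)
  exact congrArg (fun φ => φ.hom t) this

variable {F} in
theorem η_natural {F' : Ab U} (α : F ⟶ F') :
    η j F ≫ (restrAlong j).map ((lowerShriek j).map α) = α ≫ η j F' := by
  apply Sheaf.hom_ext
  ext W t
  apply toPush_injective j F' ((compEtale j).obj W.unop)
  show (lowerShriekToPush j F').hom.app (op ((compEtale j).obj W.unop))
      (((lowerShriek j).map α).hom.app (op ((compEtale j).obj W.unop))
        ((η j F).hom.app W t)) =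
    (lowerShriekToPush j F').hom.app (op ((compEtale j).obj W.unop))
      ((η j F').hom.app W (α.hom.app W t))
  have h0 := toPush_naturality_apply j α ((compEtale j).obj W.unop) ((η j F).hom.app W t)
  have h1 := η_toPush_apply j F W.unop t
  have h2 := η_toPush_apply j F' W.unop (α.hom.app W t)
  exact h0.trans ((congrArg _ h1).trans ((e_app j α _ _).trans h2.symm))

/-- the comparison `j_! ⟶ lowerShriek j`. -/
noncomputable def τ : extZero j ⟶ lowerShriek j where
  app F := ((extZeroAdj j).homEquiv F ((lowerShriek j).obj F)).symm (η j F)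
  naturality F F' α := by
    rw [← Adjunction.homEquiv_naturality_left_symm, ← Adjunction.homEquiv_naturality_right_symm,
      η_natural]

theorem unit_τ : (extZeroAdj j).unit.app F ≫ (restrAlong j).map ((τ j).app F) = η j F := by
  have h := (extZeroAdj j).homEquiv_unit (X := F) (Y := (lowerShriek j).obj F)
    (f := (τ j).app F)
  exact h.symm.trans (Equiv.apply_symm_apply _ _)

/-- the unit of `j_! ⊣ j^{-1}` on sections. -/
noncomputable def uW (W : U.Etale) :
    F.obj.obj (op W) ⟶ ((extZero j).obj F).obj.obj (op ((compEtale j).obj W)) :=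
  ((extZeroAdj j).unit.app F).hom.app (op W)

theorem τ_uW (W : U.Etale) (t : F.obj.obj (op W)) :
    ((τ j).app F).hom.app (op ((compEtale j).obj W)) (uW j F W t) = (η j F).hom.app (op W) t := by
  have := congrArg (fun φ => φ.hom.app (op W)) (unit_τ j F)
  exact congrArg (fun φ => φ.hom t) this

theorem toPush_τ_uW (W : U.Etale) (t : F.obj.obj (op W)) :
    (lowerShriekToPush j F).hom.app (op ((compEtale j).obj W))
      (((τ j).app F).hom.app (op ((compEtale j).obj W)) (uW j F W t)) = e j F (str j W) t := by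
  rw [τ_uW, η_toPush_apply]

end Eta

end Groth.Agent.H4.ShriekGraph
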