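import Groth.Agent.H4.QfSplit
import Groth.Agent.H4.EtRestr
import Groth.Agent.H7.PushEpiPropB

/-! # `f_!` is right exact for `f` separated and locally quasi-finite (helper4) -/

set_option autoImplicit false
open CategoryTheory CategoryTheory.Limits AlgebraicGeometry Opposite
universe u
open EtCoh EtShriek Groth.Agent.H4.Stalks Groth.Agent.H4.GlueSec Groth.Agent.H4.SuppSec
open Groth.Agent.H4.ProperSupp Groth.Agent.H4.ShriekSheaf Groth.Agent.H4.ShriekSections
open Groth.Agent.H4.ExtClopen Groth.Agent.H4.QfSplit Groth.Agent.H4.EtRestr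

namespace Groth.Agent.H4.ShriekRightExact

section Pred

variable {X Y : Scheme.{u}} (f : X ⟶ Y) (F : Ab X)

/-- a section whose support lies in a closed subset proper over the base has hereditarily
proper support. -/
theorem shriekPred_of_supp_subset (V : Y.Etale) (s : F.obj.obj (op ((bc f).obj V)))
    (Z : Set ((bc f).obj V).left) (hs : sectSupp F ((bc f).obj V) s ⊆ Z)
    (hZ : ClSub.IsProperOver (prV f V) Z) : ShriekPred f F V s := by
  intro V' φ
  refine ⟨((bc f).map φ).left ⁻¹' Z, ?_, isProperOver_baseChange _ (isPullback_bc_map f φ) hZ⟩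
  rw [sectSupp_map]
  exact Set.preimage_mono hs

end Pred

section LemmaA

variable {X Y : Scheme.{u}} (f : X ⟶ Y) [IsSeparated f] [LocallyOfFiniteType f]
  [LocallyQuasiFinite f]

instance lqf_prV (V : Y.Etale) : LocallyQuasiFinite (prV f V) :=
  inferInstanceAs (LocallyQuasiFinite (pullback.fst V.hom f))

instance sep_prV (V : Y.Etale) : IsSeparated (prV f V) :=
  inferInstanceAs (IsSeparated (pullback.fst V.hom f))

/-- étale locally on the base, a closed subset of `X ×_Y V` proper over `V` lies in an open and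
closed subscheme finite over the base. -/
theorem exists_clopen_finite_bc (V : Y.Etale) (Z : Set ((bc f).obj V).left)
    (hZ : ClSub.IsProperOver (prV f V) Z) (v : V.left) :
    ∃ (V' : Y.Etale) (k : V' ⟶ V) (v' : V'.left), k.left v' = v ∧
      ∃ A : ((bc f).obj V').left.Opens, IsClosed (A : Set ((bc f).obj V').left) ∧
        ((bc f).map k).left ⁻¹' Z ⊆ A ∧ ClSub.IsProperOver (prV f V') (A : Set _) ∧
        IsFinite (A.ι ≫ prV f V') := by
  obtain ⟨U, g, u, hg, hgu, H⟩ := exists_clopen_proper (prV f V) Z hZ v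
  have : Etale V.hom := V.prop
  let V' : Y.Etale := Scheme.Etale.mk (g ≫ V.hom)
  let k : V' ⟶ V := MorphismProperty.Over.homMk g rfl trivial
  obtain ⟨A, hAc, hZA, hAp⟩ := H _ _ _ (isPullback_bc_map f k)
  exact ⟨V', k, u, hgu, A, hAc, hZA, hAp, isFinite_of_isProperOver (prV f V') A hAc hAp⟩

end LemmaA

section LemmaP

variable {X : Scheme.{u}} {F G : Ab X} (b : F ⟶ G) [Epi b]
variable {B S' : Scheme.{u}} (a : B ⟶ X) [Etale a] (π : B ⟶ S')

/-- the étale `X`-scheme `B ×_{S'} T`. -/
noncomputable abbrev QQ (Tt : S'.Etale) : X.Etale := (compEtale a).obj ((bc π).obj Tt)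

/-- the projection `B ×_{S'} T ⟶ B` in the small étale site of `X`. -/
noncomputable def qq (Tt : S'.Etale) : QQ a π Tt ⟶ Scheme.Etale.mk a :=
  MorphismProperty.Over.homMk (pullback.snd Tt.hom π) rfl trivial

theorem qq_left (Tt : S'.Etale) : (qq a π Tt).left = pullback.snd Tt.hom π := rfl

theorem map_qq {Tt Tt' : S'.Etale} (τ : Tt' ⟶ Tt) :
    (compEtale a).map ((bc π).map τ) ≫ qq a π Tt = qq a π Tt' := by
  apply MorphismProperty.Over.Hom.ext
  show ((bc π).map τ).left ≫ pullback.snd Tt.hom π = pullback.snd Tt'.hom π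
  dsimp [bc]
  exact pullback.lift_snd _ _ _

variable [IsFinite π]

/-- **local lifting along a finite morphism**: for an epimorphism `F ⟶ G` of sheaves on `X`, an
étale `B ⟶ X` and a finite morphism `B ⟶ S'`, a section of `G` over `B` lifts to `F` étale
locally on `S'`. -/
theorem exists_local_lift_finite (t : G.obj.obj (op (Scheme.Etale.mk a))) (s' : S') :
    ∃ (Tt : S'.Etale) (t₀ : Tt.left), Tt.hom t₀ = s' ∧
      ∃ r : F.obj.obj (op (QQ a π Tt)),
        b.hom.app (op (QQ a π Tt)) r = G.obj.map (qq a π Tt).op t := by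
  have h1 : (restrAlong a).PreservesEpimorphisms :=
    Functor.preservesEpimorphisms_of_adjunction (restrPushAdj a)
  have h2 : (push π).PreservesEpimorphisms :=
    Groth.Agent.H7.push_preservesEpimorphisms_of_propB π (Groth.Agent.H7.propB_of_isIntegralHom π)
  let φ : (push π).obj ((restrAlong a).obj F) ⟶ (push π).obj ((restrAlong a).obj G) :=
    (push π).map ((restrAlong a).map b)
  have hepi : Epi φ := inferInstance
  have hls : Sheaf.IsLocallySurjective φ :=
    (Sheaf.isLocallySurjective_iff_epi' (A := AddCommGrpCat.{u + 1}) φ).2 hepi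
  let tt : ((push π).obj ((restrAlong a).obj G)).obj.obj (op (top S')) :=
    G.obj.map (qq a π (top S')).op t
  have hmem := Presheaf.imageSieve_mem S'.smallEtaleTopology φ.hom tt
  obtain ⟨Tt, τ, t₀, hτ, ht₀⟩ := (mem_smallEtaleTopology_iff (top S') _).1 hmem s'
  obtain ⟨r, hr⟩ := hτ
  refine ⟨Tt, t₀, ?_, r, ?_⟩
  · have w : τ.left ≫ (top S').hom = Tt.hom := MorphismProperty.Over.w τ
    rw [← w]
    exact ht₀
  · refine Eq.trans ?_ (hr.trans ?_)
    · rfl
    · show G.obj.map ((compEtale a).map ((bc π).map τ)).op (G.obj.map (qq a π (top S')).op t) = _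
      rw [map_comp_apply, map_qq]

end LemmaP

section Gamma

theorem gammaL_aux {Y X V' T A : Scheme.{u}} (f : X ⟶ Y) (h' : V' ⟶ Y) (τ : T ⟶ V')
    (ι : A ⟶ pullback h' f) :
    pullback.fst τ (ι ≫ pullback.fst h' f) ≫ τ ≫ h' =
      (pullback.snd τ (ι ≫ pullback.fst h' f) ≫ ι ≫ pullback.snd h' f) ≫ f := by
  rw [← Category.assoc, pullback.condition]
  simp only [Category.assoc]
  rw [pullback.condition]

/-- pure-scheme form of the comparison `A ×_{V'} T ⟶ X ×_Y T`. -/
noncomputable def gammaL {Y X V' T A : Scheme.{u}} (f : X ⟶ Y) (h' : V' ⟶ Y) (τ : T ⟶ V')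
    (ι : A ⟶ pullback h' f) :
    pullback τ (ι ≫ pullback.fst h' f) ⟶ pullback (τ ≫ h') f :=
  pullback.lift (pullback.fst τ (ι ≫ pullback.fst h' f))
    (pullback.snd τ (ι ≫ pullback.fst h' f) ≫ ι ≫ pullback.snd h' f) (gammaL_aux f h' τ ι)

theorem isPullback_gammaL {Y X V' T A : Scheme.{u}} (f : X ⟶ Y) (h' : V' ⟶ Y) (τ : T ⟶ V')
    (ι : A ⟶ pullback h' f) (m : pullback (τ ≫ h') f ⟶ pullback h' f)
    (sq : IsPullback m (pullback.fst (τ ≫ h') f) (pullback.fst h' f) τ)
    (hm2 : m ≫ pullback.snd h' f = pullback.snd (τ ≫ h') f) :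
    IsPullback (gammaL f h' τ ι) (pullback.snd τ (ι ≫ pullback.fst h' f)) m ι := by
  have e1 : gammaL f h' τ ι ≫ pullback.fst (τ ≫ h') f = pullback.fst τ (ι ≫ pullback.fst h' f) :=
    pullback.lift_fst _ _ _
  have e2 : gammaL f h' τ ι ≫ pullback.snd (τ ≫ h') f =
      pullback.snd τ (ι ≫ pullback.fst h' f) ≫ ι ≫ pullback.snd h' f := pullback.lift_snd _ _ _
  refine IsPullback.of_right ?_ ?_ sq.flip
  · rw [e1]
    exact IsPullback.of_hasPullback τ (ι ≫ pullback.fst h' f)
  · apply pullback.hom_ext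
    · rw [Category.assoc, sq.w, ← Category.assoc, e1, pullback.condition]
      simp only [Category.assoc]
    · rw [Category.assoc, hm2, e2, Category.assoc]

variable {X Y : Scheme.{u}} (f : X ⟶ Y)

/-- an étale `V'`-scheme as an étale `Y`-scheme. -/
noncomputable def Vtt (V' : Y.Etale) (Tt : V'.left.Etale) : Y.Etale :=
  haveI : Etale V'.hom := V'.prop
  haveI : Etale Tt.hom := Tt.prop
  Scheme.Etale.mk (Tt.hom ≫ V'.hom)

/-- its structure map to `V'`. -/
noncomputable def ktt (V' : Y.Etale) (Tt : V'.left.Etale) : Vtt V' Tt ⟶ V' :=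
  MorphismProperty.Over.homMk Tt.hom rfl trivial

theorem ktt_left (V' : Y.Etale) (Tt : V'.left.Etale) : (ktt V' Tt).left = Tt.hom := rfl

variable (V' : Y.Etale) (A : ((bc f).obj V').left.Opens) (Tt : V'.left.Etale)

/-- the structure map of the open `A` of `X ×_Y V'` to `X`. -/
noncomputable abbrev aA : (A : Scheme.{u}) ⟶ X := A.ι ≫ ((bc f).obj V').hom

instance : Etale (aA f V' A) := by
  have : Etale ((bc f).obj V').hom := ((bc f).obj V').prop
  unfold aA
  infer_instance

/-- the comparison `A ×_{V'} T ⟶ X ×_Y T` in the small étale site of `X`. -/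
noncomputable def gamma :
    QQ (aA f V' A) (A.ι ≫ prV f V') Tt ⟶ (bc f).obj (Vtt V' Tt) :=
  MorphismProperty.Over.homMk (gammaL f V'.hom Tt.hom A.ι) (pullback.lift_snd _ _ _) trivial

theorem gamma_left : (gamma f V' A Tt).left = gammaL f V'.hom Tt.hom A.ι := rfl

theorem isPullback_gamma :
    IsPullback (gamma f V' A Tt).left (pullback.snd Tt.hom (A.ι ≫ prV f V'))
      ((bc f).map (ktt V' Tt)).left A.ι :=
  isPullback_gammaL f V'.hom Tt.hom A.ι ((bc f).map (ktt V' Tt)).left
    (isPullback_bc_map f (ktt V' Tt)) (by dsimp [bc]; exact pullback.lift_snd _ _ _)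

instance isOpenImmersion_gamma : IsOpenImmersion (gamma f V' A Tt).left :=
  MorphismProperty.of_isPullback (P := @IsOpenImmersion) (isPullback_gamma f V' A Tt).flip
    inferInstance

theorem range_gamma :
    Set.range (gamma f V' A Tt).left = ((bc f).map (ktt V' Tt)).left ⁻¹' (A : Set _) := by
  ext p
  constructor
  · rintro ⟨q, rfl⟩
    show ((bc f).map (ktt V' Tt)).left ((gamma f V' A Tt).left q) ∈ (A : Set _)
    rw [← Scheme.Hom.comp_apply, (isPullback_gamma f V' A Tt).w, Scheme.Hom.comp_apply]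
    exact (pullback.snd Tt.hom (A.ι ≫ prV f V') q).2
  · intro hp
    obtain ⟨q, hq1, -⟩ := Scheme.exists_preimage_of_isPullback
      (isPullback_gamma f V' A Tt) p ⟨_, hp⟩ rfl
    exact ⟨q, hq1⟩

theorem gamma_comp :
    gamma f V' A Tt ≫ (bc f).map (ktt V' Tt) =
      qq (aA f V' A) (A.ι ≫ prV f V') Tt ≫ opnι ((bc f).obj V') A := by
  apply MorphismProperty.Over.Hom.ext
  exact (isPullback_gamma f V' A Tt).w

end Gamma

section Main

variable {X Y : Scheme.{u}} (f : X ⟶ Y) [IsSeparated f] [LocallyOfFiniteType f]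
  [LocallyQuasiFinite f] {F G : Ab X} (b : F ⟶ G) [Epi b]

/-- **local surjectivity of `f_! F ⟶ f_! G`** for an epimorphism `F ⟶ G`. -/
theorem exists_local_lift (V : Y.Etale) (y : ((lowerShriek f).obj G).obj.obj (op V))
    (v : V.left) : ∃ (V₂ : Y.Etale) (k : V₂ ⟶ V) (v₂ : V₂.left), k.left v₂ = v ∧
      ∃ x : ((lowerShriek f).obj F).obj.obj (op V₂),
        ((lowerShriek f).map b).hom.app (op V₂) x = ((lowerShriek f).obj G).obj.map k.op y := by
  -- the support of `y`
  let t : G.obj.obj (op ((bc f).obj V)) := (lowerShriekToPush f G).hom.app (op V) y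
  have hps := shriekPred_toPush f G V y V (𝟙 V)
  have e0 : G.obj.map ((bc f).map (𝟙 V)).op t = t := by
    rw [CategoryTheory.Functor.map_id, op_id, G.obj.map_id]; rfl
  rw [e0] at hps
  obtain ⟨Z, hZ, hp⟩ := hps
  -- the finite clopen piece
  obtain ⟨V', k₁, v', hv', A, hAc, hZA, hAp, hAf⟩ := exists_clopen_finite_bc f V Z hp v
  obtain ⟨t', ht'⟩ : ∃ t' : G.obj.obj (op ((bc f).obj V')),
      t' = G.obj.map ((bc f).map k₁).op t := ⟨_, rfl⟩
  have hsupp' : sectSupp G ((bc f).obj V') t' ⊆ (A : Set _) := by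
    rw [ht', sectSupp_map]
    exact (Set.preimage_mono hZ).trans hZA
  -- local lift on the finite piece
  have : IsFinite (A.ι ≫ prV f V') := hAf
  let tA : G.obj.obj (op (opn ((bc f).obj V') A)) := G.obj.map (opnι ((bc f).obj V') A).op t'
  obtain ⟨Tt, t₀, ht₀, r, hr⟩ :=
    exists_local_lift_finite b (aA f V' A) (A.ι ≫ prV f V') tA v'
  -- extension by zero
  let V₂ : Y.Etale := Vtt V' Tt
  let k₂ : V₂ ⟶ V' := ktt V' Tt
  let γ := gamma f V' A Tt
  have hcl : IsClosed (Set.range γ.left) := by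
    rw [range_gamma]
    exact hAc.preimage ((bc f).map k₂).left.continuous
  let s : F.obj.obj (op ((bc f).obj V₂)) := ext F γ hcl r
  let t₂ : G.obj.obj (op ((bc f).obj V₂)) := G.obj.map ((bc f).map k₂).op t'
  have hsupp₂ : sectSupp G ((bc f).obj V₂) t₂ ⊆ Set.range γ.left := by
    rw [range_gamma, sectSupp_map]
    exact Set.preimage_mono hsupp'
  have hbs : b.hom.app (op ((bc f).obj V₂)) s = t₂ := by
    have h1 : IsExt G γ (b.hom.app _ r) (b.hom.app _ s) := (isExt_ext γ hcl r).app b
    have h2 : IsExt G γ (G.obj.map γ.op t₂) t₂ := isExt_of_supp_subset γ t₂ hsupp₂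
    have h3 : b.hom.app _ r = G.obj.map γ.op t₂ :=
      hr.trans ((map_comp_apply G (qq (aA f V' A) (A.ι ≫ prV f V') Tt)
        (opnι ((bc f).obj V') A) t').trans
        ((congrArg (fun m => G.obj.map m.op t') (gamma_comp f V' A Tt).symm).trans
          (map_comp_apply G γ ((bc f).map k₂) t').symm))
    rw [h3] at h1
    exact h1.unique hcl h2
  -- `s` has proper support
  have hsP : ShriekPred f F V₂ s := by
    apply shriekPred_of_supp_subset f F V₂ s (Set.range γ.left) (supp_ext_subset γ hcl r)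
    rw [range_gamma]
    exact isProperOver_baseChange _ (isPullback_bc_map f k₂) hAp
  obtain ⟨x, hx⟩ := exists_toPush_eq f F V₂ s hsP
  refine ⟨V₂, k₂ ≫ k₁, t₀, ?_, x, ?_⟩
  · show k₁.left (k₂.left t₀) = v
    rw [← hv']
    congr 1
  · apply toPush_injective f G V₂
    rw [toPush_naturality_apply, hx, hbs, toPush_map]
    show G.obj.map ((bc f).map k₂).op t' = _
    rw [ht', map_comp_apply, ← Functor.map_comp]

theorem epi_map : Epi ((lowerShriek f).map b) := by
  apply Preadditive.epi_of_cancel_zero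
  intro H d hd
  apply Sheaf.hom_ext
  ext V y
  show d.hom.app V y = 0
  apply eq_zero_of_locally_zero H
  intro v
  obtain ⟨V₂, k, v₂, hv₂, x, hx⟩ := exists_local_lift f b V.unop y v
  refine ⟨V₂, k, v₂, hv₂, ?_⟩
  have n := congrArg (fun ψ => ψ.hom y) (d.hom.naturality k.op)
  refine n.symm.trans ?_
  show d.hom.app (op V₂) (((lowerShriek f).obj G).obj.map k.op y) = 0
  rw [← hx]
  have h := congrArg (fun φ => φ.hom.app (op V₂)) hd
  exact congrArg (fun φ => φ.hom x) h

end Main

section Exact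

variable {X Y : Scheme.{u}} (f : X ⟶ Y) [IsSeparated f] [LocallyOfFiniteType f]
  [LocallyQuasiFinite f]

/-- **`f_!` is right exact** for `f` separated and locally quasi-finite. -/
theorem preservesFiniteColimits : PreservesFiniteColimits (lowerShriek f) := by
  have hlim := Groth.Agent.H4.ShriekLeftExact.preservesFiniteLimits f
  rw [Functor.preservesFiniteColimits_iff_forall_exact_map_and_epi]
  intro T hT
  have h30 := (Functor.preservesFiniteLimits_tfae (lowerShriek f)).out 3 0
  have := hT.epi_g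
  exact ⟨(h30.1 hlim T hT).1, epi_map f T.g⟩

theorem exact : PreservesFiniteLimits (lowerShriek f) ∧ PreservesFiniteColimits (lowerShriek f) :=
  ⟨Groth.Agent.H4.ShriekLeftExact.preservesFiniteLimits f, preservesFiniteColimits f⟩

end Exact

end Groth.Agent.H4.ShriekRightExact
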