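import Groth.Agent.H4.ShriekSheaf
import Groth.Agent.H4.ProperSupp2
import Groth.Agent.H4.ShriekStar

/-!
# Sections of `f_!` inside `f_*`, supports of direct images (helper4)

For `f` locally of finite type, `lowerShriekToPush f F : f_! F ⟶ f_* F` is a monomorphism whose
image on sections is the set of sections with (hereditarily) proper support.
-/

set_option autoImplicit false
open CategoryTheory CategoryTheory.Limits AlgebraicGeometry Opposite
universe u
open EtCoh EtShriek Groth.Agent.H4.Stalks Groth.Agent.H4.GlueSec Groth.Agent.H4.SuppSec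
open Groth.Agent.H4.ProperSupp Groth.Agent.H4.ShriekSheaf

namespace Groth.Agent.H4.ShriekSections

section L1

variable {X Y : Scheme.{u}} (f : X ⟶ Y) (F : Ab X)

theorem toSheafify_toPush :
    toSheafify Y.smallEtaleTopology (lowerShriekPre f F) ≫ (lowerShriekToPush f F).hom =
      lowerShriekPreι f F :=
  toSheafify_sheafifyLift _ (lowerShriekPreι f F) ((push f).obj F).property

variable [LocallyOfFiniteType f]

instance isIso_toSheafify_pre :
    IsIso (toSheafify Y.smallEtaleTopology (lowerShriekPre f F)) :=
  isIso_toSheafify _ (isSheaf_lowerShriekPre f F)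

/-- the image of a section of `f_! F` in `f_* F` has proper support. -/
theorem shriekPred_toPush (V : Y.Etale) (x : ((lowerShriek f).obj F).obj.obj (op V)) :
    ShriekPred f F V ((lowerShriekToPush f F).hom.app (op V) x) := by
  have hiso : IsIso ((toSheafify Y.smallEtaleTopology (lowerShriekPre f F)).app (op V)) :=
    inferInstance
  obtain ⟨y, rfl⟩ := ((ConcreteCategory.isIso_iff_bijective _).mp hiso).2 x
  have := congrArg (fun φ => (φ.app (op V)).hom y) (toSheafify_toPush f F)
  refine (mem_shriekSubgroup_iff f F V _).1 ?_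
  have e : (lowerShriekToPush f F).hom.app (op V)
      ((toSheafify Y.smallEtaleTopology (lowerShriekPre f F)).app (op V) y) =
      (lowerShriekPreι f F).app (op V) y := this
  rw [e]
  exact (show ↥(shriekSubgroup f F V) from y).2

/-- every section of `f_* F` with proper support comes from `f_! F`. -/
theorem exists_toPush_eq (V : Y.Etale) (s : F.obj.obj (op ((bc f).obj V)))
    (hs : ShriekPred f F V s) :
    ∃ x : ((lowerShriek f).obj F).obj.obj (op V),
      (lowerShriekToPush f F).hom.app (op V) x = s := by
  let y : (lowerShriekPre f F).obj (op V) := ⟨s, (mem_shriekSubgroup_iff f F V s).2 hs⟩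
  refine ⟨(toSheafify Y.smallEtaleTopology (lowerShriekPre f F)).app (op V) y, ?_⟩
  exact congrArg (fun φ => (φ.app (op V)).hom y) (toSheafify_toPush f F)

theorem toPush_injective (V : Y.Etale) :
    Function.Injective ((lowerShriekToPush f F).hom.app (op V)) := by
  intro a b hab
  have hiso : IsIso ((toSheafify Y.smallEtaleTopology (lowerShriekPre f F)).app (op V)) :=
    inferInstance
  have hbij := (ConcreteCategory.isIso_iff_bijective _).mp hiso
  obtain ⟨a', rfl⟩ := hbij.2 a
  obtain ⟨b', rfl⟩ := hbij.2 b
  have ea : (lowerShriekToPush f F).hom.app (op V)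
      ((toSheafify Y.smallEtaleTopology (lowerShriekPre f F)).app (op V) a') =
      (lowerShriekPreι f F).app (op V) a' :=
    congrArg (fun φ => (φ.app (op V)).hom a') (toSheafify_toPush f F)
  have eb : (lowerShriekToPush f F).hom.app (op V)
      ((toSheafify Y.smallEtaleTopology (lowerShriekPre f F)).app (op V) b') =
      (lowerShriekPreι f F).app (op V) b' :=
    congrArg (fun φ => (φ.app (op V)).hom b') (toSheafify_toPush f F)
  rw [ea, eb] at hab
  have hab' : (show ↥(shriekSubgroup f F V) from a') = (show ↥(shriekSubgroup f F V) from b') :=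
    Subtype.ext hab
  exact congrArg _ hab'

end L1

section Nat

variable {X Y : Scheme.{u}} (f : X ⟶ Y)

theorem toPush_naturality {F F' : Ab X} (α : F ⟶ F') :
    (lowerShriek f).map α ≫ lowerShriekToPush f F' =
      lowerShriekToPush f F ≫ (push f).map α := by
  apply Sheaf.hom_ext
  apply sheafify_hom_ext _ _ _ ((push f).obj F').property
  let m : (lowerShriekPreFunctor f).obj F ⟶ (lowerShriekPreFunctor f).obj F' :=
    (lowerShriekPreFunctor f).map α
  let ι : (lowerShriekPreFunctor f).obj F ⟶ ((push f).obj F).obj := lowerShriekPreι f F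
  let ι' : (lowerShriekPreFunctor f).obj F' ⟶ ((push f).obj F').obj := lowerShriekPreι f F'
  have e : toSheafify Y.smallEtaleTopology ((lowerShriekPreFunctor f).obj F) ≫
      (lowerShriekToPush f F).hom = ι := toSheafify_toPush f F
  have e' : toSheafify Y.smallEtaleTopology ((lowerShriekPreFunctor f).obj F') ≫
      (lowerShriekToPush f F').hom = ι' := toSheafify_toPush f F'
  have h1 : toSheafify Y.smallEtaleTopology ((lowerShriekPreFunctor f).obj F) ≫
      (sheafifyMap Y.smallEtaleTopology m ≫ (lowerShriekToPush f F').hom) = m ≫ ι' :=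
    (Category.assoc _ _ _).symm.trans
      ((congrArg (· ≫ (lowerShriekToPush f F').hom)
        (toSheafify_naturality Y.smallEtaleTopology m).symm).trans
        ((Category.assoc _ _ _).trans (congrArg (m ≫ ·) e')))
  have h2 : toSheafify Y.smallEtaleTopology ((lowerShriekPreFunctor f).obj F) ≫
      ((lowerShriekToPush f F).hom ≫ ((push f).map α).hom) = ι ≫ ((push f).map α).hom :=
    (Category.assoc _ _ _).symm.trans (congrArg (· ≫ ((push f).map α).hom) e)
  have h3 : m ≫ ι' = ι ≫ ((push f).map α).hom := by
    ext V x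
    rfl
  exact h1.trans (h3.trans h2.symm)

theorem toPush_naturality_apply {F F' : Ab X} (α : F ⟶ F') (V : Y.Etale)
    (x : ((lowerShriek f).obj F).obj.obj (op V)) :
    (lowerShriekToPush f F').hom.app (op V) (((lowerShriek f).map α).hom.app (op V) x) =
      α.hom.app (op ((bc f).obj V)) ((lowerShriekToPush f F).hom.app (op V) x) :=
  congrArg (fun φ => (φ.hom.app (op V)).hom x) (toPush_naturality f α)

theorem toPush_map (F : Ab X) {V V' : Y.Etale} (φ : V' ⟶ V)
    (x : ((lowerShriek f).obj F).obj.obj (op V)) :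
    (lowerShriekToPush f F).hom.app (op V') (((lowerShriek f).obj F).obj.map φ.op x) =
      F.obj.map ((bc f).map φ).op ((lowerShriekToPush f F).hom.app (op V) x) :=
  congrArg (fun ψ => ψ.hom x) ((lowerShriekToPush f F).hom.naturality φ.op)

instance mono_toPush [LocallyOfFiniteType f] (F : Ab X) : Mono (lowerShriekToPush f F) := by
  have h1 : ∀ V : Y.Etaleᵒᵖ, Mono ((lowerShriekToPush f F).hom.app V) := fun V =>
    (AddCommGrpCat.mono_iff_injective _).2 (toPush_injective f F V.unop)
  have h2 : Mono (lowerShriekToPush f F).hom := NatTrans.mono_of_mono_app _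
  exact Sheaf.Hom.mono_of_presheaf_mono _ _ _

end Nat

section Supp

variable {Y : Scheme.{u}}

theorem eq_zero_of_sectSupp_eq_empty (G : Ab Y) (U : Y.Etale) (s : G.obj.obj (op U))
    (h : sectSupp G U s = ∅) : s = 0 := by
  apply eq_zero_of_locally_zero G
  intro p
  have hp : p ∉ sectSupp G U s := by rw [h]; exact Set.notMem_empty p
  exact (not_mem_sectSupp_iff G U s p).1 hp

theorem sectSupp_eq_of_injective {G' G : Ab Y} (α : G' ⟶ G)
    (hα : ∀ V : Y.Etale, Function.Injective (α.hom.app (op V))) (U : Y.Etale)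
    (t : G'.obj.obj (op U)) :
    sectSupp G' U t = sectSupp G U (α.hom.app (op U) t) := by
  ext x
  rw [← not_iff_not, not_mem_sectSupp_iff, not_mem_sectSupp_iff]
  have key : ∀ (W : Y.Etale) (g : W ⟶ U),
      G.obj.map g.op (α.hom.app (op U) t) = α.hom.app (op W) (G'.obj.map g.op t) := fun W g =>
    (congrArg (fun ψ => ψ.hom t) (α.hom.naturality g.op)).symm
  constructor
  · rintro ⟨W, g, w, hw, h0⟩
    refine ⟨W, g, w, hw, ?_⟩
    rw [key, h0, map_zero]
  · rintro ⟨W, g, w, hw, h0⟩
    refine ⟨W, g, w, hw, ?_⟩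
    apply hα W
    rw [← key, h0, map_zero]

variable {X : Scheme.{u}} (h : X ⟶ Y) (F : Ab X)

set_option backward.isDefEq.respectTransparency.types false in
theorem image_sectSupp_subset (U : Y.Etale) (s : F.obj.obj (op ((bc h).obj U))) :
    prV h U '' sectSupp F ((bc h).obj U) s ⊆ sectSupp ((push h).obj F) U s := by
  rintro _ ⟨x, hx, rfl⟩
  by_contra hcon
  obtain ⟨N, k, n, hn, h0⟩ := (not_mem_sectSupp_iff ((push h).obj F) U s _).1 hcon
  have sq := isPullback_bc_map h k
  obtain ⟨z', hz', -⟩ := Scheme.Pullback.exists_preimage_pullback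
    (f := (pullback.fst U.hom h : ((bc h).obj U).left ⟶ U.left)) (g := k.left) x n hn.symm
  have hz : ((bc h).map k).left (sq.isoPullback.inv z') = x :=
    (congrArg (fun (q : pullback (pullback.fst U.hom h) k.left ⟶ ((bc h).obj U).left) => q z')
      sq.isoPullback_inv_fst).trans hz'
  exact (not_mem_sectSupp_iff F _ s x).2 ⟨(bc h).obj N, (bc h).map k, _, hz, h0⟩ hx

theorem sectSupp_push_eq (U : Y.Etale) (s : F.obj.obj (op ((bc h).obj U)))
    (hcl : IsClosed (prV h U '' sectSupp F ((bc h).obj U) s)) :
    sectSupp ((push h).obj F) U s = prV h U '' sectSupp F ((bc h).obj U) s := by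
  apply Set.Subset.antisymm _ (image_sectSupp_subset h F U s)
  intro u hu
  by_contra hcon
  let N : U.left.Opens := ⟨(prV h U '' sectSupp F ((bc h).obj U) s)ᶜ, hcl.isOpen_compl⟩
  have h0 : F.obj.map ((bc h).map (opnι U N)).op s = 0 := by
    apply eq_zero_of_sectSupp_eq_empty
    rw [sectSupp_map]
    ext p
    simp only [Set.mem_preimage, Set.mem_empty_iff_false, iff_false]
    intro hp
    have e1 : prV h U (((bc h).map (opnι U N)).left p) =
        N.ι (prV h (opn U N) p) :=
      congrArg (fun (q : ((bc h).obj (opn U N)).left ⟶ U.left) => q p)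
        (Groth.Agent.H4.ShriekStar.bc_map_left_fst h (opnι U N))
    have h2 : N.ι (prV h (opn U N) p) ∈ (prV h U '' sectSupp F ((bc h).obj U) s)ᶜ :=
      (prV h (opn U N) p).2
    rw [← e1] at h2
    exact h2 ⟨_, hp, rfl⟩
  have hu' : u ∈ Set.range (opnι U N).left := by rw [range_opnι]; exact hcon
  obtain ⟨n, hn⟩ := hu'
  exact (not_mem_sectSupp_iff ((push h).obj F) U s u).2 ⟨opn U N, opnι U N, n, hn, h0⟩ hu

end Supp

end Groth.Agent.H4.ShriekSections
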