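import Groth.Agent.H4.ProperSupp
import Groth.Agent.H4.SuppSec
import Groth.Agent.H4.PushStalkZero
import Groth.Agent.H4.GlueSec

/-!
# The presheaf of sections with proper support is a sheaf (helper4)

Supports of sums/restrictions, sections with proper support form a subgroup, étale-local nature
of proper support (fpqc descent of properness), and the sheaf property of
`EtShriek.lowerShriekPre f F` for `f` locally of finite type.
-/

set_option autoImplicit false
open CategoryTheory CategoryTheory.Limits AlgebraicGeometry Opposite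
universe u
open EtCoh EtShriek Groth.Agent.H4.Stalks Groth.Agent.H4.GlueSec Groth.Agent.H4.SuppSec
open Groth.Agent.H4.ProperSupp

namespace Groth.Agent.H4.ShriekSheaf

section Supp

variable {X : Scheme.{u}} (F : Ab X)

theorem sectSupp_zero (U : X.Etale) : sectSupp F U (0 : F.obj.obj (op U)) = ∅ := by
  ext x
  simp only [Set.mem_empty_iff_false, iff_false]
  rw [not_mem_sectSupp_iff]
  refine ⟨U, 𝟙 U, x, rfl, ?_⟩
  rw [map_zero]

theorem sectSupp_neg (U : X.Etale) (s : F.obj.obj (op U)) :
    sectSupp F U (-s) = sectSupp F U s := by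
  ext x
  rw [← not_iff_not, not_mem_sectSupp_iff, not_mem_sectSupp_iff]
  constructor
  · rintro ⟨W, g, w, hw, h0⟩
    refine ⟨W, g, w, hw, ?_⟩
    rw [map_neg, neg_eq_zero] at h0
    exact h0
  · rintro ⟨W, g, w, hw, h0⟩
    refine ⟨W, g, w, hw, ?_⟩
    rw [map_neg, h0, neg_zero]

theorem sectSupp_add_subset (U : X.Etale) (s t : F.obj.obj (op U)) :
    sectSupp F U (s + t) ⊆ sectSupp F U s ∪ sectSupp F U t := by
  intro x hx
  by_contra hcon
  rw [Set.mem_union, not_or] at hcon
  obtain ⟨W₁, g₁, w₁, hw₁, h₁⟩ := (not_mem_sectSupp_iff F U s x).1 hcon.1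
  obtain ⟨W₂, g₂, w₂, hw₂, h₂⟩ := (not_mem_sectSupp_iff F U t x).1 hcon.2
  obtain ⟨T, a, b, t₀, hab, ha, -⟩ := exists_pullback_point g₁ g₂ w₁ w₂ (hw₁.trans hw₂.symm)
  refine (not_mem_sectSupp_iff F U (s + t) x).2 ⟨T, a ≫ g₁, t₀, ?_, ?_⟩ hx
  · change g₁.left (a.left t₀) = x
    rw [ha, hw₁]
  · rw [map_add]
    have e1 : F.obj.map (a ≫ g₁).op s = 0 := by
      rw [← map_comp_apply, h₁, map_zero]
    have e2 : F.obj.map (a ≫ g₁).op t = 0 := by
      rw [hab, ← map_comp_apply, h₂, map_zero]
    rw [e1, e2, add_zero]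

theorem sectSupp_map {U U' : X.Etale} (k : U' ⟶ U) (s : F.obj.obj (op U)) :
    sectSupp F U' (F.obj.map k.op s) = k.left ⁻¹' sectSupp F U s := by
  ext x
  rw [Set.mem_preimage, ← not_iff_not, not_mem_sectSupp_iff, not_mem_sectSupp_iff]
  constructor
  · rintro ⟨W, g, w, hw, h0⟩
    refine ⟨W, g ≫ k, w, ?_, ?_⟩
    · change k.left (g.left w) = k.left x
      rw [hw]
    · rw [← map_comp_apply]; exact h0
  · rintro ⟨W, g, w, hw, h0⟩
    obtain ⟨T, a, b, t₀, hab, -, hb⟩ := exists_pullback_point g k w x hw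
    refine ⟨T, b, t₀, hb, ?_⟩
    rw [map_comp_apply, ← hab, ← map_comp_apply, h0, map_zero]

end Supp

section Pred

variable {X Y : Scheme.{u}} (f : X ⟶ Y) [LocallyOfFiniteType f] (F : Ab X)

instance lft_prV (V : Y.Etale) : LocallyOfFiniteType (prV f V) :=
  MorphismProperty.of_isPullback (P := @LocallyOfFiniteType)
    (IsPullback.of_hasPullback V.hom f).flip (inferInstance : LocallyOfFiniteType f)

theorem hasProperSupport_zero (V : Y.Etale) :
    HasProperSupport F ((bc f).obj V) (0 : F.obj.obj (op ((bc f).obj V))) (prV f V) :=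
  ⟨∅, by rw [sectSupp_zero], isProperOver_empty _⟩

omit [LocallyOfFiniteType f] in
theorem hasProperSupport_neg (V : Y.Etale) (s : F.obj.obj (op ((bc f).obj V)))
    (h : HasProperSupport F ((bc f).obj V) s (prV f V)) :
    HasProperSupport F ((bc f).obj V) (-s) (prV f V) := by
  obtain ⟨Z, hZ, hp⟩ := h
  exact ⟨Z, by rw [sectSupp_neg]; exact hZ, hp⟩

theorem hasProperSupport_add (V : Y.Etale) (s t : F.obj.obj (op ((bc f).obj V)))
    (hs : HasProperSupport F ((bc f).obj V) s (prV f V))
    (ht : HasProperSupport F ((bc f).obj V) t (prV f V)) :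
    HasProperSupport F ((bc f).obj V) (s + t) (prV f V) := by
  obtain ⟨Z₁, hZ₁, hp₁⟩ := hs
  obtain ⟨Z₂, hZ₂, hp₂⟩ := ht
  exact ⟨Z₁ ∪ Z₂, (sectSupp_add_subset F _ s t).trans (Set.union_subset_union hZ₁ hZ₂),
    isProperOver_union _ hp₁ hp₂⟩

theorem shriekPred_zero (V : Y.Etale) :
    ShriekPred f F V (0 : F.obj.obj (op ((bc f).obj V))) := by
  intro V' φ
  rw [map_zero]
  exact hasProperSupport_zero f F V'

theorem shriekPred_neg (V : Y.Etale) (s : F.obj.obj (op ((bc f).obj V)))
    (h : ShriekPred f F V s) : ShriekPred f F V (-s) := by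
  intro V' φ
  rw [map_neg]
  exact hasProperSupport_neg f F V' _ (h V' φ)

theorem shriekPred_add (V : Y.Etale) (s t : F.obj.obj (op ((bc f).obj V)))
    (hs : ShriekPred f F V s) (ht : ShriekPred f F V t) : ShriekPred f F V (s + t) := by
  intro V' φ
  rw [map_add]
  exact hasProperSupport_add f F V' _ _ (hs V' φ) (ht V' φ)

theorem mem_shriekSubgroup_iff (V : Y.Etale) (s : F.obj.obj (op ((bc f).obj V))) :
    s ∈ shriekSubgroup f F V ↔ ShriekPred f F V s := by
  constructor
  · intro hs
    refine AddSubgroup.closure_induction (p := fun x _ => ShriekPred f F V x) ?_ ?_ ?_ ?_ hs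
    · intro x hx; exact hx
    · exact shriekPred_zero f F V
    · intro x y _ _ hx hy; exact shriekPred_add f F V x y hx hy
    · intro x _ hx; exact shriekPred_neg f F V x hx
  · intro hs
    exact AddSubgroup.subset_closure hs

/-- sections with proper support: a section which lies in the subgroup locally lies in it. -/
theorem shriekPred_of_cover (V : Y.Etale) (s : F.obj.obj (op ((bc f).obj V)))
    (R : Sieve V) (hR : R ∈ Y.smallEtaleTopology V)
    (h : ∀ (W : Y.Etale) (φ : W ⟶ V), R φ → ShriekPred f F W (F.obj.map ((bc f).map φ).op s)) :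
    ShriekPred f F V s := by
  intro V' ψ
  have hR' : R.pullback ψ ∈ Y.smallEtaleTopology V' := Y.smallEtaleTopology.pullback_stable ψ hR
  rw [mem_smallEtaleTopology_iff] at hR'
  choose W g w hg hw using hR'
  have hcl : IsClosed (sectSupp F ((bc f).obj V') (F.obj.map ((bc f).map ψ).op s)) :=
    Groth.Agent.H4.PushStalkZero.isClosed_sectSupp F _ _
  refine ⟨_, le_rfl, ?_⟩
  have hEt : ∀ x : V'.left, Etale (g x).left := fun x =>
    EtCoh.etaleMP.of_postcomp (W' := EtCoh.etaleMP) (g x).left V'.hom V'.prop (by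
      have e : (g x).left ≫ V'.hom = (W x).hom := MorphismProperty.Over.w (g x)
      rw [e]; exact (W x).prop)
  refine isProperOver_of_cover (prV f V') _ hcl (fun x => (W x).left)
    (fun x => ((bc f).obj (W x)).left) (fun x => (g x).left)
    (fun x => ⟨x, w x, hw x⟩) (fun x => ((bc f).map (g x)).left) (fun x => prV f (W x))
    (fun x => isPullback_bc_map f (g x)) ?_
  intro x
  have h1 := h (W x) (g x ≫ ψ) (hg x) (W x) (𝟙 _)
  have e : F.obj.map ((bc f).map (𝟙 (W x))).op (F.obj.map ((bc f).map (g x ≫ ψ)).op s) =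
      F.obj.map ((bc f).map (g x ≫ ψ)).op s := by
    rw [CategoryTheory.Functor.map_id, op_id, F.obj.map_id]; rfl
  rw [e] at h1
  obtain ⟨Z', hZ', hp'⟩ := h1
  refine isProperOver_mono _ hp' (hcl.preimage ((bc f).map (g x)).left.continuous) ?_
  rw [← sectSupp_map, map_comp_apply, ← Functor.map_comp]
  exact hZ'

end Pred

section Sheaf

variable {X Y : Scheme.{u}} (f : X ⟶ Y) [LocallyOfFiniteType f] (F : Ab X)

/-- the subfunctor of `f_* F` of sections with proper support. -/
def sub : Subfunctor (((push f).obj F).obj ⋙ forget AddCommGrpCat) where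
  obj V := {s | s ∈ shriekSubgroup f F V.unop}
  map {_ _} φ _ hs := shriekSubgroup_le_comap f F φ.unop hs

theorem isSheaf_sub : Presieve.IsSheaf Y.smallEtaleTopology (sub f F).toFunctor := by
  have hG : Presieve.IsSheaf Y.smallEtaleTopology
      (((push f).obj F).obj ⋙ forget AddCommGrpCat) :=
    (isSheaf_iff_isSheaf_of_type _ _).mp
      ((Presheaf.isSheaf_iff_isSheaf_forget _ _ _).1 ((push f).obj F).property)
  rw [Subfunctor.isSheaf_iff _ hG]
  intro V s hs
  exact (mem_shriekSubgroup_iff f F V.unop s).2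
    (shriekPred_of_cover f F V.unop s _ hs
      (fun W φ hφ => (mem_shriekSubgroup_iff f F W _).1 hφ))

theorem isSheaf_lowerShriekPre :
    Presheaf.IsSheaf Y.smallEtaleTopology (lowerShriekPre f F) := by
  rw [Presheaf.isSheaf_iff_isSheaf_forget _ _ (forget AddCommGrpCat),
    isSheaf_iff_isSheaf_of_type]
  refine Presieve.isSheaf_iso _ ?_ (isSheaf_sub f F)
  refine NatIso.ofComponents (fun V => Equiv.toIso
    ⟨fun x => ⟨x.1, x.2⟩, fun x => ⟨x.1, x.2⟩, fun _ => rfl, fun _ => rfl⟩) ?_
  intro V V' φ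
  ext x
  rfl

end Sheaf

end Groth.Agent.H4.ShriekSheaf
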