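import Mathlib.RingTheory.Spectrum.Prime.ConstructibleSet
import Mathlib.RingTheory.Spectrum.Prime.Topology
import Mathlib.Topology.Spectral.Prespectral

set_option autoImplicit false
universe u

namespace Groth.Agent.H4

open PrimeSpectrum Topology

/-- If the prime spectrum of `B` has no nontrivial specializations, every basic open is closed. -/
theorem isClosed_basicOpen_of_specializes_eq (B : Type u) [CommRing B]
    (h : ∀ q q' : PrimeSpectrum B, q ⤳ q' → q = q') (f : B) :
    IsClosed (basicOpen f : Set (PrimeSpectrum B)) := by
  rw [← isOpen_compl_iff]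
  apply isOpen_of_stableUnderGeneralization_of_isConstructible
  · intro x y hxy hx
    rw [h _ _ hxy]; exact hx
  · exact isConstructible_basicOpen.compl

/-- If the prime spectrum of `B` has no nontrivial specializations, it is Hausdorff. -/
theorem t2Space_of_specializes_eq (B : Type u) [CommRing B]
    (h : ∀ q q' : PrimeSpectrum B, q ⤳ q' → q = q') : T2Space (PrimeSpectrum B) := by
  refine ⟨fun q q' hne => ?_⟩
  have hnle : ¬ q.asIdeal ≤ q'.asIdeal := fun hle =>
    hne (h _ _ ((le_iff_specializes q q').mp hle))
  obtain ⟨f, hfq, hfq'⟩ := SetLike.not_le_iff_exists.mp hnle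
  refine ⟨(basicOpen f : Set (PrimeSpectrum B))ᶜ, basicOpen f,
    (isClosed_basicOpen_of_specializes_eq B h f).isOpen_compl, (basicOpen f).2, ?_, ?_, ?_⟩
  · simpa using hfq
  · exact hfq'
  · exact disjoint_compl_left

/-- If the prime spectrum of `B` has no nontrivial specializations, it is totally disconnected. -/
theorem totallyDisconnectedSpace_of_specializes_eq (B : Type u) [CommRing B]
    (h : ∀ q q' : PrimeSpectrum B, q ⤳ q' → q = q') :
    TotallyDisconnectedSpace (PrimeSpectrum B) := by
  have := t2Space_of_specializes_eq B h
  infer_instance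

end Groth.Agent.H4
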