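import Mathlib.Topology.Spectral.Basic
import Mathlib.Topology.Spectral.Hom
import Mathlib.Topology.Sober
import Mathlib.Topology.QuasiSeparated

set_option autoImplicit false
universe u

namespace Groth.Agent.H4

open Topology Set

variable {X Y : Type*} [TopologicalSpace X] [TopologicalSpace Y]

/-- A compact open of a subspace of a prespectral space is the trace of a compact open. -/
theorem exists_isCompact_isOpen_preimage_eq [PrespectralSpace Y] {f : X → Y}
    (hf : IsInducing f) {U : Set X} (hU : IsOpen U) (hUc : IsCompact U) :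
    ∃ W : Set Y, IsCompact W ∧ IsOpen W ∧ f ⁻¹' W = U := by
  obtain ⟨U', hU', rfl⟩ := hf.isOpen_iff.mp hU
  obtain ⟨W, hWc, hWo, hKW, hWU⟩ := PrespectralSpace.exists_isCompact_and_isOpen_between
    (hUc.image hf.continuous) hU' (image_preimage_subset f U')
  refine ⟨W, hWc, hWo, Subset.antisymm (preimage_mono hWU) ?_⟩
  intro x hx
  exact hKW (mem_image_of_mem f hx)

/-- A closed subspace of a quasi-separated prespectral space is quasi-separated. -/
theorem quasiSeparatedSpace_of_isClosedEmbedding [QuasiSeparatedSpace Y] [PrespectralSpace Y]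
    {f : X → Y} (hf : IsClosedEmbedding f) : QuasiSeparatedSpace X := by
  refine ⟨fun U V hU hUc hV hVc => ?_⟩
  obtain ⟨WU, hWUc, hWUo, rfl⟩ := exists_isCompact_isOpen_preimage_eq hf.isInducing hU hUc
  obtain ⟨WV, hWVc, hWVo, rfl⟩ := exists_isCompact_isOpen_preimage_eq hf.isInducing hV hVc
  rw [← preimage_inter]
  exact hf.isCompact_preimage (QuasiSeparatedSpace.inter_isCompact _ _ hWUo hWUc hWVo hWVc)

/-- A closed subspace of a spectral space is spectral. -/
theorem spectralSpace_of_isClosedEmbedding [SpectralSpace Y] {f : X → Y}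
    (hf : IsClosedEmbedding f) : SpectralSpace X where
  __ := hf.isEmbedding.t0Space
  __ := hf.compactSpace
  __ := hf.quasiSober
  __ := quasiSeparatedSpace_of_isClosedEmbedding hf
  __ := PrespectralSpace.of_isClosedEmbedding f hf

end Groth.Agent.H4
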