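import Groth.Agent.H4.SpectralProd
import Mathlib.Topology.Homeomorph.Lemmas

/-!
# Pullback of a spectral space along a map from a profinite space to its components
-/

set_option autoImplicit false
open Set Topology

namespace Groth.Agent.H4.SpectralFib

universe u
variable {X T : Type u} [TopologicalSpace X] [TopologicalSpace T]

/-- the fibre product `X ×_{π₀ X} T`. -/
abbrev Y (g : T → _root_.ConnectedComponents X) : Type u :=
  {p : X × T // _root_.ConnectedComponents.mk p.1 = g p.2}

section

variable [SpectralSpace X] [CompactSpace T] [T2Space T] [TotallyDisconnectedSpace T]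
  (g : C(T, _root_.ConnectedComponents X))

theorem isClosed_Y : IsClosed {p : X × T | _root_.ConnectedComponents.mk p.1 = g p.2} := by
  haveI : T2Space (_root_.ConnectedComponents X) :=
    Groth.Agent.H4.SpectralCC.t2Space_connectedComponents
  exact isClosed_eq (ConnectedComponents.continuous_coe.comp continuous_fst)
    (g.continuous.comp continuous_snd)

theorem spectralSpace_Y : SpectralSpace (Y g) := by
  haveI : SpectralSpace (X × T) := Groth.Agent.H4.SpectralProd.spectralSpace_prod
  exact Groth.Agent.H4.spectralSpace_of_isClosedEmbedding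
    (isClosed_Y g).isClosedEmbedding_subtypeVal

/-- the projection to `T`. -/
def q : Y g → T := fun y => y.1.2

theorem continuous_q : Continuous (q g) := continuous_snd.comp continuous_subtype_val

theorem q_surjective : Function.Surjective (q g) := by
  intro t
  obtain ⟨x, hx⟩ := ConnectedComponents.surjective_coe (g t)
  exact ⟨⟨(x, t), hx⟩, rfl⟩

/-- fibres of `q` are connected: two points with the same image lie in one component. -/
theorem mk_eq_of_q_eq (y₁ y₂ : Y g) (h : q g y₁ = q g y₂) :
    (_root_.ConnectedComponents.mk y₁ : _root_.ConnectedComponents (Y g)) = ConnectedComponents.mk y₂ := by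
  rw [ConnectedComponents.coe_eq_coe']
  -- the map from the component of `y₁.1.1` in `X` to the fibre
  set t : T := y₁.1.2 with ht
  set C : Set X := connectedComponent y₁.1.1 with hC
  have hCmem : ∀ x ∈ C, _root_.ConnectedComponents.mk x = g t := by
    intro x hx
    have : (_root_.ConnectedComponents.mk x : _root_.ConnectedComponents X) = ConnectedComponents.mk y₁.1.1 :=
      ConnectedComponents.coe_eq_coe'.2 hx
    rw [this]
    exact y₁.2
  let φ : C → Y g := fun x => ⟨(x.1, t), hCmem x.1 x.2⟩
  have hφ : Continuous φ := by
    refine Continuous.subtype_mk ?_ _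
    exact (continuous_subtype_val).prodMk continuous_const
  haveI : PreconnectedSpace C :=
    isPreconnected_iff_preconnectedSpace.1 isPreconnected_connectedComponent
  have hpre : IsPreconnected (Set.range φ) := isPreconnected_range hφ
  have h1 : y₁ ∈ Set.range φ := ⟨⟨y₁.1.1, mem_connectedComponent⟩, Subtype.ext rfl⟩
  have h2 : y₂ ∈ Set.range φ := by
    have hy2 : y₂.1.1 ∈ C := by
      have e : (_root_.ConnectedComponents.mk y₂.1.1 : _root_.ConnectedComponents X) =
          ConnectedComponents.mk y₁.1.1 := by
        rw [y₂.2, y₁.2]
        exact congrArg g h.symm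
      exact ConnectedComponents.coe_eq_coe'.1 e
    refine ⟨⟨y₂.1.1, hy2⟩, Subtype.ext (Prod.ext rfl ?_)⟩
    exact h
  exact hpre.subset_connectedComponent h2 h1

/-- the induced map on connected components. -/
noncomputable def qbar : _root_.ConnectedComponents (Y g) → T :=
  (continuous_q g).connectedComponentsLift

theorem continuous_qbar : Continuous (qbar g) :=
  (continuous_q g).connectedComponentsLift_continuous

theorem qbar_mk (y : Y g) : qbar g (ConnectedComponents.mk y) = y.1.2 :=
  (continuous_q g).connectedComponentsLift_apply_coe y

theorem qbar_bijective : Function.Bijective (qbar g) := by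
  constructor
  · intro a b hab
    obtain ⟨y₁, rfl⟩ := ConnectedComponents.surjective_coe a
    obtain ⟨y₂, rfl⟩ := ConnectedComponents.surjective_coe b
    rw [qbar_mk, qbar_mk] at hab
    exact mk_eq_of_q_eq g y₁ y₂ hab
  · intro t
    obtain ⟨y, hy⟩ := q_surjective g t
    exact ⟨ConnectedComponents.mk y, (qbar_mk g y).trans hy⟩

/-- `π₀(Y) ≃ₜ T`. -/
noncomputable def homeo : _root_.ConnectedComponents (Y g) ≃ₜ T :=
  haveI : SpectralSpace (Y g) := spectralSpace_Y g
  (continuous_qbar g).homeoOfEquivCompactToT2 (f := Equiv.ofBijective (qbar g) (qbar_bijective g))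

theorem homeo_mk (y : Y g) : homeo g (ConnectedComponents.mk y) = y.1.2 := qbar_mk g y

end

end Groth.Agent.H4.SpectralFib
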