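import Groth.Agent.H4.SpectralCC
import Groth.Agent.H4.Spectral
import Mathlib.Topology.Separation.Profinite
import Mathlib.Topology.Separation.Hausdorff
import Mathlib.Topology.Sober
import Mathlib.Topology.Bases

/-!
# The product of a spectral space with a profinite space is spectral
-/

set_option autoImplicit false
open Set Topology

namespace Groth.Agent.H4.SpectralProd

variable {X T : Type*} [TopologicalSpace X] [TopologicalSpace T]

/-- The "boxes" `U ×ˢ V` with `U` compact open in `X` and `V` clopen in `T`. -/
def boxes (X T : Type*) [TopologicalSpace X] [TopologicalSpace T] : Set (Set (X × T)) :=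
  image2 (· ×ˢ ·) {U : Set X | IsOpen U ∧ IsCompact U} {V : Set T | IsClopen V}

theorem isTopologicalBasis_boxes [PrespectralSpace X] [CompactSpace T] [T2Space T]
    [TotallyDisconnectedSpace T] : TopologicalSpace.IsTopologicalBasis (boxes X T) :=
  PrespectralSpace.isTopologicalBasis.prod isTopologicalBasis_isClopen

theorem isCompact_of_mem_boxes [CompactSpace T] {B : Set (X × T)} (hB : B ∈ boxes X T) :
    IsCompact B := by
  obtain ⟨U, hU, V, hV, rfl⟩ := hB
  exact hU.2.prod hV.1.isCompact

theorem inter_mem_boxes [QuasiSeparatedSpace X] {B B' : Set (X × T)} (hB : B ∈ boxes X T)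
    (hB' : B' ∈ boxes X T) : B ∩ B' ∈ boxes X T := by
  obtain ⟨U, hU, V, hV, rfl⟩ := hB
  obtain ⟨U', hU', V', hV', rfl⟩ := hB'
  refine ⟨U ∩ U', ⟨hU.1.inter hU'.1,
    QuasiSeparatedSpace.inter_isCompact U U' hU.1 hU.2 hU'.1 hU'.2⟩, V ∩ V', hV.inter hV', ?_⟩
  exact Set.prod_inter_prod.symm

theorem quasiSober_prod [QuasiSober X] [T2Space T] : QuasiSober (X × T) where
  sober {S} hS hSc := by
    -- the image in `T` is a point
    have hT : IsIrreducible (Prod.snd '' S) := hS.image _ continuous_snd.continuousOn
    obtain ⟨t, ht⟩ := isIrreducible_iff_singleton.1 hT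
    have hSt : ∀ p ∈ S, p.2 = t := by
      intro p hp
      have : p.2 ∈ Prod.snd '' S := ⟨p, hp, rfl⟩
      rw [ht] at this
      exact this
    -- the slice in `X`
    set S' : Set X := (fun x => (x, t)) ⁻¹' S with hS'
    have hS'c : IsClosed S' := hSc.preimage (by fun_prop)
    have hS'eq : S' = Prod.fst '' S := by
      ext x
      constructor
      · intro hx
        exact ⟨(x, t), hx, rfl⟩
      · rintro ⟨p, hp, rfl⟩
        have : p = (p.1, t) := Prod.ext rfl (hSt p hp)
        change (p.1, t) ∈ S
        rw [← this]
        exact hp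
    have hS'i : IsIrreducible S' := by
      rw [hS'eq]
      exact hS.image _ continuous_fst.continuousOn
    obtain ⟨z, hz⟩ := QuasiSober.sober hS'i hS'c
    refine ⟨(z, t), ?_⟩
    change closure {(z, t)} = S
    have : ({(z, t)} : Set (X × T)) = {z} ×ˢ {t} := by
      ext p; simp [Prod.ext_iff]
    rw [this, closure_prod_eq, closure_singleton (x := t)]
    have hz' : closure {z} = S' := hz
    rw [hz']
    ext p
    constructor
    · rintro ⟨h1, h2⟩
      have h2' : p.2 = t := h2
      have : p = (p.1, t) := Prod.ext rfl h2'
      rw [this]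
      exact h1
    · intro hp
      have h2 : p.2 = t := hSt p hp
      refine ⟨?_, h2⟩
      change (p.1, t) ∈ S
      have : p = (p.1, t) := Prod.ext rfl h2
      rw [← this]
      exact hp

/-- The product of a spectral space with a profinite space is spectral. -/
theorem spectralSpace_prod [SpectralSpace X] [CompactSpace T] [T2Space T]
    [TotallyDisconnectedSpace T] : SpectralSpace (X × T) :=
  { toT0Space := inferInstance
    toCompactSpace := inferInstance
    toQuasiSober := quasiSober_prod
    toQuasiSeparatedSpace := by
      refine QuasiSeparatedSpace.of_isTopologicalBasis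
        (b := fun B : boxes X T => (B : Set (X × T))) ?_ ?_
      · rw [Subtype.range_coe]
        exact isTopologicalBasis_boxes
      · intro B B'
        exact isCompact_of_mem_boxes (inter_mem_boxes B.2 B'.2)
    toPrespectralSpace := PrespectralSpace.of_isTopologicalBasis isTopologicalBasis_boxes
      fun B hB => isCompact_of_mem_boxes hB }

end Groth.Agent.H4.SpectralProd
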