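import Mathlib
import Groth.Agent.H4.StalkPull
import Groth.Prelude.Def_SGA4b

/-!
# Stalks of sheaves of sets on the small étale site: pullback formula, conservative families
-/

set_option autoImplicit false
open CategoryTheory CategoryTheory.Limits AlgebraicGeometry Opposite
universe u
open EtCoh Groth.Agent.H4.Stalks Groth.Agent.H4.StalkPull

namespace Groth.Agent.H4.StalkPullSh

instance ab5T : AB5OfSize.{u, u} (Type (u+1)) := AB5OfSize_of_univLE.{u, u, u+1, u+1} _

variable {X Y : Scheme.{u}}

/-- the stalk functor on sheaves of sets. -/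
noncomputable abbrev stalkSh {Ω : Type u} [Field Ω] [IsSepClosed Ω]
    (ξ : Spec (CommRingCat.of Ω) ⟶ X) : EtDesc.Sh X ⥤ Type (u + 1) :=
  (Scheme.pointSmallEtale ξ).sheafFiber (A := Type (u + 1))

/-- stalk of an inverse image of sheaves of sets. -/
noncomputable def stalkPullIsoSh (f : Y ⟶ X) {Ω : Type u} [Field Ω] [IsSepClosed Ω]
    (y : Spec (CommRingCat.of Ω) ⟶ Y) :
    stalkSh (y ≫ f) ≅ EtDesc.pullSh f ⋙ stalkSh y :=
  (sheafFiberIsoOfIso (comapIso f y)).symm ≪≫
    (Scheme.pointSmallEtale y).sheafFiberComapIso (bc f) (coverPreserving_bc f) (Type (u + 1))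

/-- a jointly surjective family of geometric points jointly reflects isomorphisms of sheaves of sets. -/
theorem jri_of_surjective {ι : Type u} {Ω : ι → Type u} [∀ i, Field (Ω i)] [∀ i, IsSepClosed (Ω i)]
    (s : ∀ i, Spec (CommRingCat.of (Ω i)) ⟶ X) (hs : ⋃ i, Set.range (s i) = Set.univ) :
    JointlyReflectIsomorphisms
      (fun (Φ : (ObjectProperty.ofObj (fun i ↦ Scheme.pointSmallEtale (s i))).FullSubcategory) ↦
        Φ.obj.sheafFiber (A := Type (u + 1))) :=
  jointlyReflectIsomorphisms (Scheme.isConservative_pointSmallEtale s hs)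

end Groth.Agent.H4.StalkPullSh
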