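import Groth.Prelude.Def_EtBase
import Mathlib.AlgebraicGeometry.Morphisms.UniversallyOpen
import Mathlib.AlgebraicGeometry.Morphisms.Etale

/-!
# Subsheaves of the final sheaf on the small étale site are represented by opens
-/

set_option autoImplicit false
universe u

open CategoryTheory CategoryTheory.Limits AlgebraicGeometry Opposite

namespace Groth.Agent.H4.SubFinal

variable (S : Scheme.{u}) (F : Sheaf S.smallEtaleTopology (Type u))

/-- The open subset of `S` swept out by the étale `S`-schemes on which `F` has a section. -/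
def W : S.Opens :=
  ⟨⋃ (U : S.Etale) (_ : Nonempty (F.obj.obj (op U))), Set.range U.hom.base,
    isOpen_iUnion fun U => isOpen_iUnion fun _ =>
      haveI : AlgebraicGeometry.Etale U.hom := U.prop
      U.hom.isOpenMap.isOpen_range⟩

variable {S F}

theorem range_subset_W (U : S.Etale) (h : Nonempty (F.obj.obj (op U))) :
    Set.range U.hom.base ⊆ (W S F : Set S) := by
  intro s hs
  exact Set.mem_iUnion.2 ⟨U, Set.mem_iUnion.2 ⟨h, hs⟩⟩

set_option backward.isDefEq.respectTransparency.types false in
theorem nonempty_of_range_subset (hF : ∀ U : S.Etale, Subsingleton (F.obj.obj (op U)))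
    (U : S.Etale) (h : Set.range U.hom.base ⊆ (W S F : Set S)) :
    Nonempty (F.obj.obj (op U)) := by
  -- the sieve of all maps from objects on which `F` has a section
  let R : Sieve U :=
    { arrows := fun V _ => Nonempty (F.obj.obj (op V))
      downward_closed := by
        rintro V V' g ⟨s⟩ g'
        exact ⟨F.obj.map g'.op s⟩ }
  have hR : R ∈ S.smallEtaleTopology U := by
    have eS : S.smallEtaleTopology =
        (S.smallPretopology (P := EtCoh.etaleMP) (Q := EtCoh.etaleMP)).toGrothendieck :=
      Scheme.smallGrothendieckTopology_eq_toGrothendieck_smallPretopology S le_rfl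
    rw [eS]
    refine (Scheme.mem_toGrothendieck_smallPretopology U R).2 ?_
    intro x
    have hx : U.hom.base x ∈ (W S F : Set S) := h ⟨x, rfl⟩
    obtain ⟨U', hU'⟩ := Set.mem_iUnion.1 hx
    obtain ⟨⟨s⟩, y, hy⟩ := Set.mem_iUnion.1 hU'
    haveI : AlgebraicGeometry.Etale U.hom := U.prop
    haveI : AlgebraicGeometry.Etale U'.hom := U'.prop
    obtain ⟨z, hz1, hz2⟩ := Scheme.Pullback.exists_preimage_pullback
      (f := U.hom) (g := U'.hom) x y hy.symm
    let V : S.Etale := Scheme.Etale.mk (pullback.fst U.hom U'.hom ≫ U.hom)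
    let g : V ⟶ U := MorphismProperty.Over.homMk (pullback.fst U.hom U'.hom) rfl trivial
    let g' : V ⟶ U' := MorphismProperty.Over.homMk (pullback.snd U.hom U'.hom)
      pullback.condition.symm trivial
    exact ⟨V, g, z, ⟨F.obj.map g'.op s⟩, inferInstanceAs (AlgebraicGeometry.Etale (pullback.fst U.hom U'.hom)), hz1⟩
  have hsh := (isSheaf_iff_isSheaf_of_type _ _).1 F.2 R hR
  let x : Presieve.FamilyOfElements F.obj R.arrows := fun V g hg => hg.some
  have hx : x.Compatible := by
    intro Y₁ Y₂ Z g₁ g₂ f₁ f₂ h₁ h₂ _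
    exact (hF Z).elim _ _
  exact ⟨hsh.amalgamate x hx⟩

set_option backward.isDefEq.respectTransparency.types false in
theorem nonempty_hom_iff (U : S.Etale) (W' : S.Opens) :
    Nonempty (U ⟶ Scheme.Etale.mk W'.ι) ↔ Set.range U.hom.base ⊆ (W' : Set S) := by
  constructor
  · rintro ⟨g⟩ _ ⟨x, rfl⟩
    have e : g.left ≫ W'.ι = U.hom := MorphismProperty.Over.w g
    rw [← e]
    exact (g.left.base x).2
  · intro h
    have h' : Set.range U.hom.base ⊆ Set.range W'.ι.base := by
      rwa [Scheme.Opens.range_ι]
    let l : U.left ⟶ (W' : Scheme.{u}) := IsOpenImmersion.lift W'.ι U.hom h'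
    have hl : l ≫ W'.ι = U.hom := IsOpenImmersion.lift_fac W'.ι U.hom h'
    exact ⟨MorphismProperty.Over.homMk (A := U) (B := Scheme.Etale.mk W'.ι) l hl trivial⟩

set_option backward.isDefEq.respectTransparency.types false in
instance subsingleton_hom (U : S.Etale) (W' : S.Opens) :
    Subsingleton (U ⟶ Scheme.Etale.mk W'.ι) := by
  constructor
  intro g g'
  apply MorphismProperty.Over.Hom.ext
  have e : g.left ≫ W'.ι = U.hom := MorphismProperty.Over.w g
  have e' : g'.left ≫ W'.ι = U.hom := MorphismProperty.Over.w g'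
  exact (cancel_mono W'.ι).1 (e.trans e'.symm)

/-- A subsheaf of the final sheaf is represented by the open `W`. -/
noncomputable def iso (hF : ∀ U : S.Etale, Subsingleton (F.obj.obj (op U))) :
    F.obj ≅ yoneda.obj (Scheme.Etale.mk (W S F).ι) :=
  NatIso.ofComponents (fun U =>
    haveI := hF U.unop
    haveI : Subsingleton ((yoneda.obj (Scheme.Etale.mk (W S F).ι)).obj U) :=
      subsingleton_hom U.unop (W S F)
    Equiv.toIso
      { toFun := fun s => ((nonempty_hom_iff U.unop (W S F)).2 (range_subset_W U.unop ⟨s⟩)).some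
        invFun := fun g => (nonempty_of_range_subset hF U.unop
          ((nonempty_hom_iff U.unop (W S F)).1 ⟨g⟩)).some
        left_inv := fun _ => Subsingleton.elim _ _
        right_inv := fun _ => Subsingleton.elim _ _ })
    (by
      intro U V g
      ext s
      exact (subsingleton_hom V.unop (W S F)).elim _ _)

theorem unique (W' : S.Opens)
    (e : F.obj ≅ yoneda.obj (Scheme.Etale.mk W'.ι)) : W' = W S F := by
  apply le_antisymm
  · -- `F` has a section on `W'`
    have s : F.obj.obj (op (Scheme.Etale.mk W'.ι)) := e.inv.app (op (Scheme.Etale.mk W'.ι)) (𝟙 _)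
    have := range_subset_W (Scheme.Etale.mk W'.ι) ⟨s⟩
    intro x hx
    apply this
    change x ∈ Set.range W'.ι.base
    rw [Scheme.Opens.range_ι]
    exact hx
  · intro x hx
    obtain ⟨U, hU⟩ := Set.mem_iUnion.1 hx
    obtain ⟨⟨s⟩, hy⟩ := Set.mem_iUnion.1 hU
    exact (nonempty_hom_iff U W').1 ⟨e.hom.app (op U) s⟩ hy

end Groth.Agent.H4.SubFinal
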