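import Groth.Agent.H4.DerivedMV
import Groth.Agent.H30.Flasque
import Groth.Agent.H30.LocalExact
import Groth.Prelude.Def_CohCx

/-!
# Relative Mayer–Vietoris on topological spaces: the short exact sequence
`0 ⟶ f_* Q ⟶ a_*(Q|_U) ⊞ b_*(Q|_V) ⟶ c_*(Q|_{U ∩ V}) ⟶ 0` for injective `Q` (helper4)
-/

set_option autoImplicit false
universe u
open CategoryTheory Limits TopologicalSpace Opposite

namespace Groth.Agent.H4.TopMV

variable {Y : TopCat.{u}}

section BiprodSections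

variable {A B : CohTop.Ab Y}

/-- evaluation of a morphism of sheaves on sections -/
abbrev ev {A B : CohTop.Ab Y} (φ : A ⟶ B) (W : Opens Y) : A.obj.obj (op W) →+ B.obj.obj (op W) :=
  (φ.hom.app (op W)).hom

lemma ev_comp {A B C : CohTop.Ab Y} (φ : A ⟶ B) (ψ : B ⟶ C) (W : Opens Y) (s : A.obj.obj (op W)) :
    ev (φ ≫ ψ) W s = ev ψ W (ev φ W s) := rfl

lemma ev_add {A B : CohTop.Ab Y} (φ ψ : A ⟶ B) (W : Opens Y) (s : A.obj.obj (op W)) :
    ev (φ + ψ) W s = ev φ W s + ev ψ W s := rfl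

lemma ev_neg {A B : CohTop.Ab Y} (φ : A ⟶ B) (W : Opens Y) (s : A.obj.obj (op W)) :
    ev (-φ) W s = -ev φ W s := rfl

lemma ev_id {A : CohTop.Ab Y} (W : Opens Y) (s : A.obj.obj (op W)) :
    ev (𝟙 A) W s = s := rfl

lemma ev_zero {A B : CohTop.Ab Y} (W : Opens Y) (s : A.obj.obj (op W)) :
    ev (0 : A ⟶ B) W s = 0 := rfl

lemma sec_ext (W : Opens Y) (s s' : (A ⊞ B).obj.obj (op W))
    (h1 : ev (biprod.fst : A ⊞ B ⟶ A) W s = ev biprod.fst W s')
    (h2 : ev (biprod.snd : A ⊞ B ⟶ B) W s = ev biprod.snd W s') : s = s' := by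
  have h : ∀ t : (A ⊞ B).obj.obj (op W),
      t = ev biprod.inl W (ev biprod.fst W t) + ev biprod.inr W (ev biprod.snd W t) := by
    intro t
    rw [← ev_comp, ← ev_comp, ← ev_add, biprod.total, ev_id]
  rw [h s, h s', h1, h2]

lemma ev_desc {C : CohTop.Ab Y} (b₁ : A ⟶ C) (b₂ : B ⟶ C) (W : Opens Y)
    (s : (A ⊞ B).obj.obj (op W)) :
    ev (biprod.desc b₁ b₂) W s = ev b₁ W (ev biprod.fst W s) + ev b₂ W (ev biprod.snd W s) := by
  rw [biprod.desc_eq, ev_add, ev_comp, ev_comp]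

lemma ev_lift_fst {C : CohTop.Ab Y} (a₁ : C ⟶ A) (a₂ : C ⟶ B) (W : Opens Y)
    (t : C.obj.obj (op W)) : ev biprod.fst W (ev (biprod.lift a₁ a₂) W t) = ev a₁ W t := by
  rw [← ev_comp, biprod.lift_fst]

lemma ev_lift_snd {C : CohTop.Ab Y} (a₁ : C ⟶ A) (a₂ : C ⟶ B) (W : Opens Y)
    (t : C.obj.obj (op W)) : ev biprod.snd W (ev (biprod.lift a₁ a₂) W t) = ev a₂ W t := by
  rw [← ev_comp, biprod.lift_snd]

end BiprodSections


section Concrete

variable {X : TopCat.{u}} (f : X ⟶ Y) (U V : Opens X)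

/-- `F ↦ (f|_U)_* (F|_U)`. -/
noncomputable abbrev GU (U : Opens X) : CohTop.Ab X ⥤ CohTop.Ab Y :=
  CohTop.restrFunctor U ⋙ CohTop.push (CohCx.incl U ≫ f)

/-- The open `U ∩ f⁻¹ W` of `X`, as it appears in the sections of `GU f U`. -/
abbrev opn (U : Opens X) (W : Opens Y) : Opens X :=
  (U.isOpenEmbedding.isOpenMap.functor).obj ((Opens.map (CohCx.incl U ≫ f)).obj W)

example (Q : CohTop.Ab X) (W : Opens Y) :
    ((GU f U).obj Q).obj.obj (op W) = Q.obj.obj (op (opn f U W)) := rfl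

lemma mem_opn {U : Opens X} {W : Opens Y} {x : X} : x ∈ opn f U W ↔ x ∈ U ∧ f x ∈ W := by
  constructor
  · rintro ⟨y, hy, rfl⟩
    exact ⟨y.2, hy⟩
  · rintro ⟨hx, hfx⟩
    exact ⟨⟨x, hx⟩, hfx, rfl⟩

lemma opn_le_map (U : Opens X) (W : Opens Y) : opn f U W ≤ (Opens.map f).obj W := by
  intro x hx
  exact ((mem_opn f).1 hx).2

lemma opn_mono {U V : Opens X} (h : V ≤ U) (W : Opens Y) : opn f V W ≤ opn f U W := by
  intro x hx
  rw [mem_opn] at hx ⊢
  exact ⟨h hx.1, hx.2⟩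

lemma ev_pushToRestrPush (Q : CohTop.Ab X) (W : Opens Y) (t : Q.obj.obj (op ((Opens.map f).obj W))) :
    ev ((CohCx.pushToRestrPush f U).app Q) W t =
      (Q.obj.map (homOfLE (opn_le_map f U W)).op).hom t := rfl

lemma ev_restrPushToRestrPush {U V : Opens X} (h : V ≤ U) (Q : CohTop.Ab X) (W : Opens Y)
    (t : Q.obj.obj (op (opn f U W))) :
    ev ((CohCx.restrPushToRestrPush f h).app Q) W t =
      (Q.obj.map (homOfLE (opn_mono f h W)).op).hom t := rfl

lemma map_map_apply (Q : CohTop.Ab X) {A B C : Opens X} (h1 : B ≤ A) (h2 : C ≤ B)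
    (t : Q.obj.obj (op A)) :
    (Q.obj.map (homOfLE h2).op).hom ((Q.obj.map (homOfLE h1).op).hom t) =
      (Q.obj.map (homOfLE (h2.trans h1)).op).hom t := by
  have : Q.obj.map (homOfLE h1).op ≫ Q.obj.map (homOfLE h2).op =
      Q.obj.map (homOfLE (h2.trans h1)).op := by
    rw [← Q.obj.map_comp]
    rfl
  exact ConcreteCategory.congr_hom this t

lemma comm : CohCx.pushToRestrPush f U ≫
      CohCx.restrPushToRestrPush f (inf_le_left : U ⊓ V ≤ U) =
    CohCx.pushToRestrPush f V ≫ CohCx.restrPushToRestrPush f (inf_le_right : U ⊓ V ≤ V) := by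
  ext Q : 2
  apply Sheaf.hom_ext
  ext W : 2
  apply AddCommGrpCat.hom_ext
  ext t
  exact (map_map_apply Q (opn_le_map f U W.unop) (opn_mono f inf_le_left W.unop) t).trans
    (map_map_apply Q (opn_le_map f V W.unop) (opn_mono f inf_le_right W.unop) t).symm

lemma map_self_apply {Z : TopCat.{u}} (Q : CohTop.Ab Z) {A : Opens Z} (h : A ≤ A)
    (t : Q.obj.obj (op A)) :
    (Q.obj.map (homOfLE h).op).hom t = t := by
  have : Q.obj.map (homOfLE h).op = 𝟙 _ := by
    rw [← Q.obj.map_id]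
    rfl
  rw [this]
  rfl

/-- Gluing two sections of a sheaf. -/
lemma exists_glue₂ (Q : CohTop.Ab X) {U₁ U₂ P W : Opens X} (h₁ : U₁ ≤ P) (h₂ : U₂ ≤ P)
    (hW₁ : W ≤ U₁) (hW₂ : W ≤ U₂) (hW : U₁ ⊓ U₂ ≤ W) (hcover : P ≤ U₁ ⊔ U₂)
    (s₁ : Q.obj.obj (op U₁)) (s₂ : Q.obj.obj (op U₂))
    (hs : (Q.obj.map (homOfLE hW₁).op).hom s₁ = (Q.obj.map (homOfLE hW₂).op).hom s₂) :
    ∃ t : Q.obj.obj (op P), (Q.obj.map (homOfLE h₁).op).hom t = s₁ ∧
      (Q.obj.map (homOfLE h₂).op).hom t = s₂ := by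
  let Uf : Bool → Opens X := fun b => cond b U₁ U₂
  let sf : ∀ b : Bool, Q.obj.obj (op (Uf b)) := fun b =>
    match b with
    | true => s₁
    | false => s₂
  let iUV : ∀ b : Bool, Uf b ⟶ P := fun b =>
    match b with
    | true => homOfLE h₁
    | false => homOfLE h₂
  have hcov : P ≤ iSup Uf := by
    refine hcover.trans ?_
    rw [sup_le_iff]
    exact ⟨le_iSup Uf true, le_iSup Uf false⟩
  have key : (Q.obj.map (homOfLE (inf_le_left : U₁ ⊓ U₂ ≤ U₁)).op).hom s₁ =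
      (Q.obj.map (homOfLE (inf_le_right : U₁ ⊓ U₂ ≤ U₂)).op).hom s₂ := by
    rw [← map_map_apply Q hW₁ hW s₁, ← map_map_apply Q hW₂ hW s₂, hs]
  have hcomp : TopCat.Presheaf.IsCompatible Q.1 Uf sf := by
    rintro (_ | _) (_ | _)
    · rfl
    · have e : U₂ ⊓ U₁ ≤ U₁ ⊓ U₂ := le_of_eq (inf_comm U₂ U₁)
      have a := map_map_apply Q (inf_le_right : U₁ ⊓ U₂ ≤ U₂) e s₂
      have b := map_map_apply Q (inf_le_left : U₁ ⊓ U₂ ≤ U₁) e s₁
      exact a.symm.trans ((congrArg _ key.symm).trans b)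
    · exact key
    · rfl
  obtain ⟨t, ht, -⟩ := TopCat.Sheaf.existsUnique_gluing' Q Uf P iUV hcov sf hcomp
  exact ⟨t, ht true, ht false⟩

variable (hUV : U ⊔ V = ⊤)

include hUV in
lemma map_le_sup (W : Opens Y) : (Opens.map f).obj W ≤ opn f U W ⊔ opn f V W := by
  intro x hx
  have hx' : x ∈ U ⊔ V := by rw [hUV]; trivial
  rcases hx' with h | h
  · exact Or.inl ((mem_opn f).2 ⟨h, hx⟩)
  · exact Or.inr ((mem_opn f).2 ⟨h, hx⟩)

lemma inf_opn_le (W : Opens Y) : opn f U W ⊓ opn f V W ≤ opn f (U ⊓ V) W := by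
  intro x hx
  have h1 := (mem_opn f).1 hx.1
  have h2 := (mem_opn f).1 hx.2
  exact (mem_opn f).2 ⟨⟨h1.1, h2.1⟩, h1.2⟩

open DerivedMV in
include hUV in
theorem shortExact_of_injective (Q : CohTop.Ab X) [Injective Q] :
    (ShortComplex.mk
      (biprod.lift ((CohCx.pushToRestrPush f U).app Q) ((CohCx.pushToRestrPush f V).app Q))
      (biprod.desc ((CohCx.restrPushToRestrPush f (inf_le_left : U ⊓ V ≤ U)).app Q)
        (-(CohCx.restrPushToRestrPush f (inf_le_right : U ⊓ V ≤ V)).app Q))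
      (Groth.Agent.H30.DerivedLES.w_app (kap (CohCx.pushToRestrPush f U) (CohCx.pushToRestrPush f V))
        (eta (CohCx.restrPushToRestrPush f (inf_le_left : U ⊓ V ≤ U))
          (CohCx.restrPushToRestrPush f (inf_le_right : U ⊓ V ≤ V)))
        (kap_eta _ _ _ _ (comm f U V)) Q)).ShortExact := by
  set α₁ := (CohCx.pushToRestrPush f U).app Q with hα₁
  set α₂ := (CohCx.pushToRestrPush f V).app Q with hα₂
  set β₁ := (CohCx.restrPushToRestrPush f (inf_le_left : U ⊓ V ≤ U)).app Q with hβ₁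
  set β₂ := (CohCx.restrPushToRestrPush f (inf_le_right : U ⊓ V ≤ V)).app Q with hβ₂
  refine ShortComplex.ShortExact.mk' ?_ ?_ ?_
  · -- exactness in the middle
    apply Groth.Agent.H30.LocalExact.exact_of_locally
    intro W s hs y hy
    refine ⟨W, le_rfl, hy, ?_⟩
    let s₁ := ev biprod.fst W s
    let s₂ := ev biprod.snd W s
    have h0 : ev β₁ W s₁ + ev (-β₂) W s₂ = 0 := by
      rw [← ev_desc]
      exact hs
    have h1 : ev β₁ W s₁ = ev β₂ W s₂ := by
      rw [ev_neg] at h0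
      exact add_neg_eq_zero.mp h0
    obtain ⟨t, ht₁, ht₂⟩ := exists_glue₂ Q (opn_le_map f U W) (opn_le_map f V W)
      (opn_mono f inf_le_left W) (opn_mono f inf_le_right W) (inf_opn_le f U V W)
      (map_le_sup f U V hUV W) s₁ s₂ h1
    refine ⟨t, ?_⟩
    refine Eq.trans ?_ (map_self_apply _ _ s).symm
    apply sec_ext
    · exact (ev_lift_fst α₁ α₂ W t).trans ht₁
    · exact (ev_lift_snd α₁ α₂ W t).trans ht₂
  · -- mono
    apply Preadditive.mono_of_cancel_zero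
    intro T g hg
    have hg1 : g ≫ α₁ = 0 := by
      have := congrArg (fun k => k ≫ biprod.fst) hg
      simpa using this
    have hg2 : g ≫ α₂ = 0 := by
      have := congrArg (fun k => k ≫ biprod.snd) hg
      simpa using this
    apply Sheaf.hom_ext
    ext W : 2
    apply AddCommGrpCat.hom_ext
    ext t
    change ev g W.unop t = 0
    apply TopCat.Sheaf.eq_of_locally_eq₂ Q (homOfLE (opn_le_map f U W.unop))
      (homOfLE (opn_le_map f V W.unop)) (map_le_sup f U V hUV W.unop)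
    · have : ev (g ≫ α₁) W.unop t = 0 := by rw [hg1]; rfl
      exact this.trans (map_zero _).symm
    · have : ev (g ≫ α₂) W.unop t = 0 := by rw [hg2]; rfl
      exact this.trans (map_zero _).symm
  · -- epi
    have hβ : Epi β₁ := by
      have : Sheaf.IsLocallySurjective β₁ := by
        change TopCat.Presheaf.IsLocallySurjective β₁.hom
        rw [TopCat.Presheaf.isLocallySurjective_iff]
        intro W z y hy
        obtain ⟨t, ht⟩ := Groth.Agent.H30.Flasque.exists_extension_of_injective Q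
          (opn_mono f (inf_le_left : U ⊓ V ≤ U) W) z
        refine ⟨W, le_rfl, ⟨t, ?_⟩, hy⟩
        exact ht.trans (map_self_apply _ _ z).symm
      infer_instance
    exact epi_of_epi_fac (biprod.inl_desc β₁ (-β₂))

end Concrete

end Groth.Agent.H4.TopMV
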