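import Mathlib
import Groth.Agent.H33.DerAdjU
import Groth.Agent.H4.DerFF
import Groth.Prelude.Def_WeakSerre

/-!
# Derived category of a "torsion-like" Serre subcategory (helper4)

Abstract setting: `B` abelian, `P` a Serre class in `B`, `τ : B ⥤ P.FullSubcategory` right adjoint to
the inclusion, with monomorphic counit, such that objects killed by a positive integer belong to
`P`, and an object of `P` on which all positive integers act injectively is zero.  Then, for a complex
`I` with "divisible" terms and homology in `P`, the termwise counit `ι τ I ⟶ I` is a quasi-isomorphism.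
-/

set_option autoImplicit false

namespace Groth.Agent.H4.TorsDer

open CategoryTheory Limits

section Obj

variable {B : Type*} [Category B] [Abelian B] (P : ObjectProperty B) [P.IsSerreClass]
  {τ : B ⥤ P.FullSubcategory} (adj : P.ι ⊣ τ)

include adj in
/-- A morphism from an object of `P` factors through the counit. -/
lemma factors_counit {Y X : B} (hY : P Y) (f : Y ⟶ X) :
    ∃ g : Y ⟶ P.ι.obj (τ.obj X), g ≫ adj.counit.app X = f := by
  let Y' : P.FullSubcategory := ⟨Y, hY⟩
  refine ⟨P.ι.map (adj.homEquiv Y' X f), ?_⟩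
  have := adj.homEquiv_counit (X := Y') (Y := X) (g := adj.homEquiv Y' X f)
  rw [Equiv.symm_apply_apply] at this
  exact this.symm

include adj in
/-- On the cokernel of the counit at a divisible object, positive integers act invertibly. -/
lemma isIso_nsmul_of_exact (hmono : ∀ X, Mono (adj.counit.app X))
    (hkill : ∀ (Y : B) (n : ℕ), 0 < n → n • 𝟙 Y = 0 → P Y)
    {X Q : B} (π : X ⟶ Q) [Epi π] (w : adj.counit.app X ≫ π = 0)
    (hex : (ShortComplex.mk _ _ w).Exact) (n : ℕ) (hn : 0 < n) (hX : Epi (n • 𝟙 X)) :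
    IsIso (n • 𝟙 Q) := by
  have hepi : Epi (n • 𝟙 Q) := by
    have h : π ≫ (n • 𝟙 Q) = (n • 𝟙 X) ≫ π := by simp
    have : Epi (π ≫ (n • 𝟙 Q)) := by rw [h]; exact epi_comp _ _
    exact epi_of_epi π _
  have hmono' : Mono (n • 𝟙 Q) := by
    apply Preadditive.mono_of_kernel_zero
    set g := kernel.ι (n • 𝟙 Q) with hg
    have hsnd : Epi (pullback.snd π g) := inferInstance
    have hfst : Mono (pullback.fst π g) := inferInstance
    have hcond : pullback.fst π g ≫ π = pullback.snd π g ≫ g := pullback.condition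
    have h1 : (n • pullback.fst π g) ≫ π = 0 := by
      rw [Preadditive.nsmul_comp, hcond]
      have : n • (pullback.snd π g ≫ g) = pullback.snd π g ≫ g ≫ (n • 𝟙 Q) := by simp
      rw [this, kernel.condition, comp_zero]
    have := hmono X
    have hφ : hex.lift (n • pullback.fst π g) h1 ≫ adj.counit.app X = n • pullback.fst π g :=
      hex.lift_f _ _
    set φ := hex.lift (n • pullback.fst π g) h1 with hφ'
    have hker : P (kernel φ) := by
      apply hkill _ n hn
      rw [← cancel_mono (kernel.ι φ ≫ pullback.fst π g), zero_comp, Preadditive.nsmul_comp,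
        Category.id_comp, ← Preadditive.comp_nsmul, ← hφ, kernel.condition_assoc, zero_comp]
    have hP : P (pullback π g) := by
      have hS : (ShortComplex.mk (kernel.ι φ) φ (kernel.condition φ)).Exact :=
        ShortComplex.exact_of_f_is_kernel _ (kernelIsKernel φ)
      exact P.prop_X₂_of_exact hS hker (τ.obj X).property
    obtain ⟨ψ, hψ⟩ := factors_counit P adj hP (pullback.fst π g)
    have h2 : pullback.fst π g ≫ π = 0 := by rw [← hψ, Category.assoc, w, comp_zero]
    have h3 : pullback.snd π g ≫ g = 0 := by rw [← hcond, h2]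
    exact (cancel_epi (pullback.snd π g)).1 (by rw [h3, comp_zero])
  exact isIso_of_mono_of_epi _

end Obj

section Cplx

variable {B : Type*} [Category B] [Abelian B] (P : ObjectProperty B) [P.IsSerreClass]
  {τ : B ⥤ P.FullSubcategory} (adj : P.ι ⊣ τ) [τ.Additive]

open Groth.Agent.H33.DerAdjU in
/-- For a complex with divisible terms and homology in `P`, the termwise counit is a
quasi-isomorphism. -/
theorem quasiIso_counitC (hmono : ∀ X, Mono (adj.counit.app X))
    (hkill : ∀ (Y : B) (n : ℕ), 0 < n → n • 𝟙 Y = 0 → P Y)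
    (hzero : ∀ Y : B, P Y → (∀ n : ℕ, 0 < n → Mono (n • 𝟙 Y)) → IsZero Y)
    (I : CochainComplex B ℤ)
    (hdiv : ∀ (p : ℤ) (n : ℕ), 0 < n → Epi (n • 𝟙 (I.X p)))
    (hI : ∀ p, P (I.homology p)) :
    QuasiIso (counitC adj (ComplexShape.up ℤ) I) := by
  set ε := counitC adj (ComplexShape.up ℤ) I with hε
  have hεmono : Mono ε := HomologicalComplex.mono_of_mono_f _ (fun p => hmono (I.X p))
  let S : ShortComplex (CochainComplex B ℤ) :=
    ShortComplex.mk ε (cokernel.π ε) (cokernel.condition ε)
  have hS : S.ShortExact :=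
    { exact := ShortComplex.exact_cokernel ε
      mono_f := hεmono
      epi_g := inferInstanceAs (Epi (cokernel.π ε)) }
  -- positive integers act invertibly on the terms of the quotient
  have hQn : ∀ (p : ℤ) (n : ℕ), 0 < n → IsIso (n • 𝟙 (S.X₃.X p)) := fun p n hn => by
    have hSp : (S.map (HomologicalComplex.eval B (ComplexShape.up ℤ) p)).ShortExact :=
      hS.map_of_exact _
    have : Epi ((cokernel.π ε).f p) := hSp.epi_g
    exact isIso_nsmul_of_exact P adj hmono hkill ((cokernel.π ε).f p)
      (S.map (HomologicalComplex.eval B (ComplexShape.up ℤ) p)).zero hSp.exact n hn (hdiv p n hn)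
  -- hence on its homology
  have hHn : ∀ (p : ℤ) (n : ℕ), 0 < n → IsIso (n • 𝟙 (S.X₃.homology p)) := fun p n hn => by
    have h1 : IsIso (n • 𝟙 S.X₃) := by
      have : ∀ q, IsIso ((n • 𝟙 S.X₃ : S.X₃ ⟶ S.X₃).f q) := fun q => by
        rw [HomologicalComplex.nsmul_f_apply, HomologicalComplex.id_f]
        exact hQn q n hn
      exact HomologicalComplex.Hom.isIso_of_components _
    have h2 : IsIso ((HomologicalComplex.homologyFunctor B (ComplexShape.up ℤ) p).map
        (n • 𝟙 S.X₃)) := inferInstance
    rw [Functor.map_nsmul, CategoryTheory.Functor.map_id] at h2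
    exact h2
  -- the homology of the torsion part is in `P`
  have hT : ∀ p, P (S.X₁.homology p) := fun p =>
    P.prop_of_iso (Groth.Agent.H4.DerFF.mapHomologyIso P.ι
      ((τ.mapHomologicalComplex (ComplexShape.up ℤ)).obj I) p).symm (ObjectProperty.FullSubcategory.property _)
  -- the homology of the quotient is in `P`
  have hQ : ∀ p, P (S.X₃.homology p) := fun p =>
    P.prop_X₂_of_exact (hS.homology_exact₃ p (p + 1) rfl) (hI p) (hT (p + 1))
  have hQ0 : ∀ p, IsZero (S.X₃.homology p) := fun p =>
    hzero _ (hQ p) (fun n hn => by have := hHn p n hn; infer_instance)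
  refine ⟨fun p => ?_⟩
  rw [quasiIsoAt_iff_isIso_homologyMap]
  have hm : Mono (HomologicalComplex.homologyMap S.f p) :=
    (hS.homology_exact₁ (p - 1) p (by simp)).mono_g ((hQ0 (p - 1)).eq_of_src _ _)
  have he : Epi (HomologicalComplex.homologyMap S.f p) :=
    (hS.homology_exact₂ p).epi_f ((hQ0 p).eq_of_tgt _ _)
  exact isIso_of_mono_of_epi (HomologicalComplex.homologyMap S.f p)

end Cplx

section Derived

universe w₁ w₂ v u

open Groth.Agent.H33.DerAdjU Groth.Agent.H5.KInjDeriv

variable {B : Type u} [Category.{v} B] [Abelian B] [HasDerivedCategory.{w₂} B]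
  (P : ObjectProperty B) [P.IsSerreClass] [HasDerivedCategory.{w₁} P.FullSubcategory]
  {τ : B ⥤ P.FullSubcategory} (adj : P.ι ⊣ τ) [τ.Additive]
  (hKinj : ∀ K : CochainComplex B ℤ, ∃ (I : CochainComplex B ℤ) (f : K ⟶ I),
    I.IsKInjective ∧ QuasiIso f ∧ ∀ n, Injective (I.X n))
  (hmono : ∀ X, Mono (adj.counit.app X))
  (hkill : ∀ (Y : B) (n : ℕ), 0 < n → n • 𝟙 Y = 0 → P Y)
  (hzero : ∀ Y : B, P Y → (∀ n : ℕ, 0 < n → Mono (n • 𝟙 Y)) → IsZero Y)
  (hinj : ∀ (X : B), Injective X → ∀ (n : ℕ), 0 < n → Epi (n • 𝟙 X))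

include adj hKinj hmono hkill hzero hinj in
/-- The essential image of `D(P) ⥤ D(B)`: complexes with homology in `P`. -/
theorem cohIn_iff_essImage (K : DerivedCategory B) :
    WSerre.cohIn P K ↔ P.ι.mapDerivedCategory.essImage K := by
  constructor
  · intro h
    let C := DerivedCategory.Q.objPreimage K
    let eK : DerivedCategory.Q.obj C ≅ K := DerivedCategory.Q.objObjPreimageIso K
    obtain ⟨I, f, hI, hf, hinjI⟩ := hKinj C
    have hIP : ∀ p, P (I.homology p) := fun p => by
      have hfp : IsIso (HomologicalComplex.homologyMap f p) :=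
        (quasiIsoAt_iff_isIso_homologyMap f p).1 (hf.quasiIsoAt p)
      exact P.prop_of_iso ((DerivedCategory.homologyFunctor B p).mapIso eK.symm ≪≫
        (DerivedCategory.homologyFunctorFactors B p).app C ≪≫
        @asIso _ _ _ _ (HomologicalComplex.homologyMap f p) hfp) (h p)
    have hq := quasiIso_counitC P adj hmono hkill hzero I
      (fun p n hn => hinj _ (hinjI p) n hn) hIP
    have h1 : IsIso (DerivedCategory.Q.map f) := inferInstance
    have h2 : IsIso (DerivedCategory.Q.map (counitC adj (ComplexShape.up ℤ) I)) := inferInstance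
    refine ⟨DerivedCategory.Q.obj ((τ.mapHomologicalComplex (ComplexShape.up ℤ)).obj I), ⟨?_⟩⟩
    exact P.ι.mapDerivedCategoryFactors.app _ ≪≫
      asIso (DerivedCategory.Q.map (counitC adj (ComplexShape.up ℤ) I)) ≪≫
      (asIso (DerivedCategory.Q.map f)).symm ≪≫ eK
  · rintro ⟨M, ⟨e⟩⟩ p
    let C := DerivedCategory.Q.objPreimage M
    let eM : DerivedCategory.Q.obj C ≅ M := DerivedCategory.Q.objObjPreimageIso M
    let e1 : (DerivedCategory.homologyFunctor B p).obj K ≅ P.ι.obj (C.homology p) :=
      (DerivedCategory.homologyFunctor B p).mapIso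
        (e.symm ≪≫ P.ι.mapDerivedCategory.mapIso eM.symm ≪≫ P.ι.mapDerivedCategoryFactors.app C) ≪≫
      (DerivedCategory.homologyFunctorFactors B p).app _ ≪≫
        Groth.Agent.H4.DerFF.mapHomologyIso P.ι C p
    exact P.prop_of_iso e1.symm (ObjectProperty.FullSubcategory.property _)

include adj hmono hkill hzero in
/-- For a complex `K` of objects of `P` and a quasi-isomorphism `f : ι K ⟶ I` to a complex with
divisible terms, the adjoint morphism `K ⟶ τ I` is a quasi-isomorphism. -/
lemma quasiIso_unitC_comp (K : CochainComplex P.FullSubcategory ℤ) (I : CochainComplex B ℤ)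
    (f : (P.ι.mapHomologicalComplex (ComplexShape.up ℤ)).obj K ⟶ I) (hf : QuasiIso f)
    (hdiv : ∀ (p : ℤ) (n : ℕ), 0 < n → Epi (n • 𝟙 (I.X p))) :
    QuasiIso (unitC adj (ComplexShape.up ℤ) K ≫
      (τ.mapHomologicalComplex (ComplexShape.up ℤ)).map f) := by
  have hIP : ∀ p, P (I.homology p) := fun p => by
    have hfp : IsIso (HomologicalComplex.homologyMap f p) :=
      (quasiIsoAt_iff_isIso_homologyMap f p).1 (hf.quasiIsoAt p)
    exact P.prop_of_iso ((Groth.Agent.H4.DerFF.mapHomologyIso P.ι K p).symm ≪≫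
      @asIso _ _ _ _ (HomologicalComplex.homologyMap f p) hfp)
      (ObjectProperty.FullSubcategory.property _)
  have hq := quasiIso_counitC P adj hmono hkill hzero I hdiv hIP
  have hcomp : (P.ι.mapHomologicalComplex (ComplexShape.up ℤ)).map
      (unitC adj (ComplexShape.up ℤ) K ≫ (τ.mapHomologicalComplex (ComplexShape.up ℤ)).map f) ≫
      counitC adj (ComplexShape.up ℤ) I = f := by
    ext p
    have h1 := adj.counit.naturality (f.f p)
    have h2 := adj.left_triangle_components (K.X p)
    simp only [Functor.comp_obj, Functor.id_obj, Functor.comp_map, Functor.id_map] at h1 h2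
    simp only [HomologicalComplex.comp_f, Functor.mapHomologicalComplex_map_f, unitC_f,
      counitC_f, Functor.map_comp, Category.assoc]
    erw [h1, reassoc_of% h2]
  have h3 : QuasiIso ((P.ι.mapHomologicalComplex (ComplexShape.up ℤ)).map
      (unitC adj (ComplexShape.up ℤ) K ≫ (τ.mapHomologicalComplex (ComplexShape.up ℤ)).map f) ≫
      counitC adj (ComplexShape.up ℤ) I) := by rw [hcomp]; exact hf
  have h4 := quasiIso_of_comp_right ((P.ι.mapHomologicalComplex (ComplexShape.up ℤ)).map
      (unitC adj (ComplexShape.up ℤ) K ≫ (τ.mapHomologicalComplex (ComplexShape.up ℤ)).map f))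
      (counitC adj (ComplexShape.up ℤ) I)
  exact (HomologicalComplex.quasiIso_map_iff_of_preservesHomology _ P.ι).1 h4

end Derived

section UnitFac

universe w₁ w₂ v₁ v₂ u₁ u₂

open Groth.Agent.H33.DerAdjU Groth.Agent.H5.KInjDeriv

variable {A : Type u₁} [Category.{v₁} A] [Abelian A] [HasDerivedCategory.{w₁} A]
  {B : Type u₂} [Category.{v₂} B] [Abelian B] [HasDerivedCategory.{w₂} B]
  {L : A ⥤ B} {R : B ⥤ A} (adj : L ⊣ R) [L.Additive] [R.Additive]
  [PreservesFiniteLimits L] [PreservesFiniteColimits L]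
  (hKinj : ∀ K : CochainComplex B ℤ, ∃ (I : CochainComplex B ℤ) (f : K ⟶ I),
    I.IsKInjective ∧ QuasiIso f)
  [(R.mapHomotopyCategory (ComplexShape.up ℤ) ⋙ DerivedCategory.Qh).HasRightDerivedFunctor
    (HomotopyCategory.quasiIso B (ComplexShape.up ℤ))]

/-- The unit of the derived adjunction, computed on the homotopy category. -/
lemma derivedAdj_unit_fac (X₁ : HomotopyCategory A (ComplexShape.up ℤ)) :
    (derivedAdj adj hKinj).unit.app (DerivedCategory.Qh.obj X₁) ≫
      (RR R).map (L.mapDerivedCategoryFactorsh.hom.app X₁) =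
    DerivedCategory.Qh.map ((homotopyAdj adj (ComplexShape.up ℤ)).unit.app X₁) ≫
      (RRunit R).app ((L.mapHomotopyCategory (ComplexShape.up ℤ)).obj X₁) := by
  have := isLeftDerived₂ L R
  exact Adjunction.derivedη_fac_app (homotopyAdj adj (ComplexShape.up ℤ))
    (HomotopyCategory.quasiIso A (ComplexShape.up ℤ)) L.mapDerivedCategoryFactorsh.hom
    (RRunit R) X₁

end UnitFac

section Final

universe w₁ w₂ v u

open Groth.Agent.H33.DerAdjU Groth.Agent.H5.KInjDeriv

variable {B : Type u} [Category.{v} B] [Abelian B] [HasDerivedCategory.{w₂} B]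
  (P : ObjectProperty B) [P.IsSerreClass] [HasDerivedCategory.{w₁} P.FullSubcategory]
  {τ : B ⥤ P.FullSubcategory} (adj : P.ι ⊣ τ) [τ.Additive]
  (hKinj : ∀ K : CochainComplex B ℤ, ∃ (I : CochainComplex B ℤ) (f : K ⟶ I),
    I.IsKInjective ∧ QuasiIso f ∧ ∀ n, Injective (I.X n))
  (hmono : ∀ X, Mono (adj.counit.app X))
  (hkill : ∀ (Y : B) (n : ℕ), 0 < n → n • 𝟙 Y = 0 → P Y)
  (hzero : ∀ Y : B, P Y → (∀ n : ℕ, 0 < n → Mono (n • 𝟙 Y)) → IsZero Y)
  (hinj : ∀ (X : B), Injective X → ∀ (n : ℕ), 0 < n → Epi (n • 𝟙 X))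

include adj hKinj hmono hkill hzero hinj in
/-- `D(P) ⥤ D(B)` is fully faithful. -/
theorem full_faithful : P.ι.mapDerivedCategory.Full ∧ P.ι.mapDerivedCategory.Faithful := by
  have hKinj' : ∀ K : CochainComplex B ℤ, ∃ (I : CochainComplex B ℤ) (f : K ⟶ I),
      I.IsKInjective ∧ QuasiIso f := fun K => by
    obtain ⟨I, f, h1, h2, -⟩ := hKinj K
    exact ⟨I, f, h1, h2⟩
  have hRD : (τ.mapHomotopyCategory (ComplexShape.up ℤ) ⋙
      DerivedCategory.Qh).HasRightDerivedFunctor
      (HomotopyCategory.quasiIso B (ComplexShape.up ℤ)) := hasRightDerivedFunctor hKinj' _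
  let adjD := derivedAdj adj hKinj'
  suffices h : IsIso adjD.unit by
    let ff := adjD.fullyFaithfulLOfIsIsoUnit
    exact ⟨ff.full, ff.faithful⟩
  have key : ∀ K : CochainComplex P.FullSubcategory ℤ,
      IsIso (adjD.unit.app (DerivedCategory.Qh.obj
        ((HomotopyCategory.quotient _ (ComplexShape.up ℤ)).obj K))) := by
    intro K
    obtain ⟨I, f, hI, hf, hinjI⟩ := hKinj ((P.ι.mapHomologicalComplex (ComplexShape.up ℤ)).obj K)
    have hfac := derivedAdj_unit_fac adj hKinj'
      ((HomotopyCategory.quotient _ (ComplexShape.up ℤ)).obj K)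
    have hβ := (RRunit τ).naturality ((HomotopyCategory.quotient B (ComplexShape.up ℤ)).map f)
    have h1 : IsIso ((RRunit τ).app ((HomotopyCategory.quotient B (ComplexShape.up ℤ)).obj I)) :=
      isIso_RRunit_app (R := τ) hKinj' ⟨(HomotopyCategory.quotient B (ComplexShape.up ℤ)).obj I, hI⟩
    have h2 : IsIso (DerivedCategory.Qh.map
        ((HomotopyCategory.quotient B (ComplexShape.up ℤ)).map f)) :=
      Localization.inverts DerivedCategory.Qh (HomotopyCategory.quasiIso B (ComplexShape.up ℤ)) _
        ((HomotopyCategory.quotient_map_mem_quasiIso_iff f).2 hf)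
    have h3 := quasiIso_unitC_comp P adj hmono hkill hzero K I f hf
      (fun p n hn => hinj _ (hinjI p) n hn)
    have h4 : IsIso (DerivedCategory.Qh.map ((HomotopyCategory.quotient _ (ComplexShape.up ℤ)).map
        (unitC adj (ComplexShape.up ℤ) K ≫
          (τ.mapHomologicalComplex (ComplexShape.up ℤ)).map f))) :=
      Localization.inverts DerivedCategory.Qh
        (HomotopyCategory.quasiIso P.FullSubcategory (ComplexShape.up ℤ)) _
        ((HomotopyCategory.quotient_map_mem_quasiIso_iff _).2 h3)
    have hbe : DerivedCategory.Qh.map ((homotopyAdj adj (ComplexShape.up ℤ)).unit.app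
          ((HomotopyCategory.quotient _ (ComplexShape.up ℤ)).obj K)) ≫
        (τ.mapHomotopyCategory (ComplexShape.up ℤ) ⋙ DerivedCategory.Qh).map
          ((HomotopyCategory.quotient B (ComplexShape.up ℤ)).map f) =
        DerivedCategory.Qh.map ((HomotopyCategory.quotient _ (ComplexShape.up ℤ)).map
          (unitC adj (ComplexShape.up ℤ) K ≫
            (τ.mapHomologicalComplex (ComplexShape.up ℤ)).map f)) := by
      rw [Functor.map_comp, Functor.map_comp]
      rfl
    have h5a : IsIso ((RR τ).map (P.ι.mapDerivedCategoryFactorsh.hom.app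
        ((HomotopyCategory.quotient _ (ComplexShape.up ℤ)).obj K))) :=
      Functor.map_isIso _ _
    have h5b : IsIso ((DerivedCategory.Qh ⋙ RR τ).map
        ((HomotopyCategory.quotient B (ComplexShape.up ℤ)).map f)) :=
      Functor.map_isIso (RR τ) (DerivedCategory.Qh.map
        ((HomotopyCategory.quotient B (ComplexShape.up ℤ)).map f))
    have h5 := IsIso.comp_isIso' h5a h5b
    have heq : adjD.unit.app (DerivedCategory.Qh.obj
          ((HomotopyCategory.quotient _ (ComplexShape.up ℤ)).obj K)) ≫
        ((RR τ).map (P.ι.mapDerivedCategoryFactorsh.hom.app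
          ((HomotopyCategory.quotient _ (ComplexShape.up ℤ)).obj K)) ≫
        (DerivedCategory.Qh ⋙ RR τ).map
          ((HomotopyCategory.quotient B (ComplexShape.up ℤ)).map f)) =
        DerivedCategory.Qh.map ((HomotopyCategory.quotient _ (ComplexShape.up ℤ)).map
          (unitC adj (ComplexShape.up ℤ) K ≫
            (τ.mapHomologicalComplex (ComplexShape.up ℤ)).map f)) ≫
        (RRunit τ).app ((HomotopyCategory.quotient B (ComplexShape.up ℤ)).obj I) := by
      refine Eq.trans ?_ (congrArg (· ≫ (RRunit τ).app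
        ((HomotopyCategory.quotient B (ComplexShape.up ℤ)).obj I)) hbe)
      refine Eq.trans ?_ (Category.assoc _ _ _).symm
      refine Eq.trans ?_ (congrArg (DerivedCategory.Qh.map ((homotopyAdj adj
        (ComplexShape.up ℤ)).unit.app
          ((HomotopyCategory.quotient _ (ComplexShape.up ℤ)).obj K)) ≫ ·) hβ.symm)
      refine Eq.trans ?_ (Category.assoc _ _ _)
      refine Eq.trans (Category.assoc _ _ _).symm ?_
      exact congrArg (· ≫ (DerivedCategory.Qh ⋙ RR τ).map
          ((HomotopyCategory.quotient B (ComplexShape.up ℤ)).map f)) hfac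
    have h6 := IsIso.comp_isIso' h4 h1
    rw [← heq] at h6
    exact @IsIso.of_isIso_comp_right _ _ _ _ _ _ _ h5 h6
  rw [NatTrans.isIso_iff_isIso_app]
  intro X
  rw [NatTrans.isIso_app_iff_of_iso _ (DerivedCategory.Q.objObjPreimageIso X).symm]
  exact key _

end Final

end Groth.Agent.H4.TorsDer
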