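import Groth.Prelude.Def_SiteCmp
import Groth.Prelude.Def_WeakSerre
import Mathlib.CategoryTheory.Sites.Abelian
import Mathlib.CategoryTheory.Sites.Subsheaf
import Mathlib.CategoryTheory.Adjunction.Evaluation
import Mathlib.CategoryTheory.Preadditive.Injective.Preserves
import Mathlib.Algebra.Category.Grp.AB
import Mathlib.CategoryTheory.Abelian.GrothendieckAxioms.Colim
import Mathlib.CategoryTheory.Sites.LeftExact

/-!
# The torsion subsheaf functor on abelian sheaves on a small site (helper4)

* `torsSh F`, `torsι F : torsSh F ⟶ F`: the subsheaf of locally torsion sections.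
* `tau J : Sheaf J Ab ⥤ (torsionSh J).FullSubcategory` and `adj J : (torsionSh J).ι ⊣ tau J`.
* `torsionSh_of_nsmul_eq_zero`, `isZero_of_torsion_of_mono`.
* `epi_nsmul_of_injective`: injective abelian sheaves are divisible.
-/

set_option autoImplicit false
universe u
open CategoryTheory CategoryTheory.Limits Opposite

namespace Groth.Agent.H4.TorsSh

variable {C : Type u} [SmallCategory C] (J : GrothendieckTopology C)

/-- Sections which are locally of finite additive order. -/
def torsSub (F : Sheaf J AddCommGrpCat.{u}) (U : Cᵒᵖ) : AddSubgroup (F.obj.obj U) where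
  carrier := {s | ∃ S ∈ J U.unop, ∀ ⦃V : C⦄ (g : V ⟶ U.unop), S g →
    IsOfFinAddOrder ((F.obj.map g.op).hom s)}
  zero_mem' := ⟨⊤, J.top_mem _, fun V g _ => by
    rw [map_zero]; exact IsOfFinAddOrder.zero⟩
  add_mem' := by
    rintro a b ⟨S, hS, ha⟩ ⟨T, hT, hb⟩
    exact ⟨S ⊓ T, J.intersection_covering hS hT, fun V g hg => by
      rw [map_add]; exact (ha g hg.1).add (hb g hg.2)⟩
  neg_mem' := by
    rintro a ⟨S, hS, ha⟩
    exact ⟨S, hS, fun V g hg => by rw [map_neg]; exact (ha g hg).neg⟩

variable {J}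

lemma mem_torsSub_iff (F : Sheaf J AddCommGrpCat.{u}) (U : Cᵒᵖ) (s : F.obj.obj U) :
    s ∈ torsSub J F U ↔ ∃ S ∈ J U.unop, ∀ ⦃V : C⦄ (g : V ⟶ U.unop), S g →
    IsOfFinAddOrder ((F.obj.map g.op).hom s) := Iff.rfl

lemma map_mem_torsSub (F : Sheaf J AddCommGrpCat.{u}) {U V : Cᵒᵖ} (f : U ⟶ V) (s : F.obj.obj U)
    (hs : s ∈ torsSub J F U) : (F.obj.map f).hom s ∈ torsSub J F V := by
  obtain ⟨S, hS, h⟩ := hs
  refine ⟨S.pullback f.unop, J.pullback_stable f.unop hS, fun W g hg => ?_⟩
  have := h (g ≫ f.unop) hg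
  rw [op_comp, Functor.map_comp] at this
  simpa using this

lemma mem_torsSub_of_hom {F G : Sheaf J AddCommGrpCat.{u}} (φ : F ⟶ G) (U : Cᵒᵖ) (s : F.obj.obj U)
    (hs : s ∈ torsSub J F U) : (φ.hom.app U).hom s ∈ torsSub J G U := by
  obtain ⟨S, hS, h⟩ := hs
  refine ⟨S, hS, fun W g hg => ?_⟩
  have h1 := h g hg
  have h2 : (G.obj.map g.op).hom ((φ.hom.app U).hom s) =
      (φ.hom.app (op W)).hom ((F.obj.map g.op).hom s) := by
    have := φ.hom.naturality g.op
    exact (congrArg (fun k => k.hom s) this).symm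
  rw [h2]
  exact AddMonoidHom.isOfFinAddOrder _ h1

/-- The presheaf of locally torsion sections. -/
@[simps]
def torsPre (F : Sheaf J AddCommGrpCat.{u}) : Cᵒᵖ ⥤ AddCommGrpCat.{u} where
  obj U := AddCommGrpCat.of (torsSub J F U)
  map {U V} f := AddCommGrpCat.ofHom
    (((F.obj.map f).hom.comp (torsSub J F U).subtype).codRestrict (torsSub J F V)
      (fun s => map_mem_torsSub F f s.1 s.2))
  map_id U := by
    ext s
    simp
  map_comp f g := by
    ext s
    simp only [Functor.map_comp]
    rfl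

/-- The inclusion of the torsion subpresheaf. -/
@[simps]
def torsPreι (F : Sheaf J AddCommGrpCat.{u}) : torsPre F ⟶ F.obj where
  app U := AddCommGrpCat.ofHom (torsSub J F U).subtype
  naturality U V f := by
    ext s
    rfl

end Groth.Agent.H4.TorsSh

namespace Groth.Agent.H4.TorsSh

variable {C : Type u} [SmallCategory C] {J : GrothendieckTopology C}

/-- The torsion sections as a subfunctor of the underlying presheaf of sets. -/
def torsSubfunctor (F : Sheaf J AddCommGrpCat.{u}) :
    Subfunctor (F.obj ⋙ forget AddCommGrpCat.{u}) where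
  obj U := show Set (F.obj.obj U) from (torsSub J F U : Set (F.obj.obj U))
  map := fun i s hs => map_mem_torsSub F i s hs

lemma torsSubfunctor_closed (F : Sheaf J AddCommGrpCat.{u}) (U : Cᵒᵖ)
    (s : (F.obj ⋙ forget AddCommGrpCat.{u}).obj U)
    (hs : (torsSubfunctor F).sieveOfSection s ∈ J (unop U)) : s ∈ (torsSubfunctor F).obj U := by
  have h : ∀ ⦃V : C⦄ (g : V ⟶ U.unop), (torsSubfunctor F).sieveOfSection s g →
      ∃ T ∈ J V, ∀ ⦃W : C⦄ (k : W ⟶ V), T k →
        IsOfFinAddOrder ((F.obj.map k.op).hom ((F.obj.map g.op).hom s)) := fun V g hg => by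
    have : (F.obj.map g.op).hom s ∈ torsSub J F (op V) := hg
    exact this
  choose T hT hT' using h
  show s ∈ torsSub J F U
  refine ⟨Sieve.bind _ (fun V g hg => T g hg), J.bind_covering hs (fun V g hg => hT g hg), ?_⟩
  rintro W _ ⟨V, k, g, hg, hk, rfl⟩
  have := hT' g hg k hk
  rw [op_comp, Functor.map_comp]
  exact this

lemma isSheaf_torsPre (F : Sheaf J AddCommGrpCat.{u}) : Presheaf.IsSheaf J (torsPre F) := by
  rw [Presheaf.isSheaf_iff_isSheaf_forget J _ (forget AddCommGrpCat.{u}), isSheaf_iff_isSheaf_of_type]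
  have hF : Presieve.IsSheaf J (F.obj ⋙ forget AddCommGrpCat.{u}) :=
    (isSheaf_iff_isSheaf_of_type _ _).1
      ((Presheaf.isSheaf_iff_isSheaf_forget J _ (forget AddCommGrpCat.{u})).1 F.property)
  exact ((torsSubfunctor F).isSheaf_iff hF).2 (torsSubfunctor_closed F)

end Groth.Agent.H4.TorsSh

namespace Groth.Agent.H4.TorsSh

variable {C : Type u} [SmallCategory C] {J : GrothendieckTopology C}

/-- The torsion subsheaf. -/
def torsSh (F : Sheaf J AddCommGrpCat.{u}) : Sheaf J AddCommGrpCat.{u} :=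
  ⟨torsPre F, isSheaf_torsPre F⟩

/-- The inclusion of the torsion subsheaf. -/
def torsι (F : Sheaf J AddCommGrpCat.{u}) : torsSh F ⟶ F :=
  ObjectProperty.homMk (torsPreι F)

lemma torsι_app_apply (F : Sheaf J AddCommGrpCat.{u}) (U : Cᵒᵖ) (s : torsSub J F U) :
    ((torsι F).hom.app U).hom s = s.1 := rfl

instance (F : Sheaf J AddCommGrpCat.{u}) : Mono (torsι F) := by
  have : Mono (torsι F).hom := by
    rw [NatTrans.mono_iff_mono_app]
    intro U
    rw [AddCommGrpCat.mono_iff_injective]
    intro a b h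
    exact Subtype.ext h
  exact Sheaf.Hom.mono_of_presheaf_mono _ _ _

lemma isTorsionSh_torsSh (F : Sheaf J AddCommGrpCat.{u}) : SiteCmp.torsionSh J (torsSh F) := by
  intro U s
  obtain ⟨S, hS, h⟩ := s.2
  refine ⟨S, hS, fun V g hg => ?_⟩
  have h1 := h g hg
  rw [isOfFinAddOrder_iff_nsmul_eq_zero] at h1 ⊢
  obtain ⟨n, hn, h2⟩ := h1
  exact ⟨n, hn, Subtype.ext h2⟩

/-- The torsion subsheaf on morphisms. -/
def torsMap {F G : Sheaf J AddCommGrpCat.{u}} (φ : F ⟶ G) : torsSh F ⟶ torsSh G :=
  ObjectProperty.homMk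
    { app := fun U => AddCommGrpCat.ofHom
        (((φ.hom.app U).hom.comp (torsSub J F U).subtype).codRestrict (torsSub J G U)
          (fun s => mem_torsSub_of_hom φ U s.1 s.2))
      naturality := fun U V f => by
        ext s
        apply Subtype.ext
        have := φ.hom.naturality f
        exact congrArg (fun k => k.hom s.1) this }

lemma torsMap_app_apply {F G : Sheaf J AddCommGrpCat.{u}} (φ : F ⟶ G) (U : Cᵒᵖ)
    (s : torsSub J F U) :
    (((torsMap φ).hom.app U).hom s).1 = (φ.hom.app U).hom s.1 := rfl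

@[reassoc (attr := simp)]
lemma torsMap_ι {F G : Sheaf J AddCommGrpCat.{u}} (φ : F ⟶ G) :
    torsMap φ ≫ torsι G = torsι F ≫ φ := by
  ext U s
  rfl

/-- The torsion subsheaf functor (valued in all sheaves). -/
def torsFun : Sheaf J AddCommGrpCat.{u} ⥤ Sheaf J AddCommGrpCat.{u} where
  obj F := torsSh F
  map φ := torsMap φ
  map_id F := by
    rw [← cancel_mono (torsι F)]
    simp
  map_comp φ ψ := by
    rw [← cancel_mono (torsι _)]
    simp

/-- The inclusion as a natural transformation. -/
def torsFunι : torsFun (J := J) ⟶ 𝟭 _ where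
  app F := torsι F
  naturality _ _ φ := torsMap_ι φ

end Groth.Agent.H4.TorsSh

namespace Groth.Agent.H4.TorsSh

variable {C : Type u} [SmallCategory C] {J : GrothendieckTopology C}

/-- For a torsion sheaf, the torsion subsheaf is everything: inverse of `torsι`. -/
def torsLift (T : Sheaf J AddCommGrpCat.{u}) (hT : SiteCmp.torsionSh J T) : T ⟶ torsSh T :=
  ObjectProperty.homMk
    { app := fun U => AddCommGrpCat.ofHom
        ((AddMonoidHom.id _).codRestrict (torsSub J T U) (fun s => hT U.unop s))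
      naturality := fun U V f => by
        ext s
        apply Subtype.ext
        rfl }

lemma torsLift_ι (T : Sheaf J AddCommGrpCat.{u}) (hT : SiteCmp.torsionSh J T) :
    torsLift T hT ≫ torsι T = 𝟙 T := by
  ext U s
  rfl

lemma torsι_lift (T : Sheaf J AddCommGrpCat.{u}) (hT : SiteCmp.torsionSh J T) :
    torsι T ≫ torsLift T hT = 𝟙 _ := by
  rw [← cancel_mono (torsι T), Category.assoc, torsLift_ι, Category.id_comp, Category.comp_id]

lemma isIso_torsι (T : Sheaf J AddCommGrpCat.{u}) (hT : SiteCmp.torsionSh J T) :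
    IsIso (torsι T) :=
  ⟨torsLift T hT, torsι_lift T hT, torsLift_ι T hT⟩

variable (J) in
/-- The torsion subsheaf functor, valued in torsion sheaves. -/
def tau : Sheaf J AddCommGrpCat.{u} ⥤ (SiteCmp.torsionSh J).FullSubcategory :=
  (SiteCmp.torsionSh J).lift torsFun (fun F => isTorsionSh_torsSh F)

variable (J) in
/-- The adjunction between the inclusion of torsion sheaves and the torsion subsheaf functor. -/
def adj : (SiteCmp.torsionSh J).ι ⊣ tau J where
  unit :=
    { app := fun T => ObjectProperty.homMk (torsLift T.obj T.property)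
      naturality := fun T T' f => by
        apply ObjectProperty.hom_ext
        show f.hom ≫ torsLift T'.obj T'.property = torsLift T.obj T.property ≫ torsMap f.hom
        rw [← cancel_mono (torsι T'.obj), Category.assoc, Category.assoc, torsLift_ι,
          torsMap_ι, reassoc_of% (torsLift_ι T.obj T.property), Category.comp_id] }
  counit :=
    { app := fun F => torsι F
      naturality := fun F G φ => torsMap_ι φ }
  left_triangle_components T := torsLift_ι T.obj T.property
  right_triangle_components F := by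
    apply ObjectProperty.hom_ext
    show (torsLift (torsSh F) (isTorsionSh_torsSh F) ≫ torsMap (torsι F)) = 𝟙 (torsSh F)
    rw [← cancel_mono (torsι F), Category.assoc, torsMap_ι,
      reassoc_of% (torsLift_ι (torsSh F) (isTorsionSh_torsSh F)), Category.id_comp]

end Groth.Agent.H4.TorsSh

namespace Groth.Agent.H4.TorsSh

variable {C : Type u} [SmallCategory C] {J : GrothendieckTopology C}

lemma nsmul_app_apply (Y : Sheaf J AddCommGrpCat.{u}) (n : ℕ) (U : Cᵒᵖ) (s : Y.obj.obj U) :
    ((n • 𝟙 Y : Y ⟶ Y).hom.app U).hom s = n • s := by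
  induction n with
  | zero => simp
  | succ n ih =>
    rw [succ_nsmul, succ_nsmul, Sheaf.Hom.add_app]
    show ((n • 𝟙 Y : Y ⟶ Y).hom.app U).hom s + s = _
    rw [ih]

/-- A sheaf killed by a positive integer is torsion. -/
lemma torsionSh_of_nsmul_eq_zero (Y : Sheaf J AddCommGrpCat.{u}) (n : ℕ) (hn : 0 < n)
    (h : n • 𝟙 Y = 0) : SiteCmp.torsionSh J Y := by
  intro U s
  refine ⟨⊤, J.top_mem _, fun V g _ => ?_⟩
  rw [isOfFinAddOrder_iff_nsmul_eq_zero]
  refine ⟨n, hn, ?_⟩
  rw [← nsmul_app_apply, h]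
  rfl

/-- All sections zero implies zero object. -/
lemma isZero_of_sections (Y : Sheaf J AddCommGrpCat.{u})
    (h : ∀ (U : Cᵒᵖ) (s : Y.obj.obj U), s = 0) : IsZero Y := by
  rw [IsZero.iff_id_eq_zero]
  ext U s
  rw [h U s]
  simp

/-- A torsion sheaf on which all positive integers act injectively is zero. -/
lemma isZero_of_torsion_of_mono (Y : Sheaf J AddCommGrpCat.{u}) (hY : SiteCmp.torsionSh J Y)
    (h : ∀ n : ℕ, 0 < n → Mono (n • 𝟙 Y)) : IsZero Y := by
  apply isZero_of_sections
  intro U s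
  obtain ⟨S, hS, hs⟩ := hY U.unop s
  have hsep : Presieve.IsSeparated J (Y.obj ⋙ forget AddCommGrpCat.{u}) :=
    ((isSheaf_iff_isSheaf_of_type _ _).1
      ((Presheaf.isSheaf_iff_isSheaf_forget J _ (forget AddCommGrpCat.{u})).1 Y.property)).isSeparated
  refine (hsep S hS).ext ?_
  intro V g hg
  have h1 := hs g hg
  rw [isOfFinAddOrder_iff_nsmul_eq_zero] at h1
  obtain ⟨n, hn, h2⟩ := h1
  have := h n hn
  have hm : Mono ((n • 𝟙 Y : Y ⟶ Y).hom.app (op V)) := by
    have : Mono ((sheafToPresheaf J _).map (n • 𝟙 Y : Y ⟶ Y)) := inferInstance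
    exact (NatTrans.mono_iff_mono_app _).1 this (op V)
  rw [AddCommGrpCat.mono_iff_injective] at hm
  have h3 : (Y.obj.map g.op).hom s = 0 := by
    apply hm
    rw [nsmul_app_apply, h2, map_zero]
  show (Y.obj.map g.op).hom s = (Y.obj.map g.op).hom 0
  rw [h3, map_zero]

end Groth.Agent.H4.TorsSh

namespace Groth.Agent.H4.TorsSh

variable {C : Type u} [SmallCategory C] {J : GrothendieckTopology C}

/-- An injective abelian group is divisible. -/
lemma exists_nsmul_eq_of_injective (A : AddCommGrpCat.{u}) [Injective A] (a : A) (n : ℕ)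
    (hn : 0 < n) : ∃ b : A, n • b = a := by
  let Z : AddCommGrpCat.{u} := AddCommGrpCat.of (ULift.{u} ℤ)
  let φ : Z ⟶ A := AddCommGrpCat.ofHom
    ((zmultiplesHom A a).comp (AddEquiv.ulift (α := ℤ)).toAddMonoidHom)
  let ν : Z ⟶ Z := AddCommGrpCat.ofHom (n • AddMonoidHom.id _)
  have : Mono ν := by
    rw [AddCommGrpCat.mono_iff_injective]
    intro x y h
    have h' : n • x = n • y := h
    apply ULift.ext
    have h'' : n • x.down = n • y.down := congrArg ULift.down h'
    rw [nsmul_eq_mul, nsmul_eq_mul] at h''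
    have hn' : (n : ℤ) ≠ 0 := by exact_mod_cast hn.ne'
    exact mul_left_cancel₀ hn' h''
  refine ⟨(Injective.factorThru φ ν).hom ⟨1⟩, ?_⟩
  have h1 : ν ≫ Injective.factorThru φ ν = φ := Injective.comp_factorThru φ ν
  have h2 := congrArg (fun k => k.hom (⟨1⟩ : ULift.{u} ℤ)) h1
  simp only [AddCommGrpCat.hom_comp, AddMonoidHom.comp_apply] at h2
  have h3 : ν.hom (⟨1⟩ : ULift.{u} ℤ) = n • (⟨1⟩ : ULift.{u} ℤ) := rfl
  rw [h3, map_nsmul] at h2
  rw [h2]
  show (1 : ℤ) • a = a
  simp

instance (U : Cᵒᵖ) : (evaluationLeftAdjoint AddCommGrpCat.{u} U).PreservesMonomorphisms where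
  preserves {d d'} f hf := by
    rw [NatTrans.mono_iff_mono_app]
    intro V
    have : Mono (Limits.Sigma.map (fun (_ : U ⟶ V) => f)) := inferInstance
    exact this

/-- Sections of an injective abelian sheaf form an injective abelian group. -/
lemma injective_sections (I : Sheaf J AddCommGrpCat.{u}) [Injective I] (U : Cᵒᵖ) :
    Injective (I.obj.obj U) := by
  have h1 : Injective ((sheafToPresheaf J AddCommGrpCat.{u}).obj I) :=
    Injective.injective_of_adjoint (sheafificationAdjunction J AddCommGrpCat.{u}) I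
  have h2 : Injective I.obj := h1
  exact Injective.injective_of_adjoint (evaluationAdjunctionRight AddCommGrpCat.{u} U) I.obj

/-- Multiplication by a positive integer is an epimorphism on an injective abelian sheaf. -/
lemma epi_nsmul_of_injective (I : Sheaf J AddCommGrpCat.{u}) [Injective I] (n : ℕ) (hn : 0 < n) :
    Epi (n • 𝟙 I : I ⟶ I) := by
  have : Epi (n • 𝟙 I : I ⟶ I).hom := by
    have : ∀ U, Epi ((n • 𝟙 I : I ⟶ I).hom.app U) := fun U => by
      rw [AddCommGrpCat.epi_iff_surjective]
      intro a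
      have := injective_sections I U
      obtain ⟨b, hb⟩ := exists_nsmul_eq_of_injective (I.obj.obj U) a n hn
      exact ⟨b, by rw [nsmul_app_apply, hb]⟩
    exact NatTrans.epi_of_epi_app _
  exact Sheaf.Hom.epi_of_presheaf_epi _ _ _

end Groth.Agent.H4.TorsSh
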