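import Mathlib

/-!
# Mayer–Vietoris sequence of `Hom(-, K⟦n⟧)` for a distinguished triangle with biproduct middle term (helper4)
-/

set_option autoImplicit false
set_option linter.unusedSectionVars false
universe w v u
open CategoryTheory Limits Pretriangulated

namespace Groth.Agent.H4.TriMV

variable {𝒯 : Type u} [Category.{v} 𝒯] [Preadditive 𝒯] [HasZeroObject 𝒯] [HasShift 𝒯 ℤ]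
  [∀ n : ℤ, (shiftFunctor 𝒯 n).Additive] [Pretriangulated 𝒯]

section

variable (T : Triangle 𝒯) (hT : T ∈ distTriang 𝒯)
  {B₂ B₃ : 𝒯} (ι₂ : B₂ ⟶ T.obj₂) (ι₃ : B₃ ⟶ T.obj₂) (π₂ : T.obj₂ ⟶ B₂) (π₃ : T.obj₂ ⟶ B₃)
  (htot : π₂ ≫ ι₂ + π₃ ≫ ι₃ = 𝟙 _)
  (h22 : ι₂ ≫ π₂ = 𝟙 _) (h33 : ι₃ ≫ π₃ = 𝟙 _) (h23 : ι₂ ≫ π₃ = 0) (h32 : ι₃ ≫ π₂ = 0)
  (a₂ : T.obj₁ ⟶ B₂) (b₃ : T.obj₁ ⟶ B₃) (ha₂ : T.mor₁ ≫ π₂ = a₂) (hb₃ : T.mor₁ ≫ π₃ = -b₃)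
  (g₂ : B₂ ⟶ T.obj₃) (g₃ : B₃ ⟶ T.obj₃) (hg₂ : ι₂ ≫ T.mor₂ = g₂) (hg₃ : ι₃ ≫ T.mor₂ = g₃)
  (K : 𝒯)

/-- the shift isomorphism `(K⟦n⟧)⟦1⟧ ≅ K⟦n+1⟧` -/
noncomputable def sIso (n : ℤ) : (K⟦n⟧)⟦(1 : ℤ)⟧ ≅ K⟦n + 1⟧ :=
  ((shiftFunctorAdd' 𝒯 n 1 (n + 1) rfl).app K).symm

/-- The connecting homomorphism. -/
noncomputable def δ (n : ℤ) : (T.obj₁ ⟶ K⟦n⟧) →+ (T.obj₃ ⟶ K⟦n + 1⟧) where
  toFun x := T.mor₃ ≫ x⟦(1 : ℤ)⟧' ≫ (sIso K n).hom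
  map_zero' := by simp
  map_add' x y := by simp [Functor.map_add]

lemma δ_apply (n : ℤ) (x : T.obj₁ ⟶ K⟦n⟧) :
    δ T K n x = T.mor₃ ≫ x⟦(1 : ℤ)⟧' ≫ (sIso K n).hom := rfl

/-- restriction maps `(D ⟶ M) → (B₂ ⟶ M) × (B₃ ⟶ M)` -/
noncomputable abbrev rr (n : ℤ) : (T.obj₃ ⟶ K⟦n⟧) →+ (B₂ ⟶ K⟦n⟧) × (B₃ ⟶ K⟦n⟧) :=
  (Preadditive.leftComp _ g₂).prod (Preadditive.leftComp _ g₃)

/-- difference maps `(B₂ ⟶ M) × (B₃ ⟶ M) → (A ⟶ M)` -/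
noncomputable abbrev dd (n : ℤ) : (B₂ ⟶ K⟦n⟧) × (B₃ ⟶ K⟦n⟧) →+ (T.obj₁ ⟶ K⟦n⟧) :=
  (Preadditive.leftComp _ a₂).coprod (-(Preadditive.leftComp _ b₃))

include ha₂ hb₃ in
lemma dd_apply (n : ℤ) (y : (B₂ ⟶ K⟦n⟧) × (B₃ ⟶ K⟦n⟧)) :
    dd T a₂ b₃ K n y = T.mor₁ ≫ (π₂ ≫ y.1 + π₃ ≫ y.2) := by
  change a₂ ≫ y.1 + -(b₃ ≫ y.2) = _
  rw [Preadditive.comp_add, ← Category.assoc, ← Category.assoc, ha₂, hb₃, Preadditive.neg_comp]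

include hg₂ hg₃ in
lemma rr_apply (n : ℤ) (y : T.obj₃ ⟶ K⟦n⟧) :
    rr T g₂ g₃ K n y = (ι₂ ≫ T.mor₂ ≫ y, ι₃ ≫ T.mor₂ ≫ y) := by
  change (g₂ ≫ y, g₃ ≫ y) = _
  rw [← hg₂, ← hg₃, Category.assoc, Category.assoc]

include htot in
lemma eq_of_ι (M : 𝒯) (z z' : T.obj₂ ⟶ M) (h2 : ι₂ ≫ z = ι₂ ≫ z') (h3 : ι₃ ≫ z = ι₃ ≫ z') :
    z = z' := by
  rw [← Category.id_comp z, ← Category.id_comp z', ← htot, Preadditive.add_comp,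
    Preadditive.add_comp, Category.assoc, Category.assoc, Category.assoc, Category.assoc, h2, h3]

include hT htot ha₂ hb₃ hg₂ hg₃ in
lemma dd_rr (n : ℤ) (x : T.obj₃ ⟶ K⟦n⟧) : dd T a₂ b₃ K n (rr T g₂ g₃ K n x) = 0 := by
  rw [dd_apply T π₂ π₃ a₂ b₃ ha₂ hb₃, rr_apply T ι₂ ι₃ g₂ g₃ hg₂ hg₃]
  dsimp only
  rw [← Category.assoc π₂, ← Category.assoc π₃, ← Preadditive.add_comp, htot, Category.id_comp,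
    ← Category.assoc, comp_distTriang_mor_zero₁₂ _ hT, zero_comp]

include hT h22 h33 h23 h32 ha₂ hb₃ hg₂ hg₃ in
lemma exact1 (n : ℤ) (y : (B₂ ⟶ K⟦n⟧) × (B₃ ⟶ K⟦n⟧)) (hy : dd T a₂ b₃ K n y = 0) :
    ∃ x : T.obj₃ ⟶ K⟦n⟧, rr T g₂ g₃ K n x = y := by
  rw [dd_apply T π₂ π₃ a₂ b₃ ha₂ hb₃] at hy
  obtain ⟨x, hx⟩ := Triangle.yoneda_exact₂ T hT _ hy
  refine ⟨x, ?_⟩
  rw [rr_apply T ι₂ ι₃ g₂ g₃ hg₂ hg₃, ← hx]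
  ext
  · dsimp only
    rw [Preadditive.comp_add, ← Category.assoc, ← Category.assoc, h22, h23, Category.id_comp,
      zero_comp, add_zero]
  · dsimp only
    rw [Preadditive.comp_add, ← Category.assoc, ← Category.assoc, h32, h33, Category.id_comp,
      zero_comp, zero_add]

include hT ha₂ hb₃ in
lemma δ_dd (n : ℤ) (y : (B₂ ⟶ K⟦n⟧) × (B₃ ⟶ K⟦n⟧)) : δ T K n (dd T a₂ b₃ K n y) = 0 := by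
  rw [dd_apply T π₂ π₃ a₂ b₃ ha₂ hb₃, δ_apply, Functor.map_comp, ← Category.assoc,
    ← Category.assoc, comp_distTriang_mor_zero₃₁ _ hT, zero_comp, zero_comp]

include hT htot ha₂ hb₃ in
lemma exact2 (n : ℤ) (x : T.obj₁ ⟶ K⟦n⟧) (hx : δ T K n x = 0) :
    ∃ y : (B₂ ⟶ K⟦n⟧) × (B₃ ⟶ K⟦n⟧), dd T a₂ b₃ K n y = x := by
  rw [δ_apply] at hx
  obtain ⟨ψ, hψ'⟩ : ∃ ψ : (shiftFunctor 𝒯 (1 : ℤ)).obj T.obj₂ ⟶ K⟦n + 1⟧,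
      x⟦(1 : ℤ)⟧' ≫ (sIso K n).hom = (-(T.mor₁⟦(1 : ℤ)⟧')) ≫ ψ :=
    Triangle.yoneda_exact₃ T.rotate (rot_of_distTriang _ hT)
      (x⟦(1 : ℤ)⟧' ≫ (sIso K n).hom) hx
  let ψ' : (shiftFunctor 𝒯 (1 : ℤ)).obj T.obj₂ ⟶ (shiftFunctor 𝒯 (1 : ℤ)).obj (K⟦n⟧) :=
    ψ ≫ (sIso K n).inv
  obtain ⟨z', hz'⟩ := (shiftFunctor 𝒯 (1 : ℤ)).map_surjective ψ'
  have h1 : x⟦(1 : ℤ)⟧' = (T.mor₁ ≫ (-z'))⟦(1 : ℤ)⟧' := by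
    calc x⟦(1 : ℤ)⟧' = (x⟦(1 : ℤ)⟧' ≫ (sIso K n).hom) ≫ (sIso K n).inv := by
          rw [Category.assoc, Iso.hom_inv_id, Category.comp_id]
      _ = (-(T.mor₁⟦(1 : ℤ)⟧')) ≫ ψ' := by rw [hψ', Category.assoc]
      _ = (-(T.mor₁⟦(1 : ℤ)⟧')) ≫ z'⟦(1 : ℤ)⟧' := by rw [hz']
      _ = (T.mor₁ ≫ (-z'))⟦(1 : ℤ)⟧' := by
          rw [Functor.map_comp, Functor.map_neg, Preadditive.neg_comp, Preadditive.comp_neg]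
  have h3 : x = T.mor₁ ≫ (-z') := (shiftFunctor 𝒯 (1 : ℤ)).map_injective h1
  refine ⟨(ι₂ ≫ (-z'), ι₃ ≫ (-z')), ?_⟩
  rw [dd_apply T π₂ π₃ a₂ b₃ ha₂ hb₃, h3]
  dsimp only
  rw [← Category.assoc π₂, ← Category.assoc π₃, ← Preadditive.add_comp, htot, Category.id_comp]

include hT hg₂ hg₃ in
lemma rr_δ (n : ℤ) (x : T.obj₁ ⟶ K⟦n⟧) : rr T g₂ g₃ K (n + 1) (δ T K n x) = 0 := by
  rw [rr_apply T ι₂ ι₃ g₂ g₃ hg₂ hg₃, δ_apply]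
  have : T.mor₂ ≫ T.mor₃ ≫ x⟦(1 : ℤ)⟧' ≫ (sIso K n).hom = 0 := by
    rw [← Category.assoc, comp_distTriang_mor_zero₂₃ _ hT, zero_comp]
  rw [this, comp_zero, comp_zero]
  rfl

include hT htot hg₂ hg₃ in
lemma exact3 (n : ℤ) (y : T.obj₃ ⟶ K⟦n + 1⟧) (hy : rr T g₂ g₃ K (n + 1) y = 0) :
    ∃ x : T.obj₁ ⟶ K⟦n⟧, δ T K n x = y := by
  rw [rr_apply T ι₂ ι₃ g₂ g₃ hg₂ hg₃] at hy
  have hy2 : ι₂ ≫ T.mor₂ ≫ y = 0 := congrArg Prod.fst hy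
  have hy3 : ι₃ ≫ T.mor₂ ≫ y = 0 := congrArg Prod.snd hy
  have h0 : T.mor₂ ≫ y = 0 :=
    eq_of_ι T ι₂ ι₃ π₂ π₃ htot _ _ _ (by rw [hy2, comp_zero]) (by rw [hy3, comp_zero])
  obtain ⟨φ, hφ⟩ := Triangle.yoneda_exact₃ T hT y h0
  obtain ⟨x, hx⟩ := (shiftFunctor 𝒯 (1 : ℤ)).map_surjective (φ ≫ (sIso K n).inv)
  refine ⟨x, ?_⟩
  rw [δ_apply, hx, Category.assoc, Iso.inv_hom_id, Category.comp_id, hφ]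

lemma exact_mk₂ {A₁ A₂ A₃ : Type v} [AddCommGroup A₁] [AddCommGroup A₂] [AddCommGroup A₃]
    (f : A₁ →+ A₂) (g : A₂ →+ A₃) (h0 : ∀ x, g (f x) = 0)
    (h1 : ∀ y, g y = 0 → ∃ x, f x = y) :
    (ComposableArrows.mk₂ (AddCommGrpCat.ofHom f) (AddCommGrpCat.ofHom g)).Exact := by
  have w : AddCommGrpCat.ofHom f ≫ AddCommGrpCat.ofHom g = 0 := by
    ext x
    exact h0 x
  have : (ShortComplex.mk _ _ w).Exact := by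
    rw [ShortComplex.ab_exact_iff]
    intro y hy
    exact h1 y hy
  exact this.exact_toComposableArrows

include hT htot h22 h33 h23 h32 ha₂ hb₃ hg₂ hg₃ in
/-- Mayer–Vietoris long exact sequence of `Hom(-, K⟦n⟧)` attached to a distinguished triangle
whose middle term is a biproduct. -/
theorem mvTri : ∃ δ' : ∀ n : ℤ, (T.obj₁ ⟶ K⟦n⟧) →+ (T.obj₃ ⟶ K⟦n + 1⟧), ∀ n : ℤ,
    (ComposableArrows.mk₂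
      (AddCommGrpCat.ofHom ((Preadditive.leftComp (K⟦n⟧) g₂).prod (Preadditive.leftComp (K⟦n⟧) g₃)))
      (AddCommGrpCat.ofHom ((Preadditive.leftComp (K⟦n⟧) a₂).coprod
        (-(Preadditive.leftComp (K⟦n⟧) b₃))))).Exact ∧
    (ComposableArrows.mk₂
      (AddCommGrpCat.ofHom ((Preadditive.leftComp (K⟦n⟧) a₂).coprod
        (-(Preadditive.leftComp (K⟦n⟧) b₃))))
      (AddCommGrpCat.ofHom (δ' n))).Exact ∧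
    (ComposableArrows.mk₂ (AddCommGrpCat.ofHom (δ' n))
      (AddCommGrpCat.ofHom ((Preadditive.leftComp (K⟦n + 1⟧) g₂).prod
        (Preadditive.leftComp (K⟦n + 1⟧) g₃)))).Exact := by
  refine ⟨fun n => δ T K n, fun n => ⟨?_, ?_, ?_⟩⟩
  · exact exact_mk₂ _ _ (dd_rr T hT ι₂ ι₃ π₂ π₃ htot a₂ b₃ ha₂ hb₃ g₂ g₃ hg₂ hg₃ K n)
      (exact1 T hT ι₂ ι₃ π₂ π₃ h22 h33 h23 h32 a₂ b₃ ha₂ hb₃ g₂ g₃ hg₂ hg₃ K n)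
  · exact exact_mk₂ _ _ (δ_dd T hT π₂ π₃ a₂ b₃ ha₂ hb₃ K n)
      (exact2 T hT ι₂ ι₃ π₂ π₃ htot a₂ b₃ ha₂ hb₃ K n)
  · exact exact_mk₂ _ _ (rr_δ T hT ι₂ ι₃ g₂ g₃ hg₂ hg₃ K n)
      (exact3 T hT ι₂ ι₃ π₂ π₃ htot g₂ g₃ hg₂ hg₃ K n)

end

end Groth.Agent.H4.TriMV
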