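import Groth.Agent.H4.ExtZeroStalk
import Groth.Agent.S0622
import Groth.Prelude.Def_EtDual

/-!
# The unit `I ⟶ j_* j⁻¹ I` is a split epimorphism for injective `I` (open immersion `j`)

* `splitEpi_unit_of_mono_counit`: abstract statement for an adjoint triple `S ⊣ T ⊣ P`:
  if the counit `S T M ⟶ M` is mono at `M = P T F` and `F` is injective, the unit `F ⟶ P T F`
  is a split epimorphism.
* `mono_counit_extZero`: for an open immersion `j`, the counit `j_! j⁻¹ F ⟶ F` is mono.
* `isSplitEpi_unitApp`: the unit of `pull j ⊣ push j` at an injective sheaf is a split epi.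
* `shortExact_secSupp`: `0 ⟶ Γ_Z I ⟶ I ⟶ j_* j⁻¹ I ⟶ 0` is short exact for injective `I`.
-/

set_option autoImplicit false
universe u

open CategoryTheory CategoryTheory.Limits AlgebraicGeometry Opposite EtShriek

namespace Groth.Agent.H4.UnitSplit

section Abstract

universe v₁ v₂ u₁ u₂

variable {A : Type u₁} [Category.{v₁} A] {B : Type u₂} [Category.{v₂} B]
  {S : A ⥤ B} {T : B ⥤ A} {P : A ⥤ B} (adj₁ : S ⊣ T) (adj₂ : T ⊣ P)

/-- For an adjoint triple `S ⊣ T ⊣ P`, if the counit `S T M ⟶ M` is a monomorphism at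
`M = P T F` and `F` is injective, then the unit `F ⟶ P T F` is a split epimorphism. -/
theorem isSplitEpi_unit_of_mono_counit (F : B) [Injective F]
    [Mono (adj₁.counit.app (P.obj (T.obj F)))] : IsSplitEpi (adj₂.unit.app F) := by
  let ψ : S.obj (T.obj (P.obj (T.obj F))) ⟶ F :=
    S.map (adj₂.counit.app (T.obj F)) ≫ adj₁.counit.app F
  obtain ⟨s, hs⟩ : ∃ s : P.obj (T.obj F) ⟶ F, adj₁.counit.app (P.obj (T.obj F)) ≫ s = ψ :=
    ⟨Injective.factorThru ψ (adj₁.counit.app (P.obj (T.obj F))), Injective.comp_factorThru _ _⟩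
  have hT : T.map s = adj₂.counit.app (T.obj F) := by
    have h1 : adj₁.unit.app (T.obj (P.obj (T.obj F))) ≫
        T.map (adj₁.counit.app (P.obj (T.obj F)) ≫ s) = T.map s := by
      simp
    have h2 : adj₁.unit.app (T.obj (P.obj (T.obj F))) ≫ T.map ψ = adj₂.counit.app (T.obj F) := by
      dsimp only [ψ]
      have nat := adj₁.unit.naturality (adj₂.counit.app (T.obj F))
      dsimp only [Functor.id_obj, Functor.id_map, Functor.comp_obj, Functor.comp_map] at nat
      rw [Functor.map_comp, ← reassoc_of% nat]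
      simp
    rw [← h1, hs, h2]
  refine ⟨⟨s, ?_⟩⟩
  apply (adj₂.homEquiv (P.obj (T.obj F)) (T.obj F)).symm.injective
  rw [Adjunction.homEquiv_counit, Adjunction.homEquiv_counit, Functor.map_comp, Category.assoc, hT]
  simp

end Abstract

open EtCoh Groth.Agent.H4.Stalks Groth.Agent.H4.EtRestr Groth.Agent.H4.ExtZeroStalk

variable {U X : Scheme.{u}} (j : U ⟶ X) [IsOpenImmersion j]

/-- For an open immersion `j`, the counit `j_! j⁻¹ F ⟶ F` is a monomorphism. -/
theorem mono_counit_extZero (F : Ab X) : Mono ((extZeroAdj j).counit.app F) := by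
  rw [(Groth.Agent.S0622.result (ShortComplex.mk (0 : F ⟶ F) (0 : F ⟶ F) zero_comp)
    ((extZeroAdj j).counit.app F)).2.1]
  intro Ω _ _ ξ
  by_cases hξ : ∃ u : Spec (CommRingCat.of Ω) ⟶ U, u ≫ j = ξ
  · obtain ⟨u, hu⟩ := hξ
    have := isIso_stalk_counit j F u ξ hu
    exact (ConcreteCategory.bijective_of_isIso _).1
  · have hz := isZero_stalk_extZero j (ξ := ξ) ((restrAlong j).obj F)
      (fun u hu => hξ ⟨u, hu⟩)
    have : Subsingleton ↑((stalk ξ).obj ((restrAlong j ⋙ extZero j).obj F)) :=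
      AddCommGrpCat.subsingleton_of_isZero hz
    exact Function.injective_of_subsingleton _

/-- The adjunction `j_! ⊣ j⁻¹` with `j⁻¹ = pull j`. -/
noncomputable def extZeroPullAdj : extZero j ⊣ EtCoh.pull j :=
  (extZeroAdj j).ofNatIsoRight (pullRestrIso j).symm

instance mono_counit_extZeroPullAdj (F : Ab X) : Mono ((extZeroPullAdj j).counit.app F) := by
  have := mono_counit_extZero j F
  dsimp only [extZeroPullAdj]
  rw [Adjunction.ofNatIsoRight_counit, NatTrans.comp_app]
  infer_instance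

/-- The unit `I ⟶ j_* j⁻¹ I` is a split epimorphism for injective `I`. -/
theorem isSplitEpi_unitApp (I : Ab X) [Injective I] : IsSplitEpi (EtDual.unitApp j I) :=
  isSplitEpi_unit_of_mono_counit (extZeroPullAdj j) (EtCoh.pullPushAdj j) I

section Kappa

variable {U X : Scheme.{u}} (j : U ⟶ X)

/-- The inclusion `Γ_Z ⟶ 𝟭` of the sections supported off `U`. -/
noncomputable def κ : EtDual.secSupp j ⟶ 𝟭 (EtCoh.Ab X) where
  app F := kernel.ι (EtDual.unitApp j F)
  naturality F G f := by
    dsimp only [Functor.id_obj, Functor.id_map]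
    exact kernel.lift_ι _ _ _

lemma κ_η : κ j ≫ (EtCoh.pullPushAdj j).unit = 0 := by
  ext F : 2
  exact kernel.condition _

/-- `0 ⟶ Γ_Z I ⟶ I ⟶ j_* j⁻¹ I ⟶ 0` is short exact for injective `I` (`j` an open immersion). -/
theorem shortExact_secSupp [IsOpenImmersion j] (Q : EtCoh.Ab X) [Injective Q] :
    (ShortComplex.mk ((κ j).app Q) ((EtCoh.pullPushAdj j).unit.app Q)
      (by rw [← NatTrans.comp_app, κ_η]; rfl)).ShortExact := by
  have := isSplitEpi_unitApp j Q
  exact
    { exact := ShortComplex.exact_of_f_is_kernel _ (kernelIsKernel (EtDual.unitApp j Q))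
      mono_f := (inferInstance : Mono (kernel.ι (EtDual.unitApp j Q)))
      epi_g := (inferInstance : Epi (EtDual.unitApp j Q)) }

end Kappa

end Groth.Agent.H4.UnitSplit
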