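import Mathlib
import Groth.Prelude.Def_BigSite

import Groth.Agent.H4.ExtZero
import Groth.Agent.H4.ExtAdj
import Groth.Agent.H4.BigSmallCoh

/-!
# Small vs big Zariski sites: flatness and cocontinuity of the inclusion, cohomology comparison (helper4)
-/

set_option autoImplicit false
open CategoryTheory CategoryTheory.Limits AlgebraicGeometry Opposite

universe u

namespace Groth.Agent.H4.ZarBig

variable (X : Scheme.{u})

/-- lift of a morphism with image in `U`. -/
noncomputable def liftU (V : Over X) (U : X.Opens) (h : Set.range V.hom ⊆ U) : V.left ⟶ U.toScheme :=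
  IsOpenImmersion.lift U.ι V.hom (by rw [Scheme.Opens.range_ι]; exact h)

@[simp]
lemma liftU_ι (V : Over X) (U : X.Opens) (h : Set.range V.hom ⊆ U) :
    liftU X V U h ≫ U.ι = V.hom := IsOpenImmersion.lift_fac _ _ _

/-- The structured arrow to an open containing the image. -/
noncomputable def mkArrow (V : Over X) (U : X.Opens) (h : Set.range V.hom ⊆ U) :
    StructuredArrow V (BigSite.zarIncl X) :=
  StructuredArrow.mk (Y := U) (Over.homMk (liftU X V U h) (liftU_ι X V U h))

lemma range_subset (V : Over X) (A : StructuredArrow V (BigSite.zarIncl X)) :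
    Set.range V.hom ⊆ (A.right : Set X) := by
  have h : A.hom.left ≫ A.right.ι = V.hom := Over.w A.hom
  rw [← h]
  rintro _ ⟨x, rfl⟩
  exact (A.hom.left x).2

lemma hom_ext' (V : Over X) {A B : StructuredArrow V (BigSite.zarIncl X)} (f g : A ⟶ B) : f = g := by
  apply StructuredArrow.hom_ext
  exact Subsingleton.elim _ _

/-- A morphism of structured arrows from an inclusion of opens. -/
noncomputable def homOfLE' (V : Over X) {A B : StructuredArrow V (BigSite.zarIncl X)}
    (h : A.right ≤ B.right) : A ⟶ B :=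
  StructuredArrow.homMk (homOfLE h) (by
    apply Over.OverMorphism.ext
    let a : V.left ⟶ A.right.toScheme := A.hom.left
    let b : V.left ⟶ B.right.toScheme := B.hom.left
    have hA : a ≫ A.right.ι = V.hom := Over.w A.hom
    have hB : b ≫ B.right.ι = V.hom := Over.w B.hom
    have key : (a ≫ X.homOfLE h) ≫ B.right.ι = b ≫ B.right.ι := by
      rw [Category.assoc, Scheme.homOfLE_ι, hA, hB]
    exact (cancel_mono B.right.ι).1 key)

instance isCofiltered (V : Over X) : IsCofiltered (StructuredArrow V (BigSite.zarIncl X)) where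
  cone_objs A B := by
    let C := mkArrow X V (A.right ⊓ B.right)
      (fun x hx => ⟨range_subset X V A hx, range_subset X V B hx⟩)
    exact ⟨C, homOfLE' X V inf_le_left, homOfLE' X V inf_le_right, trivial⟩
  cone_maps A B f g := ⟨A, 𝟙 A, by rw [hom_ext' X V f g]⟩
  nonempty := ⟨mkArrow X V ⊤ (fun _ _ => trivial)⟩

instance representablyFlat : RepresentablyFlat (BigSite.zarIncl X) := ⟨fun _ => inferInstance⟩


variable (K : Precoverage Scheme.{u})

/-- pullback from the small Zariski site to the big site is exact. -/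
instance piZarPull_preservesFiniteLimits [BigSite.ZarCont K X] :
    PreservesFiniteLimits (BigSite.piZarPull K X) := by
  have hfilt : ∀ V : (Over X)ᵒᵖ, IsFiltered (CostructuredArrow (BigSite.zarIncl X).op V) := fun V =>
    IsFiltered.of_equivalence (structuredArrowOpEquivalence (BigSite.zarIncl X) (unop V))
  have hAB5 : AB5OfSize.{u, u} AddCommGrpCat.{u + 1} :=
    AB5OfSize_of_univLE.{u, u, u + 1, u + 1} AddCommGrpCat.{u + 1}
  have hex : ∀ V : (Over X)ᵒᵖ,
      HasExactColimitsOfShape (CostructuredArrow (BigSite.zarIncl X).op V) AddCommGrpCat.{u + 1} :=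
    fun V => inferInstance
  have : PreservesFiniteLimits ((BigSite.zarIncl X).op.lan :
      ((X.Opens)ᵒᵖ ⥤ AddCommGrpCat.{u + 1}) ⥤ (Over X)ᵒᵖ ⥤ AddCommGrpCat.{u + 1}) :=
    Groth.Agent.H4.ExtZero.lan_preservesFiniteLimits_of_exact AddCommGrpCat.{u + 1}
      (BigSite.zarIncl X).op
  exact Functor.sheafPullbackConstruction.preservesFiniteLimits (BigSite.zarIncl X)
    AddCommGrpCat.{u + 1} (Opens.grothendieckTopology X) (QuotSh.J K X)


/-- The inclusion of the small Zariski site into the big Zariski site is cocontinuous. -/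
instance isCocontinuous_zarIncl :
    (BigSite.zarIncl X).IsCocontinuous (Opens.grothendieckTopology X)
      (QuotSh.J Scheme.zariskiPrecoverage X) where
  cover_lift := by
    intro U S hS x hx
    rw [GrothendieckTopology.mem_over_iff] at hS
    rw [Precoverage.mem_toGrothendieck_iff_of_isStableUnderComposition] at hS
    obtain ⟨R, hR, hle⟩ := hS
    rw [Precoverage.mem_iff_exists_zeroHypercover] at hR
    obtain ⟨E, rfl⟩ := hR
    have hE := E.mem₀
    rw [Scheme.ofArrows_mem_precoverage_iff] at hE
    obtain ⟨hsurj, hP⟩ := hE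
    let g : ∀ i, E.X i ⟶ U.toScheme := E.f
    obtain ⟨i, y, hy⟩ := hsurj (⟨x, hx⟩ : U.toScheme)
    have hoi : IsOpenImmersion (g i) := hP i
    let V : X.Opens := (g i ≫ U.ι).opensRange
    have hVU : V ≤ U := by
      rintro _ ⟨z, rfl⟩
      exact ((g i) z).2
    have hxV : x ∈ V := ⟨y, by
      change U.ι ((g i) y) = x
      rw [show (g i) y = ⟨x, hx⟩ from hy]
      rfl⟩
    refine ⟨V, homOfLE hVU, ?_, hxV⟩
    let l : V.toScheme ⟶ E.X i := IsOpenImmersion.lift (g i ≫ U.ι) V.ι (by
      rw [Scheme.Opens.range_ι]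
      rfl)
    have hl : l ≫ g i ≫ U.ι = V.ι := IsOpenImmersion.lift_fac _ _ _
    have hl' : l ≫ g i = X.homOfLE hVU := by
      rw [← cancel_mono U.ι, Category.assoc, hl, Scheme.homOfLE_ι]
    have h1 : (Sieve.overEquiv _ S) (X.homOfLE hVU) := by
      rw [← hl']
      exact (Sieve.overEquiv _ S).downward_closed (hle _ _ (Presieve.ofArrows.mk i)) l
    have h2 := Sieve.overEquiv_symm_iff (Sieve.overEquiv _ S) ((BigSite.zarIncl X).map (homOfLE hVU))
    rw [OrderIso.symm_apply_apply] at h2
    exact h2.2 h1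


section Coh

variable [BigSite.ZarCont Scheme.zariskiPrecoverage X]

local notation "KZ" => Scheme.zariskiPrecoverage

instance resZar_preservesFiniteLimits : PreservesFiniteLimits (BigSite.resZar KZ X) := by
  have : PreservesLimitsOfSize.{0, 0} (BigSite.resZar KZ X) :=
    (BigSite.piZarAdj KZ X).rightAdjoint_preservesLimits
  exact PreservesLimitsOfSize.preservesFiniteLimits _

instance resZar_preservesFiniteColimits : PreservesFiniteColimits (BigSite.resZar KZ X) := by
  have : PreservesColimitsOfSize.{0, 0} (BigSite.resZar KZ X) :=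
    ((BigSite.zarIncl X).sheafAdjunctionCocontinuous AddCommGrpCat.{u + 1}
      (Opens.grothendieckTopology X) (QuotSh.J KZ X)).leftAdjoint_preservesColimits
  exact PreservesColimitsOfSize.preservesFiniteColimits _

instance resZar_preservesInjectiveObjects : (BigSite.resZar KZ X).PreservesInjectiveObjects :=
  ⟨fun {I} hI => by
    have := hI
    exact (BigSite.piZarAdj KZ X).map_injective I inferInstance⟩

/-- The image of `⊤` in the big site is terminal. -/
noncomputable def zarInclTopTerminal : IsTerminal ((BigSite.zarIncl X).obj ⊤) :=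
  IsTerminal.ofIso Over.mkIdTerminal
    (Over.isoMk (X.topIso).symm (X.toIso_inv_ι) : Over.mk (𝟙 X) ≅ (BigSite.zarIncl X).obj ⊤)

noncomputable abbrev gsecZar : EtZar.Ab X ⥤ AddCommGrpCat.{u + 1} :=
  (sheafSections (Opens.grothendieckTopology X) AddCommGrpCat.{u + 1}).obj (op ⊤)

noncomputable abbrev gsecBig' : BigSite.Ab KZ X ⥤ AddCommGrpCat.{u + 1} :=
  (sheafSections (QuotSh.J KZ X) AddCommGrpCat.{u + 1}).obj (op ((BigSite.zarIncl X).obj ⊤))

/-- `π_Zar⁻¹` of a constant sheaf is constant. -/
noncomputable def piZarConstIso :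
    constantSheaf (Opens.grothendieckTopology X) AddCommGrpCat.{u + 1} ⋙ BigSite.piZarPull KZ X ≅
      constantSheaf (QuotSh.J KZ X) AddCommGrpCat.{u + 1} :=
  Adjunction.leftAdjointUniq
    (((constantSheafAdj (Opens.grothendieckTopology X) AddCommGrpCat.{u + 1}
        Limits.isTerminalTop).comp (BigSite.piZarAdj KZ X)).ofNatIsoRight
      (Iso.refl _ : BigSite.resZar KZ X ⋙ gsecZar X ≅ gsecBig' X))
    (constantSheafAdj (QuotSh.J KZ X) AddCommGrpCat.{u + 1} (zarInclTopTerminal X))

/-- Small and big Zariski cohomology agree. -/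
noncomputable def zarSmallBigH (F : BigSite.Ab KZ X) (p : ℕ) :
    EtZar.H ((BigSite.resZar KZ X).obj F) p ≃+ BigSite.H KZ X F p := by
  let Z := (constantSheaf (Opens.grothendieckTopology X) AddCommGrpCat.{u + 1}).obj
    (AddCommGrpCat.of (ULift ℤ))
  let e2 : CategoryTheory.Abelian.Ext.{u + 1} ((BigSite.piZarPull KZ X).obj Z) F p ≃+
      CategoryTheory.Abelian.Ext.{u + 1} Z ((BigSite.resZar KZ X).obj F) p :=
    Groth.Agent.H4.ExtAdj.phiEquiv (BigSite.piZarAdj KZ X) Z F p
  let e1 : CategoryTheory.Abelian.Ext.{u + 1} ((BigSite.piZarPull KZ X).obj Z) F p ≃+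
      BigSite.H KZ X F p :=
    Groth.Agent.H4.BigSmallCoh.extCongr
      ((piZarConstIso X).app (AddCommGrpCat.of (ULift ℤ))) (Iso.refl _) p
  exact e2.symm.trans e1

end Coh

end Groth.Agent.H4.ZarBig
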