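import Groth.Prelude.Def_EtZar
import Groth.Agent.H4.AcycPush2
import Groth.Agent.H4.FreeSh
import Groth.Agent.H4.FlasquePush
import Groth.Agent.H4.ExtZero

/-!
# Restriction from the small étale site to the Zariski site (helper4)

* `representablyFlat : RepresentablyFlat (EtZar.zarToEt S)`; the left adjoint `zarPull S` of
  `EtZar.resZar S` is exact, `resZar S` preserves injectives.
* `evEquiv j N : (j_! ℤ ⟶ N) ≃ N(U → X)`, natural in `N`.
* `subsingleton_H_resZar`: on an affine scheme, a sheaf which is étale-acyclic on all affine étale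
  `S`-schemes has vanishing Zariski cohomology in positive degrees.
-/

set_option autoImplicit false
open CategoryTheory CategoryTheory.Limits AlgebraicGeometry Opposite Abelian TopologicalSpace

namespace Groth.Agent.H4.ZarEt

universe u

open EtCoh EtCore EtShriek EtZar Groth.Agent.H4.HpullEt Groth.Agent.H4.FlasquePush
  Groth.Agent.H4.FreeSh

section Flat

variable (S : Scheme.{u})

/-- lift of a morphism with image in `U`. -/
noncomputable def liftU (V : S.Etale) (U : S.Opens) (h : Set.range (V.hom : V.left ⟶ S) ⊆ (U : Set S)) :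
    V.left ⟶ U.toScheme :=
  IsOpenImmersion.lift U.ι V.hom (by rw [Scheme.Opens.range_ι]; exact h)

@[simp]
lemma liftU_ι (V : S.Etale) (U : S.Opens) (h : Set.range (V.hom : V.left ⟶ S) ⊆ (U : Set S)) :
    liftU S V U h ≫ U.ι = V.hom := IsOpenImmersion.lift_fac _ _ _

set_option backward.isDefEq.respectTransparency.types false in
/-- The structured arrow to an open containing the image. -/
noncomputable def mkArrow (V : S.Etale) (U : S.Opens) (h : Set.range (V.hom : V.left ⟶ S) ⊆ (U : Set S)) :
    StructuredArrow V (zarToEt S) :=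
  StructuredArrow.mk (Y := U) (MorphismProperty.Over.homMk (liftU S V U h) (liftU_ι S V U h))

set_option backward.isDefEq.respectTransparency.types false in
lemma range_subset (V : S.Etale) (A : StructuredArrow V (zarToEt S)) :
    Set.range (V.hom : V.left ⟶ S) ⊆ (A.right : Set S) := by
  have h : A.hom.left ≫ A.right.ι = V.hom := MorphismProperty.Over.w A.hom
  rw [← h]
  rintro _ ⟨x, rfl⟩
  exact (A.hom.left x).2

lemma hom_ext' (V : S.Etale) {A B : StructuredArrow V (zarToEt S)} (f g : A ⟶ B) : f = g := by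
  apply StructuredArrow.hom_ext
  exact Subsingleton.elim _ _

set_option backward.isDefEq.respectTransparency.types false in
/-- A morphism of structured arrows from an inclusion of opens. -/
noncomputable def homOfLE' (V : S.Etale) {A B : StructuredArrow V (zarToEt S)}
    (h : A.right ≤ B.right) : A ⟶ B :=
  StructuredArrow.homMk (homOfLE h) (by
    apply MorphismProperty.Over.Hom.ext
    let a : V.left ⟶ A.right.toScheme := A.hom.left
    let b : V.left ⟶ B.right.toScheme := B.hom.left
    have hA : a ≫ A.right.ι = V.hom := MorphismProperty.Over.w A.hom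
    have hB : b ≫ B.right.ι = V.hom := MorphismProperty.Over.w B.hom
    have key : (a ≫ S.homOfLE h) ≫ B.right.ι = b ≫ B.right.ι := by
      rw [Category.assoc, Scheme.homOfLE_ι, hA, hB]
    exact (cancel_mono B.right.ι).1 key)

instance isCofiltered (V : S.Etale) : IsCofiltered (StructuredArrow V (zarToEt S)) where
  cone_objs A B := by
    let C := mkArrow S V (A.right ⊓ B.right)
      (fun x hx => ⟨range_subset S V A hx, range_subset S V B hx⟩)
    exact ⟨C, homOfLE' S V inf_le_left, homOfLE' S V inf_le_right, trivial⟩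
  cone_maps A B f g := ⟨A, 𝟙 A, by rw [hom_ext' S V f g]⟩
  nonempty := ⟨mkArrow S V ⊤ (fun _ _ => trivial)⟩

instance representablyFlat : RepresentablyFlat (zarToEt S) := ⟨fun _ => inferInstance⟩

variable [ZarCont S]

/-- the left adjoint of restriction to the Zariski site -/
noncomputable abbrev zarPull : EtZar.Ab S ⥤ EtCoh.Ab S :=
  (zarToEt S).sheafPullback AddCommGrpCat.{u + 1} (Opens.grothendieckTopology S)
    S.smallEtaleTopology

/-- the adjunction `zarPull ⊣ resZar` -/
noncomputable abbrev zarAdj : zarPull S ⊣ resZar S :=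
  (zarToEt S).sheafAdjunctionContinuous AddCommGrpCat.{u + 1} (Opens.grothendieckTopology S)
    S.smallEtaleTopology

instance zarPull_preservesFiniteLimits : PreservesFiniteLimits (zarPull S) := by
  have hfilt : ∀ V : (S.Etale)ᵒᵖ, IsFiltered (CostructuredArrow (zarToEt S).op V) := fun V =>
    IsFiltered.of_equivalence (structuredArrowOpEquivalence (zarToEt S) (unop V))
  have hAB5 : AB5OfSize.{u, u} AddCommGrpCat.{u + 1} :=
    AB5OfSize_of_univLE.{u, u, u + 1, u + 1} AddCommGrpCat.{u + 1}
  have hex : ∀ V : (S.Etale)ᵒᵖ,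
      HasExactColimitsOfShape (CostructuredArrow (zarToEt S).op V) AddCommGrpCat.{u + 1} :=
    fun V => inferInstance
  have : PreservesFiniteLimits ((zarToEt S).op.lan :
      ((S.Opens)ᵒᵖ ⥤ AddCommGrpCat.{u + 1}) ⥤ (S.Etale)ᵒᵖ ⥤ AddCommGrpCat.{u + 1}) :=
    Groth.Agent.H4.ExtZero.lan_preservesFiniteLimits_of_exact AddCommGrpCat.{u + 1}
      (zarToEt S).op
  exact Functor.sheafPullbackConstruction.preservesFiniteLimits (zarToEt S)
    AddCommGrpCat.{u + 1} (Opens.grothendieckTopology S) S.smallEtaleTopology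

instance resZar_preservesFiniteLimits : PreservesFiniteLimits (resZar S) := by
  have : PreservesLimitsOfSize.{0, 0} (resZar S) := (zarAdj S).rightAdjoint_preservesLimits
  exact PreservesLimitsOfSize.preservesFiniteLimits _

instance resZar_additive : (resZar S).Additive := Functor.additive_of_preserves_binary_products _

instance resZar_preservesInjectiveObjects : (resZar S).PreservesInjectiveObjects :=
  Functor.preservesInjectiveObjects_of_adjunction_of_preservesMonomorphisms (zarAdj S)

end Flat

section EvEquiv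

variable {U X : Scheme.{u}} (j : U ⟶ X) [Etale j]

/-- `Hom(j_! ℤ, N) ≃ N(U → X)` -/
noncomputable def evEquiv (N : EtCoh.Ab X) :
    (ZJ j ⟶ N) ≃ N.obj.obj (op ((compEtale j).obj (top U))) :=
  ((extZeroAdj j).homEquiv _ _).trans
    (((constAdj U).homEquiv _ ((restrAlong j).obj N)).trans
      (AddCommGrpCat.uliftZMultiplesAddEquiv ((gsec U).obj ((restrAlong j).obj N))).toEquiv)

lemma evEquiv_comp {M N : EtCoh.Ab X} (t : ZJ j ⟶ M) (φ : M ⟶ N) :
    evEquiv j N (t ≫ φ) = φ.hom.app (op ((compEtale j).obj (top U))) (evEquiv j M t) := by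
  unfold evEquiv
  rw [Equiv.trans_apply, Equiv.trans_apply, Equiv.trans_apply, Equiv.trans_apply,
    Adjunction.homEquiv_naturality_right, Adjunction.homEquiv_naturality_right]
  rfl

end EvEquiv

section Main

variable (S : Scheme.{u})

/-- the constant Zariski sheaf `ℤ` -/
noncomputable abbrev constZar : EtZar.Ab S :=
  (constantSheaf (Opens.grothendieckTopology S) AddCommGrpCat.{u + 1}).obj
    (AddCommGrpCat.of (ULift ℤ))

/-- `Hom(ℤ, N) ≃ N(S)` on the Zariski site -/
noncomputable def constEquiv (N : EtZar.Ab S) : (constZar S ⟶ N) ≃ N.obj.obj (op ⊤) :=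
  ((constantSheafAdj (Opens.grothendieckTopology S) AddCommGrpCat.{u + 1}
      Limits.isTerminalTop).homEquiv _ N).trans
    (AddCommGrpCat.uliftZMultiplesAddEquiv (N.obj.obj (op ⊤))).toEquiv

lemma constEquiv_comp {M N : EtZar.Ab S} (t : constZar S ⟶ M) (φ : M ⟶ N) :
    constEquiv S N (t ≫ φ) = φ.hom.app (op ⊤) (constEquiv S M t) := by
  unfold constEquiv
  rw [Equiv.trans_apply, Equiv.trans_apply, Adjunction.homEquiv_naturality_right]
  rfl

/-- index set: `none` for the whole scheme, `some U` for affine opens -/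
abbrev Idx : Type u := Option {U : S.Opens // IsAffineOpen U}

/-- the open attached to an index -/
def opn : Idx S → S.Opens
  | none => ⊤
  | some U => U.1

/-- Zariski test objects -/
noncomputable def tZ : Idx S → EtZar.Ab S
  | none => constZar S
  | some U => freeSh (Opens.grothendieckTopology S) U.1

/-- sections as maps from the test objects -/
noncomputable def eZ : ∀ (i : Idx S) (N : EtZar.Ab S), (tZ S i ⟶ N) ≃ N.obj.obj (op (opn S i))
  | none, N => constEquiv S N
  | some U, N => freeShEquiv (Opens.grothendieckTopology S) U.1 N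

lemma eZ_comp (i : Idx S) {M N : EtZar.Ab S} (t : tZ S i ⟶ M) (φ : M ⟶ N) :
    eZ S i N (t ≫ φ) = φ.hom.app (op (opn S i)) (eZ S i M t) := by
  cases i with
  | none => exact constEquiv_comp S t φ
  | some U => exact freeShEquiv_comp (Opens.grothendieckTopology S) U.1 t φ

/-- étale test objects -/
noncomputable def sE (i : Idx S) : EtCoh.Ab S := ZJ ((zarToEt S).obj (opn S i)).hom

/-- transport of sections along an isomorphism of the site -/
noncomputable def mapEquiv (N : EtCoh.Ab S) {V W : S.Etale} (i : V ≅ W) :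
    N.obj.obj (op V) ≃ N.obj.obj (op W) where
  toFun := N.obj.map i.inv.op
  invFun := N.obj.map i.hom.op
  left_inv x := by
    change (N.obj.map i.inv.op ≫ N.obj.map i.hom.op) x = x
    rw [← N.obj.map_comp, ← op_comp, Iso.hom_inv_id, op_id, N.obj.map_id]
    rfl
  right_inv x := by
    change (N.obj.map i.hom.op ≫ N.obj.map i.inv.op) x = x
    rw [← N.obj.map_comp, ← op_comp, Iso.inv_hom_id, op_id, N.obj.map_id]
    rfl

/-- sections as maps from the étale test objects -/
noncomputable def eE (i : Idx S) (N : EtCoh.Ab S) :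
    (sE S i ⟶ N) ≃ N.obj.obj (op ((zarToEt S).obj (opn S i))) :=
  (evEquiv ((zarToEt S).obj (opn S i)).hom N).trans
    (mapEquiv S N (selfIso ((zarToEt S).obj (opn S i))))

lemma eE_comp (i : Idx S) {M N : EtCoh.Ab S} (t : sE S i ⟶ M) (φ : M ⟶ N) :
    eE S i N (t ≫ φ) = φ.hom.app (op ((zarToEt S).obj (opn S i))) (eE S i M t) := by
  have h1 : eE S i N (t ≫ φ) = mapEquiv S N (selfIso ((zarToEt S).obj (opn S i)))
      (evEquiv ((zarToEt S).obj (opn S i)).hom N (t ≫ φ)) := rfl
  have h2 : eE S i M t = mapEquiv S M (selfIso ((zarToEt S).obj (opn S i)))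
      (evEquiv ((zarToEt S).obj (opn S i)).hom M t) := rfl
  refine h1.trans ?_
  refine (congrArg (mapEquiv S N (selfIso ((zarToEt S).obj (opn S i))))
    (evEquiv_comp ((zarToEt S).obj (opn S i)).hom t φ)).trans ?_
  refine Eq.trans ?_ (congrArg (φ.hom.app (op ((zarToEt S).obj (opn S i)))) h2.symm)
  have hn := congrArg (fun ψ => ψ (evEquiv ((zarToEt S).obj (opn S i)).hom M t))
    (congrArg AddCommGrpCat.Hom.hom
      (φ.hom.naturality (selfIso ((zarToEt S).obj (opn S i))).inv.op))
  simp only [AddCommGrpCat.hom_comp, AddMonoidHom.coe_comp, Function.comp_apply] at hn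
  exact hn.symm

variable [ZarCont S]

/-- the comparison bijections -/
noncomputable def eC (i : Idx S) (X : EtCoh.Ab S) :
    (sE S i ⟶ X) ≃ (tZ S i ⟶ (resZar S).obj X) :=
  (eE S i X).trans (eZ S i ((resZar S).obj X)).symm

lemma eC_comp (i : Idx S) {X Y : EtCoh.Ab S} (a : sE S i ⟶ X) (φ : X ⟶ Y) :
    eC S i Y (a ≫ φ) = eC S i X a ≫ (resZar S).map φ := by
  apply (eZ S i ((resZar S).obj Y)).injective
  refine ((eZ S i ((resZar S).obj Y)).apply_symm_apply _).trans ?_
  refine Eq.trans ?_ (eZ_comp S i _ _).symm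
  refine (eE_comp S i a φ).trans ?_
  have h : eZ S i ((resZar S).obj X) (eC S i X a) = eE S i X a :=
    (eZ S i ((resZar S).obj X)).apply_symm_apply _
  exact (congrArg (φ.hom.app (op ((zarToEt S).obj (opn S i)))) h.symm)

noncomputable instance wEqualsLocallyBijective_zar :
    (Opens.grothendieckTopology S).WEqualsLocallyBijective AddCommGrpCat.{u + 1} :=
  GrothendieckTopology.WEqualsLocallyBijective.ofEssentiallySmall (Opens.grothendieckTopology S)

/-- The test objects (already those of affine opens) detect epimorphisms of Zariski sheaves. -/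
theorem epi_of_lifts {M N : EtZar.Ab S} (φ : M ⟶ N)
    (h : ∀ (i : Idx S) (x : tZ S i ⟶ N), ∃ x' : tZ S i ⟶ M, x' ≫ φ = x) : Epi φ := by
  rw [← Sheaf.isLocallySurjective_iff_epi']
  constructor
  intro V sec
  intro p hp
  obtain ⟨_, ⟨U, hU, rfl⟩, hpU, hUV⟩ :=
    (S.isBasis_affineOpens).exists_subset_of_mem_open hp V.2
  let U' : {U : S.Opens // IsAffineOpen U} := ⟨U, hU⟩
  have hle : U ≤ V := hUV
  obtain ⟨x', hx'⟩ := h (some U') ((eZ S (some U') N).symm (N.obj.map (homOfLE hle).op sec))
  refine ⟨U, homOfLE hle, ⟨eZ S (some U') M x', ?_⟩, hpU⟩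
  have h1 := eZ_comp S (some U') x' φ
  rw [hx', Equiv.apply_symm_apply] at h1
  exact h1.symm

/-- On an affine scheme, a sheaf which is étale-acyclic on every affine étale `S`-scheme has
vanishing Zariski cohomology in positive degrees. -/
theorem subsingleton_H_resZar [IsAffine S] (G : EtCoh.Ab S)
    (hG : ∀ (T : S.Etale), IsAffine T.left → ∀ i : ℕ, 1 ≤ i →
      Subsingleton (EtCoh.H T.left ((EtCoh.pull T.hom).obj G) i))
    (i : ℕ) (hi : 1 ≤ i) :
    Subsingleton (EtZar.H ((resZar S).obj G) i) := by
  obtain ⟨q, rfl⟩ : ∃ q, i = q + 1 := ⟨i - 1, by omega⟩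
  have hacyc : Groth.Agent.H4.AcycPush2.Acyc (sE S) G := by
    intro j q hq x
    have haff : IsAffine ((zarToEt S).obj (opn S j)).left := by
      cases j with
      | none => exact (isAffineOpen_top S)
      | some U => exact U.2
    have hs := hG ((zarToEt S).obj (opn S j)) haff q hq
    apply (phiJ ((zarToEt S).obj (opn S j)).hom G q).injective
    exact hs.elim _ _
  have h0 := fun x => Groth.Agent.H4.AcycPush2.ext_eq_zero (tZ S) (sE S) (eC S)
    (fun i {X Y} a φ => eC_comp S i a φ) (fun φ h => epi_of_lifts S φ h) q G hacyc none x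
  exact ⟨fun a b => (h0 a).trans (h0 b).symm⟩

end Main

end Groth.Agent.H4.ZarEt
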